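import Groth.Agent.Mod48.Flat
import Groth.Prelude.Def_KFlatSite
import Mathlib.Algebra.Homology.HomologySequenceLemmas
import Mathlib.Algebra.Homology.BifunctorHomotopy
import Mathlib.Algebra.Homology.BifunctorShift

/-!
Exactness properties of the total tensor product of complexes of sheaves of modules.
-/

universe u v w

open CategoryTheory CategoryTheory.Limits Opposite MonoidalCategory

namespace Groth.Agent.Mod48

variable {C : Type u} [SmallCategory C] {J : GrothendieckTopology C} {O : Sheaf J CommRingCat.{u}}

lemma hasExactColimitsOfShape_of_equiv {A : Type*} [Category* A] {K : Type*} {K' : Type*}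
    [Category* K] [Category* K'] (e : K ≌ K') [HasColimitsOfShape K A] [HasColimitsOfShape K' A]
    [HasExactColimitsOfShape K A] : HasExactColimitsOfShape K' A :=
  HasExactColimitsOfShape.of_domain_equivalence A e

instance hasExactColimitsOfShape_discrete₀ (I : Type) :
    HasExactColimitsOfShape (Discrete I) (ModSite.Mod O) :=
  hasExactColimitsOfShape_of_equiv (Discrete.equivalence (Equiv.ulift.{u} (α := I)))

instance hasColimitsOfShape_nat : HasColimitsOfShape ℕ (ModSite.Mod O) :=
  hasColimitsOfShape_of_equivalence (AsSmall.equiv.{0, 0, u} (C := ℕ)).symm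

instance hasExactColimitsOfShape_nat : HasExactColimitsOfShape ℕ (ModSite.Mod O) :=
  hasExactColimitsOfShape_of_equiv (AsSmall.equiv.{0, 0, u} (C := ℕ)).symm

instance preservesColimitsOfShape_small {A : Type*} [Category* A] (F : ModSite.Mod O ⥤ A)
    [PreservesColimitsOfSize.{u, u} F] (K : Type) [SmallCategory K] :
    PreservesColimitsOfShape K F :=
  have : PreservesColimitsOfSize.{0, 0} F := preservesColimitsOfSize_shrink.{0, u, 0, u} F
  inferInstance

/-- Cochain complexes of sheaves of modules. -/
abbrev CC (O : Sheaf J CommRingCat.{u}) : Type (u + 1) := CochainComplex (ModSite.Mod O) ℤ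

/-- The total tensor product of two complexes. -/
noncomputable abbrev tc (F K : CC O) : CC O :=
  HomologicalComplex.mapBifunctor F K (ModSite.tensorBi O) (ComplexShape.up ℤ)

/-- The summand of bidegree `(p, n - p)` of the total tensor product. -/
noncomputable abbrev tcSummand (F K : CC O) (n : ℤ) : ℤ → ModSite.Mod O :=
  fun p => ((ModSite.tensorBi O).obj (F.X p)).obj (K.X (n - p))

/-- Evaluation in one degree. -/
noncomputable abbrev ev (n : ℤ) : CC O ⥤ ModSite.Mod O := HomologicalComplex.eval _ _ n

/-- A family of functors as a functor to families. -/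
noncomputable def pairF {A : Type*} [Category* A] {I : Type} (G : I → A ⥤ ModSite.Mod O) :
    A ⥤ (Discrete I ⥤ ModSite.Mod O) where
  obj X := Discrete.functor fun i => (G i).obj X
  map f := Discrete.natTrans fun i => (G i.as).map f

/-- The coproduct of a family of functors, computed pointwise. -/
noncomputable abbrev sumF {A : Type*} [Category* A] {I : Type} (G : I → A ⥤ ModSite.Mod O) :
    A ⥤ ModSite.Mod O :=
  pairF G ⋙ colim

instance preservesColimitsOfShape_pairF {A : Type*} [Category* A] {I : Type}
    (G : I → A ⥤ ModSite.Mod O) (K : Type v) [Category.{w} K] [∀ i, PreservesColimitsOfShape K (G i)]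
    [HasColimitsOfShape K (ModSite.Mod O)] :
    PreservesColimitsOfShape K (pairF G) :=
  preservesColimitsOfShape_of_evaluation _ _ fun i =>
    preservesColimitsOfShape_of_natIso (F := G i.as) (NatIso.ofComponents (fun _ => Iso.refl _))

instance preservesColimitsOfShape_sumF {A : Type*} [Category* A] {I : Type}
    (G : I → A ⥤ ModSite.Mod O) (K : Type v) [Category.{w} K] [∀ i, PreservesColimitsOfShape K (G i)]
    [HasColimitsOfShape K (ModSite.Mod O)] :
    PreservesColimitsOfShape K (sumF G) := by
  have : PreservesColimitsOfShape K (colim : (Discrete I ⥤ ModSite.Mod O) ⥤ _) :=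
    (colimConstAdj (C := ModSite.Mod O) (J := Discrete I)).leftAdjoint_preservesColimits.preservesColimitsOfShape
  infer_instance

instance {A : Type*} [Category* A] [Preadditive A] {I : Type} (G : I → A ⥤ ModSite.Mod O)
    [∀ i, (G i).Additive] : (pairF G).Additive where
  map_add {X Y f g} := by
    apply NatTrans.ext
    funext i
    exact (G i.as).map_add

lemma shortExact_of_evaluation {A : Type*} [Category* A] [Abelian A] {K : Type*} [Category* K]
    (S : ShortComplex (K ⥤ A)) (h : ∀ k, (S.map ((evaluation K A).obj k)).ShortExact) :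
    S.ShortExact where
  exact := by
    rw [ShortComplex.exact_iff_isZero_homology, Functor.isZero_iff]
    intro k
    exact IsZero.of_iso ((ShortComplex.exact_iff_isZero_homology _).1 (h k).exact)
      (S.mapHomologyIso ((evaluation K A).obj k)).symm
  mono_f := have : ∀ k, Mono (S.f.app k) := fun k => (h k).mono_f; NatTrans.mono_of_mono_app _
  epi_g := have : ∀ k, Epi (S.g.app k) := fun k => (h k).epi_g; NatTrans.epi_of_epi_app _

lemma shortExact_sumF {A : Type*} [Category* A] [Preadditive A] {I : Type}
    (G : I → A ⥤ ModSite.Mod O) [∀ i, (G i).Additive] (S : ShortComplex A)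
    (h : ∀ i, (S.map (G i)).ShortExact) : (S.map (sumF G)).ShortExact := by
  have h1 : (S.map (pairF G)).ShortExact :=
    shortExact_of_evaluation _ fun i => h i.as
  exact h1.map_of_exact colim

section Left

variable (F : CC O) (n : ℤ)

/-- Summands of the total tensor product, as functors of the second variable. -/
noncomputable abbrev summandL (p : ℤ) : CC O ⥤ ModSite.Mod O :=
  ev (n - p) ⋙ (ModSite.tensorBi O).obj (F.X p)

/-- The total tensor product in one degree as the sum of its summands. -/
noncomputable def tcXIso (K : CC O) : (∐ tcSummand F K n) ≅ (tc F K).X n where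
  hom := Sigma.desc fun p =>
    HomologicalComplex.ιMapBifunctor F K (ModSite.tensorBi O) (ComplexShape.up ℤ) p (n - p) n
      (add_sub_cancel p n)
  inv := HomologicalComplex.mapBifunctorDesc fun p q h =>
    ((ModSite.tensorBi O).obj (F.X p)).map (eqToHom (congrArg K.X (eq_sub_of_add_eq' h))) ≫
      Sigma.ι (tcSummand F K n) p
  hom_inv_id := Sigma.hom_ext _ _ fun p => by
    rw [Sigma.ι_desc_assoc, HomologicalComplex.ι_mapBifunctorDesc, Category.comp_id, eqToHom_refl,
      CategoryTheory.Functor.map_id, Category.id_comp]
  inv_hom_id := HomologicalComplex.mapBifunctor.hom_ext fun p q h => by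
    obtain rfl : q = n - p := eq_sub_of_add_eq' h
    rw [HomologicalComplex.ι_mapBifunctorDesc_assoc, eqToHom_refl, CategoryTheory.Functor.map_id,
      Category.id_comp, Sigma.ι_desc, Category.comp_id]

lemma tcXIso_naturality {K L : CC O} (f : K ⟶ L) :
    Limits.Sigma.map (fun p => ((ModSite.tensorBi O).obj (F.X p)).map (f.f (n - p))) ≫ (tcXIso F n L).hom =
      (tcXIso F n K).hom ≫ (HomologicalComplex.mapBifunctorMap (𝟙 F) f (ModSite.tensorBi O) (ComplexShape.up ℤ)).f n :=
  Sigma.hom_ext _ _ fun p => by
    simp only [tcXIso, Sigma.ι_map_assoc, Sigma.ι_desc, Sigma.ι_desc_assoc,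
      HomologicalComplex.ι_mapBifunctorMap, HomologicalComplex.id_f, CategoryTheory.Functor.map_id,
      NatTrans.id_app, Category.id_comp]

/-- The total tensor product in one degree, as functor of the second variable. -/
noncomputable def tcEvalIso : (ModSite.tensorCx O).obj F ⋙ ev n ≅ sumF (summandL F n) :=
  (NatIso.ofComponents (F := sumF (summandL F n)) (G := (ModSite.tensorCx O).obj F ⋙ ev n)
    (fun K => tcXIso F n K)
    (fun {K L} f => tcXIso_naturality F n f)).symm

instance (p : ℤ) : (summandL F n p).Additive := inferInstance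

instance preservesColimitsOfSize_tensorBi_obj (A : ModSite.Mod O) :
    PreservesColimitsOfSize.{u, u} ((ModSite.tensorBi O).obj A) :=
  ⟨fun {K} _ => preservesColimitsOfShape_of_natIso (tLIso A).symm⟩

instance preservesColimitsOfShape_tensorCx_obj (K : Type) [SmallCategory K]
    [HasColimitsOfShape K (ModSite.Mod O)] :
    PreservesColimitsOfShape K ((ModSite.tensorCx O).obj F) :=
  HomologicalComplex.preservesColimitsOfShape_of_eval _ fun n =>
    preservesColimitsOfShape_of_natIso (tcEvalIso F n).symm

lemma shortExact_map_tensorCx_obj_evaluation (S : ShortComplex (CC O))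
    [((ModSite.tensorCx O).obj F).Additive]
    (h : ∀ p q, ((S.map (ev q)).map ((ModSite.tensorBi O).obj (F.X p))).ShortExact) :
    ((S.map ((ModSite.tensorCx O).obj F)).map (ev n)).ShortExact :=
  ShortComplex.shortExact_of_iso (S.mapNatIso (tcEvalIso F n)).symm
    (shortExact_sumF (summandL F n) S fun p => h p (n - p))

instance additive_tensorCx_obj : ((ModSite.tensorCx O).obj F).Additive where
  map_add {K L f g} := by
    ext1 m
    have : ((ModSite.tensorCx O).obj F ⋙ ev m).Additive := Functor.additive_of_iso (tcEvalIso F m).symm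
    exact ((ModSite.tensorCx O).obj F ⋙ ev m).map_add

lemma shortExact_map_tensorCx_obj (S : ShortComplex (CC O))
    (h : ∀ p q, ((S.map (ev q)).map ((ModSite.tensorBi O).obj (F.X p))).ShortExact) :
    (S.map ((ModSite.tensorCx O).obj F)).ShortExact :=
  HomologicalComplex.shortExact_of_degreewise_shortExact _
    fun m => shortExact_map_tensorCx_obj_evaluation F m S h

end Left

section Right

variable (K : CC O) (n : ℤ)

/-- Summands of the total tensor product, as functors of the first variable. -/
noncomputable abbrev summandR (q : ℤ) : CC O ⥤ ModSite.Mod O :=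
  ev (n - q) ⋙ (ModSite.tensorBi O).flip.obj (K.X q)

/-- The summand of bidegree `(n - q, q)` of the total tensor product. -/
noncomputable abbrev tcSummandR (F K : CC O) (n : ℤ) : ℤ → ModSite.Mod O :=
  fun q => ((ModSite.tensorBi O).obj (F.X (n - q))).obj (K.X q)

/-- The total tensor product in one degree as the sum of its summands. -/
noncomputable def tcXIsoR (F : CC O) : (∐ tcSummandR F K n) ≅ (tc F K).X n where
  hom := Sigma.desc fun q =>
    HomologicalComplex.ιMapBifunctor F K (ModSite.tensorBi O) (ComplexShape.up ℤ) (n - q) q n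
      (sub_add_cancel n q)
  inv := HomologicalComplex.mapBifunctorDesc fun p q h =>
    ((ModSite.tensorBi O).map (eqToHom (congrArg F.X (eq_sub_of_add_eq h)))).app (K.X q) ≫
      Sigma.ι (tcSummandR F K n) q
  hom_inv_id := Sigma.hom_ext _ _ fun q => by
    rw [Sigma.ι_desc_assoc, HomologicalComplex.ι_mapBifunctorDesc, Category.comp_id, eqToHom_refl,
      CategoryTheory.Functor.map_id, NatTrans.id_app, Category.id_comp]
  inv_hom_id := HomologicalComplex.mapBifunctor.hom_ext fun p q h => by
    obtain rfl : p = n - q := eq_sub_of_add_eq h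
    rw [HomologicalComplex.ι_mapBifunctorDesc_assoc, eqToHom_refl, CategoryTheory.Functor.map_id,
      NatTrans.id_app, Category.id_comp, Sigma.ι_desc, Category.comp_id]

lemma tcXIsoR_naturality {F G : CC O} (f : F ⟶ G) :
    Limits.Sigma.map (fun q => ((ModSite.tensorBi O).map (f.f (n - q))).app (K.X q)) ≫ (tcXIsoR K n G).hom =
      (tcXIsoR K n F).hom ≫ (HomologicalComplex.mapBifunctorMap f (𝟙 K) (ModSite.tensorBi O) (ComplexShape.up ℤ)).f n :=
  Sigma.hom_ext _ _ fun q => by
    simp only [tcXIsoR, Sigma.ι_map_assoc, Sigma.ι_desc, Sigma.ι_desc_assoc,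
      HomologicalComplex.ι_mapBifunctorMap, HomologicalComplex.id_f, CategoryTheory.Functor.map_id,
      Category.id_comp]

/-- The total tensor product in one degree, as functor of the first variable. -/
noncomputable def tcEvalIsoR : (ModSite.tensorCx O).flip.obj K ⋙ ev n ≅ sumF (summandR K n) :=
  (NatIso.ofComponents (F := sumF (summandR K n)) (G := (ModSite.tensorCx O).flip.obj K ⋙ ev n)
    (fun F => tcXIsoR K n F)
    (fun {F G} f => tcXIsoR_naturality K n f)).symm

instance preservesColimitsOfSize_tensorBi_flip_obj (A : ModSite.Mod O) :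
    PreservesColimitsOfSize.{u, u} ((ModSite.tensorBi O).flip.obj A) :=
  ⟨fun {_} _ => preservesColimitsOfShape_of_natIso (tRIso A).symm⟩

instance additive_tensorBi_flip_obj (A : ModSite.Mod O) : ((ModSite.tensorBi O).flip.obj A).Additive :=
  Functor.additive_of_iso (tRIso A).symm

instance preservesColimitsOfShape_tensorCx_flip_obj (K' : Type) [SmallCategory K']
    [HasColimitsOfShape K' (ModSite.Mod O)] :
    PreservesColimitsOfShape K' ((ModSite.tensorCx O).flip.obj K) :=
  HomologicalComplex.preservesColimitsOfShape_of_eval _ fun n =>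
    preservesColimitsOfShape_of_natIso (tcEvalIsoR K n).symm

instance additive_tensorCx_flip_obj : ((ModSite.tensorCx O).flip.obj K).Additive where
  map_add {F G f g} := by
    ext1 m
    have : ((ModSite.tensorCx O).flip.obj K ⋙ ev m).Additive := Functor.additive_of_iso (tcEvalIsoR K m).symm
    exact ((ModSite.tensorCx O).flip.obj K ⋙ ev m).map_add

lemma shortExact_map_tensorCx_flip_obj (S : ShortComplex (CC O))
    (h : ∀ p q, ((S.map (ev p)).map ((ModSite.tensorBi O).flip.obj (K.X q))).ShortExact) :
    (S.map ((ModSite.tensorCx O).flip.obj K)).ShortExact :=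
  HomologicalComplex.shortExact_of_degreewise_shortExact _ fun m =>
    ShortComplex.shortExact_of_iso (S.mapNatIso (tcEvalIsoR K m)).symm
      (shortExact_sumF (summandR K m) S fun q => h (m - q) q)

end Right

end Groth.Agent.Mod48
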