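import Groth.Agent.Mod48.SheafifyTensor
import Mathlib.CategoryTheory.Monoidal.Preadditive

universe u

open CategoryTheory CategoryTheory.Limits Opposite MonoidalCategory

namespace Groth.Agent.Mod48

variable {C : Type u} [SmallCategory C] {J : GrothendieckTopology C} {O : Sheaf J CommRingCat.{u}}


instance : (shf : PreM O ⥤ ModSite.Mod O).IsLeftAdjoint := shfAdj.isLeftAdjoint
instance : (fgt : ModSite.Mod O ⥤ PreM O).IsRightAdjoint := shfAdj.isRightAdjoint
instance : (fgt : ModSite.Mod O ⥤ PreM O).Full := inferInstanceAs (SheafOfModules.forget (ModSite.ringSh O)).Full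
instance : (fgt : ModSite.Mod O ⥤ PreM O).Faithful := inferInstanceAs (SheafOfModules.forget (ModSite.ringSh O)).Faithful
instance : (fgt : ModSite.Mod O ⥤ PreM O).Additive := inferInstanceAs (SheafOfModules.forget (ModSite.ringSh O)).Additive
instance : (shf : PreM O ⥤ ModSite.Mod O).Additive :=
  haveI := preservesBinaryBiproducts_of_preservesBinaryCoproducts (shf : PreM O ⥤ ModSite.Mod O)
  Functor.additive_of_preservesBinaryBiproducts _
instance : PreservesFiniteLimits (shf : PreM O ⥤ ModSite.Mod O) :=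
  inferInstanceAs (PreservesFiniteLimits (PresheafOfModules.sheafification.{u} (𝟙 (ModSite.ringSh O).obj)))

/-- The unit of sheafification. -/
noncomputable abbrev shfU (P : PreM O) : P ⟶ pre (shf.obj P) := shfAdj.unit.app P

lemma shfU_naturality {P Q : PreM O} (f : P ⟶ Q) :
    f ≫ shfU Q = shfU P ≫ fgt.map (shf.map f) :=
  shfAdj.unit.naturality f

instance isIso_shf_map_shfU (P : PreM O) : IsIso (shf.map (shfU P)) :=
  IsIso.of_isIso_fac_right (shfAdj.left_triangle_components P)

/-- The counit of sheafification. -/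
noncomputable def shfCounitIso : fgt ⋙ shf ≅ 𝟭 (ModSite.Mod O) := asIso shfAdj.counit

/-- `F ⊗ G` for sheaves of modules. -/
noncomputable abbrev tens (F G : ModSite.Mod O) : ModSite.Mod O := shf.obj (pre F ⊗ pre G)

lemma tens_eq (F G : ModSite.Mod O) : ((ModSite.tensorBi O).obj F).obj G = tens F G := rfl

/-- `- ⊗ G`. -/
noncomputable abbrev tR (G : ModSite.Mod O) : ModSite.Mod O ⥤ ModSite.Mod O :=
  fgt ⋙ tensorRight (pre G) ⋙ shf

/-- `F ⊗ -`. -/
noncomputable abbrev tL (F : ModSite.Mod O) : ModSite.Mod O ⥤ ModSite.Mod O :=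
  fgt ⋙ tensorLeft (pre F) ⋙ shf

/-- `- ⊗ G` is the functor of `tensorBi`. -/
noncomputable def tRIso (G : ModSite.Mod O) : (ModSite.tensorBi O).flip.obj G ≅ tR G := Iso.refl _

/-- `F ⊗ -` is the functor of `tensorBi`. -/
noncomputable def tLIso (F : ModSite.Mod O) : (ModSite.tensorBi O).obj F ≅ tL F := Iso.refl _

lemma tensorBi_map_app {F F' : ModSite.Mod O} (f : F ⟶ F') (G : ModSite.Mod O) :
    ((ModSite.tensorBi O).map f).app G = (tR G).map f := rfl

lemma tensorBi_obj_map (F : ModSite.Mod O) {G G' : ModSite.Mod O} (g : G ⟶ G') :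
    ((ModSite.tensorBi O).obj F).map g = (tL F).map g := rfl

/-- `sheafify P ⊗ G` is the sheafification of the presheaf tensor product. -/
noncomputable def tensShfLeft (G : ModSite.Mod O) : tensorRight (pre G) ⋙ shf ≅ shf ⋙ tR G :=
  NatIso.ofComponents
    (fun P => @asIso _ _ _ _ (shf.map (shfU P ▷ pre G)) (isIso_shf_map_whiskerRight (shfU P) (pre G)))
    (fun {P Q} f => by
      change shf.map (f ▷ pre G) ≫ shf.map (shfU Q ▷ pre G) =
        shf.map (shfU P ▷ pre G) ≫ shf.map (fgt.map (shf.map f) ▷ pre G)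
      rw [← Functor.map_comp, ← Functor.map_comp, ← MonoidalCategory.comp_whiskerRight,
        ← MonoidalCategory.comp_whiskerRight, shfU_naturality])

/-- `F ⊗ sheafify P` is the sheafification of the presheaf tensor product. -/
noncomputable def tensShfRight (F : ModSite.Mod O) : tensorLeft (pre F) ⋙ shf ≅ shf ⋙ tL F :=
  NatIso.ofComponents
    (fun P => @asIso _ _ _ _ (shf.map (pre F ◁ shfU P)) (isIso_shf_map_whiskerLeft (shfU P) (pre F)))
    (fun {P Q} f => by
      change shf.map (pre F ◁ f) ≫ shf.map (pre F ◁ shfU Q) =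
        shf.map (pre F ◁ shfU P) ≫ shf.map (pre F ◁ fgt.map (shf.map f))
      rw [← Functor.map_comp, ← Functor.map_comp, ← MonoidalCategory.whiskerLeft_comp,
        ← MonoidalCategory.whiskerLeft_comp, shfU_naturality])

lemma isIso_shf_map_tensorHom {M M' N N' : PreM O} (f : M ⟶ M') (g : N ⟶ N')
    [IsIso (shf.map f)] [IsIso (shf.map g)] : IsIso (shf.map (f ⊗ₘ g)) := by
  have := isIso_shf_map_whiskerRight f N
  have := isIso_shf_map_whiskerLeft g M'
  rw [MonoidalCategory.tensorHom_def, Functor.map_comp]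
  infer_instance

/-- Both arguments at once. -/
noncomputable def tensShf (P Q : PreM O) : shf.obj (P ⊗ Q) ≅ tens (shf.obj P) (shf.obj Q) :=
  @asIso _ _ _ _ (shf.map (shfU P ⊗ₘ shfU Q)) (isIso_shf_map_tensorHom (shfU P) (shfU Q))

lemma tensShf_hom (P Q : PreM O) : (tensShf P Q).hom = shf.map (shfU P ⊗ₘ shfU Q) := rfl

lemma tensShf_naturality {P P' Q Q' : PreM O} (f : P ⟶ P') (g : Q ⟶ Q') :
    shf.map (f ⊗ₘ g) ≫ (tensShf P' Q').hom =
      (tensShf P Q).hom ≫ shf.map (fgt.map (shf.map f) ⊗ₘ fgt.map (shf.map g)) := by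
  rw [tensShf_hom, tensShf_hom, ← Functor.map_comp, ← Functor.map_comp]
  rw [MonoidalCategory.tensorHom_comp_tensorHom, MonoidalCategory.tensorHom_comp_tensorHom,
    shfU_naturality, shfU_naturality]

/-- Symmetry of the tensor product. -/
noncomputable def tensSymm (F : ModSite.Mod O) : tL F ≅ tR F :=
  NatIso.ofComponents (fun G => shf.mapIso (β_ (pre F) (pre G)))
    (fun {G G'} f => by
      change shf.map (pre F ◁ fgt.map f) ≫ shf.map (β_ (pre F) (pre G')).hom =
        shf.map (β_ (pre F) (pre G)).hom ≫ shf.map (fgt.map f ▷ pre F)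
      rw [← Functor.map_comp, ← Functor.map_comp, BraidedCategory.braiding_naturality_right])

/-- Associativity of the tensor product, natural in the first variable. -/
noncomputable def tensAssocNat (G H : ModSite.Mod O) : tR G ⋙ tR H ≅ tR (tens G H) :=
  Functor.isoWhiskerLeft (fgt ⋙ tensorRight (pre G)) (tensShfLeft H).symm ≪≫
    Functor.isoWhiskerLeft fgt
      (Functor.isoWhiskerRight (tensorRightTensor (pre G) (pre H)).symm shf) ≪≫
    NatIso.ofComponents (fun F => (tensShfRight F).app (pre G ⊗ pre H))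
      (fun {F F'} f => by
        change shf.map (fgt.map f ▷ (pre G ⊗ pre H)) ≫ shf.map (pre F' ◁ shfU _) =
          shf.map (pre F ◁ shfU _) ≫ shf.map (fgt.map f ▷ pre (tens G H))
        rw [← Functor.map_comp, ← Functor.map_comp, whisker_exchange])

/-- Associativity of the tensor product. -/
noncomputable def tensAssoc (F G H : ModSite.Mod O) : tens (tens F G) H ≅ tens F (tens G H) :=
  (tensAssocNat G H).app F

/-- The structure sheaf is a left unit. -/
noncomputable def tensUnit : tL (ModSite.unit O) ≅ 𝟭 (ModSite.Mod O) :=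
  Functor.isoWhiskerLeft fgt (Functor.isoWhiskerRight (leftUnitorNatIso (PreM O)) shf) ≪≫ shfCounitIso

end Groth.Agent.Mod48
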