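import Mathlib.Algebra.Homology.Bifunctor
import Mathlib.Algebra.Homology.Additive
import Mathlib.Algebra.Homology.TotalComplexShift
import Mathlib.CategoryTheory.Limits.Preserves.Shapes.Products

/-!
Applying a coproduct preserving functor to the total complex of a bifunctor.
-/

universe u

open CategoryTheory CategoryTheory.Limits

namespace Groth.Agent.Mod48

open HomologicalComplex

set_option backward.isDefEq.respectTransparency false

variable {A₁ A₂ B A₁' A₂' B' : Type*} [Category* A₁] [Category* A₂] [Category* B]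
  [Category* A₁'] [Category* A₂'] [Category* B']
  [Preadditive A₁] [Preadditive A₂] [Preadditive B]
  [Preadditive A₁'] [Preadditive A₂'] [Preadditive B']
  (F : A₁ ⥤ A₂ ⥤ B) [F.PreservesZeroMorphisms] [∀ X, (F.obj X).PreservesZeroMorphisms]
  (F' : A₁' ⥤ A₂' ⥤ B') [F'.PreservesZeroMorphisms] [∀ X, (F'.obj X).PreservesZeroMorphisms]
  (H₁ : A₁ ⥤ A₁') (H₂ : A₂ ⥤ A₂') (G : B ⥤ B') [H₁.Additive] [H₂.Additive] [G.Additive]
  (α : ∀ X Y, (F'.obj (H₁.obj X)).obj (H₂.obj Y) ≅ G.obj ((F.obj X).obj Y))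
  (hα₁ : ∀ {X X' : A₁} (f : X ⟶ X') (Y : A₂),
    (F'.map (H₁.map f)).app (H₂.obj Y) ≫ (α X' Y).hom = (α X Y).hom ≫ G.map ((F.map f).app Y))
  (hα₂ : ∀ (X : A₁) {Y Y' : A₂} (g : Y ⟶ Y'),
    (F'.obj (H₁.obj X)).map (H₂.map g) ≫ (α X Y').hom = (α X Y).hom ≫ G.map ((F.obj X).map g))
  (K₁ : CochainComplex A₁ ℤ) (K₂ : CochainComplex A₂ ℤ)
  [HasMapBifunctor K₁ K₂ F (ComplexShape.up ℤ)]
  [HasMapBifunctor ((H₁.mapHomologicalComplex (ComplexShape.up ℤ)).obj K₁)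
    ((H₂.mapHomologicalComplex (ComplexShape.up ℤ)).obj K₂) F' (ComplexShape.up ℤ)]

/-- The image of a summand. -/
noncomputable def mapTotSummand (i j n : ℤ)
    (h : ComplexShape.π (ComplexShape.up ℤ) (ComplexShape.up ℤ) (ComplexShape.up ℤ) (i, j) = n) :
    (F'.obj (H₁.obj (K₁.X i))).obj (H₂.obj (K₂.X j)) ⟶
      G.obj ((mapBifunctor K₁ K₂ F (ComplexShape.up ℤ)).X n) :=
  (α (K₁.X i) (K₂.X j)).hom ≫ G.map (ιMapBifunctor K₁ K₂ F (ComplexShape.up ℤ) i j n h)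

/-- The comparison in one degree. -/
noncomputable def mapTotApp (n : ℤ) :
    (mapBifunctor ((H₁.mapHomologicalComplex (ComplexShape.up ℤ)).obj K₁)
      ((H₂.mapHomologicalComplex (ComplexShape.up ℤ)).obj K₂) F' (ComplexShape.up ℤ)).X n ⟶
      G.obj ((mapBifunctor K₁ K₂ F (ComplexShape.up ℤ)).X n) :=
  mapBifunctorDesc fun i j h => mapTotSummand F F' H₁ H₂ G α K₁ K₂ i j n h

lemma ι_mapTotApp (i j n : ℤ)
    (h : ComplexShape.π (ComplexShape.up ℤ) (ComplexShape.up ℤ) (ComplexShape.up ℤ) (i, j) = n) :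
    ιMapBifunctor ((H₁.mapHomologicalComplex (ComplexShape.up ℤ)).obj K₁)
        ((H₂.mapHomologicalComplex (ComplexShape.up ℤ)).obj K₂) F' (ComplexShape.up ℤ) i j n h ≫
      mapTotApp F F' H₁ H₂ G α K₁ K₂ n = mapTotSummand F F' H₁ H₂ G α K₁ K₂ i j n h :=
  ι_mapBifunctorDesc _ i j h

include hα₁ hα₂ in
lemma mapTotApp_comm (n : ℤ) :
    mapTotApp F F' H₁ H₂ G α K₁ K₂ n ≫
        G.map ((mapBifunctor K₁ K₂ F (ComplexShape.up ℤ)).d n (n + 1)) =
      (mapBifunctor ((H₁.mapHomologicalComplex (ComplexShape.up ℤ)).obj K₁)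
        ((H₂.mapHomologicalComplex (ComplexShape.up ℤ)).obj K₂) F' (ComplexShape.up ℤ)).d n (n + 1) ≫
        mapTotApp F F' H₁ H₂ G α K₁ K₂ (n + 1) := by
  apply mapBifunctor.hom_ext
  intro i j h
  have hij : i + j = n := h
  have hi : (ComplexShape.up ℤ).Rel i (i + 1) := rfl
  have hj : (ComplexShape.up ℤ).Rel j (j + 1) := rfl
  have h₁ : ComplexShape.π (ComplexShape.up ℤ) (ComplexShape.up ℤ) (ComplexShape.up ℤ) (i + 1, j) =
      n + 1 := by change (i + 1) + j = n + 1; omega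
  have h₂ : ComplexShape.π (ComplexShape.up ℤ) (ComplexShape.up ℤ) (ComplexShape.up ℤ) (i, j + 1) =
      n + 1 := by change i + (j + 1) = n + 1; omega
  rw [← Category.assoc, ι_mapTotApp, ← Category.assoc, mapTotSummand, Category.assoc, ← G.map_comp,
    mapBifunctor.d_eq, mapBifunctor.d_eq, Preadditive.comp_add, Preadditive.comp_add,
    mapBifunctor.ι_D₁, mapBifunctor.ι_D₂, mapBifunctor.ι_D₁, mapBifunctor.ι_D₂,
    Preadditive.add_comp, mapBifunctor.d₁_eq _ _ _ _ hi _ _ h₁, mapBifunctor.d₁_eq _ _ _ _ hi _ _ h₁,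
    mapBifunctor.d₂_eq _ _ _ _ _ hj _ h₂, mapBifunctor.d₂_eq _ _ _ _ _ hj _ h₂,
    G.map_add, Preadditive.comp_add]
  congr 1
  · rw [Linear.units_smul_comp, Category.assoc, ι_mapTotApp, mapTotSummand, Units.smul_def, Units.smul_def,
      G.map_zsmul, Linear.comp_smul, G.map_comp]
    congr 1
    exact ((Category.assoc _ _ _).symm.trans ((hα₁ (K₁.d i (i + 1)) (K₂.X j) =≫ _).trans (Category.assoc _ _ _))).symm
  · rw [Linear.units_smul_comp, Category.assoc, ι_mapTotApp, mapTotSummand, Units.smul_def, Units.smul_def,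
      G.map_zsmul, Linear.comp_smul, G.map_comp]
    congr 1
    exact ((Category.assoc _ _ _).symm.trans ((hα₂ (K₁.X i) (K₂.d j (j + 1)) =≫ _).trans (Category.assoc _ _ _))).symm

variable [∀ n : ℤ, PreservesColimit (Discrete.functor fun p :
    ((ComplexShape.π (ComplexShape.up ℤ) (ComplexShape.up ℤ) (ComplexShape.up ℤ)) ⁻¹' {n} : Set (ℤ × ℤ)) =>
      (F.obj (K₁.X p.1.1)).obj (K₂.X p.1.2)) G]

lemma isIso_mapTotApp (n : ℤ) : IsIso (mapTotApp F F' H₁ H₂ G α K₁ K₂ n) := by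
  let X := (((F.mapBifunctorHomologicalComplex (ComplexShape.up ℤ) (ComplexShape.up ℤ)).obj K₁).obj K₂).toGradedObject
  let p := ComplexShape.π (ComplexShape.up ℤ) (ComplexShape.up ℤ) (ComplexShape.up ℤ)
  have hc := isColimitCofanMkObjOfIsColimit G (fun q : (p ⁻¹' {n} : Set (ℤ × ℤ)) =>
      (F.obj (K₁.X q.1.1)).obj (K₂.X q.1.2))
    (fun q => ιMapBifunctor K₁ K₂ F (ComplexShape.up ℤ) q.1.1 q.1.2 n q.2)
    (X.isColimitCofanMapObj p n)
  refine ⟨Cofan.IsColimit.desc hc fun q => (α _ _).inv ≫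
    ιMapBifunctor ((H₁.mapHomologicalComplex (ComplexShape.up ℤ)).obj K₁)
      ((H₂.mapHomologicalComplex (ComplexShape.up ℤ)).obj K₂) F' (ComplexShape.up ℤ) q.1.1 q.1.2 n q.2,
    ?_, ?_⟩
  · apply mapBifunctor.hom_ext
    intro i j h
    rw [← Category.assoc, ι_mapTotApp, mapTotSummand, Category.assoc]
    refine (congrArg ((α (K₁.X i) (K₂.X j)).hom ≫ ·)
      (Cofan.IsColimit.fac hc _ ⟨(i, j), h⟩)).trans ?_
    rw [Iso.hom_inv_id_assoc]
    exact (Category.comp_id _).symm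
  · refine Cofan.IsColimit.hom_ext hc _ _ fun q => ?_
    rw [← Category.assoc, Cofan.IsColimit.fac, Category.assoc, ι_mapTotApp, mapTotSummand,
      Iso.inv_hom_id_assoc]
    exact (Category.comp_id _).symm

include hα₁ hα₂ in
/-- `Tot F'(H₁ K₁, H₂ K₂) ≅ G (Tot F(K₁, K₂))`. -/
theorem nonempty_mapTotIso : Nonempty
    (mapBifunctor ((H₁.mapHomologicalComplex (ComplexShape.up ℤ)).obj K₁)
      ((H₂.mapHomologicalComplex (ComplexShape.up ℤ)).obj K₂) F' (ComplexShape.up ℤ) ≅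
      (G.mapHomologicalComplex (ComplexShape.up ℤ)).obj (mapBifunctor K₁ K₂ F (ComplexShape.up ℤ))) :=
  ⟨HomologicalComplex.Hom.isoOfComponents
    (fun n => @asIso _ _ _ _ (mapTotApp F F' H₁ H₂ G α K₁ K₂ n) (isIso_mapTotApp F F' H₁ H₂ G α K₁ K₂ n))
    (fun n m hnm => by
      obtain rfl : n + 1 = m := hnm
      exact mapTotApp_comm F F' H₁ H₂ G α hα₁ hα₂ K₁ K₂ n)⟩

end Groth.Agent.Mod48
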