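import Groth.Agent.Mod48.Flat
import Mathlib.Algebra.Category.ModuleCat.Presheaf.Generator

/-!
`j_! O_U` as the sheafified free presheaf on the representable presheaf.
-/

universe u

open CategoryTheory CategoryTheory.Limits Opposite MonoidalCategory

namespace Groth.Agent.Mod48

variable {C : Type u} [SmallCategory C] {J : GrothendieckTopology C} {O : Sheaf J CommRingCat.{u}}

/-- Sections over an object as the sections of the restriction. -/
noncomputable def restrSectionsEquiv (U : C) (F : ModSite.Mod O) :
    ((ModSite.restr O U).obj F).sections ≃ (pre F).obj (op U) where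
  toFun s := s.val (op (Over.mk (𝟙 U)))
  invFun x := PresheafOfModules.sectionsMk (fun Y => res (pre F) (unop Y).hom.op x) (fun Y Z g => by
    refine (res_res (pre F) (unop Y).hom.op g.unop.left.op x).trans ?_
    rw [← op_comp, Over.w g.unop]
    rfl)
  left_inv s := by
    refine PresheafOfModules.sections_ext _ _ fun Y => ?_
    exact s.property (j := op (Over.mk (𝟙 U))) (j' := Y)
      (Over.homMk (U := unop Y) (V := Over.mk (𝟙 U)) (unop Y).hom (by simp)).op
  right_inv x := by
    exact PresheafOfModules.congr_map_apply (pre F) (f := (𝟙 U).op) (g := 𝟙 (op U)) rfl x |>.trans (by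
      change (pre F).map (𝟙 (op U)) x = x
      first | (simp; rfl) | simp)

lemma restrSectionsEquiv_map (U : C) {F G : ModSite.Mod O} (f : F ⟶ G)
    (s : ((ModSite.restr O U).obj F).sections) :
    restrSectionsEquiv U G (SheafOfModules.sectionsMap ((ModSite.restr O U).map f) s) =
      (fgt.map f).app (op U) (restrSectionsEquiv U F s) := rfl

/-- Maps out of `j_! O_U` are sections over `U`. -/
noncomputable def freeOnEquiv (U : C) (F : ModSite.Mod O) :
    (ModSite.freeOn O U ⟶ F) ≃ (pre F).obj (op U) :=
  ((ModSite.extZeroAdj O U).homEquiv _ F).trans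
    ((((ModSite.restr O U).obj F).unitHomEquiv).trans (restrSectionsEquiv U F))

lemma freeOnEquiv_comp (U : C) {F G : ModSite.Mod O} (a : ModSite.freeOn O U ⟶ F) (f : F ⟶ G) :
    freeOnEquiv U G (a ≫ f) = (fgt.map f).app (op U) (freeOnEquiv U F a) := by
  change restrSectionsEquiv U G (((ModSite.restr O U).obj G).unitHomEquiv
    ((ModSite.extZeroAdj O U).homEquiv _ G (a ≫ f))) = _
  rw [Adjunction.homEquiv_naturality_right, SheafOfModules.unitHomEquiv_comp_apply, restrSectionsEquiv_map]
  rfl

/-- The free presheaf of modules on a representable presheaf. -/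
noncomputable abbrev freeY (U : C) : PreM O :=
  (PresheafOfModules.free (O.obj ⋙ forget₂ CommRingCat.{u} RingCat.{u})).obj (yoneda.obj U)

/-- Maps out of the sheafified free presheaf on `U` are sections over `U`. -/
noncomputable def shfFreeYEquiv (U : C) (F : ModSite.Mod O) :
    (shf.obj (freeY U) ⟶ F) ≃ (pre F).obj (op U) :=
  (shfHomEquiv _ F).trans PresheafOfModules.freeYonedaEquiv

lemma shfFreeYEquiv_comp (U : C) {F G : ModSite.Mod O} (a : shf.obj (freeY U) ⟶ F) (f : F ⟶ G) :
    shfFreeYEquiv U G (a ≫ f) = (fgt.map f).app (op U) (shfFreeYEquiv U F a) := by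
  change PresheafOfModules.freeYonedaEquiv (shfHomEquiv _ G (a ≫ f)) = _
  rw [shfHomEquiv, Adjunction.homEquiv_naturality_right, PresheafOfModules.freeYonedaEquiv_comp]
  rfl

/-- `j_! O_U` is the sheafified free presheaf on `U`. -/
noncomputable def freeOnIso (U : C) : ModSite.freeOn O U ≅ shf.obj (freeY U) where
  hom := (freeOnEquiv U _).symm (shfFreeYEquiv U _ (𝟙 _))
  inv := (shfFreeYEquiv U _).symm (freeOnEquiv U _ (𝟙 _))
  hom_inv_id := (freeOnEquiv U _).injective (by
    rw [freeOnEquiv_comp, Equiv.apply_symm_apply, ← shfFreeYEquiv_comp, Category.id_comp, Equiv.apply_symm_apply])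
  inv_hom_id := (shfFreeYEquiv U _).injective (by
    rw [shfFreeYEquiv_comp, Equiv.apply_symm_apply, ← freeOnEquiv_comp, Category.id_comp, Equiv.apply_symm_apply])

lemma isFlat_freeOn (U : C) : ModSite.IsFlat (ModSite.freeOn O U) :=
  isFlat_of_iso (freeOnIso U).symm (isFlat_shf _ (free_sections_flat (yoneda.obj U)))

end Groth.Agent.Mod48
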