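import Groth.Agent.Mod48.KFlatCone
import Mathlib.CategoryTheory.Abelian.GrothendieckAxioms.Colim

/-!
Complexes concentrated in one degree, colimits, bounded above complexes of flat modules.
-/

universe u

open CategoryTheory CategoryTheory.Limits Opposite MonoidalCategory HomologicalComplex

namespace Groth.Agent.Mod48

variable {C : Type u} [SmallCategory C] {J : GrothendieckTopology C} {O : Sheaf J CommRingCat.{u}}

section Colim

variable {A : Type*} [Category* A] [Abelian A] {K : Type*} [Category* K] [HasColimitsOfShape K A]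
  [HasExactColimitsOfShape K A]

lemma acyclic_of_isColimit (D : K ⥤ CochainComplex A ℤ) (c : Cocone D) (hc : IsColimit c)
    (h : ∀ k, (D.obj k).Acyclic) : c.pt.Acyclic := fun i => by
  rw [HomologicalComplex.exactAt_iff' _ (i - 1) i (i + 1) (by simp) (by simp)]
  let T : ShortComplex (K ⥤ A) :=
    ShortComplex.mk (X₁ := D ⋙ eval A _ (i - 1)) (X₂ := D ⋙ eval A _ i) (X₃ := D ⋙ eval A _ (i + 1))
      { app := fun k => (D.obj k).d (i - 1) i
        naturality := fun _ _ f => (D.map f).comm _ _ }
      { app := fun k => (D.obj k).d i (i + 1)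
        naturality := fun _ _ f => (D.map f).comm _ _ }
      (by ext k; exact (D.obj k).d_comp_d _ _ _)
  have hT : T.Exact := by
    rw [ShortComplex.exact_iff_isZero_homology, Functor.isZero_iff]
    intro k
    refine IsZero.of_iso ?_ (T.mapHomologyIso ((evaluation K A).obj k)).symm
    rw [← ShortComplex.exact_iff_isZero_homology]
    have hk := h k i
    rw [HomologicalComplex.exactAt_iff' _ (i - 1) i (i + 1) (by simp) (by simp)] at hk
    exact hk
  exact colim.exact_mapShortComplex hT (isColimitOfPreserves (eval A _ (i - 1)) hc)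
    (isColimitOfPreserves (eval A _ i) hc) (isColimitOfPreserves (eval A _ (i + 1)) hc)
    (c.pt.d (i - 1) i) (c.pt.d i (i + 1)) (fun k => (c.ι.app k).comm _ _) (fun k => (c.ι.app k).comm _ _)

end Colim

lemma isKFlat_of_isColimit {K : Type} [SmallCategory K] [HasColimitsOfShape K (ModSite.Mod O)]
    [HasExactColimitsOfShape K (ModSite.Mod O)] (D : K ⥤ CC O) (c : Cocone D) (hc : IsColimit c)
    (h : ∀ k, ModSite.IsKFlat (D.obj k)) : ModSite.IsKFlat c.pt := by
  rw [isKFlat_iff]
  intro F hF
  exact acyclic_of_isColimit _ _ (isColimitOfPreserves ((ModSite.tensorCx O).obj F) hc)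
    fun k => (isKFlat_iff _).1 (h k) F hF

section Single

variable (F : CC O) (A : ModSite.Mod O)

/-- The complex concentrated in degree zero. -/
noncomputable abbrev sgl (A : ModSite.Mod O) : CC O :=
  (HomologicalComplex.single (ModSite.Mod O) (ComplexShape.up ℤ) 0).obj A

/-- The component of the comparison in one degree. -/
noncomputable def toTcSingleApp (n : ℤ) :
    ((ModSite.tensorBi O).obj (F.X n)).obj A ⟶ (tc F (sgl A)).X n :=
  ((ModSite.tensorBi O).obj (F.X n)).map (HomologicalComplex.singleObjXSelf (ComplexShape.up ℤ) 0 A).inv ≫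
    HomologicalComplex.ιMapBifunctor F (sgl A) (ModSite.tensorBi O) (ComplexShape.up ℤ) n 0 n (add_zero n)

/-- `F ⊗ A` in the comparison. -/
noncomputable def toTcSingle :
    (((ModSite.tensorBi O).flip.obj A).mapHomologicalComplex (ComplexShape.up ℤ)).obj F ⟶ tc F (sgl A) where
  f n := toTcSingleApp F A n
  comm' i j hij := by
    have key : HomologicalComplex.ιMapBifunctor F (sgl A) (ModSite.tensorBi O) (ComplexShape.up ℤ) i 0 i (add_zero i) ≫
        (tc F (sgl A)).d i j = ((ModSite.tensorBi O).map (F.d i j)).app ((sgl A).X 0) ≫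
          HomologicalComplex.ιMapBifunctor F (sgl A) (ModSite.tensorBi O) (ComplexShape.up ℤ) j 0 j (add_zero j) := by
      rw [HomologicalComplex.mapBifunctor.d_eq, Preadditive.comp_add, HomologicalComplex.mapBifunctor.ι_D₁,
        HomologicalComplex.mapBifunctor.ι_D₂,
        HomologicalComplex.mapBifunctor.d₁_eq _ _ _ _ hij 0 j (add_zero j),
        HomologicalComplex.mapBifunctor.d₂_eq' _ _ _ _ i (show (ComplexShape.up ℤ).Rel 0 1 from zero_add 1) j,
        HomologicalComplex.single_obj_d, CategoryTheory.Functor.map_zero, zero_comp, smul_zero, add_zero,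
        show ComplexShape.ε₁ (ComplexShape.up ℤ) (ComplexShape.up ℤ) (ComplexShape.up ℤ) (i, (0 : ℤ)) = 1
          from rfl, one_smul]
    change toTcSingleApp F A i ≫ (tc F (sgl A)).d i j =
      ((ModSite.tensorBi O).map (F.d i j)).app A ≫ toTcSingleApp F A j
    rw [toTcSingleApp, toTcSingleApp, Category.assoc, key, NatTrans.naturality_assoc]

/-- The projection of the total complex onto the surviving summand. -/
noncomputable def fromTcSingleApp (n : ℤ) :
    (tc F (sgl A)).X n ⟶ ((ModSite.tensorBi O).obj (F.X n)).obj A :=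
  HomologicalComplex.mapBifunctorDesc fun p q h =>
    if hq : q = 0 then
      ((ModSite.tensorBi O).map (eqToHom (congrArg F.X (show p = n by
          change p + q = n at h; omega)))).app _ ≫
        ((ModSite.tensorBi O).obj (F.X n)).map
          (HomologicalComplex.singleObjXIsoOfEq (ComplexShape.up ℤ) 0 A q hq).hom
    else 0

instance isIso_toTcSingle : IsIso (toTcSingle F A) := by
  have : ∀ n, IsIso ((toTcSingle F A).f n) := fun n => by
    refine ⟨fromTcSingleApp F A n, ?_, ?_⟩
    · change toTcSingleApp F A n ≫ fromTcSingleApp F A n = 𝟙 _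
      rw [toTcSingleApp, fromTcSingleApp, Category.assoc, HomologicalComplex.ι_mapBifunctorDesc,
        dif_pos rfl, eqToHom_refl, CategoryTheory.Functor.map_id, NatTrans.id_app, Category.id_comp,
        ← CategoryTheory.Functor.map_comp]
      exact (congrArg _ (HomologicalComplex.singleObjXSelf (ComplexShape.up ℤ) 0 A).inv_hom_id).trans
        (CategoryTheory.Functor.map_id _ _)
    · change fromTcSingleApp F A n ≫ toTcSingleApp F A n = 𝟙 _
      refine HomologicalComplex.mapBifunctor.hom_ext fun p q h => ?_
      by_cases hq : q = 0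
      · subst hq
        obtain rfl : p = n := by change p + 0 = n at h; omega
        rw [toTcSingleApp, fromTcSingleApp, ← Category.assoc, HomologicalComplex.ι_mapBifunctorDesc,
          dif_pos rfl, eqToHom_refl, CategoryTheory.Functor.map_id, NatTrans.id_app, Category.id_comp,
          Category.comp_id, ← Category.assoc, ← CategoryTheory.Functor.map_comp]
        exact (congrArg (fun t => ((ModSite.tensorBi O).obj (F.X p)).map t ≫ _)
          (HomologicalComplex.singleObjXSelf (ComplexShape.up ℤ) 0 A).hom_inv_id).trans (by simp)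
      · exact (Functor.map_isZero _ (HomologicalComplex.isZero_single_obj_X _ 0 A q hq)).eq_of_src _ _
  exact HomologicalComplex.Hom.isIso_of_components (toTcSingle F A)

/-- Tensoring with a module placed in degree zero. -/
noncomputable def tcSingleIso :
    (((ModSite.tensorBi O).flip.obj A).mapHomologicalComplex (ComplexShape.up ℤ)).obj F ≅ tc F (sgl A) :=
  asIso (toTcSingle F A)

lemma isKFlat_single {A : ModSite.Mod O} (hA : ModSite.IsFlat A) : ModSite.IsKFlat (sgl A) := by
  rw [isKFlat_iff]
  intro F hF
  refine acyclic_of_iso (tcSingleIso F A) fun i => ?_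
  rw [HomologicalComplex.exactAt_iff]
  have := hA.1
  have := hA.2
  exact ((HomologicalComplex.exactAt_iff _ i).1 (hF i)).map ((ModSite.tensorBi O).flip.obj A)

lemma isKFlat_single_shift {A : ModSite.Mod O} (hA : ModSite.IsFlat A) (n : ℤ) :
    ModSite.IsKFlat ((HomologicalComplex.single (ModSite.Mod O) (ComplexShape.up ℤ) n).obj A) :=
  isKFlat_of_shift n (isKFlat_of_iso
    (((CochainComplex.singleFunctors (ModSite.Mod O)).shiftIso n 0 n (add_zero n)).app A).symm
    (isKFlat_single hA))

end Single

end Groth.Agent.Mod48
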