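import Groth.Agent.Mod48.KFlatResolution
import Mathlib.Algebra.Homology.BifunctorFlip

/-!
Symmetry of the total tensor product and its consequences.
-/

universe u

open CategoryTheory CategoryTheory.Limits Opposite MonoidalCategory HomologicalComplex

namespace Groth.Agent.Mod48

variable {C : Type u} [SmallCategory C] {J : GrothendieckTopology C} {O : Sheaf J CommRingCat.{u}}

/-- The symmetry of the double complex of a tensor product. -/
noncomputable def bicomplexSymm (F K : CC O) :
    (((ModSite.tensorBi O).flip.mapBifunctorHomologicalComplex (ComplexShape.up ℤ) (ComplexShape.up ℤ)).obj K).obj F ≅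
      (((ModSite.tensorBi O).mapBifunctorHomologicalComplex (ComplexShape.up ℤ) (ComplexShape.up ℤ)).obj K).obj F :=
  HomologicalComplex.Hom.isoOfComponents (fun p => HomologicalComplex.Hom.isoOfComponents
      (fun q => shf.mapIso (β_ (pre (F.X q)) (pre (K.X p))))
      (fun q q' _ => by
        change shf.map _ ≫ shf.map (pre (K.X p) ◁ fgt.map (F.d q q')) =
          shf.map (fgt.map (F.d q q') ▷ pre (K.X p)) ≫ shf.map _
        rw [← Functor.map_comp, ← Functor.map_comp, BraidedCategory.braiding_naturality_left]))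
    (fun p p' _ => by
      ext q : 1
      change shf.map _ ≫ shf.map (fgt.map (K.d p p') ▷ pre (F.X q)) =
        shf.map (pre (F.X q) ◁ fgt.map (K.d p p')) ≫ shf.map _
      rw [← Functor.map_comp, ← Functor.map_comp, BraidedCategory.braiding_naturality_right])

/-- Symmetry of the total tensor product. -/
noncomputable def tcSymm (F K : CC O) : tc F K ≅ tc K F :=
  (HomologicalComplex.mapBifunctorFlipIso F K (ModSite.tensorBi O) (ComplexShape.up ℤ)).symm ≪≫
    HomologicalComplex₂.total.mapIso (bicomplexSymm F K) (ComplexShape.up ℤ)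

/-- The total tensor product of an acyclic K-flat complex with anything is acyclic. -/
lemma acyclic_tc_of_isKFlat_acyclic (F R : CC O) (hR : ModSite.IsKFlat R) (hR' : R.Acyclic) :
    (tc F R).Acyclic := by
  obtain ⟨P, q, hP, -, hq, -⟩ := exists_resolution F
  have h1 : (tc P R).Acyclic := acyclic_of_iso (tcSymm R P) ((isKFlat_iff P).1 hP R hR')
  have := quasiIso_tensor_right ((isKFlat_iff R).1 hR) q
  exact acyclic_of_isZero_homology fun i =>
    (isZero_homology_of_acyclic h1 i).of_iso
      (@asIso _ _ _ _ (HomologicalComplex.homologyMap (((ModSite.tensorCx O).flip.obj R).map q) i)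
        ((quasiIsoAt_iff_isIso_homologyMap _ _).1 (this.quasiIsoAt i))).symm

/-- Tensoring preserves quasi-isomorphisms between K-flat complexes. -/
lemma quasiIso_tensor_left' {P Q : CC O} (hP : ModSite.IsKFlat P) (hQ : ModSite.IsKFlat Q)
    (α : P ⟶ Q) [QuasiIso α] (F : CC O) : QuasiIso (((ModSite.tensorCx O).obj F).map α) :=
  quasiIso_tensor_left hP hQ α F fun R hR hR' => acyclic_tc_of_isKFlat_acyclic F R hR hR'

end Groth.Agent.Mod48

namespace Groth.Agent.Mod48

variable {C : Type u} [SmallCategory C] {J : GrothendieckTopology C} {O : Sheaf J CommRingCat.{u}}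

lemma mono_map_iCycles {A B : Type*} [Category* A] [Abelian A] [Category* B] [Abelian B] (G : A ⥤ B)
    [G.Additive] [G.PreservesEpimorphisms] (K : CochainComplex A ℤ) (n : ℤ) (h : K.ExactAt n)
    (hG : ((G.mapHomologicalComplex (ComplexShape.up ℤ)).obj K).ExactAt (n - 1)) :
    Mono (G.map (K.iCycles n)) := by
  rw [HomologicalComplex.exactAt_iff_exact_up_to_refinements _ (n - 1) n (n + 1) (by simp) (by simp)] at h
  rw [HomologicalComplex.exactAt_iff_exact_up_to_refinements _ (n - 2) (n - 1) n (by simp; ring) (by simp)] at hG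
  have : Epi (K.toCycles (n - 1) n) := by
    rw [epi_iff_surjective_up_to_refinements]
    intro B z
    obtain ⟨B', π, hπ, x, hx⟩ := h (z ≫ K.iCycles n) (by rw [Category.assoc, K.iCycles_d, comp_zero])
    exact ⟨B', π, hπ, x, by rw [← cancel_mono (K.iCycles n), Category.assoc, Category.assoc, K.toCycles_i, hx]⟩
  refine Preadditive.mono_of_cancel_zero _ fun {B} x hx => ?_
  obtain ⟨B₁, π₁, hπ₁, y, hy⟩ := surjective_up_to_refinements_of_epi (G.map (K.toCycles (n - 1) n)) x
  have hy0 : y ≫ G.map (K.d (n - 1) n) = 0 := by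
    rw [← K.toCycles_i, G.map_comp, ← reassoc_of% hy, hx, comp_zero]
  obtain ⟨B₂, π₂, hπ₂, w, hw⟩ := hG y hy0
  let w' : B₂ ⟶ G.obj (K.X (n - 2)) := w
  have hw' : π₂ ≫ y = w' ≫ G.map (K.d (n - 2) (n - 1)) := hw
  rw [← cancel_epi (π₂ ≫ π₁), comp_zero, Category.assoc, hy, ← Category.assoc, hw', Category.assoc,
    ← G.map_comp, K.d_toCycles, G.map_zero, comp_zero]

/-- The cycles of an acyclic K-flat complex of flat modules are flat. -/
lemma isFlat_cycles (K : CC O) (hK : ModSite.IsKFlat K) (hac : K.Acyclic)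
    (hfl : ∀ i, ModSite.IsFlat (K.X i)) (n : ℤ) : ModSite.IsFlat (K.cycles n) := by
  have hι : ∀ A : ModSite.Mod O, Mono ((tL A).map (K.iCycles n)) := fun A => by
    have hL := acyclic_of_iso (tcSymm (sgl A) K ≪≫ (tcSingleIso K A).symm)
      (acyclic_tc_of_isKFlat_acyclic (sgl A) K hK hac)
    have hm : Mono ((tR A).map (K.iCycles n)) := mono_map_iCycles (tR A) K n (hac n) (hL (n - 1))
    rw [← NatIso.naturality_2 (tensSymm A) (K.iCycles n)]
    infer_instance
  rw [isFlat_iff_mono]
  intro A B k _
  have := hι A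
  have := (isFlat_iff_mono _).1 (hfl n) k
  have e : (tR (K.cycles n)).map k ≫ (tL B).map (K.iCycles n) =
      (tL A).map (K.iCycles n) ≫ (tR (K.X n)).map k := (tRMap (K.iCycles n)).naturality k
  have hc : Mono ((tL A).map (K.iCycles n) ≫ (tR (K.X n)).map k) := mono_comp _ _
  exact mono_of_mono_fac e

end Groth.Agent.Mod48
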