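import Groth.Agent.QC70.CompDerived

/-!
Right derived functors commute with a preceding exact functor preserving injectives.
-/

universe v u v' u' v'' u''

open CategoryTheory Limits

namespace Groth.Agent.Mod48

variable {A : Type u} [Category.{v} A] [Abelian A] [HasInjectiveResolutions A]
  {B : Type u'} [Category.{v'} B] [Abelian B] [HasInjectiveResolutions B]
  {D : Type u''} [Category.{v''} D] [Abelian D]
  (G : A ⥤ B) [G.Additive] [PreservesFiniteLimits G] [PreservesFiniteColimits G]

lemma isZero_rightDerived_succ_of_exact (X : A) (n : ℕ) : IsZero ((G.rightDerived (n + 1)).obj X) := by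
  let R := injectiveResolution X
  refine IsZero.of_iso ?_ (R.isoRightDerivedObj G (n + 1))
  change IsZero (((G.mapHomologicalComplex _).obj R.cocomplex).homology (n + 1))
  rw [← HomologicalComplex.exactAt_iff_isZero_homology]
  exact (R.cocomplex_exactAt_succ n).map G

/-- The image of an injective resolution under an exact functor preserving injectives. -/
noncomputable abbrev exactRes (hG : ∀ I : A, Injective I → Injective (G.obj I)) {X : A}
    (R : InjectiveResolution X) : InjectiveResolution (G.obj X) :=
  QC70.mapRes G hG R (isZero_rightDerived_succ_of_exact G X)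

lemma exactRes_ι_f_zero (hG : ∀ I : A, Injective I → Injective (G.obj I)) {X : A}
    (R : InjectiveResolution X) :
    (exactRes G hG R).ι.f 0 =
      ((HomologicalComplex.singleMapHomologicalComplex G (ComplexShape.up ℕ) 0).inv.app X).f 0 ≫
        G.map (R.ι.f 0) := rfl

/-- `(G ⋙ H).rightDerived n ≅ G ⋙ H.rightDerived n` for exact `G` preserving injectives. -/
noncomputable def rightDerivedPrecompIso (hG : ∀ I : A, Injective I → Injective (G.obj I))
    (H : B ⥤ D) [H.Additive] (n : ℕ) : (G ⋙ H).rightDerived n ≅ G ⋙ H.rightDerived n :=
  NatIso.ofComponents
    (fun X => (injectiveResolution X).isoRightDerivedObj (G ⋙ H) n ≪≫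
      ((exactRes G hG (injectiveResolution X)).isoRightDerivedObj H n).symm)
    (fun {X Y} f => by
      have comm : (injectiveResolution X).ι.f 0 ≫
          (InjectiveResolution.desc f (injectiveResolution Y) (injectiveResolution X)).f 0 =
            f ≫ (injectiveResolution Y).ι.f 0 :=
        (HomologicalComplex.congr_hom (InjectiveResolution.desc_commutes f
          (injectiveResolution Y) (injectiveResolution X)) 0).trans (by simp)
      let φ : (exactRes G hG (injectiveResolution X)).cocomplex ⟶
          (exactRes G hG (injectiveResolution Y)).cocomplex :=
        (G.mapHomologicalComplex _).map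
          (InjectiveResolution.desc f (injectiveResolution Y) (injectiveResolution X))
      have commG : (exactRes G hG (injectiveResolution X)).ι.f 0 ≫ φ.f 0 =
          G.map f ≫ (exactRes G hG (injectiveResolution Y)).ι.f 0 := by
        rw [exactRes_ι_f_zero, exactRes_ι_f_zero]
        have h0 : ∀ Z : A,
            ((HomologicalComplex.singleMapHomologicalComplex G (ComplexShape.up ℕ) 0).inv.app Z).f 0 =
              𝟙 (G.obj Z) := fun Z => by
          rw [HomologicalComplex.singleMapHomologicalComplex_inv_app_self]
          exact (Category.id_comp _).trans (G.map_id Z)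
        refine Eq.trans (congrArg (fun t => (t ≫ G.map _) ≫ φ.f 0) (h0 X)) ?_
        refine Eq.trans ?_ (congrArg (fun t => G.map f ≫ t ≫ G.map _) (h0 Y)).symm
        exact ((congrArg (· ≫ G.map _) (Category.id_comp _)).trans
          ((G.map_comp _ _).symm.trans ((congrArg G.map comm).trans (G.map_comp _ _)))).trans
          (congrArg (G.map f ≫ ·) (Category.id_comp _).symm)
      rw [Iso.trans_hom, Iso.trans_hom,
        InjectiveResolution.isoRightDerivedObj_hom_naturality_assoc f (injectiveResolution X)
          (injectiveResolution Y) (InjectiveResolution.desc f _ _) comm, Category.assoc]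
      refine whisker_eq ((injectiveResolution X).isoRightDerivedObj (G ⋙ H) n).hom ?_
      exact (InjectiveResolution.isoRightDerivedObj_inv_naturality (G.map f)
        (exactRes G hG (injectiveResolution X)) (exactRes G hG (injectiveResolution Y)) φ commG H n).symm)

end Groth.Agent.Mod48
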