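import Mathlib.Algebra.Homology.DerivedCategory.ExactFunctor
import Mathlib.Algebra.Homology.DerivedCategory.HomologySequence

/-!
Homology and exact functors on derived categories.
-/

universe w w' v v' u u'

open CategoryTheory CategoryTheory.Limits

namespace Groth.Agent.Mod48

variable {A : Type u} [Category.{v} A] [Abelian A] [HasDerivedCategory.{w} A]
  {B : Type u'} [Category.{v'} B] [Abelian B] [HasDerivedCategory.{w'} B]
  (G : A ⥤ B) [G.Additive] [PreservesFiniteLimits G] [PreservesFiniteColimits G]

/-- An exact functor commutes with homology of complexes. -/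
noncomputable def mapHomologyIsoCx (M : CochainComplex A ℤ) (i : ℤ) :
    ((G.mapHomologicalComplex (ComplexShape.up ℤ)).obj M).homology i ≅ G.obj (M.homology i) :=
  (M.sc i).mapHomologyIso G

/-- An exact functor commutes with homology in the derived category. -/
lemma nonempty_homology_mapDerivedCategory (K : DerivedCategory A) (i : ℤ) :
    Nonempty ((DerivedCategory.homologyFunctor B i).obj (G.mapDerivedCategory.obj K) ≅
      G.obj ((DerivedCategory.homologyFunctor A i).obj K)) := by
  let M := (DerivedCategory.Q : CochainComplex A ℤ ⥤ DerivedCategory A).objPreimage K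
  let e : DerivedCategory.Q.obj M ≅ K := (DerivedCategory.Q : CochainComplex A ℤ ⥤ DerivedCategory A).objObjPreimageIso K
  exact ⟨(DerivedCategory.homologyFunctor B i).mapIso (G.mapDerivedCategory.mapIso e.symm ≪≫
      G.mapDerivedCategoryFactors.app M) ≪≫ (DerivedCategory.homologyFunctorFactors B i).app _ ≪≫
    mapHomologyIsoCx G M i ≪≫
    G.mapIso (((DerivedCategory.homologyFunctorFactors A i).app M).symm ≪≫
      (DerivedCategory.homologyFunctor A i).mapIso e)⟩

lemma isZero_of_isZero_homology {K : DerivedCategory A}
    (h : ∀ i, IsZero ((DerivedCategory.homologyFunctor A i).obj K)) : IsZero K := by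
  rw [IsZero.iff_id_eq_zero]
  have hz : IsIso (0 : K ⟶ K) := by
    rw [DerivedCategory.isIso_iff]
    intro n
    exact ⟨0, (h n).eq_of_src _ _, (h n).eq_of_src _ _⟩
  rw [← cancel_epi (0 : K ⟶ K), comp_zero, zero_comp]

/-- An exact functor killing no non-zero object is conservative on derived categories. -/
lemma isIso_of_isIso_mapDerivedCategory (h0 : ∀ X : A, IsZero (G.obj X) → IsZero X)
    {K L : DerivedCategory A} (f : K ⟶ L) [IsIso (G.mapDerivedCategory.map f)] : IsIso f := by
  obtain ⟨Z, g, δ, hT⟩ := Pretriangulated.distinguished_cocone_triangle f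
  refine (Pretriangulated.Triangle.isZero₃_iff_isIso₁ _ hT).1 (isZero_of_isZero_homology fun i => h0 _ ?_)
  have hG := G.mapDerivedCategory.map_distinguished _ hT
  have hz : IsZero (G.mapDerivedCategory.obj Z) :=
    (Pretriangulated.Triangle.isZero₃_iff_isIso₁ _ hG).2 (inferInstanceAs (IsIso (G.mapDerivedCategory.map f)))
  exact ((DerivedCategory.homologyFunctor B i).map_isZero hz).of_iso
    (nonempty_homology_mapDerivedCategory G Z i).some.symm

end Groth.Agent.Mod48
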