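import Groth.Agent.Mod48.KFlatColim
import Mathlib.CategoryTheory.Limits.Constructions.EventuallyConstant
import Mathlib.Algebra.Homology.Embedding.CochainComplex

/-!
Bounded above complexes of flat modules are K-flat.
-/

universe u

open CategoryTheory CategoryTheory.Limits Opposite MonoidalCategory HomologicalComplex

namespace Groth.Agent.Mod48

variable {C : Type u} [SmallCategory C] {J : GrothendieckTopology C} {O : Sheaf J CommRingCat.{u}}

/-- A cocone on an eventually constant diagram whose map from the constant value is invertible is colimit. -/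
noncomputable def isColimitOfEventuallyConstant {A : Type*} [Category* A] {D : ℕ ⥤ A} {n₀ : ℕ}
    (h : D.IsEventuallyConstantFrom n₀) (c : Cocone D) (hc : IsIso (c.ι.app n₀)) : IsColimit c :=
  IsColimit.ofIsoColimit h.isColimitCocone (Cocone.ext (@asIso _ _ _ _ (c.ι.app n₀) hc) (fun n => by
    change h.coconeιApp n ≫ c.ι.app n₀ = c.ι.app n
    rw [h.coconeιApp_eq n (max n₀ n) (homOfLE (le_max_right _ _)) (homOfLE (le_max_left _ _)), Category.assoc]
    rw [← c.w (homOfLE (le_max_right n₀ n))]
    congr 1
    rw [Iso.inv_comp_eq]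
    exact (c.w (homOfLE (le_max_left n₀ n))).symm))

lemma shortExact_cokernel {A : Type*} [Category* A] [Abelian A] {K L : CochainComplex A ℤ} (f : K ⟶ L)
    [Mono f] : (ShortComplex.mk f (cokernel.π f) (cokernel.condition f)).ShortExact :=
  { exact := ShortComplex.exact_of_g_is_cokernel _ (cokernelIsCokernel _) }

section Sigma

variable (K : CC O)

/-- The endomorphism killed by the stupid truncation. -/
noncomputable def sigAux (m i : ℤ) : K.X i ⟶ K.X i := if m ≤ i then 0 else 𝟙 _

/-- The stupid truncation `σ≥m` as a subcomplex. -/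
noncomputable def sigGE (m : ℤ) : CC O where
  X i := kernel (sigAux K m i)
  d i j := kernel.lift _ (kernel.ι (sigAux K m i) ≫ K.d i j) (by
    by_cases h : (ComplexShape.up ℤ).Rel i j
    · by_cases hi : m ≤ i
      · have hj : m ≤ j := by simp at h; omega
        rw [show sigAux K m j = 0 from if_pos hj, comp_zero]
      · have : kernel.ι (sigAux K m i) = 0 := by
          rw [← Category.comp_id (kernel.ι _), show 𝟙 (K.X i) = sigAux K m i from (if_neg hi).symm,
            kernel.condition]
        simp [this]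
    · simp [K.shape _ _ h])
  shape i j h := by
    rw [← cancel_mono (kernel.ι (sigAux K m j)), kernel.lift_ι, K.shape _ _ h, comp_zero, zero_comp]
  d_comp_d' i j k _ _ := by
    rw [← cancel_mono (kernel.ι (sigAux K m k)), Category.assoc, kernel.lift_ι, kernel.lift_ι_assoc,
      Category.assoc, K.d_comp_d, comp_zero, zero_comp]

/-- The inclusion of the stupid truncation. -/
noncomputable def sigι (m : ℤ) : sigGE K m ⟶ K where
  f i := kernel.ι (sigAux K m i)
  comm' i j _ := (kernel.lift_ι _ _ _).symm

instance (m i : ℤ) : Mono ((sigι K m).f i) := inferInstanceAs (Mono (kernel.ι _))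

lemma isIso_sigι_f (m i : ℤ) (h : m ≤ i) : IsIso ((sigι K m).f i) := by
  have hz : sigAux K m i = 0 := if_pos h
  let g : K.X i ⟶ (sigGE K m).X i := kernel.lift (sigAux K m i) (𝟙 (K.X i)) (by rw [hz, comp_zero])
  have hg : g ≫ (sigι K m).f i = 𝟙 _ := kernel.lift_ι _ _ _
  refine ⟨⟨g, ?_, hg⟩⟩
  rw [← cancel_mono ((sigι K m).f i), Category.assoc, hg, Category.comp_id, Category.id_comp]

lemma isZero_sigGE_X (m i : ℤ) (h : ¬ m ≤ i) : IsZero ((sigGE K m).X i) := by
  rw [IsZero.iff_id_eq_zero, ← cancel_mono ((sigι K m).f i), zero_comp, Category.id_comp]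
  change kernel.ι (sigAux K m i) = 0
  rw [← Category.comp_id (kernel.ι _), show 𝟙 (K.X i) = sigAux K m i from (if_neg h).symm, kernel.condition]

lemma sigMapF_aux {m m' : ℤ} (h : m' ≤ m) (i : ℤ) :
    kernel.ι (sigAux K m i) ≫ sigAux K m' i = 0 := by
  by_cases hi : m' ≤ i
  · rw [show sigAux K m' i = 0 from if_pos hi, comp_zero]
  · rw [show sigAux K m' i = sigAux K m i from (if_neg hi).trans (if_neg (by omega)).symm, kernel.condition]

/-- The transition maps of the stupid truncations in one degree. -/
noncomputable def sigMapF {m m' : ℤ} (h : m' ≤ m) (i : ℤ) :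
    (sigGE K m).X i ⟶ (sigGE K m').X i :=
  kernel.lift (sigAux K m' i) (kernel.ι (sigAux K m i)) (sigMapF_aux K h i)

lemma sigMapF_ι {m m' : ℤ} (h : m' ≤ m) (i : ℤ) :
    sigMapF K h i ≫ (sigι K m').f i = (sigι K m).f i := kernel.lift_ι _ _ _

/-- The transition maps of the stupid truncations. -/
noncomputable def sigMap {m m' : ℤ} (h : m' ≤ m) : sigGE K m ⟶ sigGE K m' where
  f i := sigMapF K h i
  comm' i j hij := by
    refine (cancel_mono ((sigι K m').f j)).1 ?_
    rw [Category.assoc, Category.assoc, ← (sigι K m').comm i j, reassoc_of% (sigMapF_ι K h i), sigMapF_ι,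
      (sigι K m).comm i j]

@[reassoc]
lemma sigMap_ι {m m' : ℤ} (h : m' ≤ m) : sigMap K h ≫ sigι K m' = sigι K m := by
  ext i : 1
  exact kernel.lift_ι _ _ _

instance sigMap_mono {m m' : ℤ} (h : m' ≤ m) (i : ℤ) : Mono ((sigMap K h).f i) := by
  have e : (sigMap K h).f i ≫ (sigι K m').f i = (sigι K m).f i := by
    rw [← HomologicalComplex.comp_f, sigMap_ι]
  exact mono_of_mono_fac e

lemma isIso_sigMap_f {m m' : ℤ} (h : m' ≤ m) (i : ℤ) (hi : m ≤ i) : IsIso ((sigMap K h).f i) := by
  have e : (sigMap K h).f i ≫ (sigι K m').f i = (sigι K m).f i := by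
    rw [← HomologicalComplex.comp_f, sigMap_ι]
  have := isIso_sigι_f K m i hi
  have := isIso_sigι_f K m' i (h.trans hi)
  exact IsIso.of_isIso_fac_right e

instance (m : ℤ) : Mono (sigι K m) := HomologicalComplex.mono_of_mono_f _ inferInstance

/-- The stupid truncations form an increasing sequence. -/
noncomputable def sigSeq (b : ℤ) : ℕ ⥤ CC O where
  obj n := sigGE K (b - n)
  map {n n'} f := sigMap K (by have := leOfHom f; omega)
  map_id n := by rw [← cancel_mono (sigι K (b - n)), sigMap_ι, Category.id_comp]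
  map_comp {n n' n''} f g := by
    rw [← cancel_mono (sigι K (b - n'')), sigMap_ι, Category.assoc, sigMap_ι, sigMap_ι]

/-- The cocone of the stupid truncations. -/
noncomputable def sigCocone (b : ℤ) : Cocone (sigSeq K b) where
  pt := K
  ι := { app := fun n => sigι K (b - n)
         naturality := fun n n' f => (sigMap_ι K (m := b - n) (m' := b - n')
           (by have := leOfHom f; omega)).trans (Category.comp_id _).symm }

/-- The stupid truncations exhaust the complex. -/
noncomputable def isColimitSigCocone (b : ℤ) : IsColimit (sigCocone K b) :=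
  HomologicalComplex.isColimitOfEval _ _ fun i =>
    have h : (sigSeq K b ⋙ eval _ _ i).IsEventuallyConstantFrom (b - i).toNat := fun n f =>
      isIso_sigMap_f K (m := b - ((b - i).toNat : ℕ)) (m' := b - (n : ℕ))
        (by have := leOfHom f; omega) i (by omega)
    have hι : IsIso (((eval _ _ i).mapCocone (sigCocone K b)).ι.app (b - i).toNat) :=
      isIso_sigι_f K _ i (by omega)
    isColimitOfEventuallyConstant h _ hι

end Sigma

lemma isFlat_of_isZero {Z : ModSite.Mod O} (hz : IsZero Z) : ModSite.IsFlat Z := by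
  rw [isFlat_iff_mono]
  intro A B k _
  have hzA : IsZero ((tR Z).obj A) := IsZero.of_iso ((tL A).map_isZero hz) (Iso.refl _)
  exact Preadditive.mono_of_cancel_zero _ fun x _ => hzA.eq_of_tgt _ _

lemma isFlat_sigGE (K : CC O) (hfl : ∀ i, ModSite.IsFlat (K.X i)) (m i : ℤ) :
    ModSite.IsFlat ((sigGE K m).X i) := by
  by_cases hi : m ≤ i
  · have := isIso_sigι_f K m i hi
    exact isFlat_of_iso (asIso ((sigι K m).f i)).symm (hfl i)
  · exact isFlat_of_isZero (isZero_sigGE_X K m i hi)

lemma isKFlat_bounded (n : ℕ) : ∀ (K : CC O) (a : ℤ), (∀ i, i < a → IsZero (K.X i)) →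
    (∀ i, a + n ≤ i → IsZero (K.X i)) → (∀ i, ModSite.IsFlat (K.X i)) → ModSite.IsKFlat K := by
  induction n with
  | zero =>
    intro K a h1 h2 _
    refine isKFlat_of_homotopy_id_zero (Homotopy.ofEq ?_)
    ext i : 1
    by_cases h : i < a
    · exact (h1 i h).eq_of_src _ _
    · exact (h2 i (by omega)).eq_of_src _ _
  | succ n ih =>
    intro K a h1 h2 hfl
    let S : ShortComplex (CC O) := ShortComplex.mk (sigι K (a + 1)) (cokernel.π _) (cokernel.condition _)
    have hS : S.ShortExact := shortExact_cokernel (sigι K (a + 1))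
    have hSi : ∀ i, (S.map (ev i)).ShortExact := fun i => hS.map_of_exact (ev i)
    have hepi : ∀ i, Epi (S.g.f i) := fun i => (hSi i).epi_g
    have hzero : ∀ i, S.f.f i ≫ S.g.f i = 0 := fun i => (S.map (ev i)).zero
    have hX₃ : ∀ i, a + 1 ≤ i → IsZero (S.X₃.X i) := fun i hi => by
      have : IsIso (S.f.f i) := isIso_sigι_f K (a + 1) i hi
      have := hepi i
      rw [IsZero.iff_id_eq_zero]
      refine (cancel_epi (S.g.f i)).1 ((cancel_epi (S.f.f i)).1 ?_)
      rw [reassoc_of% (hzero i), zero_comp, comp_zero, comp_zero]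
    have hX₃' : ∀ i, i < a → IsZero (S.X₃.X i) := fun i hi => by
      have := hepi i
      exact IsZero.of_epi (S.g.f i) (h1 i hi)
    have hflat : ∀ i, ModSite.IsFlat (S.X₃.X i) := fun i => by
      by_cases hi : i = a
      · subst hi
        refine isFlat_of_iso (F := K.X i) ?_ (hfl i)
        have hz : IsZero (S.map (ev i)).X₁ := isZero_sigGE_X K (i + 1) i (by omega)
        have : Mono (S.g.f i) := (hSi i).exact.mono_g (hz.eq_of_src _ _)
        have := hepi i
        have := isIso_of_mono_of_epi (S.g.f i)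
        exact asIso (S.g.f i)
      · refine isFlat_of_isZero ?_
        by_cases hi' : i < a
        · exact hX₃' i hi'
        · exact hX₃ i (by omega)
    refine (isKFlat_two_out_of_three S fun F => shortExact_tensorCx_obj_of_flat F S hS hflat).2.1 ?_ ?_
    · exact ih (sigGE K (a + 1)) (a + 1) (fun i hi => isZero_sigGE_X K _ i (by omega))
        (fun i hi => IsZero.of_mono ((sigι K (a + 1)).f i) (h2 i (by push_cast; omega)))
        (isFlat_sigGE K hfl (a + 1))
    · have : CochainComplex.IsStrictlyGE S.X₃ a := by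
        rw [CochainComplex.isStrictlyGE_iff]; exact fun i hi => hX₃' i hi
      have : CochainComplex.IsStrictlyLE S.X₃ a := by
        rw [CochainComplex.isStrictlyLE_iff]; exact fun i hi => hX₃ i (by omega)
      obtain ⟨M, ⟨e⟩⟩ := CochainComplex.exists_iso_single S.X₃ a
      exact isKFlat_of_iso e.symm (isKFlat_single_shift
        (isFlat_of_iso ((ev a).mapIso e ≪≫ HomologicalComplex.singleObjXSelf (ComplexShape.up ℤ) a M) (hflat a)) a)

lemma isKFlat_of_bounded_above (K : CC O) (b : ℤ) [CochainComplex.IsStrictlyLE K b]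
    (hfl : ∀ i, ModSite.IsFlat (K.X i)) : ModSite.IsKFlat K := by
  refine isKFlat_of_isColimit (sigSeq K (b + 1)) (sigCocone K (b + 1)) (isColimitSigCocone K (b + 1)) fun n => ?_
  exact isKFlat_bounded n (sigGE K (b + 1 - n)) (b + 1 - n)
    (fun i hi => isZero_sigGE_X K _ i (by omega))
    (fun i hi => IsZero.of_mono ((sigι K (b + 1 - n)).f i) (CochainComplex.isZero_of_isStrictlyLE K b i (by omega)))
    (isFlat_sigGE K hfl _)

end Groth.Agent.Mod48
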