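import Groth.Agent.Mod48.KFlatBounded
import Mathlib.Algebra.Homology.Refinements
import Mathlib.Algebra.Homology.GrothendieckAbelian
import Mathlib.CategoryTheory.Functor.OfSequence

/-!
Resolutions by K-flat complexes with flat terms.
-/

universe u

open CategoryTheory CategoryTheory.Limits Opposite MonoidalCategory HomologicalComplex

namespace Groth.Agent.Mod48

section Generic

variable {A : Type*} [Category* A] [Abelian A] [HasColimitsOfShape ℕ A] [HasExactColimitsOfShape ℕ A]

/-- The short complexes in degree `i` of a sequence of complexes. -/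
noncomputable def seqSc (D : ℕ ⥤ CochainComplex A ℤ) (i : ℤ) : ShortComplex (ℕ ⥤ A) :=
  ShortComplex.mk (X₁ := D ⋙ eval A _ ((ComplexShape.up ℤ).prev i)) (X₂ := D ⋙ eval A _ i)
    (X₃ := D ⋙ eval A _ ((ComplexShape.up ℤ).next i))
    { app := fun k => (D.obj k).d _ i
      naturality := fun _ _ f => (D.map f).comm _ _ }
    { app := fun k => (D.obj k).d i _
      naturality := fun _ _ f => (D.map f).comm _ _ }
    (by ext k; exact (D.obj k).d_comp_d _ _ _)

/-- A colimit of a sequence of complexes with vanishing transition maps on homology is acyclic. -/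
lemma acyclic_of_isColimit_of_homologyMap_eq_zero (D : ℕ ⥤ CochainComplex A ℤ) (c : Cocone D)
    (hc : IsColimit c)
    (h : ∀ k i, HomologicalComplex.homologyMap (D.map (homOfLE (Nat.le_add_right k 1))) i = 0) :
    c.pt.Acyclic := fun i => by
  let T := seqSc D i
  have hmap : ∀ k, T.homology.map (homOfLE (Nat.le_add_right k 1)) = 0 := fun k => by
    have e := ShortComplex.homologyMap_mapNatTrans (S := T)
      (τ := (evaluation ℕ A).map (homOfLE (Nat.le_add_right k 1)))
    have e' : ShortComplex.homologyMap (T.mapNatTrans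
        ((evaluation ℕ A).map (homOfLE (Nat.le_add_right k 1)))) =
        HomologicalComplex.homologyMap (D.map (homOfLE (Nat.le_add_right k 1))) i := rfl
    have e'' := (cancel_epi (T.mapHomologyIso ((evaluation ℕ A).obj k)).hom).1
      ((e.symm.trans (e'.trans (h k i))).trans comp_zero.symm)
    exact (cancel_mono (T.mapHomologyIso ((evaluation ℕ A).obj (k + 1))).inv).1 (e''.trans zero_comp.symm)
  have hz : IsZero (colimit T.homology) := by
    rw [IsZero.iff_id_eq_zero]
    refine colimit.hom_ext fun k => ?_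
    rw [Category.comp_id, comp_zero, ← colimit.w T.homology (homOfLE (Nat.le_add_right k 1)), hmap,
      zero_comp]
  let p := fun j => IsColimit.coconePointUniqueUpToIso (colimit.isColimit _)
    (isColimitOfPreserves (eval A (ComplexShape.up ℤ) j) hc)
  let e : T.map colim ≅ c.pt.sc i := ShortComplex.isoMk (p _) (p i) (p _)
    (colimit.hom_ext fun k => by
      change colimit.ι T.X₁ k ≫ (p _).hom ≫ c.pt.d _ i = colimit.ι T.X₁ k ≫ colimMap T.f ≫ (p i).hom
      rw [ι_colimMap_assoc]
      have h1 : colimit.ι T.X₁ k ≫ (p _).hom = (c.ι.app k).f _ :=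
        IsColimit.comp_coconePointUniqueUpToIso_hom _ _ _
      have h2 : colimit.ι T.X₂ k ≫ (p i).hom = (c.ι.app k).f i :=
        IsColimit.comp_coconePointUniqueUpToIso_hom _ _ _
      rw [reassoc_of% h1, h2]
      exact (c.ι.app k).comm _ _)
    (colimit.hom_ext fun k => by
      change colimit.ι T.X₂ k ≫ (p i).hom ≫ c.pt.d i _ = colimit.ι T.X₂ k ≫ colimMap T.g ≫ (p _).hom
      rw [ι_colimMap_assoc]
      have h1 : colimit.ι T.X₂ k ≫ (p i).hom = (c.ι.app k).f i :=
        IsColimit.comp_coconePointUniqueUpToIso_hom _ _ _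
      have h2 : colimit.ι T.X₃ k ≫ (p _).hom = (c.ι.app k).f _ :=
        IsColimit.comp_coconePointUniqueUpToIso_hom _ _ _
      rw [reassoc_of% h1, h2]
      exact (c.ι.app k).comm _ _)
  rw [HomologicalComplex.exactAt_iff, ← ShortComplex.exact_iff_of_iso e,
    ShortComplex.exact_iff_isZero_homology]
  exact hz.of_iso (T.mapHomologyIso colim)

/-- A sequence of degreewise surjective maps to `G`, surjective on homology, the kernels on homology
dying at each step, has a quasi-isomorphism as colimit. -/
lemma quasiIso_colimit_desc (D : ℕ ⥤ CochainComplex A ℤ) (G : CochainComplex A ℤ)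
    (η : D ⟶ (Functor.const ℕ).obj G) (hepi : ∀ k n, Epi ((η.app k).f n))
    (hH : ∀ k n, Epi (HomologicalComplex.homologyMap (η.app k) n))
    (hkill : ∀ k n, kernel.ι (HomologicalComplex.homologyMap (η.app k) n) ≫
      HomologicalComplex.homologyMap (D.map (homOfLE (Nat.le_add_right k 1))) n = 0) :
    QuasiIso (colimit.desc D (Cocone.mk G η)) := by
  have : ∀ k, Epi (η.app k) := fun k => HomologicalComplex.epi_of_epi_f _ (hepi k)
  have : Epi η := NatTrans.epi_of_epi_app η
  let S : ShortComplex (ℕ ⥤ CochainComplex A ℤ) := ShortComplex.mk (kernel.ι η) η (kernel.condition η)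
  have hS : S.ShortExact := { exact := ShortComplex.exact_of_f_is_kernel _ (kernelIsKernel η) }
  have hSk : ∀ k, (S.map ((evaluation ℕ (CochainComplex A ℤ)).obj k)).ShortExact := fun k =>
    hS.map_of_exact _
  have hmono : ∀ k i, Mono (HomologicalComplex.homologyMap ((kernel.ι η).app k) i) := fun k i => by
    refine ((hSk k).homology_exact₁ (i - 1) i (sub_add_cancel i 1)).mono_g ?_
    have := hH k (i - 1)
    exact (cancel_epi (HomologicalComplex.homologyMap (η.app k) (i - 1))).1
      (((hSk k).comp_δ (i - 1) i (sub_add_cancel i 1)).trans comp_zero.symm)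
  have hK : (colimit (kernel η)).Acyclic :=
    acyclic_of_isColimit_of_homologyMap_eq_zero (kernel η) (colimit.cocone _) (colimit.isColimit _)
      fun k i => by
        have := hmono (k + 1) i
        rw [← cancel_mono (HomologicalComplex.homologyMap ((kernel.ι η).app (k + 1)) i), zero_comp,
          ← HomologicalComplex.homologyMap_comp, (kernel.ι η).naturality,
          HomologicalComplex.homologyMap_comp]
        have hz : HomologicalComplex.homologyMap ((kernel.ι η).app k) i ≫
            HomologicalComplex.homologyMap (η.app k) i = 0 := by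
          rw [← HomologicalComplex.homologyMap_comp, ← NatTrans.comp_app, kernel.condition]
          exact HomologicalComplex.homologyMap_zero _ _ _
        rw [← kernel.lift_ι _ _ hz, Category.assoc, hkill k i, comp_zero]
  have hC : (S.map colim).ShortExact := hS.map_of_exact colim
  have : QuasiIso (colimMap η) := quasiIso_g_of_acyclic_X₁ hC hK
  let e : colimit ((Functor.const ℕ).obj G) ≅ G :=
    IsColimit.coconePointUniqueUpToIso (colimit.isColimit _) (isColimitConstCocone ℕ G)
  have : colimit.desc D (Cocone.mk G η) = colimMap η ≫ e.hom := colimit.hom_ext fun k => by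
    rw [colimit.ι_desc, ι_colimMap_assoc]
    have he : colimit.ι ((Functor.const ℕ).obj G) k ≫ e.hom = 𝟙 G :=
      IsColimit.comp_coconePointUniqueUpToIso_hom _ _ k
    exact ((congrArg (η.app k ≫ ·) he).trans (Category.comp_id _)).symm
  rw [this]
  infer_instance

end Generic

variable {C : Type u} [SmallCategory C] {J : GrothendieckTopology C} {O : Sheaf J CommRingCat.{u}}

lemma isFlat_biprod {F G : ModSite.Mod O} (hF : ModSite.IsFlat F) (hG : ModSite.IsFlat G) :
    ModSite.IsFlat (F ⊞ G) :=
  isFlat_X₂ (ShortComplex.mk (biprod.inl : F ⟶ F ⊞ G) biprod.snd (by simp))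
    (ShortComplex.Splitting.mk (S := ShortComplex.mk (biprod.inl : F ⟶ F ⊞ G) biprod.snd (by simp))
      biprod.fst biprod.inr).shortExact hF hG

lemma isFlat_cone_X {K₁ K₂ : CC O} (φ : K₁ ⟶ K₂) (h1 : ∀ n, ModSite.IsFlat (K₁.X n))
    (h2 : ∀ n, ModSite.IsFlat (K₂.X n)) (n : ℤ) :
    ModSite.IsFlat ((CochainComplex.mappingCone φ).X n) :=
  isFlat_X₂ ((coneSC φ).map (ev n)) (coneSC_splitting φ n).some.shortExact (h2 n)
    (isFlat_of_iso (CochainComplex.shiftFunctorObjXIso K₁ 1 n (n + 1) rfl).symm (h1 (n + 1)))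

lemma isFlat_of_isColimit_nat (D : ℕ ⥤ ModSite.Mod O) (c : Cocone D) (hc : IsColimit c)
    (h : ∀ k, ModSite.IsFlat (D.obj k)) : ModSite.IsFlat c.pt := by
  rw [isFlat_iff_mono]
  intro A B f _
  let φ : D ⋙ tL A ⟶ D ⋙ tL B :=
    { app := fun k => (tR (D.obj k)).map f
      naturality := fun k l s => (tRMap (D.map s)).naturality f |>.symm }
  have : ∀ k, Mono (φ.app k) := fun k => (isFlat_iff_mono _).1 (h k) f
  have := NatTrans.mono_of_mono_app φ
  have : PreservesColimitsOfSize.{u, u} (tL A) := ⟨inferInstance⟩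
  have : PreservesColimitsOfSize.{u, u} (tL B) := ⟨inferInstance⟩
  exact colim.map_mono' φ (isColimitOfPreserves (tL A) hc) (isColimitOfPreserves (tL B) hc) _
    fun k => ((tRMap (c.ι.app k)).naturality f).symm

/-- The complex with vanishing differential. -/
noncomputable def zd (W : ℤ → ModSite.Mod O) : CC O where
  X := W
  d _ _ := 0

lemma zd_d_comp (W : ℤ → ModSite.Mod O) (i j : ℤ) {Z : ModSite.Mod O} (f : (zd W).X j ⟶ Z) :
    (zd W).d i j ≫ f = 0 := zero_comp

/-- A map out of a complex with vanishing differential. -/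
noncomputable def zdDesc (W : ℤ → ModSite.Mod O) {G : CC O} (φ : ∀ n, (zd W).X n ⟶ G.X n)
    (h : ∀ n m, φ n ≫ G.d n m = 0) : zd W ⟶ G where
  f := φ
  comm' i j _ := (h i j).trans (zd_d_comp W i j _).symm

lemma zdDesc_f (W : ℤ → ModSite.Mod O) {G : CC O} (φ : ∀ n, (zd W).X n ⟶ G.X n)
    (h : ∀ n m, φ n ≫ G.d n m = 0) (n : ℤ) : (zdDesc W φ h).f n = φ n := rfl

lemma zd_δ_v (W : ℤ → ModSite.Mod O) {G : CC O}
    (z : CochainComplex.HomComplex.Cochain (zd W) G (-1)) (p : ℤ) :
    (CochainComplex.HomComplex.δ (-1) 0 z).v p p (add_zero p) =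
      z.v p (p - 1) (by omega) ≫ G.d (p - 1) p := by
  rw [CochainComplex.HomComplex.δ_v (-1) 0 (by omega) z p p (by omega) (p - 1) (p + 1) (by omega) (by omega),
    zd_d_comp, smul_zero, add_zero]

/-- The inclusion of a single term. -/
noncomputable def zdι (W : ℤ → ModSite.Mod O) (n : ℤ) :
    (HomologicalComplex.single (ModSite.Mod O) (ComplexShape.up ℤ) n).obj (W n) ⟶ zd W :=
  HomologicalComplex.mkHomFromSingle (𝟙 (W n)) (fun _ _ => comp_zero)

lemma zdι_f (W : ℤ → ModSite.Mod O) (n : ℤ) :
    (zdι W n).f n = (HomologicalComplex.singleObjXSelf (ComplexShape.up ℤ) n (W n)).hom :=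
  (HomologicalComplex.mkHomFromSingle_f _ _).trans (Category.comp_id _)

/-- A complex with vanishing differential is the sum of its terms. -/
noncomputable def isColimitZd (W : ℤ → ModSite.Mod O) :
    IsColimit (Cofan.mk (zd W) (zdι W)) :=
  HomologicalComplex.isColimitOfEval _ _ fun i =>
    { desc := fun s => (HomologicalComplex.singleObjXSelf (ComplexShape.up ℤ) i (W i)).inv ≫ s.ι.app ⟨i⟩
      fac := fun s n => by
        obtain ⟨n⟩ := n
        by_cases h : i = n
        · subst h
          exact (congrArg (fun t => t ≫ (HomologicalComplex.singleObjXSelf (ComplexShape.up ℤ) i (W i)).inv ≫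
            s.ι.app ⟨i⟩) (zdι_f W i)).trans (Iso.hom_inv_id_assoc _ _)
        · exact (HomologicalComplex.isZero_single_obj_X (ComplexShape.up ℤ) n (W n) i h).eq_of_src
            (((HomologicalComplex.eval _ _ i).mapCocone (Cofan.mk (zd W) (zdι W))).ι.app ⟨n⟩ ≫ _) (s.ι.app ⟨n⟩)
      uniq := fun s m hm => by
        exact ((congrArg ((HomologicalComplex.singleObjXSelf (ComplexShape.up ℤ) i (W i)).inv ≫ ·)
          ((congrArg (· ≫ m) (zdι_f W i)).symm.trans (hm ⟨i⟩))).symm.trans
            (Iso.inv_hom_id_assoc (HomologicalComplex.singleObjXSelf (ComplexShape.up ℤ) i (W i)) m)).symm }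

lemma isKFlat_zd (W : ℤ → ModSite.Mod O) (hW : ∀ n, ModSite.IsFlat (W n)) : ModSite.IsKFlat (zd W) :=
  isKFlat_of_isColimit (K := Discrete ℤ)
    (Discrete.functor fun n => (HomologicalComplex.single (ModSite.Mod O) (ComplexShape.up ℤ) n).obj (W n))
    (Cofan.mk (zd W) (zdι W)) (isColimitZd W) fun n => isKFlat_single_shift (hW n.as) n.as

section Resolution

variable (G : CC O)

/-- An approximation of `G` by a K-flat complex, with flat terms if `Q` holds. -/
structure Stage (Q : Prop) where
  /-- The complex. -/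
  P : CC O
  /-- The map to `G`. -/
  f : P ⟶ G
  kflat : ModSite.IsKFlat P
  flat : Q → ∀ n, ModSite.IsFlat (P.X n)
  epi : ∀ n, Epi (f.f n)
  epiH : ∀ n, Epi (HomologicalComplex.homologyMap f n)

lemma exists_stage : Nonempty (Stage G True) := by
  choose W e hW he using fun n : ℤ => exists_flat_epi (G.cycles n)
  choose V ε hV hε using fun n : ℤ => exists_flat_epi (G.X (n - 1))
  let g : zd W ⟶ G := zdDesc W (fun n => e n ≫ G.iCycles n)
    fun n m => by rw [Category.assoc, HomologicalComplex.iCycles_d, comp_zero]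
  let α : CochainComplex.HomComplex.Cochain (zd V) G (-1) :=
    CochainComplex.HomComplex.Cochain.mk fun p q hpq =>
      ε p ≫ eqToHom (congrArg G.X (show p - 1 = q by omega))
  let β : zd V ⟶ G := zdDesc V (fun n => ε n ≫ G.d (n - 1) n)
    fun n m => by rw [Category.assoc, HomologicalComplex.d_comp_d, comp_zero]
  let t : CochainComplex.mappingCone (𝟙 (zd V)) ⟶ G :=
    CochainComplex.mappingCone.desc (𝟙 (zd V)) α β (CochainComplex.HomComplex.Cochain.ext₀ _ _ fun p => by
      rw [zd_δ_v, CochainComplex.HomComplex.Cochain.ofHom_v, Category.id_comp]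
      exact congrArg (fun t => (ε p ≫ t) ≫ G.d (p - 1) p) (eqToHom_refl _ _) |>.trans (by
        rw [Category.comp_id]; rfl))
  refine ⟨⟨zd W ⊞ CochainComplex.mappingCone (𝟙 (zd V)), biprod.desc g t, ?_, ?_, ?_, ?_⟩⟩
  · exact isKFlat_biprod (isKFlat_zd W hW)
      (isKFlat_of_homotopy_id_zero (CochainComplex.mappingCone.homotopyToZeroOfId _))
  · exact fun _ n => isFlat_of_iso (HomologicalComplex.biprodXIso _ _ n).symm
      (isFlat_biprod (hW n) (isFlat_cone_X _ hV hV n))
  · intro n
    have hn : (CochainComplex.mappingCone.inl (𝟙 (zd V))).v (n + 1) n (by omega) ≫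
        (biprod.inr : _ ⟶ zd W ⊞ CochainComplex.mappingCone (𝟙 (zd V))).f n ≫ (biprod.desc g t).f n =
        ε (n + 1) ≫ eqToHom (congrArg G.X (show n + 1 - 1 = n by omega)) := by
      rw [← HomologicalComplex.comp_f, biprod.inr_desc, CochainComplex.mappingCone.inl_v_desc_f]
      exact CochainComplex.HomComplex.Cochain.mk_v _ _ _ _
    rw [← Category.assoc] at hn
    have : Epi (ε (n + 1) ≫ eqToHom (congrArg G.X (show n + 1 - 1 = n by omega))) :=
      have := hε (n + 1)
      epi_comp' (hε (n + 1)) inferInstance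
    exact epi_of_epi_fac (h := ε (n + 1) ≫ eqToHom (congrArg G.X (show n + 1 - 1 = n by omega))) hn
  · intro n
    have hg : Epi (HomologicalComplex.homologyMap g n) := by
      have hc : HomologicalComplex.cyclesMap g n = (zd W).iCycles n ≫ e n :=
        (cancel_mono (G.iCycles n)).1
          ((HomologicalComplex.cyclesMap_i g n).trans (Category.assoc _ _ _).symm)
      have h1 := (zd W).isIso_iCycles n _ rfl rfl
      have : Epi (HomologicalComplex.cyclesMap g n) := hc ▸ epi_comp' inferInstance (he n)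
      have : Epi ((zd W).homologyπ n ≫ HomologicalComplex.homologyMap g n) := by
        rw [HomologicalComplex.homologyπ_naturality]
        infer_instance
      exact epi_of_epi ((zd W).homologyπ n) _
    exact epi_of_epi_fac (f := HomologicalComplex.homologyMap (biprod.inl : zd W ⟶ _) n)
      (h := HomologicalComplex.homologyMap g n)
      (by rw [← HomologicalComplex.homologyMap_comp, biprod.inl_desc])

lemma exists_next {Q : Prop} (S : Stage G Q) : ∃ (T : Stage G Q) (i : S.P ⟶ T.P), i ≫ T.f = S.f ∧
    ∀ n, kernel.ι (HomologicalComplex.homologyMap S.f n) ≫ HomologicalComplex.homologyMap i n = 0 := by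
  choose W e hW he using fun n : ℤ =>
    exists_flat_epi (pullback (S.P.iCycles n ≫ S.f.f n) (G.d (n - 1) n))
  let a : ∀ n, W n ⟶ S.P.cycles n := fun n => e n ≫ pullback.fst _ _
  let b : ∀ n, W n ⟶ G.X (n - 1) := fun n => e n ≫ pullback.snd _ _
  have hab : ∀ n, a n ≫ S.P.iCycles n ≫ S.f.f n = b n ≫ G.d (n - 1) n := fun n => by
    simp only [a, b, Category.assoc, pullback.condition]
  let q : zd W ⟶ S.P := zdDesc W (fun n => a n ≫ S.P.iCycles n)
    fun n m => by rw [Category.assoc, HomologicalComplex.iCycles_d, comp_zero]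
  let α : CochainComplex.HomComplex.Cochain (zd W) G (-1) :=
    CochainComplex.HomComplex.Cochain.mk fun p r hpr =>
      b p ≫ eqToHom (congrArg G.X (show p - 1 = r by omega))
  let f' : CochainComplex.mappingCone q ⟶ G :=
    CochainComplex.mappingCone.desc q α S.f (CochainComplex.HomComplex.Cochain.ext₀ _ _ fun p => by
      rw [zd_δ_v, CochainComplex.HomComplex.Cochain.ofHom_v, HomologicalComplex.comp_f]
      exact (congrArg (fun t => (b p ≫ t) ≫ G.d (p - 1) p) (eqToHom_refl _ _)).trans
        ((congrArg (· ≫ _) (Category.comp_id _)).trans ((hab p).symm.trans (Category.assoc _ _ _).symm)))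
  let i := CochainComplex.mappingCone.inr q
  have hi : i ≫ f' = S.f := CochainComplex.mappingCone.inr_desc _ _ _ _
  refine ⟨⟨CochainComplex.mappingCone q, f', (isKFlat_cone_two_out_of_three q).1 (isKFlat_zd W hW) S.kflat,
    fun h => isFlat_cone_X q hW (S.flat h), fun n => ?_, fun n => ?_⟩, i, hi, fun n => ?_⟩
  · have := S.epi n
    exact epi_of_epi_fac (f := i.f n) (h := S.f.f n) (by rw [← HomologicalComplex.comp_f, hi])
  · have := S.epiH n
    exact epi_of_epi_fac (f := HomologicalComplex.homologyMap i n) (h := HomologicalComplex.homologyMap S.f n)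
      (by rw [← HomologicalComplex.homologyMap_comp, hi])
  · have hqi : HomologicalComplex.homologyMap q n ≫ HomologicalComplex.homologyMap i n = 0 := by
      let H : Homotopy (q ≫ i) 0 := (CochainComplex.HomComplex.Cochain.equivHomotopy _ _).symm
        ⟨CochainComplex.mappingCone.inl q, by simp [i]⟩
      rw [← HomologicalComplex.homologyMap_comp, H.homologyMap_eq, HomologicalComplex.homologyMap_zero]
    obtain ⟨A₁, π₁, hπ₁, z, hz, hzk⟩ := S.P.eq_liftCycles_homologyπ_up_to_refinements
      (kernel.ι (HomologicalComplex.homologyMap S.f n)) (n + 1) (CochainComplex.next ℤ n)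
    have h0 : G.liftCycles (z ≫ S.f.f n) (n + 1) (CochainComplex.next ℤ n)
        (by rw [Category.assoc, S.f.comm, reassoc_of% hz, zero_comp]) ≫ G.homologyπ n = 0 := by
      rw [← HomologicalComplex.liftCycles_comp_cyclesMap (hk := hz), Category.assoc,
        ← HomologicalComplex.homologyπ_naturality, ← reassoc_of% hzk, kernel.condition, comp_zero]
    obtain ⟨A₂, π₂, hπ₂, y, hy⟩ := (G.liftCycles_comp_homologyπ_eq_zero_iff_up_to_refinements (n - 1) n (n + 1)
      (CochainComplex.prev ℤ n) (CochainComplex.next ℤ n) _ _).1 h0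
    let x : A₂ ⟶ pullback (S.P.iCycles n ≫ S.f.f n) (G.d (n - 1) n) :=
      pullback.lift (π₂ ≫ S.P.liftCycles z (n + 1) (CochainComplex.next ℤ n) hz) y
        (by rw [Category.assoc, HomologicalComplex.liftCycles_i_assoc, hy])
    have := he n
    obtain ⟨A₃, π₃, hπ₃, w, hw⟩ := surjective_up_to_refinements_of_epi (e n) x
    rw [← cancel_epi (π₃ ≫ π₂ ≫ π₁), comp_zero]
    simp only [Category.assoc]
    rw [reassoc_of% hzk]
    have hw' : π₃ ≫ π₂ ≫ S.P.liftCycles z (n + 1) (CochainComplex.next ℤ n) hz =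
        (zd W).liftCycles w (n + 1) (CochainComplex.next ℤ n) comp_zero ≫ cyclesMap q n := by
      rw [← cancel_mono (S.P.iCycles n), HomologicalComplex.liftCycles_comp_cyclesMap,
        HomologicalComplex.liftCycles_i]
      change _ = w ≫ (e n ≫ pullback.fst _ _) ≫ S.P.iCycles n
      rw [← Category.assoc w, ← Category.assoc w, ← hw]
      simp only [Category.assoc, x, pullback.lift_fst_assoc, HomologicalComplex.liftCycles_i]
    rw [reassoc_of% hw', ← HomologicalComplex.homologyπ_naturality_assoc, hqi, comp_zero, comp_zero]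

lemma exists_colimit_stage {Q : Prop} (S₀ : Stage G Q) :
    ∃ (N : CC O) (j : S₀.P ⟶ N) (c : N ⟶ G), j ≫ c = S₀.f ∧ ModSite.IsKFlat N ∧
      (Q → ∀ n : ℤ, ModSite.IsFlat (N.X n)) ∧ QuasiIso c ∧ ∀ n : ℤ, Epi (c.f n) := by
  choose next i hi hkill using exists_next G (Q := Q)
  let S : ℕ → Stage G Q := fun n => Nat.rec S₀ (fun _ T => next T) n
  let D : ℕ ⥤ CC O := Functor.ofSequence (X := fun n => (S n).P) fun n => i (S n)
  let η : D ⟶ (Functor.const ℕ).obj G := NatTrans.ofSequence (fun n => (S n).f) fun n => by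
    rw [Functor.ofSequence_map_homOfLE_succ]
    exact (hi (S n)).trans (Category.comp_id _).symm
  refine ⟨colimit D, colimit.ι D 0, colimit.desc D (Cocone.mk G η), colimit.ι_desc (Cocone.mk G η) 0, ?_,
    fun h n => ?_, ?_, fun n => ?_⟩
  · exact isKFlat_of_isColimit D _ (colimit.isColimit D) fun k => (S k).kflat
  · exact isFlat_of_isColimit_nat (D ⋙ ev n) _ (isColimitOfPreserves (ev n) (colimit.isColimit D))
      fun k => (S k).flat h n
  · refine quasiIso_colimit_desc D G η (fun k => (S k).epi) (fun k => (S k).epiH) fun k n => ?_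
    rw [show D.map (homOfLE (Nat.le_add_right k 1)) = i (S k) from Functor.ofSequence_map_homOfLE_succ _ k]
    exact hkill (S k) n
  · exact @epi_of_epi_fac _ _ _ _ _ ((colimit.ι D 0).f n) _ ((S 0).f.f n) ((S 0).epi n)
      (congrArg (fun t => HomologicalComplex.Hom.f t n) (colimit.ι_desc (Cocone.mk G η) 0))

lemma exists_resolution : ∃ (K : CC O) (q : K ⟶ G), ModSite.IsKFlat K ∧
    (∀ n : ℤ, ModSite.IsFlat (K.X n)) ∧ QuasiIso q ∧ ∀ n : ℤ, Epi (q.f n) := by
  obtain ⟨N, -, c, -, hN, hNf, hc, he⟩ := exists_colimit_stage G (exists_stage G).some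
  exact ⟨N, c, hN, hNf trivial, hc, he⟩

variable {G} in
/-- A map from a K-flat complex factors through a K-flat resolution of its target. -/
lemma exists_resolution_factor {K : CC O} (a : K ⟶ G) (hK : ModSite.IsKFlat K) :
    ∃ (N : CC O) (b : K ⟶ N) (c : N ⟶ G), b ≫ c = a ∧ ModSite.IsKFlat N ∧
      ((∀ n : ℤ, ModSite.IsFlat (K.X n)) → ∀ n : ℤ, ModSite.IsFlat (N.X n)) ∧ QuasiIso c ∧
      ∀ n : ℤ, Epi (c.f n) := by
  obtain ⟨S⟩ := exists_stage G
  let S₀ : Stage G (∀ n : ℤ, ModSite.IsFlat (K.X n)) :=
    { P := K ⊞ S.P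
      f := biprod.desc a S.f
      kflat := isKFlat_biprod hK S.kflat
      flat := fun h n => isFlat_of_iso (HomologicalComplex.biprodXIso _ _ n).symm
        (isFlat_biprod (h n) (S.flat trivial n))
      epi := fun n =>
        @epi_of_epi_fac _ _ _ _ _ ((biprod.inr : S.P ⟶ K ⊞ S.P).f n) _ (S.f.f n) (S.epi n)
          (by rw [← HomologicalComplex.comp_f, biprod.inr_desc])
      epiH := fun n =>
        @epi_of_epi_fac _ _ _ _ _ (HomologicalComplex.homologyMap (biprod.inr : S.P ⟶ K ⊞ S.P) n) _
          (HomologicalComplex.homologyMap S.f n) (S.epiH n)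
          (by rw [← HomologicalComplex.homologyMap_comp, biprod.inr_desc]) }
  obtain ⟨N, j, c, hjc, h⟩ := exists_colimit_stage G S₀
  exact ⟨N, biprod.inl ≫ j, c, by rw [Category.assoc, hjc]; exact biprod.inl_desc _ _, h⟩

end Resolution

end Groth.Agent.Mod48
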