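import Groth.Agent.Mod48.FreeExt
import Groth.Agent.Mod48.KFlatResolution
import Mathlib.Algebra.Homology.Embedding.CochainComplex

/-!
Resolutions of bounded above complexes by sums of modules `j_! O_U`.
-/

universe u

open CategoryTheory CategoryTheory.Limits Opposite HomologicalComplex

namespace Groth.Agent.Mod48

section Generic

variable {A : Type*} [Category* A] [Abelian A]

lemma isIso_ιTruncLE_f (G : CochainComplex A ℤ) (n i : ℤ) (hi : i < n) : IsIso ((G.ιTruncLE n).f i) := by
  let e := ComplexShape.embeddingUpIntLE n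
  have hk : e.f (n - i).toNat = i := by
    simp [e, ComplexShape.embeddingUpIntLE]
    omega
  have hb : ¬ e.BoundaryLE (n - i).toNat := by
    rw [ComplexShape.boundaryLE_embeddingUpIntLE_iff]
    omega
  have h0 := G.op.isIso_restrictionToTruncGE' e.op (n - i).toNat (by simpa using hb)
  have h1 : IsIso ((G.op.πTruncGE e.op).f i) :=
    (e.op.isIso_liftExtend_f_iff (G.op.restrictionToTruncGE' e.op)
      (G.op.restrictionToTruncGE'_hasLift e.op) hk).2 h0
  exact inferInstanceAs (IsIso ((G.op.πTruncGE e.op).f i).unop)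

lemma acyclic_X₁_of_quasiIso {S : ShortComplex (CochainComplex A ℤ)} (hS : S.ShortExact) (hg : QuasiIso S.g) :
    S.X₁.Acyclic :=
  acyclic_of_isZero_homology fun i => by
    have h2 : HomologicalComplex.homologyMap S.f i = 0 := by
      rw [← cancel_mono (HomologicalComplex.homologyMap S.g i), zero_comp,
        ← HomologicalComplex.homologyMap_comp, S.zero, HomologicalComplex.homologyMap_zero]
    refine (hS.homology_exact₁ (i - 1) i (sub_add_cancel i 1)).isZero_X₂ ?_ h2
    exact (cancel_epi (HomologicalComplex.homologyMap S.g (i - 1))).1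
      ((hS.comp_δ (i - 1) i (sub_add_cancel i 1)).trans comp_zero.symm)

/-- A colimit of degreewise surjective quasi-isomorphisms is a quasi-isomorphism. -/
lemma quasiIso_colimMap_of_epi {K : Type*} [Category* K] [HasColimitsOfShape K A] [HasExactColimitsOfShape K A]
    {D D' : K ⥤ CochainComplex A ℤ} (η : D ⟶ D') (hepi : ∀ k n, Epi ((η.app k).f n))
    (hq : ∀ k, QuasiIso (η.app k)) : QuasiIso (colimMap η) := by
  have : ∀ k, Epi (η.app k) := fun k => HomologicalComplex.epi_of_epi_f _ (hepi k)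
  have : Epi η := NatTrans.epi_of_epi_app η
  let S : ShortComplex (K ⥤ CochainComplex A ℤ) := ShortComplex.mk (kernel.ι η) η (kernel.condition η)
  have hS : S.ShortExact := { exact := ShortComplex.exact_of_f_is_kernel _ (kernelIsKernel η) }
  have hK : (colimit (kernel η)).Acyclic :=
    acyclic_of_isColimit (kernel η) (colimit.cocone _) (colimit.isColimit _) fun k =>
      acyclic_X₁_of_quasiIso (hS.map_of_exact ((evaluation K (CochainComplex A ℤ)).obj k)) (hq k)
  exact quasiIso_g_of_acyclic_X₁ (hS.map_of_exact colim) hK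

end Generic

variable {C : Type u} [SmallCategory C] {J : GrothendieckTopology C} {O : Sheaf J CommRingCat.{u}}

lemma freeExt_cone_inr {K₁ K₂ : CC O} (φ : K₁ ⟶ K₂) (n : ℤ) (h : IsFreeSum (K₁.X (n + 1))) :
    FreeExt ((CochainComplex.mappingCone.inr φ).f n) := by
  refine ⟨K₁.X (n + 1), (CochainComplex.mappingCone.inl φ).v (n + 1) n (by lia), h,
    ⟨biprod.lift ((CochainComplex.mappingCone.snd φ).v n n (add_zero n))
      ((CochainComplex.mappingCone.fst φ).1.v n (n + 1) rfl), ?_, ?_⟩⟩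
  · refine biprod.hom_ext' _ _ (biprod.hom_ext _ _ ?_ ?_) (biprod.hom_ext _ _ ?_ ?_) <;> simp
  · rw [biprod.lift_desc, CochainComplex.mappingCone.ext_from_iff _ (n + 1) n rfl]
    constructor <;> simp

/-- A cover by a sum of `j_! O_U`, or zero outside a range. -/
lemma exists_bounded_cover (b : ℤ) (T : ℤ → ModSite.Mod O) :
    ∃ (W : ℤ → ModSite.Mod O) (e : ∀ n, W n ⟶ T n), (∀ n, IsFreeSum (W n)) ∧
      (∀ n, b < n → IsZero (W n)) ∧ ∀ n, n ≤ b → Epi (e n) := by
  choose W e hW he using fun n => exists_freeSum_epi (T n)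
  let Z : ModSite.Mod O := ∐ fun j : PEmpty.{u + 1} => ModSite.freeOn O (j.elim : C)
  have hZ : IsZero Z := by
    rw [IsZero.iff_id_eq_zero]
    exact Sigma.hom_ext _ _ fun j => j.elim
  have key : ∀ n, ∃ (V : ModSite.Mod O) (v : V ⟶ T n), IsFreeSum V ∧ (b < n → IsZero V) ∧ (n ≤ b → Epi v) :=
    fun n => if h : n ≤ b then ⟨W n, e n, hW n, fun h' => absurd h (by omega), fun _ => he n⟩
      else ⟨Z, 0, isFreeSum_of_isZero hZ, fun _ => hZ, fun h' => absurd h' h⟩
  choose V v h1 h2 h3 using key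
  exact ⟨V, v, h1, h2, h3⟩

lemma isFreeSum_cone_X (W : ℤ → ModSite.Mod O) {P : CC O} (q : zd W ⟶ P) (hW : ∀ n, IsFreeSum (W n)) (n : ℤ)
    (hP : IsFreeSum (P.X n)) : IsFreeSum ((CochainComplex.mappingCone q).X n) :=
  (freeExt_cone_inr q n (hW (n + 1))).isFreeSum hP

lemma isZero_cone_X {K₁ K₂ : CC O} (φ : K₁ ⟶ K₂) (n : ℤ) (h1 : IsZero (K₁.X (n + 1))) (h2 : IsZero (K₂.X n)) :
    IsZero ((CochainComplex.mappingCone φ).X n) := by
  rw [IsZero.iff_id_eq_zero, CochainComplex.mappingCone.ext_from_iff _ (n + 1) n rfl]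
  exact ⟨h1.eq_of_src _ _, h2.eq_of_src _ _⟩

section Free

variable (G : CC O) (b : ℤ)

/-- An approximation of `G` by a complex vanishing above `b`. -/
structure BStage where
  /-- The complex. -/
  P : CC O
  /-- The map to `G`. -/
  f : P ⟶ G
  bdd : ∀ i, b < i → IsZero (P.X i)
  epi : ∀ n, Epi (f.f n)
  epiH : ∀ n, Epi (HomologicalComplex.homologyMap f n)

lemma exists_bstage (hG : ∀ i, b ≤ i → IsZero (G.X i)) {P : CC O} (f : P ⟶ G)
    (hP : ∀ i, b < i → IsZero (P.X i)) :
    ∃ (S : BStage G b) (j : P ⟶ S.P), j ≫ S.f = f ∧ ∀ n, FreeExt (j.f n) := by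
  obtain ⟨W, e, hW, hW0, he⟩ := exists_bounded_cover b fun n => G.cycles n
  obtain ⟨V, ε, hV, hV0, hε⟩ := exists_bounded_cover b fun n => G.X (n - 1)
  let g : zd W ⟶ G := zdDesc W (fun n => e n ≫ G.iCycles n)
    fun n m => by rw [Category.assoc, HomologicalComplex.iCycles_d, comp_zero]
  let α : CochainComplex.HomComplex.Cochain (zd V) G (-1) :=
    CochainComplex.HomComplex.Cochain.mk fun p q hpq =>
      ε p ≫ eqToHom (congrArg G.X (show p - 1 = q by omega))
  let β : zd V ⟶ G := zdDesc V (fun n => ε n ≫ G.d (n - 1) n)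
    fun n m => by rw [Category.assoc, HomologicalComplex.d_comp_d, comp_zero]
  let t : CochainComplex.mappingCone (𝟙 (zd V)) ⟶ G :=
    CochainComplex.mappingCone.desc (𝟙 (zd V)) α β (CochainComplex.HomComplex.Cochain.ext₀ _ _ fun p => by
      rw [zd_δ_v, CochainComplex.HomComplex.Cochain.ofHom_v, Category.id_comp]
      exact congrArg (fun t => (ε p ≫ t) ≫ G.d (p - 1) p) (eqToHom_refl _ _) |>.trans (by
        rw [Category.comp_id]; rfl))
  let X := zd W ⊞ CochainComplex.mappingCone (𝟙 (zd V))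
  let ff : P ⊞ X ⟶ G := biprod.desc f (biprod.desc g t)
  refine ⟨⟨P ⊞ X, ff, fun i hi => ?_, fun n => ?_, fun n => ?_⟩, biprod.inl, biprod.inl_desc _ _, fun n => ?_⟩
  · refine IsZero.of_iso ?_ (HomologicalComplex.biprodXIso _ _ i)
    refine biprod_isZero_iff _ _ |>.2 ⟨hP i hi, IsZero.of_iso ?_ (HomologicalComplex.biprodXIso _ _ i)⟩
    exact biprod_isZero_iff _ _ |>.2 ⟨hW0 i hi, isZero_cone_X _ i (hV0 (i + 1) (by omega)) (hV0 i hi)⟩
  · by_cases hn : n < b
    · have hh : ((CochainComplex.mappingCone.inl (𝟙 (zd V))).v (n + 1) n (by omega) ≫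
          (biprod.inr : _ ⟶ X).f n ≫ (biprod.inr : X ⟶ P ⊞ X).f n) ≫ ff.f n =
          ε (n + 1) ≫ eqToHom (congrArg G.X (show n + 1 - 1 = n by omega)) := by
        rw [Category.assoc, Category.assoc, ← HomologicalComplex.comp_f, biprod.inr_desc,
          ← HomologicalComplex.comp_f, biprod.inr_desc, CochainComplex.mappingCone.inl_v_desc_f]
        exact CochainComplex.HomComplex.Cochain.mk_v _ _ _ _
      exact @epi_of_epi_fac _ _ _ _ _ _ _ _ (epi_comp' (hε (n + 1) (by omega)) inferInstance) hh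
    · exact (hG n (by omega)).epi _
  · by_cases hn : n < b
    · have hg : Epi (HomologicalComplex.homologyMap g n) := by
        have hc : HomologicalComplex.cyclesMap g n = (zd W).iCycles n ≫ e n :=
          (cancel_mono (G.iCycles n)).1
            ((HomologicalComplex.cyclesMap_i g n).trans (Category.assoc _ _ _).symm)
        have h1 := (zd W).isIso_iCycles n _ rfl rfl
        have : Epi (HomologicalComplex.cyclesMap g n) := hc ▸ epi_comp' inferInstance (he n (by omega))
        have : Epi ((zd W).homologyπ n ≫ HomologicalComplex.homologyMap g n) := by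
          rw [HomologicalComplex.homologyπ_naturality]
          infer_instance
        exact epi_of_epi ((zd W).homologyπ n) _
      exact @epi_of_epi_fac _ _ _ _ _ (HomologicalComplex.homologyMap (biprod.inl ≫ (biprod.inr : X ⟶ P ⊞ X)) n) _
        (HomologicalComplex.homologyMap g n) hg
        (by rw [← HomologicalComplex.homologyMap_comp, Category.assoc, biprod.inr_desc, biprod.inl_desc])
    · refine IsZero.epi ?_ _
      rw [← HomologicalComplex.exactAt_iff_isZero_homology, HomologicalComplex.exactAt_iff]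
      exact ShortComplex.exact_of_isZero_X₂ _ (hG n (by omega))
  · have hX : IsFreeSum (X.X n) := isFreeSum_of_iso (HomologicalComplex.biprodXIso _ _ n).symm
      (isFreeSum_biprod (hW n) (isFreeSum_cone_X V (𝟙 (zd V)) hV n (hV n)))
    have := (freeExt_biprod_inl (P.X n) hX).comp_iso (HomologicalComplex.biprodXIso P X n).inv
    exact (congrArg FreeExt (HomologicalComplex.inl_biprodXIso_inv P X n)).mp this

lemma exists_bnext (S : BStage G b) : ∃ (T : BStage G b) (i : S.P ⟶ T.P), i ≫ T.f = S.f ∧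
    (∀ n, FreeExt (i.f n)) ∧
    ∀ n, kernel.ι (HomologicalComplex.homologyMap S.f n) ≫ HomologicalComplex.homologyMap i n = 0 := by
  obtain ⟨W, e, hW, hW0, he⟩ :=
    exists_bounded_cover b fun n => pullback (S.P.iCycles n ≫ S.f.f n) (G.d (n - 1) n)
  let a : ∀ n, W n ⟶ S.P.cycles n := fun n => e n ≫ pullback.fst _ _
  let c : ∀ n, W n ⟶ G.X (n - 1) := fun n => e n ≫ pullback.snd _ _
  have hab : ∀ n, a n ≫ S.P.iCycles n ≫ S.f.f n = c n ≫ G.d (n - 1) n := fun n => by
    simp only [a, c, Category.assoc, pullback.condition]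
  let q : zd W ⟶ S.P := zdDesc W (fun n => a n ≫ S.P.iCycles n)
    fun n m => by rw [Category.assoc, HomologicalComplex.iCycles_d, comp_zero]
  let α : CochainComplex.HomComplex.Cochain (zd W) G (-1) :=
    CochainComplex.HomComplex.Cochain.mk fun p r hpr =>
      c p ≫ eqToHom (congrArg G.X (show p - 1 = r by omega))
  let f' : CochainComplex.mappingCone q ⟶ G :=
    CochainComplex.mappingCone.desc q α S.f (CochainComplex.HomComplex.Cochain.ext₀ _ _ fun p => by
      rw [zd_δ_v, CochainComplex.HomComplex.Cochain.ofHom_v, HomologicalComplex.comp_f]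
      exact (congrArg (fun t => (c p ≫ t) ≫ G.d (p - 1) p) (eqToHom_refl _ _)).trans
        ((congrArg (· ≫ _) (Category.comp_id _)).trans ((hab p).symm.trans (Category.assoc _ _ _).symm)))
  let i := CochainComplex.mappingCone.inr q
  have hi : i ≫ f' = S.f := CochainComplex.mappingCone.inr_desc _ _ _ _
  refine ⟨⟨CochainComplex.mappingCone q, f', fun n hn => isZero_cone_X q n (hW0 _ (by omega)) (S.bdd n hn),
    fun n => @epi_of_epi_fac _ _ _ _ _ (i.f n) _ (S.f.f n) (S.epi n) (by rw [← HomologicalComplex.comp_f, hi]),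
    fun n => @epi_of_epi_fac _ _ _ _ _ (HomologicalComplex.homologyMap i n) _
      (HomologicalComplex.homologyMap S.f n) (S.epiH n)
      (by rw [← HomologicalComplex.homologyMap_comp, hi])⟩, i, hi,
    fun n => freeExt_cone_inr q n (hW (n + 1)), fun n => ?_⟩
  by_cases hn : b < n
  · have : IsZero (S.P.homology n) := by
      rw [← HomologicalComplex.exactAt_iff_isZero_homology, HomologicalComplex.exactAt_iff]
      exact ShortComplex.exact_of_isZero_X₂ _ (S.bdd n hn)
    rw [this.eq_of_src (HomologicalComplex.homologyMap i n) 0, comp_zero]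
  have hqi : HomologicalComplex.homologyMap q n ≫ HomologicalComplex.homologyMap i n = 0 := by
    let H : Homotopy (q ≫ i) 0 := (CochainComplex.HomComplex.Cochain.equivHomotopy _ _).symm
      ⟨CochainComplex.mappingCone.inl q, by simp [i]⟩
    rw [← HomologicalComplex.homologyMap_comp, H.homologyMap_eq, HomologicalComplex.homologyMap_zero]
  obtain ⟨A₁, π₁, hπ₁, z, hz, hzk⟩ := S.P.eq_liftCycles_homologyπ_up_to_refinements
    (kernel.ι (HomologicalComplex.homologyMap S.f n)) (n + 1) (CochainComplex.next ℤ n)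
  have h0 : G.liftCycles (z ≫ S.f.f n) (n + 1) (CochainComplex.next ℤ n)
      (by rw [Category.assoc, S.f.comm, reassoc_of% hz, zero_comp]) ≫ G.homologyπ n = 0 := by
    rw [← HomologicalComplex.liftCycles_comp_cyclesMap (hk := hz), Category.assoc,
      ← HomologicalComplex.homologyπ_naturality, ← reassoc_of% hzk, kernel.condition, comp_zero]
  obtain ⟨A₂, π₂, hπ₂, y, hy⟩ := (G.liftCycles_comp_homologyπ_eq_zero_iff_up_to_refinements (n - 1) n (n + 1)
    (CochainComplex.prev ℤ n) (CochainComplex.next ℤ n) _ _).1 h0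
  let x : A₂ ⟶ pullback (S.P.iCycles n ≫ S.f.f n) (G.d (n - 1) n) :=
    pullback.lift (π₂ ≫ S.P.liftCycles z (n + 1) (CochainComplex.next ℤ n) hz) y
      (by rw [Category.assoc, HomologicalComplex.liftCycles_i_assoc, hy])
  have := he n (not_lt.1 hn)
  obtain ⟨A₃, π₃, hπ₃, w, hw⟩ := surjective_up_to_refinements_of_epi (e n) x
  rw [← cancel_epi (π₃ ≫ π₂ ≫ π₁), comp_zero]
  simp only [Category.assoc]
  rw [reassoc_of% hzk]
  have hw' : π₃ ≫ π₂ ≫ S.P.liftCycles z (n + 1) (CochainComplex.next ℤ n) hz =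
      (zd W).liftCycles w (n + 1) (CochainComplex.next ℤ n) comp_zero ≫ HomologicalComplex.cyclesMap q n := by
    rw [← cancel_mono (S.P.iCycles n), HomologicalComplex.liftCycles_comp_cyclesMap,
      HomologicalComplex.liftCycles_i]
    change _ = w ≫ (e n ≫ pullback.fst _ _) ≫ S.P.iCycles n
    rw [← Category.assoc w, ← Category.assoc w, ← hw]
    simp only [Category.assoc, x, pullback.lift_fst_assoc, HomologicalComplex.liftCycles_i]
  rw [reassoc_of% hw', ← HomologicalComplex.homologyπ_naturality_assoc, hqi, comp_zero, comp_zero]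

/-- A map from a complex vanishing above `b` to one vanishing from `b` on factors as a degreewise free
extension followed by a degreewise surjective quasi-isomorphism. -/
lemma exists_free_factor (hG : ∀ i, b ≤ i → IsZero (G.X i)) {P : CC O} (f : P ⟶ G)
    (hP : ∀ i, b < i → IsZero (P.X i)) :
    ∃ (P' : CC O) (j : P ⟶ P') (c : P' ⟶ G), j ≫ c = f ∧ (∀ i, b < i → IsZero (P'.X i)) ∧
      (∀ n, FreeExt (j.f n)) ∧ QuasiIso c ∧ ∀ n, Epi (c.f n) := by
  obtain ⟨S₀, j₀, hj₀, hj₀'⟩ := exists_bstage G b hG f hP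
  choose next i hi hfree hkill using exists_bnext G b
  let S : ℕ → BStage G b := fun n => Nat.rec S₀ (fun _ T => next T) n
  let D : ℕ ⥤ CC O := Functor.ofSequence (X := fun n => (S n).P) fun n => i (S n)
  let η : D ⟶ (Functor.const ℕ).obj G := NatTrans.ofSequence (fun n => (S n).f) fun n => by
    rw [Functor.ofSequence_map_homOfLE_succ]
    exact (hi (S n)).trans (Category.comp_id _).symm
  have hsucc : ∀ k, D.map (homOfLE (Nat.le_add_right k 1)) = i (S k) :=
    fun k => Functor.ofSequence_map_homOfLE_succ _ k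
  refine ⟨colimit D, j₀ ≫ colimit.ι D 0, colimit.desc D (Cocone.mk G η), ?_, fun m hm => ?_, fun n => ?_, ?_,
    fun n => ?_⟩
  · exact ((Category.assoc _ _ _).trans (congrArg (j₀ ≫ ·) (colimit.ι_desc (Cocone.mk G η) 0))).trans hj₀
  · rw [IsZero.iff_id_eq_zero]
    refine (isColimitOfPreserves (ev m) (colimit.isColimit D)).hom_ext fun k => ?_
    exact ((S k).bdd m hm).eq_of_src _ _
  · have h := freeExt_colimit (D ⋙ ev n) _ (isColimitOfPreserves (ev n) (colimit.isColimit D)) fun k => by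
      change FreeExt ((D.map (homOfLE (Nat.le_add_right k 1))).f n)
      rw [hsucc]
      exact hfree (S k) n
    exact (hj₀' n).comp h
  · exact quasiIso_colimit_desc D G η (fun k => (S k).epi) (fun k => (S k).epiH) fun k n => by
      rw [hsucc]
      exact hkill (S k) n
  · exact @epi_of_epi_fac _ _ _ _ _ ((colimit.ι D 0).f n) _ ((S 0).f.f n) ((S 0).epi n)
      (congrArg (fun t => HomologicalComplex.Hom.f t n) (colimit.ι_desc (Cocone.mk G η) 0))

end Free

section System

variable (G : CC O)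

lemma isZero_truncLE_X (n i : ℤ) (h : n < i) : IsZero ((G.truncLE n).X i) :=
  CochainComplex.isZero_of_isStrictlyLE (G.truncLE n) n i h

instance isStrictlyLE_truncLE_succ (n : ℕ) :
    (G.truncLE ((n : ℤ) + 1)).IsStrictlyLE (((n + 1 : ℕ) : ℤ) + 1) :=
  (CochainComplex.isStrictlyLE_iff _ _).2 fun i hi => isZero_truncLE_X G _ i (by push_cast at hi; omega)

/-- The transition maps of the truncations. -/
noncomputable def truncSucc (n : ℕ) : G.truncLE ((n : ℤ) + 1) ⟶ G.truncLE (((n + 1 : ℕ) : ℤ) + 1) :=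
  inv ((G.truncLE ((n : ℤ) + 1)).ιTruncLE (((n + 1 : ℕ) : ℤ) + 1)) ≫
    CochainComplex.truncLEMap (G.ιTruncLE ((n : ℤ) + 1)) _

lemma truncSucc_ι (n : ℕ) :
    truncSucc G n ≫ G.ιTruncLE (((n + 1 : ℕ) : ℤ) + 1) = G.ιTruncLE ((n : ℤ) + 1) := by
  rw [truncSucc, Category.assoc, CochainComplex.ιTruncLE_naturality, IsIso.inv_hom_id_assoc]

/-- The system of truncations. -/
noncomputable def truncSeq : ℕ ⥤ CC O := Functor.ofSequence (X := fun n => G.truncLE ((n : ℤ) + 1)) (truncSucc G)

/-- The truncations map to the complex. -/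
noncomputable def truncCocone : Cocone (truncSeq G) :=
  Cocone.mk G (NatTrans.ofSequence (fun n : ℕ => G.ιTruncLE ((n : ℤ) + 1)) fun n => by
    exact ((congrArg (· ≫ _) (Functor.ofSequence_map_homOfLE_succ (truncSucc G) n)).trans
      (truncSucc_ι G n)).trans (Category.comp_id _).symm)

/-- The truncations exhaust the complex. -/
noncomputable def isColimitTruncCocone : IsColimit (truncCocone G) :=
  HomologicalComplex.isColimitOfEval _ _ fun i =>
    have h1 : ∀ n : ℕ, i.toNat ≤ n → IsIso (((eval _ _ i).mapCocone (truncCocone G)).ι.app n) := fun n hn =>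
      isIso_ιTruncLE_f G ((n : ℤ) + 1) i (by omega)
    have h : (truncSeq G ⋙ eval _ _ i).IsEventuallyConstantFrom i.toNat := fun n f => by
      have := h1 n (leOfHom f)
      have := h1 i.toNat le_rfl
      exact IsIso.of_isIso_fac_right (((eval _ _ i).mapCocone (truncCocone G)).w f)
    isColimitOfEventuallyConstant h _ (h1 _ le_rfl)

/-- One level of a resolution system. -/
structure Level (n : ℕ) where
  /-- The complex. -/
  P : CC O
  /-- The map to the truncation. -/
  f : P ⟶ G.truncLE ((n : ℤ) + 1)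
  bdd : ∀ i, (n : ℤ) + 2 < i → IsZero (P.X i)
  free : ∀ i, IsFreeSum (P.X i)
  qi : QuasiIso f
  epi : ∀ i, Epi (f.f i)

lemma exists_level_zero : Nonempty (Level G 0) := by
  let Z : ModSite.Mod O := ∐ fun j : PEmpty.{u + 1} => ModSite.freeOn O (j.elim : C)
  have hZ : IsZero Z := by
    rw [IsZero.iff_id_eq_zero]
    exact Sigma.hom_ext _ _ fun j => j.elim
  obtain ⟨P', j, c, -, h1, h2, h3, h4⟩ := exists_free_factor (G.truncLE (((0 : ℕ) : ℤ) + 1)) (((0 : ℕ) : ℤ) + 2)
    (fun i hi => isZero_truncLE_X G _ i (by omega)) (0 : zd (fun _ : ℤ => Z) ⟶ _) (fun _ _ => hZ)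
  exact ⟨⟨P', c, h1, fun i => (h2 i).isFreeSum (isFreeSum_of_isZero hZ), h3, h4⟩⟩

lemma exists_level_succ (n : ℕ) (L : Level G n) : ∃ (M : Level G (n + 1)) (j : L.P ⟶ M.P),
    j ≫ M.f = L.f ≫ truncSucc G n ∧ ∀ i, FreeExt (j.f i) := by
  obtain ⟨P', j, c, h0, h1, h2, h3, h4⟩ := exists_free_factor (G.truncLE (((n + 1 : ℕ) : ℤ) + 1))
    (((n + 1 : ℕ) : ℤ) + 2) (fun i hi => isZero_truncLE_X G _ i (by omega)) (L.f ≫ truncSucc G n)
    (fun i hi => L.bdd i (by push_cast at hi; omega))
  exact ⟨⟨P', c, h1, fun i => (h2 i).isFreeSum (L.free i), h3, h4⟩, j, h0, h2⟩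

lemma exists_resolution_system :
    ∃ (Kc : ℕ ⥤ CC O) (π : ∀ n : ℕ, Kc.obj n ⟶ G.truncLE ((n : ℤ) + 1)),
      (∀ n : ℕ, Kc.map (homOfLE (Nat.le_succ n)) ≫ π (n + 1) ≫ G.ιTruncLE (((n + 1 : ℕ) : ℤ) + 1) =
        π n ≫ G.ιTruncLE ((n : ℤ) + 1)) ∧
      (∀ n : ℕ, QuasiIso (π n) ∧ ∀ i : ℤ, Epi ((π n).f i)) ∧
      (∀ n : ℕ, ∃ b : ℤ, (Kc.obj n).IsStrictlyLE b) ∧
      (∀ (n : ℕ) (i : ℤ), IsFreeSum ((Kc.obj n).X i)) ∧
      (∀ (n : ℕ) (i : ℤ), ∃ r : (Kc.obj (n + 1)).X i ⟶ (Kc.obj n).X i,
        (Kc.map (homOfLE (Nat.le_succ n))).f i ≫ r = 𝟙 _ ∧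
        IsFreeSum (cokernel ((Kc.map (homOfLE (Nat.le_succ n))).f i))) ∧
      ∃ c : colimit Kc ⟶ G, (∀ n : ℕ, colimit.ι Kc n ≫ c = π n ≫ G.ιTruncLE ((n : ℤ) + 1)) ∧ QuasiIso c := by
  choose next j hj hfree using exists_level_succ G
  let L : ∀ n : ℕ, Level G n := fun n => Nat.rec (exists_level_zero G).some (fun k T => next k T) n
  let Kc : ℕ ⥤ CC O := Functor.ofSequence (X := fun n => (L n).P) fun n => j n (L n)
  have hsucc : ∀ n, Kc.map (homOfLE (Nat.le_succ n)) = j n (L n) :=
    fun n => Functor.ofSequence_map_homOfLE_succ _ n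
  let η : Kc ⟶ truncSeq G := NatTrans.ofSequence (fun n => (L n).f) fun n => by
    exact ((congrArg (· ≫ (L (n + 1)).f) (Functor.ofSequence_map_homOfLE_succ _ n)).trans (hj n (L n))).trans
      (congrArg ((L n).f ≫ ·) (Functor.ofSequence_map_homOfLE_succ (truncSucc G) n)).symm
  refine ⟨Kc, fun n => (L n).f, fun n => ?_, fun n => ⟨(L n).qi, (L n).epi⟩, fun n => ⟨(n : ℤ) + 2, ?_⟩,
    fun n i => (L n).free i, fun n i => ?_, ?_⟩
  · rw [hsucc, ← Category.assoc]
    exact ((congrArg (· ≫ _) (hj n (L n))).trans (Category.assoc _ _ _)).trans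
      (congrArg ((L n).f ≫ ·) (truncSucc_ι G n))
  · exact (CochainComplex.isStrictlyLE_iff _ _).2 (L n).bdd
  · rw [hsucc]
    exact (hfree n (L n) i).exists_retraction
  · let e := IsColimit.coconePointUniqueUpToIso (colimit.isColimit (truncSeq G)) (isColimitTruncCocone G)
    refine ⟨colimMap η ≫ e.hom, fun n => ?_, ?_⟩
    · rw [ι_colimMap_assoc]
      exact congrArg ((L n).f ≫ ·)
        (IsColimit.comp_coconePointUniqueUpToIso_hom (colimit.isColimit (truncSeq G)) (isColimitTruncCocone G) n)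
    · have := quasiIso_colimMap_of_epi η (fun k => (L k).epi) (fun k => (L k).qi)
      infer_instance

end System

end Groth.Agent.Mod48
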