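import Mathlib.Algebra.Homology.DerivedCategory.Ext.ExactSequences
import Mathlib.Algebra.Homology.Embedding.CochainComplex
import Mathlib.Algebra.Homology.HomologicalComplexAbelian

/-!
Cycles of a bounded below complex of acyclic objects with bounded cohomology.
-/

universe w v u

open CategoryTheory CategoryTheory.Limits CategoryTheory.Abelian HomologicalComplex

namespace Groth.Agent.Mod48

variable {A : Type u} [Category.{v} A] [Abelian A] [HasExt.{w} A] (P : A)

lemma ext_subsingleton_X₂ {S : ShortComplex A} (hS : S.ShortExact) (i : ℕ) (h₁ : Subsingleton (Ext.{w} P S.X₁ i))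
    (h₃ : Subsingleton (Ext.{w} P S.X₃ i)) : Subsingleton (Ext.{w} P S.X₂ i) := by
  refine subsingleton_of_forall_eq 0 fun x => ?_
  obtain ⟨y, hy⟩ := Ext.covariant_sequence_exact₂ P hS x (Subsingleton.elim _ _)
  rw [← hy, Subsingleton.elim y 0, Ext.zero_comp]

lemma ext_subsingleton_X₃ {S : ShortComplex A} (hS : S.ShortExact) (i j : ℕ) (hij : i + 1 = j)
    (h₁ : Subsingleton (Ext.{w} P S.X₁ j)) (h₂ : Subsingleton (Ext.{w} P S.X₂ i)) :
    Subsingleton (Ext.{w} P S.X₃ i) := by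
  refine subsingleton_of_forall_eq 0 fun x => ?_
  obtain ⟨y, hy⟩ := Ext.covariant_sequence_exact₃ P hS x hij (Subsingleton.elim _ _)
  rw [← hy, Subsingleton.elim y 0, Ext.zero_comp]

lemma ext_subsingleton_of_isZero {X : A} (h : IsZero X) (i : ℕ) : Subsingleton (Ext.{w} P X i) := by
  refine subsingleton_of_forall_eq 0 fun x => ?_
  have h1 := x.comp_mk₀_id
  rw [h.eq_of_src (𝟙 X) 0, Ext.mk₀_zero, Ext.comp_zero] at h1
  exact h1.symm

/-- A cycle in high degree of a bounded below complex of acyclic objects with bounded cohomology is a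
coboundary. -/
theorem exists_boundary_of_cd (M : CochainComplex A ℤ) [M.IsStrictlyGE 0] (d : ℕ) (N : ℕ)
    (hM : ∀ (n : ℤ) (i : ℕ), Subsingleton (Ext.{w} P (M.X n) (i + 1)))
    (hH : ∀ (n : ℤ) (i : ℕ), d < i → Subsingleton (Ext.{w} P (M.homology n) i))
    (hN : ∀ n : ℤ, (N : ℤ) < n → IsZero (M.homology n))
    (k : ℕ) (hk : d + N + 1 < k) (z : P ⟶ M.cycles k) :
    ∃ w : P ⟶ M.X ((k : ℤ) - 1), w ≫ M.d ((k : ℤ) - 1) k = z ≫ M.iCycles k := by
  have hS₁ : ∀ n : ℤ, ∃ (Q : A) (g : M.X n ⟶ Q) (ι : Q ⟶ M.cycles (n + 1)) (w₁ : M.iCycles n ≫ g = 0)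
      (w₂ : ι ≫ M.homologyπ (n + 1) = 0), g ≫ ι = M.toCycles n (n + 1) ∧
      (ShortComplex.mk _ _ w₁).ShortExact ∧ (ShortComplex.mk _ _ w₂).ShortExact := by
    intro n
    have hex : (ShortComplex.mk (M.toCycles n (n + 1)) (M.homologyπ (n + 1)) (M.toCycles_comp_homologyπ _ _)).Exact :=
      ShortComplex.exact_of_g_is_cokernel _ (M.homologyIsCokernel n (n + 1) (by simp))
    have hepi := hex.epi_kernelLift
    refine ⟨kernel (M.homologyπ (n + 1)), kernel.lift _ (M.toCycles n (n + 1)) (M.toCycles_comp_homologyπ _ _),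
      kernel.ι _, ?_, kernel.condition _, kernel.lift_ι _ _ _, ?_, ?_⟩
    · rw [← cancel_mono (kernel.ι (M.homologyπ (n + 1))), Category.assoc, kernel.lift_ι, zero_comp,
        ← cancel_mono (M.iCycles (n + 1)), Category.assoc, toCycles_i, iCycles_d, zero_comp]
    · refine { exact := ?_, mono_f := inferInstanceAs (Mono (M.iCycles n)), epi_g := hepi }
      rw [ShortComplex.exact_iff_exact_up_to_refinements]
      intro T x hx
      dsimp only at x hx
      have hx' : x ≫ M.d n (n + 1) = 0 := by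
        have h := congrArg (· ≫ kernel.ι (M.homologyπ (n + 1)) ≫ M.iCycles (n + 1)) hx
        simpa using h
      exact ⟨T, 𝟙 T, inferInstance, M.liftCycles x (n + 1) (CochainComplex.next ℤ n) hx',
        (Category.id_comp x).trans (liftCycles_i _ _ _ _ _).symm⟩
    · refine { exact := ShortComplex.exact_kernel (M.homologyπ (n + 1)), mono_f := inferInstance, epi_g := ?_ }
      exact inferInstanceAs (Epi (M.homologyπ (n + 1)))
  have ha : ∀ n : ℕ, ∀ i : ℕ, d < i → Subsingleton (Ext.{w} P (M.cycles n) i) := by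
    have step : ∀ n : ℤ, (∀ i : ℕ, d < i → Subsingleton (Ext.{w} P (M.cycles n) i)) →
        ∀ i : ℕ, d < i → Subsingleton (Ext.{w} P (M.cycles (n + 1)) i) := by
      intro n ih i hi
      obtain ⟨Q, g, ι, w₁, w₂, -, h₁, h₂⟩ := hS₁ n
      obtain ⟨i, rfl⟩ := Nat.exists_eq_add_of_le' (show 1 ≤ i by omega)
      exact ext_subsingleton_X₂ P h₂ _ (ext_subsingleton_X₃ P h₁ (i + 1) (i + 2) rfl (ih _ (by omega)) (hM n i))
        (hH _ _ hi)
    intro n
    induction n with
    | zero =>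
      have := step (-1) fun i _ => ext_subsingleton_of_isZero P (IsZero.of_mono (M.iCycles (-1))
        (CochainComplex.isZero_of_isStrictlyGE M 0 (-1) (by omega))) i
      simpa using this
    | succ n ih => exact_mod_cast step n ih
  have hb : ∀ s : ℕ, ∀ i : ℕ, 1 ≤ i → d < i + s → Subsingleton (Ext.{w} P (M.cycles ((N + s : ℕ) : ℤ)) i) := by
    intro s
    induction s with
    | zero => intro i _ hi; exact ha N i hi
    | succ s ih =>
      intro i hi₁ hi₂
      obtain ⟨i, rfl⟩ := Nat.exists_eq_add_of_le' hi₁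
      obtain ⟨Q, g, ι, w₁, w₂, -, h₁, h₂⟩ := hS₁ ((N + s : ℕ) : ℤ)
      have hQ : Subsingleton (Ext.{w} P Q (i + 1)) :=
        ext_subsingleton_X₃ P h₁ (i + 1) (i + 2) rfl (ih _ (by omega) (by omega)) (hM _ i)
      have := ext_subsingleton_X₂ P h₂ (i + 1) hQ (ext_subsingleton_of_isZero P (hN _ (by omega)) _)
      rwa [show (((N + (s + 1) : ℕ) : ℤ)) = ((N + s : ℕ) : ℤ) + 1 by omega]
  obtain ⟨s, rfl⟩ := Nat.exists_eq_add_of_le (show N + 1 ≤ k by omega)
  suffices h : ∀ (n n' : ℤ), n' = n + 1 → n = ((N + s : ℕ) : ℤ) → ∀ z : P ⟶ M.cycles n',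
      ∃ w : P ⟶ M.X n, w ≫ M.d n n' = z ≫ M.iCycles n' from h _ _ (by omega) (by omega) z
  rintro n n' rfl rfl z
  obtain ⟨Q, g, ι, w₁, w₂, hg, h₁, h₂⟩ := hS₁ ((N + s : ℕ) : ℤ)
  have hz₀ : z ≫ M.homologyπ _ = 0 := (hN _ (by omega)).eq_of_tgt _ _
  have := h₂.mono_f
  let z' : P ⟶ Q := h₂.exact.lift z hz₀
  have hz' : z' ≫ ι = z := h₂.exact.lift_f z hz₀
  have := hb s 1 le_rfl (by omega)
  obtain ⟨w', hw'⟩ := Ext.covariant_sequence_exact₃ P h₁ (Ext.mk₀ z') (zero_add 1) (Subsingleton.elim _ _)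
  obtain ⟨w, rfl⟩ := (Ext.mk₀_bijective _ _).2 w'
  rw [Ext.mk₀_comp_mk₀] at hw'
  refine ⟨w, ?_⟩
  rw [← hz', ← (Ext.mk₀_bijective _ _).1 hw', ← toCycles_i M _ _, ← hg]
  simp only [Category.assoc]

end Groth.Agent.Mod48
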