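import Groth.Agent.Mod48.ModPush
import Groth.Agent.Mod48.CdBound
import Groth.Agent.SiteCoh.TypePush
import Groth.Agent.SiteCoh.ExtIso
import Mathlib.CategoryTheory.Abelian.Injective.Ext

/-!
Cohomological dimension over the images of a basis from the cohomological dimension of direct images.
-/

universe u

open CategoryTheory CategoryTheory.Limits Opposite DerivedCategory CategoryTheory.Abelian
attribute [local instance] HasDerivedCategory.standard

namespace Groth.Agent.Mod48

variable {C : Type u} [SmallCategory C] {J : GrothendieckTopology C} {O_C : Sheaf J CommRingCat.{u}}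
  {D : Type u} [SmallCategory D] {K : GrothendieckTopology D} {O_D : Sheaf K CommRingCat.{u}}
  (f : ModSite.RMor O_C O_D)

/-- Direct images of injective modules are acyclic on objects. -/
lemma subsingleton_hu_push_injective (I : ModSite.Mod O_C) [Injective I] (V : D) (q : ℕ) :
    Subsingleton (ModSite.HU O_D (f.push.obj I) (q + 1) V) := by
  have := f.exact
  exact SiteCoh.hu_push_subsingleton J K f.fn q (ModSite.toAb I)
    (fun U q => SiteCoh.hu_subsingleton_of_isTotallyAcyclic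
      (SiteMod.isTotallyAcyclic_toSheaf_injective (ModSite.ringSh O_C) I) U q) V

variable [SiteCmp.HasRpushD f]

lemma subsingleton_hu_of_push (F : ModSite.Mod O_C) (V : D) (d N : ℕ)
    (hd : ∀ (i : ℤ) (k : ℕ), d < k → Subsingleton (ModSite.HU O_D
      ((homologyFunctor (ModSite.Mod O_D) i).obj ((SiteCmp.RpushD f).obj (SiteCmp.inD O_C F))) k V))
    (hN : ∀ i : ℤ, (N : ℤ) < i →
      IsZero ((homologyFunctor (ModSite.Mod O_D) i).obj ((SiteCmp.RpushD f).obj (SiteCmp.inD O_C F))))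
    (k : ℕ) (hk : d + N + 1 < k) : Subsingleton (ModSite.HU O_C F k (f.fn.obj V)) := by
  have : IsGrothendieckAbelian.{u} (ModSite.Mod O_C) := Coh69.sheafOfModules_isGrothendieckAbelian (ModSite.ringSh O_C)
  have : HasInjectiveResolutions (ModSite.Mod O_C) := inferInstance
  let ρ : InjectiveResolution F := Classical.choice (HasInjectiveResolutions.out F).out
  have hI : ρ.cochainComplex.IsKInjective := CochainComplex.isKInjective_of_injective _ 0
  have : IsIso (Q.map ρ.ι') := (isIso_Q_map_iff_quasiIso (φ := ρ.ι')).2 inferInstance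
  let M := (f.push.mapHomologicalComplex (ComplexShape.up ℤ)).obj ρ.cochainComplex
  have hiso : ∀ i : ℤ, Nonempty
      ((homologyFunctor (ModSite.Mod O_D) i).obj ((SiteCmp.RpushD f).obj (SiteCmp.inD O_C F)) ≅ M.homology i) :=
    fun i => LocGen.nonempty_homology_push_iso _ (pushUnit f) (isIso_pushUnit f) ρ.cochainComplex hI
      (asIso (Q.map ρ.ι')).symm i
  have : CochainComplex.IsStrictlyGE M 0 := inferInstance
  let P : ModSite.Mod O_D := ModSite.freeOn O_D V
  suffices h : Subsingleton (Ext.{u} (f.pull.obj P) F k) by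
    have h' : Subsingleton (Ext.{u} (ModSite.freeOn O_C (f.fn.obj V)) F k) :=
      (SiteCoh.extIsoEquiv (pullFreeIso f V) F k).toEquiv.subsingleton_congr.1 h
    exact (huExtEquiv (f.fn.obj V) F k).toEquiv.subsingleton_congr.1 h'
  refine subsingleton_of_forall_eq 0 fun ξ => ?_
  obtain ⟨x, hx, rfl⟩ := ρ.extMk_surjective ξ (k + 1) rfl
  obtain ⟨k', rfl⟩ := Nat.exists_eq_add_of_le' (show 1 ≤ k by omega)
  rw [ρ.extMk_eq_zero_iff x _ _ hx k' rfl]
  let e : ∀ n : ℕ, ρ.cochainComplex.X (n : ℤ) ≅ ρ.cocomplex.X n := fun n => ρ.cochainComplexXIso _ _ rfl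
  let c : P ⟶ M.X ((k' + 1 : ℕ) : ℤ) := f.adj.homEquiv P _ (x ≫ (e (k' + 1)).inv)
  have hc : c ≫ M.d ((k' + 1 : ℕ) : ℤ) ((k' + 1 + 1 : ℕ) : ℤ) = 0 := by
    change f.adj.homEquiv _ _ _ ≫ f.push.map _ = 0
    rw [← f.adj.homEquiv_naturality_right, ρ.cochainComplex_d _ _ (k' + 1) (k' + 1 + 1) rfl rfl]
    simp only [Category.assoc, e, Iso.inv_hom_id_assoc]
    rw [reassoc_of% hx, zero_comp, Adjunction.homEquiv_unit, Functor.map_zero, comp_zero]
  obtain ⟨w, hw⟩ := exists_boundary_of_cd P M d N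
    (fun n i => (huExtEquiv V (M.X n) (i + 1)).toEquiv.subsingleton_congr.2
      (subsingleton_hu_push_injective f (ρ.cochainComplex.X n) V i))
    (fun n i hi => by
      obtain ⟨a⟩ := hiso n
      have h := hd n i hi
      have : Subsingleton (Ext.{u} P ((homologyFunctor (ModSite.Mod O_D) n).obj
          ((SiteCmp.RpushD f).obj (SiteCmp.inD O_C F))) i) :=
        (huExtEquiv V _ i).toEquiv.subsingleton_congr.2 h
      refine subsingleton_of_forall_eq 0 fun y => ?_
      rw [← y.comp_mk₀_id, ← a.inv_hom_id, ← Ext.mk₀_comp_mk₀, ← Ext.comp_assoc_of_third_deg_zero,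
        Subsingleton.elim (y.comp (Ext.mk₀ a.inv) (add_zero i)) 0, Ext.zero_comp])
    (fun n hn => (hN n hn).of_iso (hiso n).some.symm) (k' + 1) hk
    (M.liftCycles c (((k' + 1 + 1 : ℕ)) : ℤ) (by simp) hc)
  rw [HomologicalComplex.liftCycles_i] at hw
  obtain ⟨w', hw'⟩ : ∃ w' : P ⟶ M.X (k' : ℤ), w' ≫ M.d (k' : ℤ) ((k' + 1 : ℕ) : ℤ) = c := by
    have aux : ∀ n : ℤ, n = k' → (∃ w : P ⟶ M.X n, w ≫ M.d n ((k' + 1 : ℕ) : ℤ) = c) →
        ∃ w' : P ⟶ M.X (k' : ℤ), w' ≫ M.d (k' : ℤ) ((k' + 1 : ℕ) : ℤ) = c := by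
      rintro n rfl h
      exact h
    exact aux _ (by omega) ⟨w, hw⟩
  refine ⟨(f.adj.homEquiv P _).symm w' ≫ (e k').hom, ?_⟩
  have h1 : (f.adj.homEquiv P _).symm w' ≫ ρ.cochainComplex.d (k' : ℤ) ((k' + 1 : ℕ) : ℤ) = x ≫ (e (k' + 1)).inv := by
    apply (f.adj.homEquiv P _).injective
    rw [f.adj.homEquiv_naturality_right, Equiv.apply_symm_apply]
    exact hw'
  rw [ρ.cochainComplex_d _ _ k' (k' + 1) rfl rfl] at h1
  rw [← cancel_mono (e (k' + 1)).inv]
  simpa only [Category.assoc, e] using h1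

end Groth.Agent.Mod48
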