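import Groth.Agent.Mod48.CohInPlus
import Groth.Agent.Mod48.ModCdPush
import Mathlib.CategoryTheory.Localization.Predicate

/-!
The equivalence `D_{A'} ≅ D_A` from the truncation criterion.
-/

universe w w' v v' u u'

open CategoryTheory CategoryTheory.Limits CategoryTheory.Pretriangulated DerivedCategory

namespace Groth.Agent.Mod48

variable {A : Type u} [Category.{v} A] [Abelian A] [HasDerivedCategory.{w} A]
  {B : Type u'} [Category.{v'} B] [Abelian B] [HasDerivedCategory.{w'} B]
  {L : A ⥤ B} [L.Additive] [PreservesFiniteLimits L] [PreservesFiniteColimits L]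

omit [HasDerivedCategory A] [HasDerivedCategory B] in
variable (L) in
/-- Homology commutes with an exact functor, naturally on complexes. -/
noncomputable def mapHomologyNatIso (i : ℤ) :
    L.mapHomologicalComplex (ComplexShape.up ℤ) ⋙ HomologicalComplex.homologyFunctor B (ComplexShape.up ℤ) i ≅
      HomologicalComplex.homologyFunctor A (ComplexShape.up ℤ) i ⋙ L :=
  NatIso.ofComponents (fun M => (M.sc i).mapHomologyIso L) fun φ => by
    exact ShortComplex.mapHomologyIso_hom_naturality
      ((HomologicalComplex.shortComplexFunctor A (ComplexShape.up ℤ) i).map φ) L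

variable (L) in
/-- Cohomology commutes with an exact functor, naturally. -/
noncomputable def homologyMapDerivedIso (i : ℤ) :
    L.mapDerivedCategory ⋙ homologyFunctor B i ≅ homologyFunctor A i ⋙ L :=
  Localization.liftNatIso Q (HomologicalComplex.quasiIso A (ComplexShape.up ℤ))
    (Q ⋙ L.mapDerivedCategory ⋙ homologyFunctor B i) (Q ⋙ homologyFunctor A i ⋙ L) _ _
    ((Functor.associator _ _ _).symm ≪≫ Functor.isoWhiskerRight L.mapDerivedCategoryFactors _ ≪≫
      Functor.associator _ _ _ ≪≫ Functor.isoWhiskerLeft _ (homologyFunctorFactors B i) ≪≫ mapHomologyNatIso L i ≪≫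
      Functor.isoWhiskerRight (homologyFunctorFactors A i).symm L ≪≫ Functor.associator _ _ _)

lemma isIso_homology_map_mapDerived {X Y : DerivedCategory A} (f : X ⟶ Y) (i : ℤ)
    [IsIso ((homologyFunctor A i).map f)] : IsIso ((homologyFunctor B i).map (L.mapDerivedCategory.map f)) :=
  (NatIso.isIso_map_iff (homologyMapDerivedIso L i) f).2 (inferInstanceAs (IsIso (L.map ((homologyFunctor A i).map f))))

/-- The equivalence `D_{A'} ≅ D_A` from the truncation criterion for the right adjoint. -/
theorem equivalence_cohIn {R : DerivedCategory B ⥤ DerivedCategory A} (adj : L.mapDerivedCategory ⊣ R)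
    (P : ObjectProperty B) [WSerre.IsWeakSerre P] (P' : ObjectProperty A) [WSerre.IsWeakSerre P']
    (h2a : ∀ F' : A, P' F' → P (L.obj F'))
    (h2c : ∀ F : B, P F → ∃ F' : A, P' F' ∧ Nonempty (L.obj F' ≅ F))
    (h3 : ∀ F' : A, P' F' → IsIso (adj.unit.app ((singleFunctor A 0).obj F')))
    (crit : ∀ (X : DerivedCategory B), WSerre.cohIn P X → ∀ (n : ℕ) (j : ℤ), -(n : ℤ) ≤ j →
      IsIso ((homologyFunctor A j).map (R.map ((TStructure.t.truncGEπ (-(n : ℤ))).app X)))) :
    (∀ Y, WSerre.cohIn P' Y → WSerre.cohIn P (L.mapDerivedCategory.obj Y) ∧ IsIso (adj.unit.app Y)) ∧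
    (∀ X, WSerre.cohIn P X → WSerre.cohIn P' (R.obj X) ∧ IsIso (adj.counit.app X)) := by
  obtain ⟨hu, hc⟩ := equivalence_cohInPlus adj P P' h2a h2c h3
  have hpull : ∀ Y, WSerre.cohIn P' Y → WSerre.cohIn P (L.mapDerivedCategory.obj Y) := fun Y hY i =>
    P.prop_of_iso (nonempty_homology_mapDerivedCategory L Y i).some.symm (h2a _ (hY i))
  have htrunc : ∀ (Y : DerivedCategory A), WSerre.cohIn P' Y → ∀ n : ℕ,
      WSerre.cohInPlus P' ((TStructure.t.truncGE (-(n : ℤ))).obj Y) := fun Y hY n => by
    refine ⟨fun q => ?_, -(n : ℤ), inferInstance⟩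
    by_cases hq : -(n : ℤ) ≤ q
    · have := isIso_homology_truncGEπ Y (-(n : ℤ)) q hq
      exact P'.prop_of_iso (asIso ((homologyFunctor A q).map ((TStructure.t.truncGEπ (-(n : ℤ))).app Y))) (hY q)
    · obtain ⟨Z₀, hZ₀, hP⟩ := P'.exists_prop_of_containsZero
      exact P'.prop_of_iso (hZ₀.iso (DerivedCategory.isZero_of_isGE _ (-(n : ℤ)) q (by omega))) hP
  have htrunc' : ∀ (X : DerivedCategory B), WSerre.cohIn P X → ∀ n : ℕ,
      WSerre.cohInPlus P ((TStructure.t.truncGE (-(n : ℤ))).obj X) := fun X hX n => by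
    refine ⟨fun q => ?_, -(n : ℤ), inferInstance⟩
    by_cases hq : -(n : ℤ) ≤ q
    · have := isIso_homology_truncGEπ X (-(n : ℤ)) q hq
      exact P.prop_of_iso (asIso ((homologyFunctor B q).map ((TStructure.t.truncGEπ (-(n : ℤ))).app X))) (hX q)
    · obtain ⟨Z₀, hZ₀, hP⟩ := P.exists_prop_of_containsZero
      exact P.prop_of_iso (hZ₀.iso (DerivedCategory.isZero_of_isGE _ (-(n : ℤ)) q (by omega))) hP
  refine ⟨fun Y hY => ⟨hpull Y hY, ?_⟩, fun X hX => ⟨fun j => ?_, ?_⟩⟩
  · rw [DerivedCategory.isIso_iff]
    intro j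
    let n := (-j).toNat
    let t : Triangulated.TStructure (DerivedCategory A) := TStructure.t
    let π : Y ⟶ (t.truncGE (-(n : ℤ))).obj Y := (t.truncGEπ (-(n : ℤ))).app Y
    let X := L.mapDerivedCategory.obj Y
    let X' := L.mapDerivedCategory.obj ((t.truncGE (-(n : ℤ))).obj Y)
    have hX' : TStructure.t.IsGE X' (-(n : ℤ)) := isGE_mapDerivedCategory L _ _ inferInstance
    let e := TStructure.t.descTruncGE (L.mapDerivedCategory.map π) (-(n : ℤ))
    have he : (TStructure.t.truncGEπ (-(n : ℤ))).app X ≫ e = L.mapDerivedCategory.map π := TStructure.t.π_descTruncGE _ _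
    have hπ : ∀ i, -(n : ℤ) ≤ i → IsIso ((homologyFunctor A i).map π) := fun i hi => isIso_homology_truncGEπ Y _ i hi
    have : IsIso e := by
      rw [DerivedCategory.isIso_iff]
      intro i
      by_cases hi : -(n : ℤ) ≤ i
      · have := hπ i hi
        have := isIso_homology_map_mapDerived (L := L) π i
        have := isIso_homology_truncGEπ X (-(n : ℤ)) i hi
        exact IsIso.of_isIso_fac_left (f := (homologyFunctor B i).map ((TStructure.t.truncGEπ (-(n : ℤ))).app X))
          (h := (homologyFunctor B i).map (L.mapDerivedCategory.map π)) (by rw [← Functor.map_comp, he])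
      · exact ⟨⟨0, (DerivedCategory.isZero_of_isGE _ (-(n : ℤ)) i (by omega)).eq_of_src _ _,
          (DerivedCategory.isZero_of_isGE _ (-(n : ℤ)) i (by omega)).eq_of_src _ _⟩⟩
    have := crit X (hpull Y hY) n j (by omega)
    have h1 : IsIso ((homologyFunctor A j).map (R.map (L.mapDerivedCategory.map π))) := by
      rw [← he, R.map_comp, Functor.map_comp]
      infer_instance
    have := (hu _ (htrunc Y hY n)).2
    have := hπ j (by omega)
    have h2 : IsIso ((homologyFunctor A j).map (adj.unit.app Y ≫ R.map (L.mapDerivedCategory.map π))) := by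
      have := adj.unit.naturality π
      simp only [Functor.id_map, Functor.comp_map] at this
      rw [← this, Functor.map_comp]
      infer_instance
    rw [Functor.map_comp] at h2
    exact @IsIso.of_isIso_comp_right _ _ _ _ _ _ _ h1 h2
  · have := crit X hX (-j).toNat j (by omega)
    exact P'.prop_of_iso (asIso ((homologyFunctor A j).map
      (R.map ((TStructure.t.truncGEπ (-(((-j).toNat : ℕ) : ℤ))).app X)))).symm ((hc _ (htrunc' X hX _)).1.1 j)
  · rw [DerivedCategory.isIso_iff]
    intro j
    let n := (-j).toNat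
    let t : Triangulated.TStructure (DerivedCategory B) := TStructure.t
    let π : X ⟶ (t.truncGE (-(n : ℤ))).obj X := (t.truncGEπ (-(n : ℤ))).app X
    have hπ : IsIso ((homologyFunctor B j).map π) := isIso_homology_truncGEπ X _ j (by omega)
    have : IsIso ((homologyFunctor A j).map (R.map π)) := crit X hX n j (by omega)
    have := isIso_homology_map_mapDerived (L := L) (R.map π) j
    have := (hc _ (htrunc' X hX n)).2
    have h2 : IsIso ((homologyFunctor B j).map (adj.counit.app X ≫ π)) := by
      have := adj.counit.naturality π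
      simp only [Functor.id_map, Functor.comp_map] at this
      rw [← this, Functor.map_comp]
      infer_instance
    rw [Functor.map_comp] at h2
    exact @IsIso.of_isIso_comp_right _ _ _ _ _ _ _ hπ h2

end Groth.Agent.Mod48
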