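import Groth.Agent.Mod48.PushLoc
import Mathlib.Algebra.Homology.HomotopyCategory.ShiftSequence
import Mathlib.Algebra.Homology.DerivedCategory.HomologySequence
import Mathlib.Algebra.Homology.DerivedCategory.TStructure
import Mathlib.Algebra.Homology.Embedding.CochainComplex
import Mathlib.Algebra.Homology.Embedding.ExtendHomology
import Mathlib.CategoryTheory.Abelian.Injective.Extend
import Mathlib.CategoryTheory.Abelian.RightDerived

/-!
Cohomology of a derived right adjoint: evaluation on K-injective complexes, shifts, injective resolutions,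
exactness, orthogonality.
-/

universe w w' v v' u u' v₀ u₀ v₁ u₁

open CategoryTheory CategoryTheory.Limits CategoryTheory.Pretriangulated DerivedCategory HomologicalComplex

namespace Groth.Agent.Mod48

section

variable {A : Type u} [Category.{v} A] [Abelian A] {B : Type u'} [Category.{v'} B] [Abelian B]
  (R : A ⥤ B) [R.Additive]

/-- A functor applied to an extended complex, termwise. -/
noncomputable def mapExtendX (K : CochainComplex A ℕ) (n : ℤ) :
    ((R.mapHomologicalComplex (ComplexShape.up ℤ)).obj (K.extend ComplexShape.embeddingUpNat)).X n ≅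
      (((R.mapHomologicalComplex (ComplexShape.up ℕ)).obj K).extend ComplexShape.embeddingUpNat).X n :=
  if h : 0 ≤ n then
    R.mapIso (K.extendXIso ComplexShape.embeddingUpNat (Int.toNat_of_nonneg h)) ≪≫
      (((R.mapHomologicalComplex (ComplexShape.up ℕ)).obj K).extendXIso ComplexShape.embeddingUpNat
        (Int.toNat_of_nonneg h)).symm
  else
    (R.map_isZero (K.isZero_extend_X ComplexShape.embeddingUpNat n (fun i hi => by
      change (i : ℤ) = n at hi; omega))).iso
      (((R.mapHomologicalComplex (ComplexShape.up ℕ)).obj K).isZero_extend_X ComplexShape.embeddingUpNat n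
        (fun i hi => by change (i : ℤ) = n at hi; omega))

/-- Termwise application of a functor commutes with extension by zero. -/
noncomputable def mapExtend (K : CochainComplex A ℕ) :
    (R.mapHomologicalComplex (ComplexShape.up ℤ)).obj (K.extend ComplexShape.embeddingUpNat) ≅
      ((R.mapHomologicalComplex (ComplexShape.up ℕ)).obj K).extend ComplexShape.embeddingUpNat :=
  HomologicalComplex.Hom.isoOfComponents (mapExtendX R K) fun i j hij => by
    change i + 1 = j at hij
    by_cases hi : 0 ≤ i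
    · have hj : 0 ≤ j := by omega
      simp only [mapExtendX, dif_pos hi, dif_pos hj]
      rw [HomologicalComplex.extend_d_eq _ _ (Int.toNat_of_nonneg hi) (Int.toNat_of_nonneg hj)]
      change (_ ≫ _) ≫ _ = R.map ((K.extend ComplexShape.embeddingUpNat).d i j) ≫ _ ≫ _
      rw [HomologicalComplex.extend_d_eq _ _ (Int.toNat_of_nonneg hi) (Int.toNat_of_nonneg hj)]
      rw [R.map_comp, R.map_comp]
      simp only [Functor.mapIso_hom, Iso.symm_hom, Category.assoc, Iso.inv_hom_id_assoc,
        Functor.mapHomologicalComplex_obj_d]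
      rw [← R.map_comp_assoc (K.extendXIso _ _).inv, Iso.inv_hom_id, R.map_id, Category.id_comp]
      exact congrArg (_ ≫ ·) (Iso.inv_hom_id_assoc _ _)
    · exact (R.map_isZero (K.isZero_extend_X ComplexShape.embeddingUpNat i (fun k hk => by
        change (k : ℤ) = i at hk; omega))).eq_of_src _ _

end

namespace LocGen

variable {C : Type u₀} [Category.{v₀} C] {J : GrothendieckTopology C} {B : Type u'} [Category.{v'} B] [Abelian B]

section Presented

variable {G : LocGen J B} {E : Type u₁} [Category.{v₁} E] [HasZeroMorphisms E] {H : E ⥤ B}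
  [H.PreservesZeroMorphisms] (Φ : G.LocPres H)

/-- Locally presented functors are exact on sequences which are exact after mapping test objects. -/
lemma LocPres.exact {X₁ X₂ X₃ : E} (f : X₁ ⟶ X₂) (g : X₂ ⟶ X₃) (hfg : f ≫ g = 0)
    (h : ∀ (U : C) (x : Φ.T U ⟶ X₂), x ≫ g = 0 → ∃ y, x = y ≫ f) :
    (ShortComplex.mk (H.map f) (H.map g) (by rw [← H.map_comp, hfg, H.map_zero])).Exact := by
  refine (ShortComplex.exact_iff_epi_kernel_lift _).2 ?_
  refine G.epi_of_sep _ fun U a Q q hq => ?_
  obtain ⟨S, hS, hx⟩ := Φ.surj (a ≫ kernel.ι (H.map g))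
  refine G.sep _ S hS fun V e he => ?_
  obtain ⟨x, hx'⟩ := hx e he
  have h0 : Φ.sec (x ≫ g) = 0 := by
    rw [Φ.sec_comp, hx', Category.assoc, Category.assoc, kernel.condition, comp_zero, comp_zero]
  obtain ⟨T, hT, hz⟩ := Φ.inj _ h0
  refine G.sep _ T hT fun W k hk => ?_
  obtain ⟨y, hy⟩ := h W (Φ.res k ≫ x) (by rw [Category.assoc, hz k hk])
  have key : G.r k ≫ G.r e ≫ a = Φ.sec y ≫ kernel.lift (H.map g) (H.map f) (by rw [← H.map_comp, hfg, H.map_zero]) := by
    rw [← cancel_mono (kernel.ι (H.map g))]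
    simp only [Category.assoc, kernel.lift_ι]
    rw [← Φ.sec_comp, ← hy, Φ.sec_res, hx']
  calc G.r k ≫ G.r e ≫ a ≫ q = (G.r k ≫ G.r e ≫ a) ≫ q := by simp only [Category.assoc]
    _ = 0 := by rw [key, Category.assoc, hq, comp_zero]

lemma LocPres.isZero_obj_of_orthogonal {X : E} (h : ∀ (U : C) (x : Φ.T U ⟶ X), x = 0) : IsZero (H.obj X) := by
  refine G.detect fun U s => ?_
  obtain ⟨S, hS, hx⟩ := Φ.surj s
  refine G.sep _ S hS fun V e he => ?_
  obtain ⟨x, hx'⟩ := hx e he
  rw [← hx', h V x, Φ.sec_zero]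

end Presented

variable {A : Type u} [Category.{v} A] [Abelian A] [HasDerivedCategory.{w} A] [HasDerivedCategory.{w'} B]
  {R : A ⥤ B} [R.Additive] (RF : DerivedCategory A ⥤ DerivedCategory B)
  (α : R.mapHomotopyCategory (ComplexShape.up ℤ) ⋙ Qh ⟶ Qh ⋙ RF)
  (hα : ∀ I : CochainComplex A ℤ, I.IsKInjective →
      IsIso (α.app ((HomotopyCategory.quotient A (ComplexShape.up ℤ)).obj I)))

include hα in
lemma preservesZeroMorphisms_push (hA : EnoughKInj A) (m : ℤ) :
    (RF ⋙ homologyFunctor B m).PreservesZeroMorphisms := by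
  refine ⟨fun X Y => ?_⟩
  obtain ⟨I, hI, ⟨eX⟩⟩ := exists_Qh_iso_kInjective A hA X
  obtain ⟨I', hI', ⟨eY⟩⟩ := exists_Qh_iso_kInjective A hA Y
  let e := ((quotientCompQhIso A).app I).symm ≪≫ eX
  let e' := ((quotientCompQhIso A).app I').symm ≪≫ eY
  have := isIso_unitQ RF α hα I hI
  have h0 : RF.map (Q.map (0 : I ⟶ I')) = 0 := by
    have h := unitQ_naturality RF α (0 : I ⟶ I')
    rw [(R.mapHomologicalComplex (ComplexShape.up ℤ)).map_zero, Functor.map_zero, zero_comp] at h
    exact ((cancel_epi (unitQ RF α I)).1 (h.symm.trans comp_zero.symm))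
  change (homologyFunctor B m).map (RF.map 0) = 0
  rw [show (0 : X ⟶ Y) = e.inv ≫ Q.map (0 : I ⟶ I') ≫ e'.hom by rw [Functor.map_zero, zero_comp, comp_zero],
    RF.map_comp, RF.map_comp, h0, zero_comp, comp_zero, Functor.map_zero]

include hα in
/-- The cohomology of the derived functor on an object represented by a K-injective complex. -/
lemma nonempty_homology_push_iso {X : DerivedCategory A} (I : CochainComplex A ℤ) (hI : I.IsKInjective)
    (e : Q.obj I ≅ X) (j : ℤ) :
    Nonempty ((homologyFunctor B j).obj (RF.obj X) ≅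
      ((R.mapHomologicalComplex (ComplexShape.up ℤ)).obj I).homology j) := by
  have := isIso_unitQ RF α hα I hI
  exact ⟨((homologyFunctor B j).mapIso (asIso (unitQ RF α I) ≪≫ RF.mapIso e)).symm ≪≫
    (homologyFunctorFactors B j).app _⟩

include hα in
lemma nonempty_homology_push_shift_iso (hA : EnoughKInj A) (X : DerivedCategory A) (k j i : ℤ) (h : k + j = i) :
    Nonempty ((homologyFunctor B j).obj (RF.obj (X⟦k⟧)) ≅ (homologyFunctor B i).obj (RF.obj X)) := by
  obtain ⟨I, hI, ⟨eX⟩⟩ := exists_Qh_iso_kInjective A hA X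
  let e : Q.obj I ≅ X := ((quotientCompQhIso A).app I).symm ≪≫ eX
  obtain ⟨a⟩ := nonempty_homology_push_iso RF α hα I hI e i
  have : (I⟦k⟧).IsKInjective := inferInstance
  obtain ⟨b⟩ := nonempty_homology_push_iso RF α hα (I⟦k⟧) this
    ((Q.commShiftIso k).app I ≪≫ (shiftFunctor _ k).mapIso e) j
  exact ⟨b ≪≫ (HomologicalComplex.homologyFunctor B (ComplexShape.up ℤ) j).mapIso
      (((R.mapHomologicalComplex (ComplexShape.up ℤ)).commShiftIso k).app I) ≪≫
    ((CochainComplex.ShiftSequence.shiftIso B k j i h).app _) ≪≫ a.symm⟩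

include hα in
lemma nonempty_homology_push_single_iso (hA : EnoughKInj A) (F : A) (q j i : ℤ) (h : q + i = j) :
    Nonempty ((homologyFunctor B j).obj (RF.obj ((singleFunctor A q).obj F)) ≅
      (homologyFunctor B i).obj (RF.obj ((singleFunctor A 0).obj F))) := by
  obtain ⟨a⟩ := nonempty_homology_push_shift_iso RF α hα hA ((singleFunctor A 0).obj F) (-q) j i (by omega)
  exact ⟨(homologyFunctor B j).mapIso
    (RF.mapIso ((SingleFunctors.shiftIso (singleFunctors A) (-q) q 0 (by omega)).app F)).symm ≪≫ a⟩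

include hα in
lemma nonempty_homology_push_single_rightDerived_iso [HasInjectiveResolutions A] (F : A) (p : ℕ) :
    Nonempty ((homologyFunctor B (p : ℤ)).obj (RF.obj ((singleFunctor A 0).obj F)) ≅ (R.rightDerived p).obj F) := by
  let ρ : InjectiveResolution F := Classical.choice (HasInjectiveResolutions.out F).out
  have hI : ρ.cochainComplex.IsKInjective := CochainComplex.isKInjective_of_injective _ 0
  have hq : QuasiIso ρ.ι' := inferInstance
  have : IsIso (Q.map ρ.ι') := (isIso_Q_map_iff_quasiIso (φ := ρ.ι')).2 hq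
  obtain ⟨a⟩ := nonempty_homology_push_iso RF α hα ρ.cochainComplex hI (X := (singleFunctor A 0).obj F)
    (asIso (Q.map ρ.ι')).symm (p : ℤ)
  exact ⟨a ≪≫ (HomologicalComplex.homologyFunctor B (ComplexShape.up ℤ) (p : ℤ)).mapIso (mapExtend R ρ.cocomplex) ≪≫
    HomologicalComplex.extendHomologyIso _ ComplexShape.embeddingUpNat rfl ≪≫ (ρ.isoRightDerivedObj R p).symm⟩

variable {L : B ⥤ A} [L.PreservesZeroMorphisms] (adj : L ⊣ R) (G : LocGen J B)

include hα adj G in
lemma isZero_homology_push_of_isGE (hA : EnoughKInj A) (X : DerivedCategory A) (m j : ℤ)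
    (hX : TStructure.t.IsGE X m) (hj : j < m) : IsZero ((homologyFunctor B j).obj (RF.obj X)) := by
  have := preservesZeroMorphisms_push RF α hα hA j
  exact (G.pushPres adj RF α hA hα j).isZero_obj_of_orthogonal fun U x =>
    TStructure.t.zero_of_isLE_of_isGE x j m hj
      (inferInstanceAs (TStructure.t.IsLE ((singleFunctor A j).obj (L.obj (G.P U))) j)) hX

include hα adj G in
lemma exact_homology_push (hA : EnoughKInj A) (T : Triangle (DerivedCategory A)) (hT : T ∈ distinguishedTriangles)
    (j : ℤ) :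
    ∃ h, (ShortComplex.mk ((RF ⋙ homologyFunctor B j).map T.mor₁) ((RF ⋙ homologyFunctor B j).map T.mor₂) h).Exact := by
  have := preservesZeroMorphisms_push RF α hα hA j
  exact ⟨_, (G.pushPres adj RF α hA hα j).exact T.mor₁ T.mor₂ (comp_distTriang_mor_zero₁₂ _ hT)
    fun U x hx => Triangle.coyoneda_exact₂ _ hT x hx⟩

end LocGen

end Groth.Agent.Mod48
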