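import Groth.Agent.Mod48.KInjDerived
import Groth.Agent.Mod48.EquivCohIn
import Groth.Agent.Mod48.PushShift
import Groth.Agent.CohDer42.KInj
import Mathlib.CategoryTheory.Triangulated.Adjunction
import Mathlib.CategoryTheory.Adjunction.Unique

/-!
Derived right adjoints of exact left adjoints on Grothendieck abelian categories: existence, the
comparison map on cohomology when the right adjoint is fully faithful, derived commutative squares.
-/

universe w w' w'' w''' v v' v'' v''' u u' u'' u'''

open CategoryTheory CategoryTheory.Limits CategoryTheory.Pretriangulated DerivedCategory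

namespace Groth.Agent.Mod48

section Rd

variable {A : Type u} [Category.{v} A] [Abelian A] [IsGrothendieckAbelian.{v} A] [HasDerivedCategory.{w} A]
  {B : Type u'} [Category.{v'} B] [Abelian B] [HasDerivedCategory.{w'} B]

omit [HasDerivedCategory A] in
lemma enoughKInj : EnoughKInj A := fun M =>
  let ⟨I, f, hI, hf, _⟩ := CohDer42.exists_kinjective_resolution M
  ⟨I, f, hI, hf⟩

instance hasPointwiseLKE_Qh {H : Type*} [Category* H] (F : HomotopyCategory A (ComplexShape.up ℤ) ⥤ H) :
    (DerivedCategory.Qh : _ ⥤ DerivedCategory A).HasPointwiseLeftKanExtension F :=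
  hasPointwiseLeftKanExtension_Qh enoughKInj

/-- The right derived functor of an additive functor on the unbounded derived category. -/
noncomputable def rd (R : A ⥤ B) [R.Additive] : DerivedCategory A ⥤ DerivedCategory B :=
  (DerivedCategory.Qh : _ ⥤ DerivedCategory A).leftKanExtension
    (R.mapHomotopyCategory (ComplexShape.up ℤ) ⋙ Qh)

/-- The unit of `rd`. -/
noncomputable def rdUnit (R : A ⥤ B) [R.Additive] :
    R.mapHomotopyCategory (ComplexShape.up ℤ) ⋙ Qh ⟶ Qh ⋙ rd R :=
  (DerivedCategory.Qh : _ ⥤ DerivedCategory A).leftKanExtensionUnit _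

instance (R : A ⥤ B) [R.Additive] :
    (rd R).IsRightDerivedFunctor (rdUnit R) (HomotopyCategory.quasiIso A (ComplexShape.up ℤ)) :=
  ⟨inferInstanceAs (((DerivedCategory.Qh : _ ⥤ DerivedCategory A).leftKanExtension _).IsLeftKanExtension
    ((DerivedCategory.Qh : _ ⥤ DerivedCategory A).leftKanExtensionUnit _))⟩

lemma isIso_rdUnit (R : A ⥤ B) [R.Additive] (I : CochainComplex A ℤ) (hI : I.IsKInjective) :
    IsIso ((rdUnit R).app ((HomotopyCategory.quotient A (ComplexShape.up ℤ)).obj I)) :=
  isIso_unit_of_kInjective (rd R) (rdUnit R) enoughKInj I hI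

variable {L : B ⥤ A} {R : A ⥤ B} [L.Additive] [R.Additive] (adj : L ⊣ R)
  [PreservesFiniteLimits L] [PreservesFiniteColimits L]

/-- The derived adjunction. -/
noncomputable def rdAdj : L.mapDerivedCategory ⊣ rd R := derivedAdj adj enoughKInj (rd R) (rdUnit R)

lemma nonempty_homology_rd_single_iso [HasInjectiveResolutions A] (F : A) (p : ℕ) :
    Nonempty ((homologyFunctor B (p : ℤ)).obj ((rd R).obj ((singleFunctor A 0).obj F)) ≅ (R.rightDerived p).obj F) :=
  LocGen.nonempty_homology_push_single_rightDerived_iso (rd R) (rdUnit R) (isIso_rdUnit R) F p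

lemma nonempty_homology_rd_shift_single_iso (F : A) (q j i : ℤ) (h : q + i = j) :
    Nonempty ((homologyFunctor B j).obj ((rd R).obj ((singleFunctor A q).obj F)) ≅
      (homologyFunctor B i).obj ((rd R).obj ((singleFunctor A 0).obj F))) :=
  LocGen.nonempty_homology_push_single_iso (rd R) (rdUnit R) (isIso_rdUnit R) enoughKInj F q j i h

/-- The counit of the derived adjunction is invertible when the one of the adjunction is. -/
lemma isIso_rdAdj_counit [IsIso adj.counit] (X : DerivedCategory A) : IsIso ((rdAdj adj).counit.app X) := by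
  obtain ⟨I, hI, ⟨e⟩⟩ := exists_Qh_iso_kInjective A enoughKInj X
  refine (NatTrans.isIso_app_iff_of_iso _ e).1 ?_
  let α := L.mapDerivedCategoryFactorsh
  let Iq := (HomotopyCategory.quotient A (ComplexShape.up ℤ)).obj I
  have h : L.mapDerivedCategory.map ((rdUnit R).app Iq) ≫ (rdAdj adj).counit.app (Qh.obj Iq) =
      α.hom.app ((R.mapHomotopyCategory _).obj Iq) ≫ Qh.map ((adjHomotopy adj).counit.app Iq) := by
    have : (L.mapDerivedCategory).IsLeftDerivedFunctor α.hom (HomotopyCategory.quasiIso B (ComplexShape.up ℤ)) :=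
      Functor.isLeftDerivedFunctor_of_inverts _ L.mapDerivedCategory α
    have : (rd R ⋙ L.mapDerivedCategory).IsRightDerivedFunctor
        (Functor.whiskerRight (rdUnit R) L.mapDerivedCategory ≫ (Functor.associator _ _ _).hom)
        (HomotopyCategory.quasiIso A (ComplexShape.up ℤ)) :=
      isRightDerivedFunctor_comp (rd R) (rdUnit R) enoughKInj L.mapDerivedCategory _ rfl
    exact (adjHomotopy adj).derivedε_fac_app (HomotopyCategory.quasiIso A (ComplexShape.up ℤ)) α.hom (rdUnit R) Iq
  have := isIso_rdUnit R I hI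
  have : IsIso (cxCounit adj I) := by
    have : ∀ n, IsIso ((cxCounit adj I).f n) := fun n => inferInstanceAs (IsIso (adj.counit.app (I.X n)))
    exact HomologicalComplex.Hom.isIso_of_components _
  have : IsIso ((adjHomotopy adj).counit.app Iq) :=
    inferInstanceAs (IsIso ((HomotopyCategory.quotient A (ComplexShape.up ℤ)).map (cxCounit adj I)))
  exact IsIso.of_isIso_fac_left h

end Rd

section Eta

variable {A : Type u} [Category.{v} A] [Abelian A] [IsGrothendieckAbelian.{v} A] [HasDerivedCategory.{w} A]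
  {B : Type u'} [Category.{v'} B] [Abelian B] [HasDerivedCategory.{w'} B]
  {L : B ⥤ A} {R : A ⥤ B} [L.Additive] [R.Additive] (adj : L ⊣ R)
  [PreservesFiniteLimits L] [PreservesFiniteColimits L]

/-- `H^q(RR X) ⟶ R H^q(X)`. -/
noncomputable def eta (q : ℤ) (X : DerivedCategory A) :
    (homologyFunctor B q).obj ((rd R).obj X) ⟶ R.obj ((homologyFunctor A q).obj X) :=
  adj.homEquiv _ _ ((homologyMapDerivedIso L q).inv.app ((rd R).obj X) ≫
    (homologyFunctor A q).map ((rdAdj adj).counit.app X))

@[reassoc]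
lemma eta_naturality (q : ℤ) {X Y : DerivedCategory A} (f : X ⟶ Y) :
    (homologyFunctor B q).map ((rd R).map f) ≫ eta adj q Y = eta adj q X ≫ R.map ((homologyFunctor A q).map f) := by
  rw [eta, eta, ← adj.homEquiv_naturality_left, ← adj.homEquiv_naturality_right]
  congr 1
  rw [Category.assoc, ← Functor.map_comp]
  have h := (rdAdj adj).counit.naturality f
  simp only [Functor.comp_map, Functor.id_map] at h
  have h' := (homologyMapDerivedIso L q).inv.naturality ((rd R).map f)
  simp only [Functor.comp_map] at h'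
  rw [← Category.assoc, h', Category.assoc, ← Functor.map_comp, h]

variable [R.Full] [R.Faithful]

omit [HasDerivedCategory A] [HasDerivedCategory B] [IsGrothendieckAbelian A] [L.Additive] [R.Additive]
  [PreservesFiniteLimits L] [PreservesFiniteColimits L] in
lemma isIso_unit_of_iso {M : B} {N : A} (e : M ≅ R.obj N) : IsIso (adj.unit.app M) :=
  (NatTrans.isIso_app_iff_of_iso adj.unit e).2 (inferInstance : IsIso (adj.unit.app (R.obj N)))

lemma isIso_eta_of_iso (q : ℤ) (X : DerivedCategory A) {N : A}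
    (e : (homologyFunctor B q).obj ((rd R).obj X) ≅ R.obj N) : IsIso (eta adj q X) := by
  have := isIso_unit_of_iso adj e
  have := isIso_rdAdj_counit adj X
  rw [eta, Adjunction.homEquiv_unit]
  infer_instance

/-- For `X` in degrees `≥ m`, the comparison in degree `m` is invertible. -/
lemma isIso_eta_of_isGE (m : ℤ) (X : DerivedCategory A) (h : TStructure.t.IsGE X m) : IsIso (eta adj m X) := by
  have : PreservesFiniteLimits R :=
    ⟨fun J _ _ => (adj.rightAdjoint_preservesLimits : PreservesLimitsOfSize.{0, 0} R).preservesLimitsOfShape⟩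
  have h1 : TStructure.t.IsLE ((TStructure.t.truncLT (m + 1)).obj X) m := inferInstance
  have h2 : TStructure.t.IsGE ((TStructure.t.truncLT (m + 1)).obj X) m := inferInstance
  obtain ⟨M, ⟨e⟩⟩ := exists_iso_singleFunctor_obj_of_isGE_of_isLE ((TStructure.t.truncLT (m + 1)).obj X) m
  let := (rdAdj adj).rightAdjointCommShift ℤ
  have := (rdAdj adj).commShift_of_leftAdjoint ℤ
  have := (rdAdj adj).isTriangulated_rightAdjoint
  have hT := (rd R).map_distinguished _ (TStructure.t.triangleLTGE_distinguished (m + 1) X)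
  have hge : TStructure.t.IsGE ((rd R).obj ((TStructure.t.truncGE (m + 1)).obj X)) (m + 1) :=
    isGE_rightAdjoint (rdAdj adj) _ _ inferInstance
  have : IsIso ((homologyFunctor B m).map ((rd R).map ((TStructure.t.truncLTι (m + 1)).app X))) :=
    isIso_homology_mor₁_of_isGE _ hT (m + 1) m hge (by omega)
  obtain ⟨a⟩ := nonempty_homology_rd_shift_single_iso (R := R) M m m 0 (by omega)
  obtain ⟨b⟩ := nonempty_homology_rd_single_iso (R := R) M 0
  exact isIso_eta_of_iso adj m X (N := M)
    ((asIso ((homologyFunctor B m).map ((rd R).map ((TStructure.t.truncLTι (m + 1)).app X)))).symm ≪≫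
      (homologyFunctor B m).mapIso ((rd R).mapIso e) ≪≫ a ≪≫ b ≪≫ R.rightDerivedZeroIsoSelf.app M)

/-- If the higher derived functors vanish up to degree `n` on the lower cohomology objects of `X` (in degrees
`≥ 0`), the comparison in degree `n` is a monomorphism. -/
lemma mono_eta (n : ℕ) (X : DerivedCategory A) (h : TStructure.t.IsGE X 0)
    (hV : ∀ q : ℕ, q < n → ∀ i : ℕ, 1 ≤ i → i ≤ n →
      IsZero ((R.rightDerived i).obj ((homologyFunctor A (q : ℤ)).obj X))) :
    Mono (eta adj (n : ℤ) X) := by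
  let := (rdAdj adj).rightAdjointCommShift ℤ
  have := (rdAdj adj).commShift_of_leftAdjoint ℤ
  have := (rdAdj adj).isTriangulated_rightAdjoint
  let F : DerivedCategory A ⥤ B := rd R ⋙ homologyFunctor B (n : ℤ)
  have hzero : ∀ Z, IsZero Z → IsZero (F.obj Z) := fun Z hZ =>
    (homologyFunctor B (n : ℤ)).map_isZero ((rd R).map_isZero hZ)
  have h1 : IsZero (F.obj ((TStructure.t.truncLT (n : ℤ)).obj X)) := by
    let P : ObjectProperty (DerivedCategory A) := fun Z => IsZero (F.obj Z)
    have : P.IsClosedUnderIsomorphisms := ⟨fun e hZ => hZ.of_iso (F.mapIso e.symm)⟩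
    refine bounded_induction P hzero (fun T hT h₁ h₃ => ?_) n 0 _ inferInstance
      (show TStructure.t.IsLE _ (0 + (n : ℤ) - 1) by rw [zero_add]; infer_instance) fun q => ?_
    · exact (HomologySequence.exact₂ _ ((rd R).map_distinguished T hT) (n : ℤ)).isZero_of_both_zeros
        (h₁.eq_of_src _ _) (h₃.eq_of_tgt _ _)
    · by_cases hq : 0 ≤ q ∧ q < (n : ℤ)
      · have := isIso_homology_truncLTι X (n : ℤ) q hq.2
        refine P.prop_of_iso ((singleFunctor A q).mapIso
          (asIso ((homologyFunctor A q).map ((TStructure.t.truncLTι (n : ℤ)).app X)))).symm ?_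
        lift q to ℕ using hq.1
        obtain ⟨a⟩ := nonempty_homology_rd_shift_single_iso (R := R) ((homologyFunctor A (q : ℤ)).obj X)
          (q : ℤ) (n : ℤ) ((n - q : ℕ) : ℤ) (by omega)
        obtain ⟨b⟩ := nonempty_homology_rd_single_iso (R := R) ((homologyFunctor A (q : ℤ)).obj X) (n - q)
        exact (hV q (by omega) (n - q) (by omega) (by omega)).of_iso (a ≪≫ b)
      · refine hzero _ ((singleFunctor A q).map_isZero ?_)
        by_cases hq' : q < 0
        · exact DerivedCategory.isZero_of_isGE _ 0 q hq'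
        · exact DerivedCategory.isZero_of_isLE _ ((n : ℤ) - 1) q (by omega)
  have hT := (rd R).map_distinguished _ (TStructure.t.triangleLTGE_distinguished (n : ℤ) X)
  have hm : Mono ((homologyFunctor B (n : ℤ)).map ((rd R).map ((TStructure.t.truncGEπ (n : ℤ)).app X))) :=
    (HomologySequence.mono_homologyMap_mor₂_iff _ hT (n : ℤ)).2 (h1.eq_of_src _ _)
  have hi := isIso_eta_of_isGE adj (n : ℤ) ((TStructure.t.truncGE (n : ℤ)).obj X) inferInstance
  exact mono_of_mono_fac (eta_naturality adj (n : ℤ) ((TStructure.t.truncGEπ (n : ℤ)).app X)).symm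

omit [HasDerivedCategory A] [HasDerivedCategory B] [IsGrothendieckAbelian A] [L.Additive] [R.Additive]
  [PreservesFiniteLimits L] [PreservesFiniteColimits L] in
/-- A fully faithful right adjoint preserves an epimorphism if the cokernel of the image of a map it kills is
in the essential image. -/
lemma epi_map_of_iso {G₁ G₂ G₃ : A} (φ : G₁ ⟶ G₂) (q : G₂ ⟶ G₃) (w : φ ≫ q = 0)
    (hq : IsColimit (CokernelCofork.ofπ q w)) {N : A} (e : cokernel (R.map φ) ≅ R.obj N) [R.PreservesZeroMorphisms] :
    Epi (R.map q) ∧ Nonempty (cokernel (R.map φ) ≅ R.obj G₃) := by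
  let c : G₂ ⟶ N := R.preimage (cokernel.π (R.map φ) ≫ e.hom)
  have hc : R.map c = cokernel.π (R.map φ) ≫ e.hom := R.map_preimage _
  have hw : φ ≫ c = 0 := R.map_injective (by rw [R.map_comp, hc, cokernel.condition_assoc, zero_comp, R.map_zero])
  let l : G₃ ⟶ N := hq.desc (CokernelCofork.ofπ c hw)
  have hl : q ≫ l = c := hq.fac (CokernelCofork.ofπ c hw) WalkingParallelPair.one
  let k : cokernel (R.map φ) ⟶ R.obj G₃ :=
    cokernel.desc _ (R.map q) (by rw [← R.map_comp, w, R.map_zero])
  have hk : cokernel.π (R.map φ) ≫ k = R.map q := cokernel.π_desc _ _ _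
  have h1 : k ≫ R.map l = e.hom := by
    rw [← cancel_epi (cokernel.π (R.map φ)), ← Category.assoc, hk, ← R.map_comp, hl, hc]
  let k' : N ⟶ G₃ := R.preimage (e.inv ≫ k)
  have h2 : l ≫ k' = 𝟙 G₃ := by
    refine Cofork.IsColimit.hom_ext hq ?_
    change q ≫ l ≫ k' = q ≫ 𝟙 G₃
    refine R.map_injective ?_
    rw [← Category.assoc, hl, R.map_comp, hc, R.map_preimage, Category.comp_id, Category.assoc,
      Iso.hom_inv_id_assoc, hk]
  have h3 : R.map l ≫ e.inv ≫ k = 𝟙 _ := by
    rw [← R.map_id, ← h2, R.map_comp, R.map_preimage]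
  have : IsIso k := ⟨R.map l ≫ e.inv, by rw [← Category.assoc, h1, Iso.hom_inv_id], by rw [Category.assoc, h3]⟩
  exact ⟨hk ▸ epi_comp _ _, ⟨asIso k⟩⟩

end Eta

section Low

variable {A : Type u} [Category.{v} A] [Abelian A] [HasDerivedCategory.{w} A]

/-- A map out of an object in degree `m` into an object in degrees `≥ m` is determined on cohomology. -/
lemma eq_zero_of_ev_eq_zero {P : A} {T : DerivedCategory A} {m : ℤ} (hT : TStructure.t.IsGE T m)
    (z : LocGen.Pd P m ⟶ T) (hz : LocGen.ev z = 0) : z = 0 := by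
  have hle : TStructure.t.IsLE (LocGen.Pd P m) m :=
    inferInstanceAs (TStructure.t.IsLE ((singleFunctor A m).obj P) m)
  have hTr := TStructure.t.triangleLTGE_distinguished (m + 1) T
  obtain ⟨z', rfl⟩ : ∃ z' : LocGen.Pd P m ⟶ (TStructure.t.truncLT (m + 1)).obj T,
      z = z' ≫ (TStructure.t.truncLTι (m + 1)).app T :=
    Triangle.coyoneda_exact₂ _ hTr z
      (TStructure.t.zero_of_isLE_of_isGE _ m (m + 1) (by omega) hle inferInstance)
  have h1 : TStructure.t.IsLE ((TStructure.t.truncLT (m + 1)).obj T) m := inferInstance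
  have h2 : TStructure.t.IsGE ((TStructure.t.truncLT (m + 1)).obj T) m := inferInstance
  obtain ⟨M, ⟨e⟩⟩ := exists_iso_singleFunctor_obj_of_isGE_of_isLE ((TStructure.t.truncLT (m + 1)).obj T) m
  have := isIso_homology_truncLTι T (m + 1) m (by omega)
  rw [LocGen.ev_comp, ← zero_comp (f := (homologyFunctor A m).map ((TStructure.t.truncLTι (m + 1)).app T)),
    cancel_mono] at hz
  obtain ⟨φ, hφ⟩ : ∃ φ : P ⟶ M, (singleFunctor A m).map φ = z' ≫ e.hom :=
    (singleFunctor A m).map_surjective _
  have h4 : LocGen.ev (z' ≫ e.hom) = 0 := by rw [LocGen.ev_comp, hz, zero_comp]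
  rw [← hφ] at h4
  have h5 : (homologyFunctor A m).map ((singleFunctor A m).map φ) = 0 := by
    unfold LocGen.ev at h4
    refine (cancel_epi ((homologyFunctorFactors A m).inv.app ((HomologicalComplex.single A (ComplexShape.up ℤ) m).obj P))).1
      ((cancel_epi (HomologicalComplex.singleObjHomologySelfIso (ComplexShape.up ℤ) m P).inv).1 ?_)
    exact ((Category.assoc _ _ _).symm.trans h4).trans ((congrArg (_ ≫ ·) comp_zero).trans comp_zero).symm
  have h6 := (singleFunctorCompHomologyFunctorIso A m).hom.naturality φ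
  simp only [Functor.comp_map, Functor.id_map] at h6
  rw [h5, zero_comp, eq_comm] at h6
  have hφ0 : φ = 0 := (cancel_epi ((singleFunctorCompHomologyFunctorIso A m).hom.app P)).1 (h6.trans comp_zero.symm)
  rw [hφ0, Functor.map_zero] at hφ
  have hz0 : z' = 0 := (cancel_mono e.hom).1 (hφ.symm.trans zero_comp.symm)
  rw [hz0, zero_comp]

end Low

section Square

variable {A : Type u} [Category.{v} A] [Abelian A] [HasDerivedCategory.{w} A]
  {B : Type u'} [Category.{v'} B] [Abelian B] [HasDerivedCategory.{w'} B]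
  {C : Type u''} [Category.{v''} C] [Abelian C] [HasDerivedCategory.{w''} C]
  {D : Type u'''} [Category.{v'''} D] [Abelian D] [HasDerivedCategory.{w'''} D]
  {L₁ : A ⥤ B} {L₂ : B ⥤ D} {L₃ : A ⥤ C} {L₄ : C ⥤ D}
  {R₁ : B ⥤ A} {R₂ : D ⥤ B} {R₃ : C ⥤ A} {R₄ : D ⥤ C}
  [L₁.Additive] [L₂.Additive] [L₃.Additive] [L₄.Additive]
  [PreservesFiniteLimits L₁] [PreservesFiniteColimits L₁] [PreservesFiniteLimits L₂] [PreservesFiniteColimits L₂]
  [PreservesFiniteLimits L₃] [PreservesFiniteColimits L₃] [PreservesFiniteLimits L₄] [PreservesFiniteColimits L₄]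

/-- Two composites of exact functors which are isomorphic are isomorphic on derived categories. -/
noncomputable def mapDerivedSquare (e : L₁ ⋙ L₂ ≅ L₃ ⋙ L₄) :
    L₁.mapDerivedCategory ⋙ L₂.mapDerivedCategory ≅ L₃.mapDerivedCategory ⋙ L₄.mapDerivedCategory :=
  Localization.liftNatIso Q (HomologicalComplex.quasiIso A (ComplexShape.up ℤ))
    ((L₁.mapHomologicalComplex (ComplexShape.up ℤ) ⋙ L₂.mapHomologicalComplex (ComplexShape.up ℤ)) ⋙ Q)
    ((L₃.mapHomologicalComplex (ComplexShape.up ℤ) ⋙ L₄.mapHomologicalComplex (ComplexShape.up ℤ)) ⋙ Q)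
    (h₁ := ⟨(Functor.associator _ _ _).symm ≪≫ Functor.isoWhiskerRight L₁.mapDerivedCategoryFactors _ ≪≫
      Functor.associator _ _ _ ≪≫ Functor.isoWhiskerLeft _ L₂.mapDerivedCategoryFactors ≪≫
      (Functor.associator _ _ _).symm⟩)
    (h₂ := ⟨(Functor.associator _ _ _).symm ≪≫ Functor.isoWhiskerRight L₃.mapDerivedCategoryFactors _ ≪≫
      Functor.associator _ _ _ ≪≫ Functor.isoWhiskerLeft _ L₄.mapDerivedCategoryFactors ≪≫
      (Functor.associator _ _ _).symm⟩) _ _
    (Functor.isoWhiskerRight (NatIso.ofComponents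
      (fun K => HomologicalComplex.Hom.isoOfComponents (fun i => e.app (K.X i))
        (fun i j _ => (e.hom.naturality (K.d i j)).symm))
      (fun φ => by ext i; exact e.hom.naturality (φ.f i))) _)

/-- Derived right adjoints commute when the right adjoints do. -/
noncomputable def rightSquare (a₁ : L₁ ⊣ R₁) (a₂ : L₂ ⊣ R₂) (a₃ : L₃ ⊣ R₃) (a₄ : L₄ ⊣ R₄)
    (e : R₂ ⋙ R₁ ≅ R₄ ⋙ R₃)
    {S₁ : DerivedCategory B ⥤ DerivedCategory A} {S₂ : DerivedCategory D ⥤ DerivedCategory B}
    {S₃ : DerivedCategory C ⥤ DerivedCategory A} {S₄ : DerivedCategory D ⥤ DerivedCategory C}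
    (b₁ : L₁.mapDerivedCategory ⊣ S₁) (b₂ : L₂.mapDerivedCategory ⊣ S₂)
    (b₃ : L₃.mapDerivedCategory ⊣ S₃) (b₄ : L₄.mapDerivedCategory ⊣ S₄) : S₂ ⋙ S₁ ≅ S₄ ⋙ S₃ :=
  (b₁.comp b₂).rightAdjointUniq ((b₃.comp b₄).ofNatIsoLeft
    (mapDerivedSquare (Adjunction.leftAdjointUniq ((a₁.comp a₂).ofNatIsoRight e) (a₃.comp a₄))).symm)

end Square

end Groth.Agent.Mod48
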