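import Groth.Agent.Mod48.KInjDerived
import Mathlib.Algebra.Homology.HomologicalComplexLimits

/-!
Products in derived categories with enough K-injective complexes.
-/

universe w v u t

open CategoryTheory CategoryTheory.Limits DerivedCategory

namespace Groth.Agent.Mod48

variable {A : Type u} [Category.{v} A] [Abelian A]

section Homotopy

variable {ι : Type t} [HasProductsOfShape ι A] {M : CochainComplex A ℤ} (I : ι → CochainComplex A ℤ)

lemma eval_piLift {i j : ℤ} (f : ∀ k, M.X i ⟶ (I k).X j) :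
    ∃ g : M.X i ⟶ (∏ᶜ I).X j, ∀ k, g ≫ (Pi.π I k).f j = f k := by
  let E := HomologicalComplex.eval A (ComplexShape.up ℤ) j
  refine ⟨(isLimitFanMkObjOfIsLimit E I (Pi.π I) (productIsProduct I)).lift (Fan.mk (M.X i) f), fun k => ?_⟩
  exact (isLimitFanMkObjOfIsLimit E I (Pi.π I) (productIsProduct I)).fac (Fan.mk (M.X i) f) ⟨k⟩

lemma pi_hom_ext_X {i j : ℤ} (g g' : M.X i ⟶ (∏ᶜ I).X j)
    (h : ∀ k, g ≫ (Pi.π I k).f j = g' ≫ (Pi.π I k).f j) : g = g' :=
  let E := HomologicalComplex.eval A (ComplexShape.up ℤ) j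
  (isLimitFanMkObjOfIsLimit E I (Pi.π I) (productIsProduct I)).hom_ext fun k => h k.as

/-- A map into a product of complexes which is componentwise null-homotopic is null-homotopic. -/
noncomputable def piHomotopy (f : M ⟶ ∏ᶜ I) (h : ∀ k, Homotopy (f ≫ Pi.π I k) 0) : Homotopy f 0 where
  hom i j := (eval_piLift I fun k => (h k).hom i j).choose
  zero i j hij := pi_hom_ext_X I _ _ fun k => by
    rw [(eval_piLift I fun k => (h k).hom i j).choose_spec k, (h k).zero i j hij, zero_comp]
  comm i := by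
    refine pi_hom_ext_X I _ _ fun k => ?_
    have hc := (h k).comm i
    simp only [dNext_eq _ (show (ComplexShape.up ℤ).Rel i (i + 1) from rfl),
      prevD_eq _ (show (ComplexShape.up ℤ).Rel (i - 1) i from sub_add_cancel i 1),
      HomologicalComplex.zero_f, add_zero, HomologicalComplex.comp_f] at hc ⊢
    rw [hc, Preadditive.add_comp, Category.assoc, Category.assoc,
      (eval_piLift I fun k => (h k).hom (i + 1) i).choose_spec k, ← HomologicalComplex.Hom.comm]
    exact congrArg (_ + ·) ((congrArg (· ≫ _) ((eval_piLift I fun k => (h k).hom i (i - 1)).choose_spec k)).symm.trans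
      (Category.assoc _ _ _))

lemma isKInjective_pi (h : ∀ k, (I k).IsKInjective) : (∏ᶜ I).IsKInjective where
  nonempty_homotopy_zero f hK :=
    ⟨piHomotopy I f fun k => ((h k).nonempty_homotopy_zero (f ≫ Pi.π I k) hK).some⟩

end Homotopy

variable [HasDerivedCategory.{w} A]

lemma hasProduct_of_enoughKInj (hA : EnoughKInj A) {ι : Type t} [HasProductsOfShape ι A]
    (X : ι → DerivedCategory A) : HasProduct X := by
  choose I hI he using fun k => exists_Qh_iso_kInjective A hA (X k)
  have hP : (∏ᶜ I).IsKInjective := isKInjective_pi I hI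
  let q := HomotopyCategory.quotient A (ComplexShape.up ℤ)
  let p : ∀ k, Qh.obj (q.obj (∏ᶜ I)) ⟶ X k := fun k => Qh.map (q.map (Pi.π I k)) ≫ (he k).some.hom
  have hex : ∀ {Z : DerivedCategory A} (f : ∀ k, Z ⟶ X k), ∃! g : Z ⟶ Qh.obj (q.obj (∏ᶜ I)), ∀ k, g ≫ p k = f k := by
    intro Z f
    obtain ⟨Z', ⟨e⟩⟩ : ∃ Z', Nonempty (Qh.obj Z' ≅ Z) := ⟨_, ⟨Qh.objObjPreimageIso Z⟩⟩
    obtain ⟨M, rfl⟩ := HomotopyCategory.quotient_obj_surjective Z'
    choose φ hφ using fun k => (CochainComplex.IsKInjective.Qh_map_bijective (q.obj M) (I k)).2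
      (e.hom ≫ f k ≫ (he k).some.inv)
    have hb := CochainComplex.IsKInjective.Qh_map_bijective ((HomotopyCategory.quotient A (ComplexShape.up ℤ)).obj M) (∏ᶜ I)
    choose ψ hψ using fun k => q.map_surjective (φ k)
    refine ⟨e.inv ≫ Qh.map (q.map (Pi.lift ψ)), fun k => ?_, fun g hg => ?_⟩
    · change (e.inv ≫ Qh.map (q.map (Pi.lift ψ))) ≫ Qh.map (q.map (Pi.π I k)) ≫ _ = f k
      rw [Category.assoc, ← Qh.map_comp_assoc, ← q.map_comp, Pi.lift_π, hψ, hφ]
      simp
    · obtain ⟨χ, hχ⟩ := hb.2 (e.hom ≫ g)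
      obtain ⟨χ, rfl⟩ := q.map_surjective χ
      have hk : ∀ k, q.map (χ ≫ Pi.π I k) = q.map (ψ k) := fun k => by
        refine (CochainComplex.IsKInjective.Qh_map_bijective _ (I k)).1 ?_
        rw [hψ, hφ, q.map_comp, Qh.map_comp, ← cancel_mono (he k).some.hom]
        simp only [Category.assoc, Iso.inv_hom_id, Category.comp_id]
        rw [← hg k, ← Category.assoc e.hom, hχ]
      have : q.map χ = q.map (Pi.lift ψ) := by
        refine HomotopyCategory.eq_of_homotopy _ _ (Homotopy.equivSubZero.symm ?_)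
        refine piHomotopy I _ fun k => ?_
        rw [Preadditive.sub_comp, Pi.lift_π]
        exact Homotopy.equivSubZero (HomotopyCategory.homotopyOfEq _ _ (hk k))
      rw [← this, hχ, Iso.inv_hom_id_assoc]
  exact ⟨⟨⟨Fan.mk _ p,
    Fan.IsLimit.mk (Fan.mk _ p) (fun s => (hex s.proj).choose) (fun s k => (hex s.proj).choose_spec.1 k)
      fun s m hm => (hex s.proj).choose_spec.2 m hm⟩⟩⟩

end Groth.Agent.Mod48
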