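import Groth.Agent.Mod48.ExactDerived
import Groth.Prelude.Def_WeakSerre
import Mathlib.Algebra.Homology.DerivedCategory.FullyFaithful
import Mathlib.CategoryTheory.Triangulated.Adjunction
import Mathlib.CategoryTheory.Triangulated.TStructure.TruncLTGE

/-!
Dévissage of bounded and bounded below objects of derived categories.
-/

universe w w' v v' u u'

open CategoryTheory CategoryTheory.Limits CategoryTheory.Pretriangulated DerivedCategory

namespace Groth.Agent.Mod48

variable {A : Type u} [Category.{v} A] [Abelian A] [HasDerivedCategory.{w} A]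
  {B : Type u'} [Category.{v'} B] [Abelian B] [HasDerivedCategory.{w'} B]

lemma isIso_homology_mor₁_of_isGE (T : Triangle (DerivedCategory A)) (hT : T ∈ distinguishedTriangles)
    (m i : ℤ) (h3 : TStructure.t.IsGE T.obj₃ m) (hi : i < m) :
    IsIso ((homologyFunctor A i).map T.mor₁) := by
  have h1 := DerivedCategory.isZero_of_isGE T.obj₃ m (i - 1) (by lia)
  have h2 := DerivedCategory.isZero_of_isGE T.obj₃ m i hi
  have : Mono ((homologyFunctor A i).map T.mor₁) :=
    (HomologySequence.mono_homologyMap_mor₁_iff _ hT (i - 1) i (by lia)).2 (h1.eq_of_src _ _)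
  have : Epi ((homologyFunctor A i).map T.mor₁) :=
    (HomologySequence.epi_homologyMap_mor₁_iff _ hT i).2 (h2.eq_of_tgt _ _)
  exact isIso_of_mono_of_epi _

lemma isIso_homology_truncLTι (X : DerivedCategory A) (m i : ℤ) (hi : i < m) :
    IsIso ((homologyFunctor A i).map ((TStructure.t.truncLTι m).app X)) :=
  isIso_homology_mor₁_of_isGE _ (TStructure.t.triangleLTGE_distinguished m X) m i
    (inferInstance : TStructure.t.IsGE ((TStructure.t.truncGE m).obj X) m) hi

lemma isIso_homology_truncGEπ (X : DerivedCategory A) (n i : ℤ) (hi : n ≤ i) :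
    IsIso ((homologyFunctor A i).map ((TStructure.t.truncGEπ n).app X)) := by
  have hT := TStructure.t.triangleLTGE_distinguished n X
  have : TStructure.t.IsLE ((TStructure.t.truncLT n).obj X) (n - 1) := inferInstance
  have h1 := DerivedCategory.isZero_of_isLE ((TStructure.t.truncLT n).obj X) (n - 1) i (by lia)
  have h2 := DerivedCategory.isZero_of_isLE ((TStructure.t.truncLT n).obj X) (n - 1) (i + 1) (by lia)
  have : Mono ((homologyFunctor A i).map ((TStructure.t.truncGEπ n).app X)) :=
    (HomologySequence.mono_homologyMap_mor₂_iff _ hT i).2 (h1.eq_of_src _ _)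
  have : Epi ((homologyFunctor A i).map ((TStructure.t.truncGEπ n).app X)) :=
    (HomologySequence.epi_homologyMap_mor₂_iff _ hT i (i + 1) rfl).2 (h2.eq_of_tgt _ _)
  exact isIso_of_mono_of_epi _

/-- Induction on bounded objects. -/
lemma bounded_induction (P : ObjectProperty (DerivedCategory A)) [P.IsClosedUnderIsomorphisms]
    (hzero : ∀ Z, IsZero Z → P Z)
    (hext : ∀ T ∈ distinguishedTriangles, P (Triangle.obj₁ T) → P (Triangle.obj₃ T) → P (Triangle.obj₂ T)) :
    ∀ (n : ℕ) (a : ℤ) (X : DerivedCategory A), TStructure.t.IsGE X a → TStructure.t.IsLE X (a + n - 1) →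
      (∀ q, P ((singleFunctor A q).obj ((homologyFunctor A q).obj X))) → P X := by
  intro n
  induction n with
  | zero =>
    intro a X hge hle _
    refine hzero _ (isZero_of_isZero_homology fun i => ?_)
    by_cases hi : i < a
    · exact DerivedCategory.isZero_of_isGE X a i hi
    · exact DerivedCategory.isZero_of_isLE X (a + (0 : ℕ) - 1) i (by omega)
  | succ n ih =>
    intro a X hge hle hs
    have hT := TStructure.t.triangleLTGE_distinguished (a + 1) X
    refine hext _ hT ?_ ?_
    · change P ((TStructure.t.truncLT (a + 1)).obj X)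
      have h1 : TStructure.t.IsGE ((TStructure.t.truncLT (a + 1)).obj X) a := inferInstance
      have h2 : TStructure.t.IsLE ((TStructure.t.truncLT (a + 1)).obj X) a := inferInstance
      obtain ⟨M, ⟨e⟩⟩ := exists_iso_singleFunctor_obj_of_isGE_of_isLE ((TStructure.t.truncLT (a + 1)).obj X) a
      have := isIso_homology_truncLTι X (a + 1) a (by lia)
      let eM : M ≅ (homologyFunctor A a).obj X :=
        ((singleFunctorCompHomologyFunctorIso A a).app M).symm ≪≫ (homologyFunctor A a).mapIso e.symm ≪≫
          asIso ((homologyFunctor A a).map ((TStructure.t.truncLTι (a + 1)).app X))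
      exact P.prop_of_iso ((singleFunctor A a).mapIso eM.symm ≪≫ e.symm) (hs a)
    · change P ((TStructure.t.truncGE (a + 1)).obj X)
      refine ih (a + 1) _ inferInstance ?_ fun q => ?_
      · have : TStructure.t.IsLE ((TStructure.t.truncGE (a + 1)).obj X) (a + (n + 1 : ℕ) - 1) := inferInstance
        exact TStructure.t.isLE_of_le _ (a + (n + 1 : ℕ) - 1) _ (by omega)
      · by_cases hq : q < a + 1
        · exact hzero _ ((singleFunctor A q).map_isZero
            (DerivedCategory.isZero_of_isGE ((TStructure.t.truncGE (a + 1)).obj X) (a + 1) q hq))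
        · have := isIso_homology_truncGEπ X (a + 1) q (by lia)
          exact P.prop_of_iso ((singleFunctor A q).mapIso
            (asIso ((homologyFunctor A q).map ((TStructure.t.truncGEπ (a + 1)).app X)))) (hs q)

section NatTrans

variable {F G : DerivedCategory A ⥤ DerivedCategory B} (η : F ⟶ G) [F.CommShift ℤ] [G.CommShift ℤ]
  [F.IsTriangulated] [G.IsTriangulated] [NatTrans.CommShift η ℤ]

lemma isIso_app_shift (X : DerivedCategory A) (k : ℤ) [IsIso (η.app X)] : IsIso (η.app (X⟦k⟧)) := by
  rw [NatTrans.app_shift]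
  infer_instance

lemma isIso_app_single (M : A) (q : ℤ) (h : IsIso (η.app ((singleFunctor A 0).obj M))) :
    IsIso (η.app ((singleFunctor A q).obj M)) := by
  let e : ((singleFunctor A 0).obj M)⟦-q⟧ ≅ (singleFunctor A q).obj M :=
    ((SingleFunctors.shiftIso (singleFunctors A) (-q) q 0 (by lia)).app M)
  exact (NatTrans.isIso_app_iff_of_iso η e).1 (isIso_app_shift η _ _)

lemma isIso_app_of_triangle (T : Triangle (DerivedCategory A)) (hT : T ∈ distinguishedTriangles)
    (h₁ : IsIso (η.app T.obj₁)) (h₃ : IsIso (η.app T.obj₃)) : IsIso (η.app T.obj₂) :=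
  Pretriangulated.isIso₂_of_isIso₁₃
    (Triangle.homMk (F.mapTriangle.obj T) (G.mapTriangle.obj T) (η.app _) (η.app _) (η.app _)
      (η.naturality _) (η.naturality _) (by
        change (F.map T.mor₃ ≫ (F.commShiftIso (1 : ℤ)).hom.app T.obj₁) ≫ (η.app T.obj₁)⟦(1 : ℤ)⟧' =
          η.app T.obj₃ ≫ G.map T.mor₃ ≫ (G.commShiftIso (1 : ℤ)).hom.app T.obj₁
        rw [← η.naturality_assoc, Category.assoc, NatTrans.shift_app_comm]))
    (F.map_distinguished T hT) (G.map_distinguished T hT) h₁ h₃

lemma isIso_app_of_bounded (X : DerivedCategory A) (a b : ℤ) (hge : TStructure.t.IsGE X a)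
    (hle : TStructure.t.IsLE X b)
    (h : ∀ q, IsIso (η.app ((singleFunctor A 0).obj ((homologyFunctor A q).obj X)))) : IsIso (η.app X) := by
  let P : ObjectProperty (DerivedCategory A) := fun Z => IsIso (η.app Z)
  have : P.IsClosedUnderIsomorphisms := ⟨fun e hZ => (NatTrans.isIso_app_iff_of_iso η e).1 hZ⟩
  refine bounded_induction P (fun Z hZ => ?_) (fun T hT h₁ h₃ => isIso_app_of_triangle η T hT h₁ h₃)
    (b - a + 1).toNat a X hge (TStructure.t.isLE_of_le X b _ (by omega)) fun q => isIso_app_single η _ q (h q)
  exact ⟨⟨0, (F.map_isZero hZ).eq_of_src _ _, (G.map_isZero hZ).eq_of_src _ _⟩⟩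

/-- A natural transformation between triangulated functors preserving coconnectivity which is invertible
on cohomology objects is invertible on bounded below objects. -/
lemma isIso_app_of_isGE (hF : ∀ (Z : DerivedCategory A) (m : ℤ), TStructure.t.IsGE Z m → TStructure.t.IsGE (F.obj Z) m)
    (hG : ∀ (Z : DerivedCategory A) (m : ℤ), TStructure.t.IsGE Z m → TStructure.t.IsGE (G.obj Z) m)
    (X : DerivedCategory A) (a : ℤ) (hge : TStructure.t.IsGE X a)
    (h : ∀ q, IsIso (η.app ((singleFunctor A 0).obj ((homologyFunctor A q).obj X)))) : IsIso (η.app X) := by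
  rw [DerivedCategory.isIso_iff]
  intro i
  let m := max (i + 1) a
  let X₁ := (TStructure.t.truncLT m).obj X
  have h1 : IsIso (η.app X₁) := by
    refine isIso_app_of_bounded η X₁ a (m - 1) inferInstance inferInstance fun q => ?_
    by_cases hq : q < m
    · have := isIso_homology_truncLTι X m q hq
      exact (NatTrans.isIso_app_iff_of_iso η ((singleFunctor A 0).mapIso
        (asIso ((homologyFunctor A q).map ((TStructure.t.truncLTι m).app X))))).2 (h q)
    · have hz := DerivedCategory.isZero_of_isLE X₁ (m - 1) q (by omega)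
      have hz' := (singleFunctor A 0).map_isZero hz
      exact ⟨⟨0, (F.map_isZero hz').eq_of_src _ _, (G.map_isZero hz').eq_of_src _ _⟩⟩
  have hge3 : TStructure.t.IsGE ((TStructure.t.truncGE m).obj X) m := inferInstance
  have hT := TStructure.t.triangleLTGE_distinguished m X
  have hFi := isIso_homology_mor₁_of_isGE _ (F.map_distinguished _ hT) m i (hF _ _ hge3) (by omega)
  have hGi := isIso_homology_mor₁_of_isGE _ (G.map_distinguished _ hT) m i (hG _ _ hge3) (by omega)
  change IsIso ((homologyFunctor B i).map (F.map ((TStructure.t.truncLTι m).app X))) at hFi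
  change IsIso ((homologyFunctor B i).map (G.map ((TStructure.t.truncLTι m).app X))) at hGi
  have e : (homologyFunctor B i).map (F.map ((TStructure.t.truncLTι m).app X)) ≫ (homologyFunctor B i).map (η.app X) =
      (homologyFunctor B i).map (η.app X₁) ≫ (homologyFunctor B i).map (G.map ((TStructure.t.truncLTι m).app X)) := by
    rw [← Functor.map_comp, ← Functor.map_comp]
    exact congrArg _ (η.naturality _)
  have h1' : IsIso ((homologyFunctor B i).map (η.app X₁)) := inferInstance
  exact IsIso.of_isIso_fac_left (h := (homologyFunctor B i).map (η.app X₁) ≫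
    (homologyFunctor B i).map (G.map ((TStructure.t.truncLTι m).app X))) e

end NatTrans

section Exact

variable (L : A ⥤ B) [L.Additive] [PreservesFiniteLimits L] [PreservesFiniteColimits L]

lemma isGE_mapDerivedCategory (X : DerivedCategory A) (m : ℤ) (h : TStructure.t.IsGE X m) :
    TStructure.t.IsGE (L.mapDerivedCategory.obj X) m :=
  (DerivedCategory.isGE_iff _ _).2 fun i hi =>
    (L.map_isZero (DerivedCategory.isZero_of_isGE X m i hi)).of_iso (nonempty_homology_mapDerivedCategory L X i).some

lemma isLE_mapDerivedCategory (X : DerivedCategory A) (m : ℤ) (h : TStructure.t.IsLE X m) :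
    TStructure.t.IsLE (L.mapDerivedCategory.obj X) m :=
  (DerivedCategory.isLE_iff _ _).2 fun i hi =>
    (L.map_isZero (DerivedCategory.isZero_of_isLE X m i hi)).of_iso (nonempty_homology_mapDerivedCategory L X i).some

variable {L} in
lemma isGE_rightAdjoint {R : DerivedCategory B ⥤ DerivedCategory A} (adj : L.mapDerivedCategory ⊣ R)
    (X : DerivedCategory B) (m : ℤ) (h : TStructure.t.IsGE X m) : TStructure.t.IsGE (R.obj X) m := by
  rw [TStructure.t.isGE_iff_orthogonal (m - 1) m (by lia)]
  intro Z f hZ
  have := isLE_mapDerivedCategory L Z (m - 1) hZ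
  have h' := TStructure.t.isGE_iff_orthogonal (m - 1) m (by lia) X |>.1 h
  apply (adj.homEquiv Z X).symm.injective
  exact (h' _ _ this).trans (h' _ _ this).symm

end Exact

end Groth.Agent.Mod48
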