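import Groth.Prelude.Def_CohCx

/-!
Sequences of abelian groups with eventually bijective transition maps and derived limits.
-/

universe v u

open CategoryTheory CategoryTheory.Limits CategoryTheory.Pretriangulated

namespace Groth.Agent.Mod48

/-- Solving `h n - φ (h (n+1)) = g n` when the transition maps are eventually surjective. -/
lemma exists_sub_eq (N : ℕ) :
    ∀ (G : ℕ → Type v) [∀ n, AddCommGroup (G n)] (φ : ∀ n, G (n + 1) →+ G n),
      (∀ n, N ≤ n → Function.Surjective (φ n)) → ∀ g : ∀ n, G n, ∃ h : ∀ n, G n, ∀ n, h n - φ n (h (n + 1)) = g n := by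
  induction N with
  | zero =>
    intro G _ φ hφ g
    choose s hs using fun n (y : G n) => hφ n (Nat.zero_le n) y
    let h : ∀ n, G n := fun n => Nat.rec (motive := G) 0 (fun k x => s k (x - g k)) n
    refine ⟨h, fun n => ?_⟩
    change h n - φ n (s n (h n - g n)) = g n
    rw [hs, sub_sub_cancel]
  | succ N ih =>
    intro G _ φ hφ g
    obtain ⟨h, hh⟩ := ih (fun n => G (n + 1)) (fun n => φ (n + 1)) (fun n hn => hφ (n + 1) (by omega))
      (fun n => g (n + 1))
    refine ⟨fun n => Nat.casesOn (motive := G) n (g 0 + φ 0 (h 0)) h, fun n => ?_⟩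
    cases n with
    | zero => exact add_sub_cancel_right _ _
    | succ n => exact hh n

/-- Extending an element to a compatible family when the transition maps are eventually surjective. -/
lemma exists_compatible (N : ℕ) :
    ∀ (G : ℕ → Type v) [∀ n, AddCommGroup (G n)] (φ : ∀ n, G (n + 1) →+ G n),
      (∀ n, N ≤ n → Function.Surjective (φ n)) → ∀ y : G N, ∃ z : ∀ n, G n, (∀ n, φ n (z (n + 1)) = z n) ∧ z N = y := by
  induction N with
  | zero =>
    intro G _ φ hφ y
    choose s hs using fun n (y : G n) => hφ n (Nat.zero_le n) y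
    exact ⟨fun n => Nat.rec (motive := G) y (fun k x => s k x) n, fun n => hs n _, rfl⟩
  | succ N ih =>
    intro G _ φ hφ y
    obtain ⟨z, hz, hzN⟩ := ih (fun n => G (n + 1)) (fun n => φ (n + 1)) (fun n hn => hφ (n + 1) (by omega)) y
    refine ⟨fun n => Nat.casesOn (motive := G) n (φ 0 (z 0)) z, fun n => ?_, hzN⟩
    cases n with
    | zero => rfl
    | succ n => exact hz n

/-- A compatible family vanishing at one step above which the transition maps are injective vanishes. -/
lemma eq_zero_of_compatible (G : ℕ → Type v) [∀ n, AddCommGroup (G n)] (φ : ∀ n, G (n + 1) →+ G n)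
    (N : ℕ) (hφ : ∀ n, N ≤ n → Function.Injective (φ n)) (z : ∀ n, G n) (hz : ∀ n, φ n (z (n + 1)) = z n)
    (h : z N = 0) (k : ℕ) : z k = 0 := by
  have hup : ∀ i, z (N + i) = 0 := by
    intro i
    induction i with
    | zero => exact h
    | succ i ih =>
      apply hφ (N + i) (by omega)
      rw [map_zero]
      exact (hz (N + i)).trans ih
  have hdown : ∀ i k, k + i = N → z k = 0 := by
    intro i
    induction i with
    | zero => intro k hk; exact (show k = N by omega) ▸ h
    | succ i ih => intro k hk; rw [← hz k, ih (k + 1) (by omega), map_zero]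
  rcases le_total k N with hk | hk
  · exact hdown (N - k) k (by omega)
  · exact (show N + (k - N) = k by omega) ▸ hup (k - N)

variable {T : Type u} [Category.{v} T] [Preadditive T] [HasZeroObject T] [HasShift T ℤ]
  [∀ n : ℤ, (shiftFunctor T n).Additive] [Pretriangulated T]
  {K : ℕ → T} {t : ∀ n, K (n + 1) ⟶ K n} [HasProduct K] {L : T} {a : ∀ n, L ⟶ K n}

lemma rlim_compatible (hL : CohCx.IsRlimVia K t L a) (n : ℕ) : a (n + 1) ≫ t n = a n := by
  obtain ⟨c, hc⟩ := hL
  have h : (Pi.lift a ≫ Pi.lift fun n => Pi.π K n - Pi.π K (n + 1) ≫ t n) ≫ Pi.π K n = (0 : L ⟶ ∏ᶜ K) ≫ Pi.π K n :=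
    congrArg (· ≫ Pi.π K n) (comp_distTriang_mor_zero₁₂ _ hc)
  simp only [Triangle.mk_mor₁, Triangle.mk_mor₂, Category.assoc, Pi.lift_π, zero_comp,
    Preadditive.comp_sub, Pi.lift_π_assoc, sub_eq_zero] at h
  exact h.symm

lemma rlim_postcomp_bijective (hL : CohCx.IsRlimVia K t L a) (X : T) (N : ℕ)
    (hb : ∀ n, N ≤ n → Function.Bijective fun f : X ⟶ K (n + 1) => f ≫ t n)
    (hs : ∀ n, N ≤ n → Function.Surjective fun f : X⟦(1 : ℤ)⟧ ⟶ K (n + 1) => f ≫ t n)
    (n : ℕ) (hn : N ≤ n) : Function.Bijective fun f : X ⟶ L => f ≫ a n := by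
  have hcomp := rlim_compatible hL
  obtain ⟨c, hc⟩ := hL
  constructor
  · intro x x' hxx'
    rw [← sub_eq_zero]
    have h0 : (x - x') ≫ a n = 0 := by
      rw [Preadditive.sub_comp, sub_eq_zero]
      exact hxx'
    have hall := eq_zero_of_compatible (fun k => (X ⟶ K k)) (fun k => Preadditive.rightComp X (t k)) n
      (fun k hk => (hb k (le_trans hn hk)).1) (fun k => (x - x') ≫ a k)
      (fun k => (Category.assoc _ _ _).trans (congrArg ((x - x') ≫ ·) (hcomp k))) h0
    have hl : (x - x') ≫ Pi.lift a = 0 := by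
      refine Pi.hom_ext _ _ fun k => ?_
      rw [Category.assoc, Pi.lift_π, zero_comp]
      exact hall k
    obtain ⟨g, hg⟩ := Triangle.coyoneda_exact₁ _ hc ((x - x')⟦(1 : ℤ)⟧') (by
      change (x - x')⟦(1 : ℤ)⟧' ≫ (Pi.lift a)⟦(1 : ℤ)⟧' = 0
      rw [← Functor.map_comp, hl, Functor.map_zero])
    obtain ⟨h, hh⟩ := exists_sub_eq N (fun k => (X⟦(1 : ℤ)⟧ ⟶ K k)) (fun k => Preadditive.rightComp _ (t k))
      hs (fun k => g ≫ Pi.π K k)
    have hg' : g = Pi.lift h ≫ Pi.lift (fun k => Pi.π K k - Pi.π K (k + 1) ≫ t k) := by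
      refine Pi.hom_ext _ _ fun k => ?_
      rw [Category.assoc, Pi.lift_π, Preadditive.comp_sub, Pi.lift_π, Pi.lift_π_assoc]
      exact (hh k).symm
    have hz : Pi.lift (fun k => Pi.π K k - Pi.π K (k + 1) ≫ t k) ≫ c = 0 := comp_distTriang_mor_zero₂₃ _ hc
    refine (shiftFunctor T (1 : ℤ)).map_injective ?_
    refine hg.trans ?_
    rw [Functor.map_zero]
    change g ≫ c = 0
    rw [hg']
    exact ((Category.assoc _ _ _).trans (congrArg (Pi.lift h ≫ ·) hz)).trans comp_zero
  · intro y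
    obtain ⟨z, hz, hzn⟩ := exists_compatible n (fun k => (X ⟶ K k)) (fun k => Preadditive.rightComp X (t k))
      (fun k hk => (hb k (le_trans hn hk)).2) y
    obtain ⟨x, hx⟩ := Triangle.coyoneda_exact₂ _ hc (Pi.lift z) (by
      change Pi.lift z ≫ Pi.lift (fun k => Pi.π K k - Pi.π K (k + 1) ≫ t k) = 0
      refine Pi.hom_ext _ _ fun k => ?_
      rw [Category.assoc, Pi.lift_π, Preadditive.comp_sub, Pi.lift_π, Pi.lift_π_assoc, zero_comp, sub_eq_zero]
      exact (hz k).symm)
    refine ⟨x, ?_⟩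
    have h : Pi.lift z ≫ Pi.π K n = (x ≫ Pi.lift a) ≫ Pi.π K n := congrArg (· ≫ Pi.π K n) hx
    simp only [Pi.lift_π, Category.assoc] at h
    change x ≫ a n = y
    rw [← hzn, h]

end Groth.Agent.Mod48
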