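import Groth.Agent.Mod48.LocBij
import Groth.Agent.Mod48.Milnor
import Groth.Agent.Mod48.Devissage

/-!
A complex is the derived limit of its truncations under cohomological vanishing on a basis.
-/

universe w u v₀ u₀ t

open CategoryTheory CategoryTheory.Limits CategoryTheory.Pretriangulated DerivedCategory

namespace Groth.Agent.Mod48

namespace LocGen

variable {A : Type (u + 1)} [Category.{u} A] [Abelian A] [HasDerivedCategory.{w} A]

/-- Morphisms from `X` to `F` of degree `k` in the derived category vanish. -/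
def VanishAt (X F : A) (k : ℤ) : Prop :=
  ∀ m q : ℤ, q + k = m → ∀ f : Pd X m ⟶ (singleFunctor A q).obj F, f = 0

variable {X : A}

lemma hom_eq_zero_of_isGE_of_isLE (W : DerivedCategory A) (r : ℤ) (hge : TStructure.t.IsGE W r)
    (hle : TStructure.t.IsLE W r) {F : A} (e : (homologyFunctor A r).obj W ≅ F) {m k : ℤ} (hk : r + k = m)
    (hv : VanishAt X F k) (f : Pd X m ⟶ W) : f = 0 := by
  obtain ⟨M, ⟨eW⟩⟩ := exists_iso_singleFunctor_obj_of_isGE_of_isLE W r
  let eM : (singleFunctor A r).obj M ≅ (singleFunctor A r).obj F := (singleFunctor A r).mapIso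
    (((singleFunctorCompHomologyFunctorIso A r).app M).symm ≪≫ (homologyFunctor A r).mapIso eW.symm ≪≫ e)
  rw [← cancel_mono (eW ≪≫ eM).hom, zero_comp]
  exact hv m r hk _

lemma truncTower_postcomp_bijective (E : DerivedCategory A) (n : ℕ) (q : ℤ) (hq : q + 1 = -(n : ℤ)) (m : ℤ)
    (h₀ : VanishAt X ((homologyFunctor A q).obj E) (m - q))
    (h₁ : VanishAt X ((homologyFunctor A q).obj E) (m - q + 1)) :
    Function.Bijective fun f : Pd X m ⟶ CohCx.truncTower E (n + 1) => f ≫ CohCx.truncTowerMap E n := by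
  let t : Triangulated.TStructure (DerivedCategory A) := TStructure.t
  let Z := CohCx.truncTower E (n + 1)
  have hZge : t.IsGE Z q := TStructure.t.isGE_of_ge Z q (-((n + 1 : ℕ) : ℤ)) (by omega)
  let W := (t.truncLT (-(n : ℤ))).obj Z
  have hW₁ : t.IsLE W q := t.isLE_truncLT_obj Z (-(n : ℤ)) q (by omega)
  have hW₂ : t.IsGE W q := inferInstance
  have := isIso_homology_truncLTι Z (-(n : ℤ)) q (by omega)
  have := isIso_homology_truncGEπ E (-((n + 1 : ℕ) : ℤ)) q (by omega)
  let eW : (homologyFunctor A q).obj W ≅ (homologyFunctor A q).obj E :=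
    asIso ((homologyFunctor A q).map ((t.truncLTι (-(n : ℤ))).app Z)) ≪≫
      (asIso ((homologyFunctor A q).map ((t.truncGEπ (-((n + 1 : ℕ) : ℤ))).app E))).symm
  have hπ : Function.Bijective fun f : Pd X m ⟶ Z => f ≫ (t.truncGEπ (-(n : ℤ))).app Z := by
    have hT := t.triangleLTGE_distinguished (-(n : ℤ)) Z
    constructor
    · intro f f' hff'
      rw [← sub_eq_zero]
      obtain ⟨g, hg⟩ := Triangle.coyoneda_exact₂ _ hT (f - f') (by
        change (f - f') ≫ (t.truncGEπ (-(n : ℤ))).app Z = 0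
        rw [Preadditive.sub_comp, sub_eq_zero]
        exact hff')
      rw [hg, hom_eq_zero_of_isGE_of_isLE W q hW₂ hW₁ eW (by omega) h₀ g]
      exact zero_comp
    · intro y
      obtain ⟨f, hf⟩ := Triangle.coyoneda_exact₃ _ hT y (hom_eq_zero_of_isGE_of_isLE (W⟦(1 : ℤ)⟧) (q - 1)
        (t.isGE_shift W q 1 (q - 1) (by omega)) (t.isLE_shift W q 1 (q - 1) (by omega))
        ((((homologyFunctor A 0).shiftIso 1 (q - 1) q (by omega)).app W) ≪≫ eW) (by omega) h₁
        (y ≫ _))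
      exact ⟨f, hf.symm⟩
  have hge : t.IsGE (CohCx.truncTower E n) (-(n : ℤ)) := inferInstance
  let e := t.descTruncGE (CohCx.truncTowerMap E n) (-(n : ℤ))
  have he : (t.truncGEπ (-(n : ℤ))).app Z ≫ e = CohCx.truncTowerMap E n := t.π_descTruncGE _ _
  have : IsIso e := by
    rw [DerivedCategory.isIso_iff]
    intro i
    by_cases hi : -(n : ℤ) ≤ i
    · have := isIso_homology_truncGEπ Z (-(n : ℤ)) i hi
      have := isIso_homology_truncGEπ E (-((n + 1 : ℕ) : ℤ)) i (by omega)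
      have := isIso_homology_truncGEπ E (-(n : ℤ)) i hi
      have h : IsIso ((homologyFunctor A i).map (CohCx.truncTowerMap E n)) :=
        IsIso.of_isIso_fac_left (f := (homologyFunctor A i).map (CohCx.toTruncTower E (n + 1)))
          (h := (homologyFunctor A i).map (CohCx.toTruncTower E n))
          (by rw [← Functor.map_comp]; exact congrArg _ (TStructure.t.π_natTransTruncGEOfLE_app _ _ _ E))
      exact IsIso.of_isIso_fac_left (f := (homologyFunctor A i).map ((t.truncGEπ (-(n : ℤ))).app Z))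
        (h := (homologyFunctor A i).map (CohCx.truncTowerMap E n)) (by rw [← Functor.map_comp, he])
    · exact ⟨⟨0, (DerivedCategory.isZero_of_isGE _ (-(n : ℤ)) i (by omega)).eq_of_src _ _,
        (DerivedCategory.isZero_of_isGE _ (-(n : ℤ)) i (by omega)).eq_of_src _ _⟩⟩
  have heq : (fun f : Pd X m ⟶ CohCx.truncTower E (n + 1) => f ≫ CohCx.truncTowerMap E n) =
      (fun g => g ≫ e) ∘ fun f : Pd X m ⟶ Z => f ≫ (t.truncGEπ (-(n : ℤ))).app Z := by
    funext f
    simp only [Function.comp_apply, Category.assoc]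
    rw [he]
  rw [heq]
  refine Function.Bijective.comp ⟨fun g g' h => (cancel_mono e).1 h, fun g => ⟨g ≫ inv e, ?_⟩⟩ hπ
  simp

variable {C : Type u₀} [Category.{v₀} C] {J : GrothendieckTopology C}

lemma rlim_truncTower_bijective (E : DerivedCategory A) [HasProduct (CohCx.truncTower E)]
    {L : DerivedCategory A} {a : ∀ n, L ⟶ CohCx.truncTower E n}
    (hL : CohCx.IsRlimVia (CohCx.truncTower E) (CohCx.truncTowerMap E) L a) (m : ℤ) (N : ℕ)
    (hv : ∀ n, N ≤ n → ∀ q k : ℤ, q + 1 = -(n : ℤ) → m + n ≤ k → k ≤ m + n + 2 →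
      VanishAt X ((homologyFunctor A q).obj E) k)
    (n : ℕ) (hn : N ≤ n) : Function.Bijective fun f : Pd X m ⟶ L => f ≫ a n := by
  refine rlim_postcomp_bijective hL _ N (fun n hn => truncTower_postcomp_bijective E n (-(n : ℤ) - 1) (by omega) m
    (hv n hn _ _ (by omega) (by omega) (by omega)) (hv n hn _ _ (by omega) (by omega) (by omega)))
    (fun n hn y => ?_) n hn
  let e : (Pd X m)⟦(1 : ℤ)⟧ ≅ Pd X (m - 1) := (SingleFunctors.shiftIso (singleFunctors A) 1 (m - 1) m (by omega)).app X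
  obtain ⟨g, hg⟩ := (truncTower_postcomp_bijective E n (-(n : ℤ) - 1) (by omega) (m - 1)
    (hv n hn _ _ (by omega) (by omega) (by omega)) (hv n hn _ _ (by omega) (by omega) (by omega))).2 (e.inv ≫ y)
  refine ⟨e.hom ≫ g, ?_⟩
  change (e.hom ≫ g) ≫ CohCx.truncTowerMap E n = y
  rw [Category.assoc, ← cancel_epi e.inv, Iso.inv_hom_id_assoc]
  exact hg

/-- A complex is the derived limit of its truncations when the high degree cohomology of its very negative
cohomology objects vanishes on a basis. -/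
theorem isRlimVia_truncTower (G : LocGen J A) (E : DerivedCategory A) [HasProduct (CohCx.truncTower E)] (B : Set C)
    (hB : ∀ U : C, ∃ (ι : Type t) (Y : ι → C) (g : ∀ i, Y i ⟶ U), Sieve.ofArrows Y g ∈ J U ∧ ∀ i, Y i ∈ B)
    (hv : ∀ V ∈ B, ∀ m : ℤ, ∃ N : ℕ, ∀ T ∈ J V, ∃ (ι : Type t) (Y : ι → C) (g : ∀ i, Y i ⟶ V),
      (∀ i, T.arrows (g i)) ∧ Sieve.ofArrows Y g ∈ J V ∧ ∀ i, ∀ n, N ≤ n → ∀ q k : ℤ, q + 1 = -(n : ℤ) →
        m + n ≤ k → k ≤ m + n + 2 → VanishAt (G.P (Y i)) ((homologyFunctor A q).obj E) k) :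
    CohCx.IsRlimVia (CohCx.truncTower E) (CohCx.truncTowerMap E) E (CohCx.toTruncTower E) := by
  let K := CohCx.truncTower E
  let tr := CohCx.truncTowerMap E
  let π := CohCx.toTruncTower E
  have hπ : ∀ n, π (n + 1) ≫ tr n = π n := fun n => TStructure.t.π_natTransTruncGEOfLE_app _ _ _ E
  obtain ⟨L, l, c, hT⟩ := distinguished_cocone_triangle₁ (Pi.lift fun n => Pi.π K n - Pi.π K (n + 1) ≫ tr n)
  let a : ∀ n, L ⟶ K n := fun n => l ≫ Pi.π K n
  have hl : Pi.lift a = l := Pi.hom_ext _ _ fun n => by simp [a]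
  have hL : CohCx.IsRlimVia K tr L a := ⟨c, by rw [hl]; exact hT⟩
  have hcomp := rlim_compatible hL
  obtain ⟨φ, hφ⟩ : ∃ φ : E ⟶ L, Pi.lift π = φ ≫ l := Triangle.coyoneda_exact₂ _ hT (Pi.lift π) (by
    change Pi.lift π ≫ Pi.lift (fun n => Pi.π K n - Pi.π K (n + 1) ≫ tr n) = 0
    refine Pi.hom_ext _ _ fun n => ?_
    rw [Category.assoc, Pi.lift_π, Preadditive.comp_sub, Pi.lift_π, Pi.lift_π_assoc, zero_comp, hπ, sub_self])
  have hφn : ∀ n, φ ≫ a n = π n := fun n => by
    have h : Pi.lift π ≫ Pi.π K n = (φ ≫ l) ≫ Pi.π K n := congrArg (· ≫ Pi.π K n) hφ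
    rw [Pi.lift_π, Category.assoc] at h
    exact h.symm
  have hfac : ∀ n n', n ≤ n' → ∃ τ : K n' ⟶ K n, a n' ≫ τ = a n ∧ π n' ≫ τ = π n := by
    intro n n' h
    induction n', h using Nat.le_induction with
    | base => exact ⟨𝟙 _, Category.comp_id _, Category.comp_id _⟩
    | succ k _ ih =>
      obtain ⟨τ, h₁, h₂⟩ := ih
      exact ⟨tr k ≫ τ, by rw [← Category.assoc, hcomp, h₁], by rw [← Category.assoc, hπ, h₂]⟩
  have hiso : IsIso φ := by
    rw [DerivedCategory.isIso_iff]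
    intro j
    let n₀ := (-j).toNat
    have hπiso : ∀ n, n₀ ≤ n → IsIso ((homologyFunctor A j).map (π n)) := fun n hn =>
      isIso_homology_truncGEπ E (-(n : ℤ)) j (by omega)
    have := hπiso n₀ le_rfl
    have ha : IsIso ((homologyFunctor A j).map (a n₀)) := by
      refine (G.homologyPres j).isIso_map (a n₀) fun U => ?_
      obtain ⟨ι, Y, g, hcov, hmem⟩ := hB U
      refine ⟨ι, Y, g, hcov, fun i => ?_⟩
      obtain ⟨N, hN⟩ := hv _ (hmem i) j
      obtain ⟨τ, hτ₁, hτ₂⟩ := hfac n₀ (n₀ + N) (Nat.le_add_right _ _)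
      refine ⟨_, a (n₀ + N), τ, hτ₁, ?_, fun S hS => ?_⟩
      · have := hπiso (n₀ + N) (Nat.le_add_right _ _)
        exact IsIso.of_isIso_fac_left (f := (homologyFunctor A j).map (π (n₀ + N)))
          (h := (homologyFunctor A j).map (π n₀)) (by rw [← Functor.map_comp, hτ₂])
      · obtain ⟨κ, W, h, h₁, h₂, h₃⟩ := hN S hS
        exact ⟨κ, W, h, h₁, h₂, fun k => rlim_truncTower_bijective E hL j N (h₃ k) (n₀ + N) (Nat.le_add_left _ _)⟩
    have : IsIso ((homologyFunctor A j).map φ ≫ (homologyFunctor A j).map (a n₀)) := by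
      rw [← Functor.map_comp, hφn]
      infer_instance
    exact @IsIso.of_isIso_comp_right _ _ _ _ _ ((homologyFunctor A j).map φ) ((homologyFunctor A j).map (a n₀)) ha this
  let eφ : E ≅ L := asIso φ
  refine ⟨c ≫ eφ.inv⟦(1 : ℤ)⟧', isomorphic_distinguished _ hT _
    (Triangle.isoMk _ _ eφ (Iso.refl _) (Iso.refl _) ?_ ?_ ?_)⟩
  · change Pi.lift π ≫ 𝟙 _ = φ ≫ l
    rw [Category.comp_id]
    exact hφ
  · exact (Category.comp_id _).trans (Category.id_comp _).symm
  · change (c ≫ eφ.inv⟦(1 : ℤ)⟧') ≫ eφ.hom⟦(1 : ℤ)⟧' = 𝟙 _ ≫ c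
    rw [Category.assoc, ← Functor.map_comp, Iso.inv_hom_id, CategoryTheory.Functor.map_id, Category.comp_id,
      Category.id_comp]

end LocGen

end Groth.Agent.Mod48
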