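import Groth.Agent.Mod48.ModGen
import Groth.Agent.Mod48.TruncTower

/-!
Vanishing of cohomology as vanishing of morphisms in the derived category, in any model.
-/

universe w u

open CategoryTheory CategoryTheory.Limits Opposite CategoryTheory.Abelian DerivedCategory

namespace Groth.Agent.Mod48

variable {C : Type u} [SmallCategory C] {J : GrothendieckTopology C} {O : Sheaf J CommRingCat.{u}}
  [HasDerivedCategory.{w} (ModSite.Mod O)]

lemma vanishAt_of_subsingleton_hu {U : C} {F : ModSite.Mod O} (k : ℕ)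
    (h : Subsingleton (ModSite.HU O F k U)) : LocGen.VanishAt ((modGen O).P U) F (k : ℤ) := by
  intro m q hmq f
  let X : ModSite.Mod O := ModSite.freeOn O U
  change ((singleFunctor _ m).obj X ⟶ (singleFunctor _ q).obj F) at f
  have : Subsingleton (Ext.{u} X F k) := (huExtEquiv U F k).toEquiv.subsingleton
  have : Subsingleton ((singleFunctor _ 0).obj X ⟶ ((singleFunctor _ 0).obj F)⟦(k : ℤ)⟧) :=
    (Ext.homEquiv (X := X) (Y := F) (n := k)).symm.subsingleton
  let s := singleFunctors (ModSite.Mod O)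
  have eX : ((singleFunctor _ m).obj X)⟦m⟧ ≅ (singleFunctor _ 0).obj X := (s.shiftIso m 0 m (add_zero m)).app X
  have eF : ((singleFunctor _ q).obj F)⟦m⟧ ≅ ((singleFunctor _ 0).obj F)⟦(k : ℤ)⟧ :=
    (s.shiftIso m (-(k : ℤ)) q (by omega)).app F ≪≫ ((s.shiftIso (k : ℤ) (-(k : ℤ)) 0 (by omega)).app F).symm
  apply (shiftFunctor _ m).map_injective
  rw [← cancel_mono eF.hom, ← cancel_epi eX.inv]
  exact Subsingleton.elim _ _

lemma vanishAt_of_subsingleton_hu_int {U : C} {F : ModSite.Mod O} {k : ℤ} (k' : ℕ) (hk : (k' : ℤ) = k)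
    (h : Subsingleton (ModSite.HU O F k' U)) : LocGen.VanishAt ((modGen O).P U) F k :=
  hk ▸ vanishAt_of_subsingleton_hu k' h

omit [HasDerivedCategory (ModSite.Mod O)] in
/-- Refining a covering sieve by members of a basis. -/
lemma exists_refinement {D : Type u} [SmallCategory D] {K : GrothendieckTopology D} (B : Set D)
    (hB : ∀ U : D, ∃ (ι : Type u) (Y : ι → D) (f : ∀ i, Y i ⟶ U), Sieve.ofArrows Y f ∈ K U ∧ ∀ i, Y i ∈ B)
    {V : D} (T : Sieve V) (hT : T ∈ K V) :
    ∃ (ι : Type u) (Y : ι → D) (g : ∀ i, Y i ⟶ V), (∀ i, T.arrows (g i)) ∧ Sieve.ofArrows Y g ∈ K V ∧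
      ∀ i, Y i ∈ B := by
  choose κ W f hcov hW using hB
  let ι := Σ a : (Σ X : D, { g : X ⟶ V // T.arrows g }), κ a.1
  refine ⟨ι, fun p => W p.1.1 p.2, fun p => f p.1.1 p.2 ≫ p.1.2.1,
    fun p => T.downward_closed p.1.2.2 _, K.transitive hT _ fun X g hg => ?_, fun p => hW _ _⟩
  refine K.superset_covering ?_ (hcov X)
  intro Z h hh
  obtain ⟨i, b, rfl⟩ := (Sieve.mem_ofArrows_iff (Y := W X) (f := f X) h).1 hh
  refine (Sieve.mem_ofArrows_iff _ _ _).2 ⟨⟨⟨X, g, hg⟩, i⟩, b, ?_⟩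
  exact Category.assoc _ _ _

end Groth.Agent.Mod48
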