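import Mathlib.Algebra.Homology.DerivedCategory.KInjective
import Mathlib.Algebra.Homology.DerivedCategory.ExactFunctor
import Mathlib.CategoryTheory.Functor.Derived.PointwiseRightDerived
import Mathlib.CategoryTheory.Functor.Derived.PointwiseLeftDerived
import Mathlib.CategoryTheory.Functor.Derived.Adjunction

/-!
Right derived functors on unbounded derived categories through K-injective resolutions:
existence, values on K-injective complexes, absoluteness, derived adjunctions.
-/

universe w w' v v' v'' u u' u''

open CategoryTheory CategoryTheory.Limits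

namespace Groth.Agent.Mod48

section Terminal

variable {C : Type u} [Category.{v} C] {D : Type u'} [Category.{v'} D] {H : Type u''} [Category.{v''} H]
  {L : C ⥤ D} {F : C ⥤ H}

lemma hasPointwiseLeftKanExtensionAt_of_isTerminal {Z : D} {T : CostructuredArrow L Z} (hT : IsTerminal T) :
    L.HasPointwiseLeftKanExtensionAt F Z :=
  ⟨_, colimitOfDiagramTerminal hT _⟩

/-- A left extension is pointwise at `Z` when it is invertible at a terminal costructured arrow. -/
noncomputable def isPointwiseAtOfIsTerminal (E : L.LeftExtension F) {Z : D} {T : CostructuredArrow L Z}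
    (hT : IsTerminal T) (h : IsIso ((E.coconeAt Z).ι.app T)) : E.IsPointwiseLeftKanExtensionAt Z :=
  IsColimit.ofIsoColimit (colimitOfDiagramTerminal hT _)
    (Cocone.ext (@asIso _ _ _ _ _ h) fun j => (E.coconeAt Z).w (hT.from j))

lemma isIso_coconeAt_of_isLeftKanExtension (F' : D ⥤ H) (α : F ⟶ L ⋙ F') [F'.IsLeftKanExtension α]
    [L.HasPointwiseLeftKanExtension F] {Z : D} {T : CostructuredArrow L Z} (hT : IsTerminal T) :
    IsIso ((Functor.LeftExtension.mk F' α).coconeAt Z |>.ι.app T) :=
  IsColimit.isIso_ι_app_of_isTerminal (Functor.isPointwiseLeftKanExtensionOfIsLeftKanExtension F' α Z) T hT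

end Terminal

section Derived

variable {A : Type u} [Category.{v} A] [Abelian A] [HasDerivedCategory.{w} A]

/-- Every complex has a K-injective resolution. -/
def EnoughKInj (A : Type u) [Category.{v} A] [Abelian A] : Prop :=
  ∀ M : CochainComplex A ℤ, ∃ (I : CochainComplex A ℤ) (f : M ⟶ I), I.IsKInjective ∧ QuasiIso f

variable (A) in
lemma exists_Qh_iso_kInjective (hA : EnoughKInj A) (Z : DerivedCategory A) :
    ∃ I : CochainComplex A ℤ, I.IsKInjective ∧
      Nonempty (DerivedCategory.Qh.obj ((HomotopyCategory.quotient A (ComplexShape.up ℤ)).obj I) ≅ Z) := by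
  have e := (DerivedCategory.Q : CochainComplex A ℤ ⥤ DerivedCategory A).objObjPreimageIso Z
  obtain ⟨I, f, hI, hf⟩ := hA ((DerivedCategory.Q : CochainComplex A ℤ ⥤ DerivedCategory A).objPreimage Z)
  exact ⟨I, hI, ⟨(DerivedCategory.quotientCompQhIso A).app I ≪≫ (asIso (DerivedCategory.Q.map f)).symm ≪≫ e⟩⟩

/-- The resolution arrow at a K-injective complex is terminal. -/
noncomputable def isTerminalOfKInjective {I : CochainComplex A ℤ} (hI : I.IsKInjective) {Z : DerivedCategory A}
    (e : DerivedCategory.Qh.obj ((HomotopyCategory.quotient A (ComplexShape.up ℤ)).obj I) ≅ Z) :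
    IsTerminal (CostructuredArrow.mk (S := DerivedCategory.Qh) (T := Z) e.hom) :=
  have hb := fun (Y : CostructuredArrow (DerivedCategory.Qh (C := A)) Z) =>
    CochainComplex.IsKInjective.Qh_map_bijective Y.left I
  IsTerminal.ofUniqueHom (Y := CostructuredArrow.mk (S := DerivedCategory.Qh) (T := Z) e.hom)
    (fun Y => CostructuredArrow.homMk ((hb Y).2 (Y.hom ≫ e.inv)).choose (by
      change DerivedCategory.Qh.map _ ≫ e.hom = Y.hom
      rw [((hb Y).2 (Y.hom ≫ e.inv)).choose_spec, Category.assoc, e.inv_hom_id, Category.comp_id]))
    (fun Y m => CostructuredArrow.ext _ _ ((hb Y).1 (by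
      have hm : DerivedCategory.Qh.map m.left ≫ e.hom = Y.hom := CostructuredArrow.w m
      change DerivedCategory.Qh.map m.left = DerivedCategory.Qh.map _
      refine Eq.trans ?_ ((hb Y).2 (Y.hom ≫ e.inv)).choose_spec.symm
      rw [← hm, Category.assoc, e.hom_inv_id]
      exact (Category.comp_id _).symm)))

variable {H : Type u''} [Category.{v''} H] {F : HomotopyCategory A (ComplexShape.up ℤ) ⥤ H}

lemma hasPointwiseLeftKanExtension_Qh (hA : EnoughKInj A) :
    (DerivedCategory.Qh : _ ⥤ DerivedCategory A).HasPointwiseLeftKanExtension F := fun Z => by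
  obtain ⟨I, hI, ⟨e⟩⟩ := exists_Qh_iso_kInjective A hA Z
  exact hasPointwiseLeftKanExtensionAt_of_isTerminal (isTerminalOfKInjective hI e)

variable (RF : DerivedCategory A ⥤ H) (α : F ⟶ DerivedCategory.Qh ⋙ RF)
  [RF.IsRightDerivedFunctor α (HomotopyCategory.quasiIso A (ComplexShape.up ℤ))]

/-- The derived functor takes the value of the functor on K-injective complexes. -/
lemma isIso_unit_of_kInjective (hA : EnoughKInj A) (I : CochainComplex A ℤ) (hI : I.IsKInjective) :
    IsIso (α.app ((HomotopyCategory.quotient A (ComplexShape.up ℤ)).obj I)) := by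
  have := hasPointwiseLeftKanExtension_Qh (F := F) hA
  have : RF.IsLeftKanExtension α :=
    Functor.IsRightDerivedFunctor.isLeftKanExtension RF α (HomotopyCategory.quasiIso A (ComplexShape.up ℤ))
  have h := isIso_coconeAt_of_isLeftKanExtension RF α (isTerminalOfKInjective hI (Iso.refl _))
  change IsIso (α.app _ ≫ RF.map (𝟙 _)) at h
  exact (congrArg IsIso ((congrArg (α.app _ ≫ ·) (CategoryTheory.Functor.map_id RF _)).trans
    (Category.comp_id _))).mp h

/-- Derived functors computed by K-injective resolutions are absolute. -/
lemma isRightDerivedFunctor_comp (hA : EnoughKInj A) {H' : Type*} [Category* H'] (G : H ⥤ H')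
    (β : F ⋙ G ⟶ DerivedCategory.Qh ⋙ RF ⋙ G)
    (hβ : β = Functor.whiskerRight α G ≫ (Functor.associator _ _ _).hom) :
    (RF ⋙ G).IsRightDerivedFunctor β (HomotopyCategory.quasiIso A (ComplexShape.up ℤ)) := by
  subst hβ
  refine ⟨Functor.LeftExtension.IsPointwiseLeftKanExtension.isLeftKanExtension
    (E := Functor.LeftExtension.mk (RF ⋙ G) (Functor.whiskerRight α G ≫ (Functor.associator _ _ _).hom))
    fun Z => ?_⟩
  let h := exists_Qh_iso_kInjective A hA Z
  let I := h.choose
  let e := h.choose_spec.2.some
  have hI : I.IsKInjective := h.choose_spec.1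
  refine isPointwiseAtOfIsTerminal _ (isTerminalOfKInjective hI e) ?_
  have := isIso_unit_of_kInjective RF α hA I hI
  change IsIso ((G.map (α.app _) ≫ 𝟙 _) ≫ G.map (RF.map e.hom))
  infer_instance

end Derived

section Adj

variable {A : Type u} [Category.{v} A] [Abelian A] {B : Type u'} [Category.{v'} B] [Abelian B]
  {G : B ⥤ A} {F : A ⥤ B} [G.Additive] [F.Additive] (adj : G ⊣ F)

/-- The unit of an adjunction, termwise on complexes. -/
noncomputable def cxUnit (X : CochainComplex B ℤ) :
    X ⟶ (F.mapHomologicalComplex (ComplexShape.up ℤ)).obj ((G.mapHomologicalComplex (ComplexShape.up ℤ)).obj X) where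
  f n := adj.unit.app (X.X n)
  comm' i j _ := (adj.unit.naturality (X.d i j)).symm

/-- The counit of an adjunction, termwise on complexes. -/
noncomputable def cxCounit (X : CochainComplex A ℤ) :
    (G.mapHomologicalComplex (ComplexShape.up ℤ)).obj ((F.mapHomologicalComplex (ComplexShape.up ℤ)).obj X) ⟶ X where
  f n := adj.counit.app (X.X n)
  comm' i j _ := (adj.counit.naturality (X.d i j)).symm

/-- An adjunction induces an adjunction on homotopy categories. -/
noncomputable def adjHomotopy :
    G.mapHomotopyCategory (ComplexShape.up ℤ) ⊣ F.mapHomotopyCategory (ComplexShape.up ℤ) :=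
  Adjunction.mkOfUnitCounit
    { unit :=
        { app := fun X => (HomotopyCategory.quotient B (ComplexShape.up ℤ)).map (cxUnit adj X.as)
          naturality := by
            rintro ⟨X⟩ ⟨Y⟩ f
            obtain ⟨f, rfl⟩ := (HomotopyCategory.quotient B (ComplexShape.up ℤ)).map_surjective f
            change (HomotopyCategory.quotient B (ComplexShape.up ℤ)).map f ≫
              (HomotopyCategory.quotient B (ComplexShape.up ℤ)).map _ =
              (HomotopyCategory.quotient B (ComplexShape.up ℤ)).map _ ≫
              (HomotopyCategory.quotient B (ComplexShape.up ℤ)).map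
                ((F.mapHomologicalComplex (ComplexShape.up ℤ)).map ((G.mapHomologicalComplex (ComplexShape.up ℤ)).map f))
            rw [← Functor.map_comp, ← Functor.map_comp]
            congr 1
            ext n
            exact adj.unit.naturality (f.f n) }
      counit :=
        { app := fun X => (HomotopyCategory.quotient A (ComplexShape.up ℤ)).map (cxCounit adj X.as)
          naturality := by
            rintro ⟨X⟩ ⟨Y⟩ f
            obtain ⟨f, rfl⟩ := (HomotopyCategory.quotient A (ComplexShape.up ℤ)).map_surjective f
            change (HomotopyCategory.quotient A (ComplexShape.up ℤ)).map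
                ((G.mapHomologicalComplex (ComplexShape.up ℤ)).map ((F.mapHomologicalComplex (ComplexShape.up ℤ)).map f)) ≫
              (HomotopyCategory.quotient A (ComplexShape.up ℤ)).map _ =
              (HomotopyCategory.quotient A (ComplexShape.up ℤ)).map _ ≫
              (HomotopyCategory.quotient A (ComplexShape.up ℤ)).map f
            rw [← Functor.map_comp, ← Functor.map_comp]
            congr 1
            ext n
            exact adj.counit.naturality (f.f n) }
      left_triangle := by
        ext ⟨X⟩
        change (HomotopyCategory.quotient A (ComplexShape.up ℤ)).map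
            ((G.mapHomologicalComplex (ComplexShape.up ℤ)).map (cxUnit adj X)) ≫ 𝟙 _ ≫
            (HomotopyCategory.quotient A (ComplexShape.up ℤ)).map
              (cxCounit adj ((G.mapHomologicalComplex (ComplexShape.up ℤ)).obj X)) = 𝟙 _
        rw [Category.id_comp, ← Functor.map_comp]
        refine Eq.trans (congrArg _ ?_) (CategoryTheory.Functor.map_id (HomotopyCategory.quotient A (ComplexShape.up ℤ)) _)
        ext n
        exact adj.left_triangle_components (X.X n)
      right_triangle := by
        ext ⟨X⟩
        change (HomotopyCategory.quotient B (ComplexShape.up ℤ)).map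
            (cxUnit adj ((F.mapHomologicalComplex (ComplexShape.up ℤ)).obj X)) ≫ 𝟙 _ ≫
            (HomotopyCategory.quotient B (ComplexShape.up ℤ)).map
              ((F.mapHomologicalComplex (ComplexShape.up ℤ)).map (cxCounit adj X)) = 𝟙 _
        rw [Category.id_comp, ← Functor.map_comp]
        refine Eq.trans (congrArg _ ?_) (CategoryTheory.Functor.map_id (HomotopyCategory.quotient B (ComplexShape.up ℤ)) _)
        ext n
        exact adj.right_triangle_components (X.X n) }

variable [PreservesFiniteLimits G] [PreservesFiniteColimits G] [HasDerivedCategory.{w} A] [HasDerivedCategory.{w'} B]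

/-- The derived adjunction of an exact left adjoint. -/
noncomputable def derivedAdj (hA : EnoughKInj A) (RF : DerivedCategory A ⥤ DerivedCategory B)
    (α : F.mapHomotopyCategory (ComplexShape.up ℤ) ⋙ DerivedCategory.Qh ⟶ DerivedCategory.Qh ⋙ RF)
    [RF.IsRightDerivedFunctor α (HomotopyCategory.quasiIso A (ComplexShape.up ℤ))] :
    G.mapDerivedCategory ⊣ RF :=
  let WA := HomotopyCategory.quasiIso A (ComplexShape.up ℤ)
  let WB := HomotopyCategory.quasiIso B (ComplexShape.up ℤ)
  let e := G.mapDerivedCategoryFactorsh
  have : G.mapDerivedCategory.IsLeftDerivedFunctor e.hom WB :=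
    Functor.isLeftDerivedFunctor_of_inverts WB G.mapDerivedCategory e
  have : (G.mapDerivedCategory ⋙ RF).IsLeftDerivedFunctor
      ((Functor.associator _ _ _).inv ≫ Functor.whiskerRight e.hom RF) WB :=
    Functor.isLeftDerivedFunctor_of_inverts WB _
      ((Functor.associator _ _ _).symm ≪≫ Functor.isoWhiskerRight e RF)
  have : (RF ⋙ G.mapDerivedCategory).IsRightDerivedFunctor
      (Functor.whiskerRight α G.mapDerivedCategory ≫ (Functor.associator _ _ _).hom) WA :=
    isRightDerivedFunctor_comp RF α hA G.mapDerivedCategory _ rfl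
  (adjHomotopy adj).derived WB WA e.hom α

end Adj

end Groth.Agent.Mod48
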