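import Groth.Agent.Mod48.LocBij
import Groth.Agent.Mod48.KInjDerived

/-!
Cohomology objects of a derived right adjoint, locally given by morphisms in the derived category of the
source.
-/

universe w w' v v' u u' v₀ u₀

open CategoryTheory CategoryTheory.Limits DerivedCategory HomologicalComplex

namespace Groth.Agent.Mod48

namespace LocGen

variable {C : Type u₀} [Category.{v₀} C] {J : GrothendieckTopology C}
  {A : Type u} [Category.{v} A] [Abelian A] [HasDerivedCategory.{w} A]
  {B : Type u'} [Category.{v'} B] [Abelian B] [HasDerivedCategory.{w'} B]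

omit [HasDerivedCategory A] in
lemma eq_cycleHom {X : A} {m : ℤ} {M : CochainComplex A ℤ}
    (φ : (HomologicalComplex.single A (ComplexShape.up ℤ) m).obj X ⟶ M) : ∃ z, φ = cycleHom z := by
  refine ⟨M.liftCycles ((singleObjXSelf (ComplexShape.up ℤ) m X).inv ≫ φ.f m) (m + 1)
    (CochainComplex.next ℤ m) ?_, ?_⟩
  · rw [Category.assoc, φ.comm, ← Category.assoc, single_obj_d, comp_zero, zero_comp]
  · refine from_single_hom_ext ?_
    rw [cycleHom_f, liftCycles_i, Iso.hom_inv_id_assoc]

omit [HasDerivedCategory A] in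
lemma cycleHom_injective {X : A} {m : ℤ} {M : CochainComplex A ℤ} {z z' : X ⟶ M.cycles m}
    (h : cycleHom z = cycleHom z') : z = z' := by
  have h' := HomologicalComplex.congr_hom h m
  rw [cycleHom_f, cycleHom_f, cancel_epi, cancel_mono] at h'
  exact h'

omit [HasDerivedCategory A] in
lemma single_map_cycleHom {X Y : A} (g : X ⟶ Y) {m : ℤ} {M : CochainComplex A ℤ} (z : Y ⟶ M.cycles m) :
    (HomologicalComplex.single A (ComplexShape.up ℤ) m).map g ≫ cycleHom z = cycleHom (g ≫ z) := by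
  refine from_single_hom_ext ?_
  rw [comp_f, cycleHom_f, cycleHom_f, single_map_f_self]
  simp only [Category.assoc, Iso.inv_hom_id_assoc]

omit [HasDerivedCategory A] in
lemma exists_local_boundary (G : LocGen J A) {U : C} {m : ℤ} {M : CochainComplex A ℤ}
    (z : G.P U ⟶ M.cycles m) (hz : z ≫ M.homologyπ m = 0) :
    ∃ S ∈ J U, ∀ ⦃V : C⦄ (g : V ⟶ U), S g → ∃ w : G.P V ⟶ M.X (m - 1),
      w ≫ M.d (m - 1) m = (G.r g ≫ z) ≫ M.iCycles m := by
  have hex : (ShortComplex.mk (M.toCycles (m - 1) m) (M.homologyπ m) (M.toCycles_comp_homologyπ _ _)).Exact :=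
    ShortComplex.exact_of_g_is_cokernel _ (M.homologyIsCokernel (m - 1) m (by simp))
  have := hex.epi_kernelLift
  obtain ⟨T, hT, hl⟩ := G.lift (kernel.lift (M.homologyπ m) (M.toCycles (m - 1) m) (M.toCycles_comp_homologyπ _ _))
    (kernel.lift (M.homologyπ m) z hz)
  refine ⟨T, hT, fun V g hg => ?_⟩
  obtain ⟨w, hw⟩ := hl g hg
  refine ⟨w, ?_⟩
  have h : (w ≫ kernel.lift (M.homologyπ m) (M.toCycles (m - 1) m) (M.toCycles_comp_homologyπ _ _)) ≫
      kernel.ι (M.homologyπ m) = (G.r g ≫ kernel.lift (M.homologyπ m) z hz) ≫ kernel.ι (M.homologyπ m) :=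
    congrArg (· ≫ kernel.ι (M.homologyπ m)) hw
  simp only [Category.assoc, kernel.lift_ι] at h
  rw [← toCycles_i M (m - 1) m, ← Category.assoc, h]

lemma ev_Q_cycleHom {X : A} {m : ℤ} {M : CochainComplex A ℤ} (z : X ⟶ M.cycles m) :
    ev (Q.map (cycleHom z)) = (z ≫ M.homologyπ m) ≫ (homologyFunctorFactors A m).inv.app M := by
  rw [ev_Q_map, ← Category.assoc, homologyMap_cycleHom]

variable {L : B ⥤ A} {R : A ⥤ B} [R.Additive] (adj : L ⊣ R)

omit [HasDerivedCategory A] [HasDerivedCategory B] in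
lemma adjunctCycle_d {X : B} {m : ℤ} {M : CochainComplex A ℤ} (z : L.obj X ⟶ M.cycles m) :
    adj.homEquiv _ _ (z ≫ M.iCycles m) ≫ ((R.mapHomologicalComplex (ComplexShape.up ℤ)).obj M).d m (m + 1) = 0 := by
  change adj.homEquiv _ _ (z ≫ M.iCycles m) ≫ R.map (M.d m (m + 1)) = 0
  rw [← adj.homEquiv_naturality_right, Category.assoc, iCycles_d, comp_zero, Adjunction.homEquiv_unit,
    R.map_zero, comp_zero]

/-- The adjunct of a cycle. -/
noncomputable def adjunctCycle {X : B} {m : ℤ} {M : CochainComplex A ℤ} (z : L.obj X ⟶ M.cycles m) :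
    X ⟶ ((R.mapHomologicalComplex (ComplexShape.up ℤ)).obj M).cycles m :=
  HomologicalComplex.liftCycles _ (adj.homEquiv _ _ (z ≫ M.iCycles m)) (m + 1) (CochainComplex.next ℤ m)
    (adjunctCycle_d adj z)

omit [HasDerivedCategory A] [HasDerivedCategory B] in
lemma adjunctCycle_i {X : B} {m : ℤ} {M : CochainComplex A ℤ} (z : L.obj X ⟶ M.cycles m) :
    adjunctCycle adj z ≫ ((R.mapHomologicalComplex (ComplexShape.up ℤ)).obj M).iCycles m =
      adj.homEquiv _ _ (z ≫ M.iCycles m) :=
  liftCycles_i _ _ _ _ _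

/-- The tautological cycle. -/
noncomputable def idCycle (X : A) (m : ℤ) :
    X ⟶ ((HomologicalComplex.single A (ComplexShape.up ℤ) m).obj X).cycles m :=
  (singleObjCyclesSelfIso (ComplexShape.up ℤ) m X).inv

omit [HasDerivedCategory A] [HasDerivedCategory B] in
lemma adjunctCycle_eq {X : B} {m : ℤ} {M : CochainComplex A ℤ} (z : L.obj X ⟶ M.cycles m) :
    cycleHom (adjunctCycle adj (idCycle (L.obj X) m)) ≫ (R.mapHomologicalComplex (ComplexShape.up ℤ)).map (cycleHom z) =
      cycleHom (adjunctCycle adj z) := by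
  rw [cycleHom_comp]
  congr 1
  rw [← cancel_mono (((R.mapHomologicalComplex (ComplexShape.up ℤ)).obj M).iCycles m), Category.assoc, cyclesMap_i,
    ← Category.assoc, adjunctCycle_i, adjunctCycle_i]
  change adj.homEquiv _ _ _ ≫ R.map ((cycleHom z).f m) = _
  rw [← adj.homEquiv_naturality_right, cycleHom_f]
  simp [idCycle]

variable (RF : DerivedCategory A ⥤ DerivedCategory B)
  (α : R.mapHomotopyCategory (ComplexShape.up ℤ) ⋙ Qh ⟶ Qh ⋙ RF)

/-- The unit of the derived functor, on complexes. -/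
noncomputable def unitQ (M : CochainComplex A ℤ) :
    Q.obj ((R.mapHomologicalComplex (ComplexShape.up ℤ)).obj M) ⟶ RF.obj (Q.obj M) :=
  (quotientCompQhIso B).inv.app _ ≫ α.app ((HomotopyCategory.quotient A (ComplexShape.up ℤ)).obj M) ≫
    RF.map ((quotientCompQhIso A).hom.app M)

lemma unitQ_naturality {M N : CochainComplex A ℤ} (φ : M ⟶ N) :
    Q.map ((R.mapHomologicalComplex (ComplexShape.up ℤ)).map φ) ≫ unitQ RF α N = unitQ RF α M ≫ RF.map (Q.map φ) := by
  have h1 : Q.map ((R.mapHomologicalComplex (ComplexShape.up ℤ)).map φ) ≫ (quotientCompQhIso B).inv.app _ =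
      (quotientCompQhIso B).inv.app _ ≫ Qh.map ((HomotopyCategory.quotient B (ComplexShape.up ℤ)).map
        ((R.mapHomologicalComplex (ComplexShape.up ℤ)).map φ)) :=
    (quotientCompQhIso B).inv.naturality _
  have h2 : Qh.map ((HomotopyCategory.quotient B (ComplexShape.up ℤ)).map
        ((R.mapHomologicalComplex (ComplexShape.up ℤ)).map φ)) ≫ α.app ((HomotopyCategory.quotient A (ComplexShape.up ℤ)).obj N) =
      α.app ((HomotopyCategory.quotient A (ComplexShape.up ℤ)).obj M) ≫
        RF.map (Qh.map ((HomotopyCategory.quotient A (ComplexShape.up ℤ)).map φ)) :=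
    α.naturality ((HomotopyCategory.quotient A (ComplexShape.up ℤ)).map φ)
  have h3 : Qh.map ((HomotopyCategory.quotient A (ComplexShape.up ℤ)).map φ) ≫ (quotientCompQhIso A).hom.app N =
      (quotientCompQhIso A).hom.app M ≫ Q.map φ :=
    (quotientCompQhIso A).hom.naturality φ
  unfold unitQ
  rw [← Category.assoc, h1, Category.assoc, ← Category.assoc (Qh.map _), h2]
  simp only [Category.assoc]
  refine congrArg (_ ≫ ·) ((Category.assoc _ _ _).trans (congrArg (_ ≫ ·) ?_))
  exact (RF.map_comp _ _).symm.trans ((congrArg RF.map h3).trans (RF.map_comp _ _))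

lemma isIso_unitQ (hα : ∀ I : CochainComplex A ℤ, I.IsKInjective →
      IsIso (α.app ((HomotopyCategory.quotient A (ComplexShape.up ℤ)).obj I)))
    (I : CochainComplex A ℤ) (hI : I.IsKInjective) : IsIso (unitQ RF α I) := by
  have := hα I hI
  exact IsIso.comp_isIso' inferInstance (IsIso.comp_isIso' this inferInstance)

/-- The test map `P[-m] ⟶ RF (L P [-m])`. -/
noncomputable def testUnit (X : B) (m : ℤ) : Pd X m ⟶ RF.obj (Pd (L.obj X) m) :=
  Q.map (cycleHom (adjunctCycle adj (idCycle (L.obj X) m))) ≫ unitQ RF α _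

lemma testUnit_comp {X : B} {m : ℤ} {M : CochainComplex A ℤ} (z : L.obj X ⟶ M.cycles m) :
    testUnit adj RF α X m ≫ RF.map (Q.map (cycleHom z)) = Q.map (cycleHom (adjunctCycle adj z)) ≫ unitQ RF α M := by
  rw [testUnit, Category.assoc, ← unitQ_naturality, ← Category.assoc, ← Functor.map_comp, adjunctCycle_eq]

omit [HasDerivedCategory A] [HasDerivedCategory B] in
lemma cycleHom_idCycle (X : A) (m : ℤ) : cycleHom (idCycle X m) = 𝟙 _ := by
  refine from_single_hom_ext ?_
  rw [cycleHom_f]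
  simp [idCycle]

lemma testUnit_natural {X Y : B} (g : X ⟶ Y) (m : ℤ) :
    Pm g m ≫ testUnit adj RF α Y m = testUnit adj RF α X m ≫ RF.map (Pm (L.map g) m) := by
  have e : (HomologicalComplex.single A (ComplexShape.up ℤ) m).map (L.map g) =
      cycleHom (L.map g ≫ idCycle (L.obj Y) m) := by
    rw [← single_map_cycleHom, cycleHom_idCycle, Category.comp_id]
  rw [Pm, Pm, e, testUnit_comp, testUnit, ← Category.assoc, ← Functor.map_comp, single_map_cycleHom]
  congr 3
  rw [← cancel_mono (HomologicalComplex.iCycles _ m), Category.assoc, adjunctCycle_i, adjunctCycle_i,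
    Category.assoc (L.map g)]
  exact (adj.homEquiv_naturality_left _ _).symm

variable (G : LocGen J B) [L.PreservesZeroMorphisms]

lemma push_surj (hA : EnoughKInj A) (hα : ∀ I : CochainComplex A ℤ, I.IsKInjective →
      IsIso (α.app ((HomotopyCategory.quotient A (ComplexShape.up ℤ)).obj I)))
    {U : C} {m : ℤ} {X : DerivedCategory A} (a : G.P U ⟶ (homologyFunctor B m).obj (RF.obj X)) :
    ∃ S ∈ J U, ∀ ⦃V : C⦄ (g : V ⟶ U), S g → ∃ x : Pd (L.obj (G.P V)) m ⟶ X,
      ev (testUnit adj RF α (G.P V) m ≫ RF.map x) = G.r g ≫ a := by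
  obtain ⟨I, hI, ⟨e₀⟩⟩ := exists_Qh_iso_kInjective A hA X
  let e : Q.obj I ≅ X := ((quotientCompQhIso A).app I).symm ≪≫ e₀
  have := isIso_unitQ RF α hα I hI
  let M := (R.mapHomologicalComplex (ComplexShape.up ℤ)).obj I
  let ε : M.homology m ≅ (homologyFunctor B m).obj (RF.obj X) :=
    ((homologyFunctorFactors B m).app M).symm ≪≫ (homologyFunctor B m).mapIso (asIso (unitQ RF α I) ≪≫ RF.mapIso e)
  obtain ⟨S, hS, hl⟩ := G.lift (M.homologyπ m) (a ≫ ε.inv)
  refine ⟨S, hS, fun V g hg => ?_⟩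
  obtain ⟨z, hz⟩ := hl g hg
  let c : L.obj (G.P V) ⟶ I.X m := (adj.homEquiv (G.P V) (I.X m)).symm (z ≫ M.iCycles m)
  have hc : c ≫ I.d m (m + 1) = 0 := by
    have h0 : (z ≫ M.iCycles m) ≫ R.map (I.d m (m + 1)) = 0 :=
      (Category.assoc _ _ _).trans ((congrArg (z ≫ ·) (M.iCycles_d m (m + 1))).trans comp_zero)
    refine (adj.homEquiv_naturality_right_symm _ _).symm.trans ((congrArg _ h0).trans ?_)
    rw [Adjunction.homEquiv_counit]
    rw [L.map_zero, zero_comp]
  let z₀ : L.obj (G.P V) ⟶ I.cycles m := I.liftCycles c (m + 1) (CochainComplex.next ℤ m) hc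
  refine ⟨Q.map (cycleHom z₀) ≫ e.hom, ?_⟩
  have hz₀ : adjunctCycle adj z₀ = z := by
    rw [← cancel_mono (M.iCycles m), adjunctCycle_i, liftCycles_i]
    exact (adj.homEquiv _ _).apply_symm_apply _
  rw [RF.map_comp, ← Category.assoc, testUnit_comp, hz₀, Category.assoc, ev_comp, ev_Q_cycleHom]
  calc ((z ≫ M.homologyπ m) ≫ (homologyFunctorFactors B m).inv.app M) ≫
        (homologyFunctor B m).map (unitQ RF α I ≫ RF.map e.hom) = (z ≫ M.homologyπ m) ≫ ε.hom := Category.assoc _ _ _
    _ = G.r g ≫ a := by rw [hz]; simp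

lemma push_inj (hA : EnoughKInj A) (hα : ∀ I : CochainComplex A ℤ, I.IsKInjective →
      IsIso (α.app ((HomotopyCategory.quotient A (ComplexShape.up ℤ)).obj I)))
    {U : C} {m : ℤ} {X : DerivedCategory A} (x : Pd (L.obj (G.P U)) m ⟶ X)
    (hx : ev (testUnit adj RF α (G.P U) m ≫ RF.map x) = 0) :
    ∃ S ∈ J U, ∀ ⦃V : C⦄ (g : V ⟶ U), S g → Pm (L.map (G.r g)) m ≫ x = 0 := by
  obtain ⟨I, hI, ⟨e₀⟩⟩ := exists_Qh_iso_kInjective A hA X
  let e : Q.obj I ≅ X := ((quotientCompQhIso A).app I).symm ≪≫ e₀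
  obtain ⟨φ', hφ'⟩ := (CochainComplex.IsKInjective.Qh_map_bijective
    ((HomotopyCategory.quotient A (ComplexShape.up ℤ)).obj
      ((HomologicalComplex.single A (ComplexShape.up ℤ) m).obj (L.obj (G.P U)))) I).2
    ((quotientCompQhIso A).hom.app _ ≫ x ≫ e.inv ≫ (quotientCompQhIso A).inv.app I)
  obtain ⟨φ, rfl⟩ := (HomotopyCategory.quotient A (ComplexShape.up ℤ)).map_surjective φ'
  obtain ⟨z₀, rfl⟩ := eq_cycleHom φ
  have hxz : x = Q.map (cycleHom z₀) ≫ e.hom := by
    have h := (quotientCompQhIso A).hom.naturality (cycleHom z₀)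
    dsimp only [Functor.comp_obj, Functor.comp_map] at h
    rw [hφ', ← cancel_mono e.inv] at *
    simp only [Category.assoc, Iso.inv_hom_id_app, Category.comp_id] at h
    rw [Category.assoc, e.hom_inv_id, Category.comp_id, ← cancel_epi ((quotientCompQhIso A).hom.app _)]
    exact h
  have := isIso_unitQ RF α hα I hI
  let z := adjunctCycle adj z₀
  have hz : z ≫ ((R.mapHomologicalComplex (ComplexShape.up ℤ)).obj I).homologyπ m = 0 := by
    rw [hxz, RF.map_comp, ← Category.assoc, testUnit_comp, Category.assoc, ev_comp, ev_Q_cycleHom] at hx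
    have h2 := (cancel_mono ((homologyFunctor B m).map (unitQ RF α I ≫ RF.map e.hom))).1 (hx.trans zero_comp.symm)
    exact (cancel_mono ((homologyFunctorFactors B m).inv.app _)).1 (h2.trans zero_comp.symm)
  obtain ⟨S, hS, hw⟩ := exists_local_boundary G z hz
  refine ⟨S, hS, fun V g hg => ?_⟩
  obtain ⟨w, hw⟩ := hw g hg
  have hw' : (adj.homEquiv (G.P V) (I.X (m - 1))).symm w ≫ I.d (m - 1) m =
      (L.map (G.r g) ≫ z₀) ≫ I.iCycles m := by
    apply (adj.homEquiv _ _).injective
    rw [adj.homEquiv_naturality_right, Equiv.apply_symm_apply, Category.assoc, adj.homEquiv_naturality_left,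
      ← adjunctCycle_i adj z₀]
    exact hw.trans (Category.assoc _ _ _)
  rw [hxz, ← Category.assoc, Pm, ← Functor.map_comp, single_map_cycleHom,
    Q_map_eq_of_homotopy A (cycleHomHomotopy _ _ hw'), Functor.map_zero, zero_comp]

/-- Cohomology objects of a derived right adjoint are locally presented by morphisms out of the images of free
objects. -/
noncomputable def pushPres (hA : EnoughKInj A) (hα : ∀ I : CochainComplex A ℤ, I.IsKInjective →
      IsIso (α.app ((HomotopyCategory.quotient A (ComplexShape.up ℤ)).obj I))) (m : ℤ) :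
    G.LocPres (RF ⋙ homologyFunctor B m) where
  T U := Pd (L.obj (G.P U)) m
  res g := Pm (L.map (G.r g)) m
  sec {U _} x := ev (testUnit adj RF α (G.P U) m ≫ RF.map x)
  sec_comp x f := by
    rw [RF.map_comp, ← Category.assoc, ev_comp]
    rfl
  sec_res g _ x := by
    rw [RF.map_comp, ← Category.assoc, ← testUnit_natural, Category.assoc, ev_precomp]
  surj a := G.push_surj adj RF α hA hα a
  inj x hx := G.push_inj adj RF α hA hα x hx

end LocGen

end Groth.Agent.Mod48
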