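import Mathlib.Algebra.Homology.DerivedCategory.FullyFaithful
import Mathlib.Algebra.Homology.DerivedCategory.Fractions
import Mathlib.Algebra.Homology.SingleHomology
import Mathlib.CategoryTheory.Sites.Sieves
import Mathlib.CategoryTheory.Sites.Grothendieck
import Mathlib.CategoryTheory.Abelian.Exact

/-!
Locally projective families of objects of an abelian category indexed by a site, and the local
description of cohomology objects of complexes by morphisms in the derived category.
-/

universe w v u v₀ u₀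

open CategoryTheory CategoryTheory.Limits DerivedCategory HomologicalComplex

namespace Groth.Agent.Mod48

/-- A family of objects `P U` of an abelian category, functorial in `U`, which behaves like the free
sheaves on the objects of a site. -/
structure LocGen {C : Type u₀} [Category.{v₀} C] (J : GrothendieckTopology C) (A : Type u) [Category.{v} A]
    [Abelian A] where
  /-- The objects. -/
  P : C → A
  /-- Functoriality. -/
  r : ∀ {V U : C}, (V ⟶ U) → (P V ⟶ P U)
  r_comp : ∀ {W V U : C} (g : W ⟶ V) (h : V ⟶ U), r (g ≫ h) = r g ≫ r h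
  /-- Maps out of `P U` are separated. -/
  sep : ∀ {U : C} {X : A} (a : P U ⟶ X) (S : Sieve U), S ∈ J U →
    (∀ ⦃V : C⦄ (g : V ⟶ U), S g → r g ≫ a = 0) → a = 0
  /-- Maps out of `P U` lift locally through epimorphisms. -/
  lift : ∀ {U : C} {X Y : A} (p : X ⟶ Y) [Epi p] (a : P U ⟶ Y), ∃ S ∈ J U,
    ∀ ⦃V : C⦄ (g : V ⟶ U), S g → ∃ b : P V ⟶ X, b ≫ p = r g ≫ a
  /-- The family detects zero objects. -/
  detect : ∀ {X : A}, (∀ (U : C) (a : P U ⟶ X), a = 0) → IsZero X

namespace LocGen

variable {C : Type u₀} [Category.{v₀} C] {J : GrothendieckTopology C} {A : Type u} [Category.{v} A] [Abelian A]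
  (G : LocGen J A)

lemma sep_ofArrows {U : C} {X : A} (a : G.P U ⟶ X) {ι : Type*} (Y : ι → C) (g : ∀ i, Y i ⟶ U)
    (hS : Sieve.ofArrows Y g ∈ J U) (h : ∀ i, G.r (g i) ≫ a = 0) : a = 0 := by
  refine G.sep a _ hS fun V f hf => ?_
  obtain ⟨i, b, rfl⟩ := (Sieve.mem_ofArrows_iff (Y := Y) (f := g) f).1 hf
  rw [G.r_comp, Category.assoc, h i, comp_zero]

lemma mono_of_sep {X Y : A} (f : X ⟶ Y) (h : ∀ (U : C) (a : G.P U ⟶ X), a ≫ f = 0 → a = 0) : Mono f := by
  refine Preadditive.mono_of_isZero_kernel f (G.detect fun U a => ?_)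
  rw [← cancel_mono (kernel.ι f), zero_comp]
  exact h U _ (by rw [Category.assoc, kernel.condition, comp_zero])

lemma epi_of_sep {X Y : A} (f : X ⟶ Y)
    (h : ∀ (U : C) (a : G.P U ⟶ Y) ⦃Q : A⦄ (q : Y ⟶ Q), f ≫ q = 0 → a ≫ q = 0) : Epi f := by
  refine Preadditive.epi_of_isZero_cokernel f (G.detect fun U a => ?_)
  obtain ⟨S, hS, hlift⟩ := G.lift (cokernel.π f) a
  refine G.sep a S hS fun V g hg => ?_
  obtain ⟨b, hb⟩ := hlift g hg
  rw [← hb]
  exact h V b _ (cokernel.condition f)

/-- The map of complexes from a single object given by a cycle. -/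
noncomputable def cycleHom {X : A} {m : ℤ} {K : CochainComplex A ℤ} (z : X ⟶ K.cycles m) :
    (HomologicalComplex.single A (ComplexShape.up ℤ) m).obj X ⟶ K :=
  mkHomFromSingle (z ≫ K.iCycles m) (fun k _ => by rw [Category.assoc, iCycles_d, comp_zero])

lemma cycleHom_f {X : A} {m : ℤ} {K : CochainComplex A ℤ} (z : X ⟶ K.cycles m) :
    (cycleHom z).f m = (singleObjXSelf (ComplexShape.up ℤ) m X).hom ≫ z ≫ K.iCycles m :=
  mkHomFromSingle_f _ _

lemma homologyMap_cycleHom {X : A} {m : ℤ} {K : CochainComplex A ℤ} (z : X ⟶ K.cycles m) :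
    (singleObjHomologySelfIso (ComplexShape.up ℤ) m X).inv ≫ homologyMap (cycleHom z) m = z ≫ K.homologyπ m := by
  have h : (singleObjCyclesSelfIso (ComplexShape.up ℤ) m X).inv ≫ cyclesMap (cycleHom z) m = z := by
    rw [← cancel_mono (K.iCycles m), Category.assoc, cyclesMap_i, cycleHom_f]
    simp
  rw [← singleObjCyclesSelfIso_inv_homologyπ, Category.assoc, homologyπ_naturality, ← Category.assoc, h]

lemma cycleHom_comp {X : A} {m : ℤ} {K K' : CochainComplex A ℤ} (z : X ⟶ K.cycles m) (g : K ⟶ K') :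
    cycleHom z ≫ g = cycleHom (z ≫ cyclesMap g m) := by
  refine from_single_hom_ext ?_
  rw [comp_f, cycleHom_f, cycleHom_f]
  simp only [Category.assoc, cyclesMap_i]

/-- A map from a single object which is a boundary is null-homotopic. -/
noncomputable def cycleHomHomotopy {X : A} {m : ℤ} {K : CochainComplex A ℤ} (z : X ⟶ K.cycles m)
    (w : X ⟶ K.X (m - 1)) (hw : w ≫ K.d (m - 1) m = z ≫ K.iCycles m) : Homotopy (cycleHom z) 0 :=
  let h : ∀ i j, (ComplexShape.up ℤ).Rel j i →
      (((HomologicalComplex.single A (ComplexShape.up ℤ) m).obj X).X i ⟶ K.X j) := fun i j hij =>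
    if hi : i = m then
      eqToHom (congrArg ((HomologicalComplex.single A (ComplexShape.up ℤ) m).obj X).X hi) ≫
        (singleObjXSelf (ComplexShape.up ℤ) m X).hom ≫ w ≫ eqToHom (congrArg K.X (by
          change j + 1 = i at hij
          omega))
    else 0
  Homotopy.trans (Homotopy.ofEq (from_single_hom_ext (by
      rw [Homotopy.nullHomotopicMap'_f (show (ComplexShape.up ℤ).Rel (m - 1) m from sub_add_cancel m 1)
        (show (ComplexShape.up ℤ).Rel m (m + 1) from rfl) h, cycleHom_f]
      simp [h, hw]))) (Homotopy.nullHomotopy' h)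

variable [HasDerivedCategory.{w} A]

/-- The object `X` in degree `m` of the derived category. -/
noncomputable abbrev Pd (X : A) (m : ℤ) : DerivedCategory A :=
  Q.obj ((HomologicalComplex.single A (ComplexShape.up ℤ) m).obj X)

/-- Functoriality of `Pd`. -/
noncomputable abbrev Pm {X Y : A} (f : X ⟶ Y) (m : ℤ) : Pd X m ⟶ Pd Y m :=
  Q.map ((HomologicalComplex.single A (ComplexShape.up ℤ) m).map f)

/-- The map on cohomology in degree `m` of a map out of an object in degree `m`. -/
noncomputable def ev {X : A} {m : ℤ} {K : DerivedCategory A} (x : Pd X m ⟶ K) :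
    X ⟶ (homologyFunctor A m).obj K :=
  ((singleObjHomologySelfIso (ComplexShape.up ℤ) m X).inv ≫
    (homologyFunctorFactors A m).inv.app ((HomologicalComplex.single A (ComplexShape.up ℤ) m).obj X)) ≫
      (homologyFunctor A m).map x

lemma ev_comp {X : A} {m : ℤ} {K K' : DerivedCategory A} (x : Pd X m ⟶ K) (f : K ⟶ K') :
    ev (x ≫ f) = ev x ≫ (homologyFunctor A m).map f := by
  rw [ev, Functor.map_comp, ← Category.assoc]
  rfl

lemma ev_precomp {X Y : A} (g : X ⟶ Y) {m : ℤ} {K : DerivedCategory A} (x : Pd Y m ⟶ K) :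
    ev (Pm g m ≫ x) = g ≫ ev x := by
  have h1 : (homologyFunctorFactors A m).inv.app ((HomologicalComplex.single A (ComplexShape.up ℤ) m).obj X) ≫
      (homologyFunctor A m).map (Pm g m) =
      homologyMap ((HomologicalComplex.single A (ComplexShape.up ℤ) m).map g) m ≫
        (homologyFunctorFactors A m).inv.app _ :=
    ((homologyFunctorFactors A m).inv.naturality _).symm
  have h2 : (singleObjHomologySelfIso (ComplexShape.up ℤ) m X).inv ≫
      homologyMap ((HomologicalComplex.single A (ComplexShape.up ℤ) m).map g) m =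
      g ≫ (singleObjHomologySelfIso (ComplexShape.up ℤ) m Y).inv := by
    rw [Iso.inv_comp_eq, ← Category.assoc, Iso.eq_comp_inv, singleObjHomologySelfIso_hom_naturality]
  rw [ev, ev, Functor.map_comp]
  simp only [← Category.assoc]
  refine congrArg (· ≫ _) ?_
  refine ((Category.assoc _ _ _).trans (congrArg (_ ≫ ·) h1)).trans ?_
  exact (Category.assoc _ _ _).symm.trans (congrArg (· ≫ _) h2)

lemma ev_Q_map {X : A} {m : ℤ} {K : CochainComplex A ℤ}
    (φ : (HomologicalComplex.single A (ComplexShape.up ℤ) m).obj X ⟶ K) :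
    ev (Q.map φ) = (singleObjHomologySelfIso (ComplexShape.up ℤ) m X).inv ≫ homologyMap φ m ≫
      (homologyFunctorFactors A m).inv.app K := by
  rw [ev, Category.assoc]
  exact congrArg (_ ≫ ·) ((homologyFunctorFactors A m).inv.naturality φ).symm

/-- Sections of cohomology objects come locally from morphisms in the derived category. -/
theorem ev_locally_surjective {U : C} {m : ℤ} {K : DerivedCategory A}
    (a : G.P U ⟶ (homologyFunctor A m).obj K) :
    ∃ S ∈ J U, ∀ ⦃V : C⦄ (g : V ⟶ U), S g → ∃ x : Pd (G.P V) m ⟶ K, ev x = G.r g ≫ a := by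
  let K' := Q.objPreimage K
  let e : Q.obj K' ≅ K := Q.objObjPreimageIso K
  let ε : K'.homology m ≅ (homologyFunctor A m).obj K :=
    ((homologyFunctorFactors A m).app K').symm ≪≫ (homologyFunctor A m).mapIso e
  obtain ⟨S, hS, hl⟩ := G.lift (K'.homologyπ m) (a ≫ ε.inv)
  refine ⟨S, hS, fun V g hg => ?_⟩
  obtain ⟨z, hz⟩ := hl g hg
  refine ⟨Q.map (cycleHom z) ≫ e.hom, ?_⟩
  rw [ev_comp, ev_Q_map, ← Category.assoc, homologyMap_cycleHom, hz]
  refine (Category.assoc _ _ _).trans ?_
  change (G.r g ≫ a ≫ ε.inv) ≫ ε.hom = _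
  simp

/-- A morphism out of a free object in the derived category which is zero on cohomology is locally zero. -/
theorem ev_locally_injective {U : C} {m : ℤ} {K : DerivedCategory A} (x : Pd (G.P U) m ⟶ K)
    (hx : ev x = 0) : ∃ S ∈ J U, ∀ ⦃V : C⦄ (g : V ⟶ U), S g → Pm (G.r g) m ≫ x = 0 := by
  let S : Sieve U :=
    { arrows := fun V g => Pm (G.r g) m ≫ x = 0
      downward_closed := fun {V W g} hg f => by
        rw [G.r_comp, Pm, Functor.map_comp, Functor.map_comp, Category.assoc, hg, comp_zero] }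
  refine ⟨S, ?_, fun V g hg => hg⟩
  let K' := Q.objPreimage K
  let e : Q.obj K' ≅ K := Q.objObjPreimageIso K
  obtain ⟨X', s, hs, g, hfac⟩ := right_fac (x ≫ e.inv)
  have hqs : QuasiIso s := (isIso_Q_map_iff_quasiIso (φ := s)).1 hs
  obtain ⟨S₁, hS₁, hl⟩ := G.lift (X'.homologyπ m)
    ((singleObjHomologySelfIso (ComplexShape.up ℤ) m (G.P U)).inv ≫ inv (homologyMap s m))
  refine J.transitive hS₁ _ fun V g₁ hg₁ => ?_
  obtain ⟨z, hz⟩ := hl g₁ hg₁
  obtain ⟨r', hr'⟩ := (HomologicalComplex.single A (ComplexShape.up ℤ) m).map_surjective (cycleHom z ≫ s)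
  have hr : r' = G.r g₁ := by
    have h1 : homologyMap ((HomologicalComplex.single A (ComplexShape.up ℤ) m).map r') m =
        homologyMap (cycleHom z ≫ s) m := congrArg (homologyMap · m) hr'
    rw [homologyMap_comp] at h1
    have h2 : (singleObjHomologySelfIso (ComplexShape.up ℤ) m (G.P V)).inv ≫
        homologyMap ((HomologicalComplex.single A (ComplexShape.up ℤ) m).map r') m =
        (singleObjHomologySelfIso (ComplexShape.up ℤ) m (G.P V)).inv ≫ homologyMap (cycleHom z) m ≫ homologyMap s m :=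
      congrArg ((singleObjHomologySelfIso (ComplexShape.up ℤ) m (G.P V)).inv ≫ ·) h1
    rw [← Category.assoc _ (homologyMap (cycleHom z) m), homologyMap_cycleHom, hz] at h2
    rw [← cancel_mono (singleObjHomologySelfIso (ComplexShape.up ℤ) m (G.P U)).inv]
    refine Eq.trans ?_ (h2.trans (by simp))
    rw [Iso.eq_inv_comp, ← Category.assoc, ← singleObjHomologySelfIso_hom_naturality, Category.assoc,
      Iso.hom_inv_id, Category.comp_id]
  subst hr
  have key : Pm (G.r g₁) m ≫ x = Q.map (cycleHom (z ≫ cyclesMap g m)) ≫ e.hom := by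
    have : x = (inv (Q.map s) ≫ Q.map g) ≫ e.hom := by rw [← hfac, Category.assoc, Iso.inv_hom_id, Category.comp_id]
    rw [this, Pm, hr', ← cycleHom_comp, Functor.map_comp, Functor.map_comp]
    simp
  let z' : G.P V ⟶ K'.cycles m := z ≫ cyclesMap g m
  have hz' : z' ≫ K'.homologyπ m = 0 := by
    have h1 : ev (Pm (G.r g₁) m ≫ x) = 0 := by rw [ev_precomp, hx, comp_zero]
    rw [key, ev_comp, ev_Q_map] at h1
    rw [← homologyMap_cycleHom z']
    simp only [← Category.assoc] at h1
    have h2 := (cancel_mono ((homologyFunctor A m).map e.hom)).1 (h1.trans zero_comp.symm)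
    exact (cancel_mono ((homologyFunctorFactors A m).inv.app K')).1 (h2.trans zero_comp.symm)
  have hex : (ShortComplex.mk (K'.toCycles (m - 1) m) (K'.homologyπ m) (K'.toCycles_comp_homologyπ _ _)).Exact :=
    ShortComplex.exact_of_g_is_cokernel _ (K'.homologyIsCokernel (m - 1) m (by simp))
  have := hex.epi_kernelLift
  obtain ⟨T, hT, hl'⟩ := G.lift (kernel.lift (K'.homologyπ m) (K'.toCycles (m - 1) m) (K'.toCycles_comp_homologyπ _ _))
    (kernel.lift (K'.homologyπ m) z' hz')
  refine J.superset_covering (fun W g₂ hg₂ => ?_) hT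
  change Pm (G.r (g₂ ≫ g₁)) m ≫ x = 0
  obtain ⟨w, hw⟩ := hl' g₂ hg₂
  have hw' : w ≫ K'.d (m - 1) m = (G.r g₂ ≫ z') ≫ K'.iCycles m := by
    have h : (w ≫ kernel.lift (K'.homologyπ m) (K'.toCycles (m - 1) m) (K'.toCycles_comp_homologyπ _ _)) ≫
        kernel.ι (K'.homologyπ m) = (G.r g₂ ≫ kernel.lift (K'.homologyπ m) z' hz') ≫ kernel.ι (K'.homologyπ m) :=
      congrArg (· ≫ kernel.ι (K'.homologyπ m)) hw
    simp only [Category.assoc, kernel.lift_ι] at h
    rw [← toCycles_i K' (m - 1) m, ← Category.assoc, h]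
  rw [G.r_comp, Pm, Functor.map_comp, Functor.map_comp, Category.assoc, key, ← Category.assoc,
    ← Functor.map_comp]
  have hc : (HomologicalComplex.single A (ComplexShape.up ℤ) m).map (G.r g₂) ≫ cycleHom z' =
      cycleHom (G.r g₂ ≫ z') := by
    refine from_single_hom_ext ?_
    rw [comp_f, cycleHom_f, cycleHom_f, single_map_f_self]
    simp only [Category.assoc, Iso.inv_hom_id_assoc]
  rw [hc, Q_map_eq_of_homotopy A (cycleHomHomotopy _ w hw'), Functor.map_zero, zero_comp]

end LocGen

end Groth.Agent.Mod48
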