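import Groth.Agent.Mod48.Tensor
import Mathlib.CategoryTheory.Abelian.GrothendieckAxioms.Sheaf
import Mathlib.Algebra.Category.Grp.AB
import Mathlib.Algebra.Category.ModuleCat.Monoidal.Closed

/-!
Colimits of sheaves of modules: preservation by the forgetful functor and by tensoring, exactness.
-/

universe u v₁ v₂ v₃ u₁ u₂ u₃ w w'

open CategoryTheory CategoryTheory.Limits Opposite MonoidalCategory

namespace Groth.Agent.Mod48

lemma preservesColimitsOfShape_of_comp_reflective {A : Type u₁} [Category.{v₁} A] {B : Type u₂}
    [Category.{v₂} B] {E : Type u₃} [Category.{v₃} E] {L : A ⥤ B} {R : B ⥤ A} (adj : L ⊣ R)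
    [R.Full] [R.Faithful] (T : B ⥤ E) (K : Type w) [Category.{w'} K] [HasColimitsOfShape K A]
    [PreservesColimitsOfShape K (L ⋙ T)] : PreservesColimitsOfShape K T where
  preservesColimit {D} := by
    have : L.IsLeftAdjoint := adj.isLeftAdjoint
    have : PreservesColimitsOfSize.{w', w} L := adj.leftAdjoint_preservesColimits
    have e : (D ⋙ R) ⋙ L ≅ D :=
      Functor.associator _ _ _ ≪≫ Functor.isoWhiskerLeft D (asIso adj.counit) ≪≫ D.rightUnitor
    have : PreservesColimit ((D ⋙ R) ⋙ L) T :=
      preservesColimit_of_preserves_colimit_cocone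
        (isColimitOfPreserves L (colimit.isColimit (D ⋙ R)))
        (isColimitOfPreserves (L ⋙ T) (colimit.isColimit (D ⋙ R)))
    exact preservesColimit_of_iso_diagram T e

variable {C : Type u} [SmallCategory C] {J : GrothendieckTopology C} {O : Sheaf J CommRingCat.{u}}

lemma toSheaf_preservesColimitsOfShape (K : Type u) [Category.{u} K] :
    PreservesColimitsOfShape K (SheafOfModules.toSheaf.{u} (ModSite.ringSh O)) := by
  have : PreservesColimitsOfShape K
      (PresheafOfModules.sheafification.{u} (𝟙 (ModSite.ringSh O).obj) ⋙ SheafOfModules.toSheaf _) := by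
    have : PreservesColimitsOfSize.{u, u} (presheafToSheaf J AddCommGrpCat.{u}) :=
      (sheafificationAdjunction J AddCommGrpCat.{u}).leftAdjoint_preservesColimits
    exact preservesColimitsOfShape_of_natIso (PresheafOfModules.sheafificationCompToSheaf _).symm
  have : PreservesColimitsOfShape K (shf ⋙ SheafOfModules.toSheaf (ModSite.ringSh O)) := this
  exact preservesColimitsOfShape_of_comp_reflective (shfAdj (O := O)) (SheafOfModules.toSheaf _) K

lemma toSheaf_preservesColimits :
    PreservesColimitsOfSize.{u, u} (SheafOfModules.toSheaf.{u} (ModSite.ringSh O)) :=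
  ⟨toSheaf_preservesColimitsOfShape _⟩

lemma hasExactColimitsOfShape (K : Type u) [SmallCategory K]
    [HasExactColimitsOfShape K (Sheaf J AddCommGrpCat.{u})] :
    HasExactColimitsOfShape K (ModSite.Mod O) := by
  have := toSheaf_preservesColimitsOfShape (O := O) K
  have : PreservesFiniteLimits (SheafOfModules.toSheaf.{u} (ModSite.ringSh O)) := inferInstance
  exact HasExactColimitsOfShape.domain_of_functor K (SheafOfModules.toSheaf.{u} (ModSite.ringSh O))

instance hasExactColimitsOfShape_of_isFiltered (K : Type u) [SmallCategory K] [IsFiltered K] :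
    HasExactColimitsOfShape K (ModSite.Mod O) := hasExactColimitsOfShape K

instance hasExactColimitsOfShape_discrete (ι : Type u) :
    HasExactColimitsOfShape (Discrete ι) (ModSite.Mod O) := hasExactColimitsOfShape _

/-- Tensoring a presheaf is compatible with evaluation. -/
noncomputable def tensorRightEvalIso (Q : PreM O) (X : Cᵒᵖ) :
    tensorRight Q ⋙ PresheafOfModules.evaluation _ X ≅
      PresheafOfModules.evaluation _ X ⋙ tensorRight (C := ModuleCat.{u} ((O.obj ⋙ forget₂ CommRingCat.{u} RingCat.{u}).obj X)) (Q.obj X) :=
  Iso.refl _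

instance preservesColimitsOfShape_tensorRight (Q : PreM O) (K : Type u) [Category.{u} K] :
    PreservesColimitsOfShape K (tensorRight Q) where
  preservesColimit {D} := by
    refine ⟨fun {c} hc => ⟨PresheafOfModules.evaluationJointlyReflectsColimits _ _ fun X => ?_⟩⟩
    have : PreservesColimitsOfShape K
        (PresheafOfModules.evaluation (O.obj ⋙ forget₂ CommRingCat.{u} RingCat.{u}) X) :=
      PresheafOfModules.evaluation_preservesColimitsOfShape (J := K) (R := O.obj ⋙ forget₂ CommRingCat.{u} RingCat.{u}) (X := X)
    have : PreservesColimitsOfShape K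
        (tensorRight (C := ModuleCat.{u} ((O.obj ⋙ forget₂ CommRingCat.{u} RingCat.{u}).obj X)) (Q.obj X)) :=
      preservesColimitsOfShape_of_natIso (BraidedCategory.tensorLeftIsoTensorRight _)
    have : PreservesColimitsOfShape K
        (PresheafOfModules.evaluation _ X ⋙ tensorRight (C := ModuleCat.{u} ((O.obj ⋙ forget₂ CommRingCat.{u} RingCat.{u}).obj X)) (Q.obj X)) :=
      inferInstance
    have : PreservesColimitsOfShape K (tensorRight Q ⋙ PresheafOfModules.evaluation _ X) :=
      preservesColimitsOfShape_of_natIso (tensorRightEvalIso Q X).symm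
    exact isColimitOfPreserves (tensorRight Q ⋙ PresheafOfModules.evaluation _ X) hc

instance additive_tensorRight (Q : PreM O) : (tensorRight Q).Additive where
  map_add {M N f g} := by
    ext1 X
    exact MonoidalPreadditive.add_whiskerRight (C := ModuleCat.{u} ((O.obj ⋙ forget₂ CommRingCat.{u} RingCat.{u}).obj X)) (f.app X) (g.app X)

instance additive_tensorLeft (Q : PreM O) : (tensorLeft Q).Additive where
  map_add {M N f g} := by
    ext1 X
    exact MonoidalPreadditive.whiskerLeft_add (C := ModuleCat.{u} ((O.obj ⋙ forget₂ CommRingCat.{u} RingCat.{u}).obj X)) (f.app X) (g.app X)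

instance preservesColimitsOfShape_tR (G : ModSite.Mod O) (K : Type u) [Category.{u} K] :
    PreservesColimitsOfShape K (tR G) := by
  have : PreservesColimitsOfShape K (shf ⋙ tR G) :=
    preservesColimitsOfShape_of_natIso (tensShfLeft G)
  exact preservesColimitsOfShape_of_comp_reflective shfAdj (tR G) K

instance preservesColimitsOfShape_tL (G : ModSite.Mod O) (K : Type u) [Category.{u} K] :
    PreservesColimitsOfShape K (tL G) :=
  preservesColimitsOfShape_of_natIso (tensSymm G).symm

instance preservesFiniteColimits_tR (G : ModSite.Mod O) : PreservesFiniteColimits (tR G) :=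
  have : PreservesColimitsOfSize.{u, u} (tR G) := ⟨inferInstance⟩
  PreservesColimitsOfSize.preservesFiniteColimits _

instance preservesFiniteColimits_tL (G : ModSite.Mod O) : PreservesFiniteColimits (tL G) :=
  have : PreservesColimitsOfSize.{u, u} (tL G) := ⟨inferInstance⟩
  PreservesColimitsOfSize.preservesFiniteColimits _

end Groth.Agent.Mod48
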