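import Groth.Agent.Mod48.Devissage
import Groth.Prelude.Def_SiteCmp

/-!
Weak Serre conditions on cohomology and the equivalence of bounded below derived categories.
-/

universe w w' v v' u u'

open CategoryTheory CategoryTheory.Limits CategoryTheory.Pretriangulated DerivedCategory

namespace Groth.Agent.Mod48

variable {A : Type u} [Category.{v} A] [Abelian A] [HasDerivedCategory.{w} A]
  {B : Type u'} [Category.{v'} B] [Abelian B] [HasDerivedCategory.{w'} B]

omit [HasDerivedCategory A] in
lemma prop_of_exact_five (P : ObjectProperty A) [WSerre.IsWeakSerre P] {X₁ X₂ X₃ X₄ X₅ : A}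
    (d : X₁ ⟶ X₂) (f : X₂ ⟶ X₃) (g : X₃ ⟶ X₄) (e : X₄ ⟶ X₅) (w₁ : d ≫ f = 0) (w₂ : f ≫ g = 0) (w₃ : g ≫ e = 0)
    (h₁ : (ShortComplex.mk d f w₁).Exact) (h₂ : (ShortComplex.mk f g w₂).Exact)
    (h₃ : (ShortComplex.mk g e w₃).Exact) (p₁ : P X₁) (p₂ : P X₂) (p₄ : P X₄) (p₅ : P X₅) : P X₃ := by
  let a : cokernel d ⟶ X₃ := cokernel.desc d f w₁
  let b : X₃ ⟶ kernel e := kernel.lift e g w₃
  have hab : a ≫ b = 0 := by
    rw [← cancel_epi (cokernel.π d), ← cancel_mono (kernel.ι e)]
    simp [a, b, w₂]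
  have : Mono a := h₁.mono_cokernelDesc
  have : Epi b := h₃.epi_kernelLift
  have hS : (ShortComplex.mk a b hab).ShortExact :=
    { exact := by
        rw [ShortComplex.exact_iff_exact_up_to_refinements]
        intro Z x hx
        have hx' : x ≫ g = 0 := by
          have := congrArg (· ≫ kernel.ι e) hx
          simpa [b] using this
        obtain ⟨Z', π, hπ, y, hy⟩ := h₂.exact_up_to_refinements x hx'
        exact ⟨Z', π, hπ, y ≫ cokernel.π d, by rw [Category.assoc, cokernel.π_desc]; exact hy⟩ }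
  exact P.prop_X₂_of_shortExact hS (P.prop_cokernel d p₁ p₂) (P.prop_kernel e p₄ p₅)

lemma prop_homology_obj₂ (P : ObjectProperty A) [WSerre.IsWeakSerre P] (T : Triangle (DerivedCategory A))
    (hT : T ∈ distinguishedTriangles) (h₁ : ∀ i, P ((homologyFunctor A i).obj T.obj₁))
    (h₃ : ∀ i, P ((homologyFunctor A i).obj T.obj₃)) (i : ℤ) : P ((homologyFunctor A i).obj T.obj₂) :=
  prop_of_exact_five P _ _ _ _ _ _ _ (HomologySequence.exact₁ T hT (i - 1) i (by lia))
    (HomologySequence.exact₂ T hT i) (HomologySequence.exact₃ T hT i (i + 1) rfl) (h₃ _) (h₁ _) (h₃ _) (h₁ _)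

variable {L : A ⥤ B} [L.Additive] [PreservesFiniteLimits L] [PreservesFiniteColimits L]

lemma isIso_counit_of_isIso_unit {R : DerivedCategory B ⥤ DerivedCategory A} (adj : L.mapDerivedCategory ⊣ R)
    (Y : DerivedCategory A) (h : IsIso (adj.unit.app Y)) : IsIso (adj.counit.app (L.mapDerivedCategory.obj Y)) :=
  have : IsIso (L.mapDerivedCategory.map (adj.unit.app Y)) := inferInstance
  IsIso.of_isIso_fac_left (h := 𝟙 _) (hh := ⟨⟨𝟙 _, Category.id_comp _, Category.id_comp _⟩⟩)
    (adj.left_triangle_components Y)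

/-- The equivalence `D⁺_{A'} ≅ D⁺_A`. -/
lemma equivalence_cohInPlus {R : DerivedCategory B ⥤ DerivedCategory A} (adj : L.mapDerivedCategory ⊣ R)
    (P : ObjectProperty B) [WSerre.IsWeakSerre P] (P' : ObjectProperty A) [WSerre.IsWeakSerre P']
    (h2a : ∀ F' : A, P' F' → P (L.obj F'))
    (h2c : ∀ F : B, P F → ∃ F' : A, P' F' ∧ Nonempty (L.obj F' ≅ F))
    (h3 : ∀ F' : A, P' F' → IsIso (adj.unit.app ((singleFunctor A 0).obj F'))) :
    (∀ Y, WSerre.cohInPlus P' Y → WSerre.cohInPlus P (L.mapDerivedCategory.obj Y) ∧ IsIso (adj.unit.app Y)) ∧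
    (∀ X, WSerre.cohInPlus P X → WSerre.cohInPlus P' (R.obj X) ∧ IsIso (adj.counit.app X)) := by
  let := adj.rightAdjointCommShift ℤ
  have := adj.commShift_of_leftAdjoint ℤ
  have := adj.isTriangulated_rightAdjoint
  refine ⟨fun Y ⟨hc, n, hn⟩ => ⟨⟨fun i => ?_, n, isGE_mapDerivedCategory L Y n hn⟩, ?_⟩,
    fun X ⟨hc, n, hn⟩ => ⟨⟨fun i => ?_, n, isGE_rightAdjoint adj X n hn⟩, ?_⟩⟩
  · exact P.prop_of_iso (nonempty_homology_mapDerivedCategory L Y i).some.symm (h2a _ (hc i))
  · exact isIso_app_of_isGE adj.unit (fun _ _ h => h)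
      (fun Z m h => isGE_rightAdjoint adj _ m (isGE_mapDerivedCategory L Z m h)) Y n hn fun q => h3 _ (hc q)
  · let S : ObjectProperty (DerivedCategory B) := fun Z => ∀ j, P' ((homologyFunctor A j).obj (R.obj Z))
    have : S.IsClosedUnderIsomorphisms :=
      ⟨fun e hZ j => P'.prop_of_iso ((homologyFunctor A j).mapIso (R.mapIso e)) (hZ j)⟩
    have hzero : ∀ Z : A, IsZero Z → P' Z := fun Z hZ => by
      obtain ⟨Z₀, hZ₀, hP⟩ := P'.exists_prop_of_containsZero
      exact P'.prop_of_iso (hZ₀.iso hZ) hP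
    have hsingle : ∀ (F' : A) (q j : ℤ), P' F' → P' ((homologyFunctor A j).obj ((singleFunctor A q).obj F')) :=
      fun F' q j hF' => by
      by_cases h : j = q
      · subst h
        exact P'.prop_of_iso ((singleFunctorCompHomologyFunctorIso A j).app F').symm hF'
      · rcases lt_or_gt_of_ne h with h | h
        · exact hzero _ (DerivedCategory.isZero_of_isGE ((singleFunctor A q).obj F') q j h)
        · exact hzero _ (DerivedCategory.isZero_of_isLE ((singleFunctor A q).obj F') q j h)
    let m := max (i + 1) n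
    let X₁ := (TStructure.t.truncLT m).obj X
    have hs : S X₁ := by
      refine bounded_induction S (fun Z hZ j => hzero _ ((homologyFunctor A j).map_isZero (R.map_isZero hZ)))
        (fun T hT h₁ h₃ j => prop_homology_obj₂ P' _ (R.map_distinguished T hT) h₁ h₃ j)
        (m - n).toNat n X₁ inferInstance (TStructure.t.isLE_of_le X₁ (m - 1) _ (by omega)) fun q j => ?_
      by_cases hq : q < m
      · have := isIso_homology_truncLTι X m q hq
        obtain ⟨F', hF', ⟨e⟩⟩ := h2c _ (hc q)
        let e₁ : L.mapDerivedCategory.obj ((singleFunctor A q).obj F') ≅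
            (singleFunctor B q).obj ((homologyFunctor B q).obj X₁) :=
          (L.mapDerivedCategorySingleFunctor q).app F' ≪≫ (singleFunctor B q).mapIso (e ≪≫
            (asIso ((homologyFunctor B q).map ((TStructure.t.truncLTι m).app X))).symm)
        have := isIso_app_single adj.unit F' q (h3 F' hF')
        exact P'.prop_of_iso ((homologyFunctor A j).mapIso (asIso (adj.unit.app _) ≪≫ R.mapIso e₁))
          (hsingle F' q j hF')
      · exact hzero _ ((homologyFunctor A j).map_isZero (R.map_isZero ((singleFunctor B q).map_isZero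
          (DerivedCategory.isZero_of_isLE X₁ (m - 1) q (by omega)))))
    have hT := TStructure.t.triangleLTGE_distinguished m X
    have := isIso_homology_mor₁_of_isGE _ (R.map_distinguished _ hT) m i
      (isGE_rightAdjoint adj _ m (inferInstance : TStructure.t.IsGE ((TStructure.t.truncGE m).obj X) m)) (by omega)
    exact P'.prop_of_iso (@asIso _ _ _ _ _ this) (hs i)
  · refine isIso_app_of_isGE adj.counit
      (fun Z m h => isGE_mapDerivedCategory L _ m (isGE_rightAdjoint adj Z m h)) (fun _ _ h => h) X n hn fun q => ?_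
    obtain ⟨F', hF', ⟨e⟩⟩ := h2c _ (hc q)
    exact (NatTrans.isIso_app_iff_of_iso adj.counit
      ((L.mapDerivedCategorySingleFunctor 0).app F' ≪≫ (singleFunctor B 0).mapIso e)).1
      (isIso_counit_of_isIso_unit adj _ (h3 F' hF'))

end Groth.Agent.Mod48
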