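import Groth.Agent.Mod48.LocGen
import Groth.Agent.Mod48.Milnor
import Groth.Agent.Mod48.CohInPlus
import Mathlib.Data.Int.Interval

/-!
Cohomology of derived limits of systems with eventually constant cohomology objects.
-/

universe w v u v₀ u₀ t

open CategoryTheory CategoryTheory.Limits CategoryTheory.Pretriangulated DerivedCategory

namespace Groth.Agent.Mod48

namespace LocGen

variable {A : Type u} [Category.{v} A] [Abelian A] [HasDerivedCategory.{w} A]

/-- Morphisms from `X` in degree `m` to objects with property `P` in degree `q` vanish when `q + d < m`. -/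
def VanishAbove (X : A) (P : ObjectProperty A) (d : ℕ) : Prop :=
  ∀ (F : A), P F → ∀ m q : ℤ, q + d < m → ∀ f : Pd X m ⟶ (singleFunctor A q).obj F, f = 0

instance isLE_Pd (X : A) (m : ℤ) : TStructure.t.IsLE (Pd X m) m :=
  inferInstanceAs (TStructure.t.IsLE ((singleFunctor A m).obj X) m)

variable {P : ObjectProperty A} [WSerre.IsWeakSerre P]

lemma isZero_homology_shift (W : DerivedCategory A) (k q q' : ℤ) (hq : k + q = q')
    (h : IsZero ((homologyFunctor A q').obj W)) : IsZero ((homologyFunctor A q).obj (W⟦k⟧)) :=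
  h.of_iso (((homologyFunctor A 0).shiftIso k q q' hq).app W)

lemma hom_eq_zero {X : A} {d : ℕ} (hv : VanishAbove X P d) (Z : DerivedCategory A)
    (hZ : WSerre.cohInPlus P Z) (m : ℤ) (h0 : ∀ q, m - d ≤ q → q ≤ m → IsZero ((homologyFunctor A q).obj Z))
    (f : Pd X m ⟶ Z) : f = 0 := by
  obtain ⟨hc, a, ha⟩ := hZ
  have hT := TStructure.t.triangleLTGE_distinguished (m + 1) Z
  have h3 : f ≫ (TStructure.t.truncGEπ (m + 1)).app Z = 0 :=
    TStructure.t.zero_of_isLE_of_isGE _ m (m + 1) (by lia) inferInstance inferInstance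
  obtain ⟨f', hf'⟩ := Triangle.coyoneda_exact₂ _ hT f h3
  let R : ObjectProperty (DerivedCategory A) := fun Z => ∀ g : Pd X m ⟶ Z, g = 0
  have : R.IsClosedUnderIsomorphisms := ⟨fun e h g => by
    rw [← cancel_mono e.inv, zero_comp]
    exact h _⟩
  suffices hR : R ((TStructure.t.truncLT (m + 1)).obj Z) by
    rw [hf', hR f']
    exact zero_comp
  refine bounded_induction R (fun Z hZ g => hZ.eq_of_tgt _ _) (fun T hT h₁ h₃ g => ?_) (m + 1 - a).toNat a _
    inferInstance (TStructure.t.isLE_of_le _ m _ (by omega)) fun q g => ?_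
  · obtain ⟨g', hg'⟩ := Triangle.coyoneda_exact₂ _ hT g (h₃ _)
    rw [hg', h₁ g', zero_comp]
  · by_cases hq : q ≤ m
    · have := isIso_homology_truncLTι Z (m + 1) q (by lia)
      let e := asIso ((homologyFunctor A q).map ((TStructure.t.truncLTι (m + 1)).app Z))
      by_cases hq' : m - d ≤ q
      · exact ((singleFunctor A q).map_isZero ((h0 q hq' hq).of_iso e)).eq_of_tgt _ _
      · exact hv _ (P.prop_of_iso e.symm (hc q)) m q (by omega) g
    · exact ((singleFunctor A q).map_isZero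
        (DerivedCategory.isZero_of_isLE ((TStructure.t.truncLT (m + 1)).obj Z) m q (by omega))).eq_of_tgt _ _

lemma cohInPlus_obj₂ (T : Triangle (DerivedCategory A)) (hT : T ∈ distinguishedTriangles)
    (h₁ : WSerre.cohInPlus P T.obj₁) (h₃ : WSerre.cohInPlus P T.obj₃) : WSerre.cohInPlus P T.obj₂ :=
  ⟨prop_homology_obj₂ P T hT h₁.1 h₃.1, ObjectProperty.ext_of_isTriangulatedClosed₂ _ T hT h₁.2 h₃.2⟩

lemma cohInPlus_shift (W : DerivedCategory A) (k : ℤ) (h : WSerre.cohInPlus P W) :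
    WSerre.cohInPlus P (W⟦k⟧) :=
  ⟨fun q => P.prop_of_iso (((homologyFunctor A 0).shiftIso k q (k + q) rfl).app W).symm (h.1 _),
    (TStructure.t (C := A)).plus.le_shift k _ h.2⟩

lemma postcomp_bijective {X : A} {d : ℕ} (hv : VanishAbove X P d) {Z Y : DerivedCategory A} (f : Z ⟶ Y)
    (hZ : WSerre.cohInPlus P Z) (hY : WSerre.cohInPlus P Y) (m : ℤ)
    (hiso : ∀ q, m - d - 1 ≤ q → q ≤ m + 1 → IsIso ((homologyFunctor A q).map f)) :
    Function.Bijective fun g : Pd X m ⟶ Z => g ≫ f := by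
  obtain ⟨W, p, c, hT⟩ := distinguished_cocone_triangle f
  have hW : WSerre.cohInPlus P W :=
    cohInPlus_obj₂ _ (rot_of_distTriang _ hT) hY (cohInPlus_shift Z 1 hZ)
  have hzero : ∀ q, m - d - 1 ≤ q → q ≤ m → IsZero ((homologyFunctor A q).obj W) := by
    intro q h₁ h₂
    have := hiso q h₁ (by omega)
    have := hiso (q + 1) (by omega) (by omega)
    have hp : (homologyFunctor A q).map p = 0 := by
      have hcomp : (homologyFunctor A q).map f ≫ (homologyFunctor A q).map p = 0 := by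
        rw [← Functor.map_comp]
        exact (congrArg _ (comp_distTriang_mor_zero₁₂ _ hT)).trans (Functor.map_zero _ _ _)
      rwa [← cancel_epi ((homologyFunctor A q).map f), comp_zero]
    have hδ : HomologySequence.δ (Triangle.mk f p c) q (q + 1) rfl = 0 := by
      exact Mono.right_cancellation (f := (homologyFunctor A (q + 1)).map f) _ _
        ((HomologySequence.δ_comp _ hT q (q + 1) rfl).trans zero_comp.symm)
    exact ShortComplex.Exact.isZero_X₂ (HomologySequence.exact₃ _ hT q (q + 1) rfl) hp hδ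
  constructor
  · intro g g' hgg'
    rw [← sub_eq_zero]
    obtain ⟨k, hk⟩ := Triangle.coyoneda_exact₂ _ (inv_rot_of_distTriang _ hT) (g - g') (by
      change (g - g') ≫ f = 0
      rw [Preadditive.sub_comp, sub_eq_zero]
      exact hgg')
    have : k = 0 := hom_eq_zero hv _ (cohInPlus_shift W (-1) hW) m
      (fun q h₁ h₂ => isZero_homology_shift W (-1) q (q - 1) (by omega) (hzero _ (by omega) (by omega))) k
    rw [hk, this]
    exact zero_comp
  · intro y
    obtain ⟨g, hg⟩ := Triangle.coyoneda_exact₂ _ hT y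
      (hom_eq_zero hv W hW m (fun q h₁ h₂ => hzero q (by omega) h₂) (y ≫ p))
    exact ⟨g, hg.symm⟩

variable {C : Type u₀} [Category.{v₀} C] {J : GrothendieckTopology C}

/-- A derived limit of an inverse system in `D⁺` with cohomology in `P` and eventually constant cohomology
objects has the eventual cohomology objects. -/
theorem isIso_homology_rlim (G : LocGen J A) (B : Set C)
    (hB : ∀ U : C, ∃ (ι : Type t) (Y : ι → C) (g : ∀ i, Y i ⟶ U), Sieve.ofArrows Y g ∈ J U ∧ ∀ i, Y i ∈ B)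
    (hA : ∀ V ∈ B, ∃ d : ℕ, ∀ T ∈ J V, ∃ (ι : Type t) (Y : ι → C) (g : ∀ i, Y i ⟶ V),
      (∀ i, T.arrows (g i)) ∧ Sieve.ofArrows Y g ∈ J V ∧ ∀ i, VanishAbove (G.P (Y i)) P d)
    (K : ℕ → DerivedCategory A) (tr : ∀ n, K (n + 1) ⟶ K n) [HasProduct K]
    (hK : ∀ n, WSerre.cohInPlus P (K n))
    (hconst : ∀ j : ℤ, ∃ n₀ : ℕ, ∀ n, n₀ ≤ n → IsIso ((homologyFunctor A j).map (tr n)))
    (L : DerivedCategory A) (a : ∀ n, L ⟶ K n) (hL : CohCx.IsRlimVia K tr L a) (j : ℤ) :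
    ∃ n₀ : ℕ, ∀ n, n₀ ≤ n → IsIso ((homologyFunctor A j).map (a n)) := by
  choose n₁ hn₁ using hconst
  have hcomp := rlim_compatible hL
  have hkey : ∀ V ∈ B, ∃ N, n₁ j ≤ N ∧ ∀ T ∈ J V, ∃ (ι : Type t) (Y : ι → C) (g : ∀ i, Y i ⟶ V),
      (∀ i, T.arrows (g i)) ∧ Sieve.ofArrows Y g ∈ J V ∧
        ∀ i, Function.Bijective fun f : Pd (G.P (Y i)) j ⟶ L => f ≫ a N := by
    intro V hV
    obtain ⟨d, hd⟩ := hA V hV
    let N := n₁ j + (Finset.Icc (j - d - 2) (j + 1)).sup n₁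
    refine ⟨N, Nat.le_add_right _ _, fun T hT => ?_⟩
    obtain ⟨ι, Y, g, h₁, h₂, h₃⟩ := hd T hT
    refine ⟨ι, Y, g, h₁, h₂, fun i => ?_⟩
    have hiso : ∀ n, N ≤ n → ∀ q, j - d - 2 ≤ q → q ≤ j + 1 → IsIso ((homologyFunctor A q).map (tr n)) :=
      fun n hn q hq₁ hq₂ => hn₁ q n (le_trans ((Finset.le_sup (Finset.mem_Icc.2 ⟨hq₁, hq₂⟩)).trans
        (Nat.le_add_left _ _)) hn)
    refine rlim_postcomp_bijective hL _ N (fun n hn => postcomp_bijective (h₃ i) (tr n) (hK _) (hK _) j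
      fun q hq₁ hq₂ => hiso n hn q (by omega) hq₂) (fun n hn y => ?_) N le_rfl
    let e : (Pd (G.P (Y i)) j)⟦(1 : ℤ)⟧ ≅ Pd (G.P (Y i)) (j - 1) :=
      ((SingleFunctors.shiftIso (singleFunctors A) 1 (j - 1) j (by omega)).app (G.P (Y i)))
    obtain ⟨g', hg'⟩ := (postcomp_bijective (h₃ i) (tr n) (hK _) (hK _) (j - 1)
      fun q hq₁ hq₂ => hiso n hn q (by omega) (by omega)).2 (e.inv ≫ y)
    refine ⟨e.hom ≫ g', ?_⟩
    change (e.hom ≫ g') ≫ tr n = y
    rw [Category.assoc, ← cancel_epi e.inv, Iso.inv_hom_id_assoc]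
    exact hg'
  have hstep : ∀ {n n'}, n₁ j ≤ n → n ≤ n' → ∃ e : (homologyFunctor A j).obj (K n') ≅ (homologyFunctor A j).obj (K n),
      (homologyFunctor A j).map (a n') ≫ e.hom = (homologyFunctor A j).map (a n) := by
    intro n n' hn hnn'
    induction n', hnn' using Nat.le_induction with
    | base => exact ⟨Iso.refl _, Category.comp_id _⟩
    | succ k hk ih =>
      obtain ⟨e, he⟩ := ih
      have := hn₁ j k (hn.trans hk)
      exact ⟨asIso ((homologyFunctor A j).map (tr k)) ≪≫ e, by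
        rw [Iso.trans_hom, asIso_hom, ← Category.assoc, ← Functor.map_comp, hcomp, he]⟩
  refine ⟨n₁ j, fun n hn => ?_⟩
  suffices h0 : IsIso ((homologyFunctor A j).map (a (n₁ j))) by
    obtain ⟨e, he⟩ := hstep le_rfl hn
    exact IsIso.of_isIso_fac_right he
  have hmono : Mono ((homologyFunctor A j).map (a (n₁ j))) := by
    refine G.mono_of_sep _ fun U s hs => ?_
    obtain ⟨S₁, hS₁, hx₁⟩ := G.ev_locally_surjective s
    refine G.sep s S₁ hS₁ fun V' g₁ hg₁ => ?_
    obtain ⟨x, hx⟩ := hx₁ g₁ hg₁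
    obtain ⟨ι₂, Y₂, g₂, hcov₂, hmem⟩ := hB V'
    refine G.sep_ofArrows _ Y₂ g₂ hcov₂ fun k => ?_
    obtain ⟨N, hN, hT⟩ := hkey _ (hmem k)
    obtain ⟨e, he⟩ := hstep le_rfl hN
    have hev : ev ((Pm (G.r (g₂ k)) j ≫ x) ≫ a N) = 0 := by
      rw [ev_comp, ev_precomp, hx, ← cancel_mono e.hom, zero_comp]
      simp only [Category.assoc]
      rw [he, hs, comp_zero, comp_zero]
    obtain ⟨S₃, hS₃, hz₃⟩ := G.ev_locally_injective _ hev
    obtain ⟨ι₄, Y₄, g₄, h₄, hcov₄, hbij⟩ := hT S₃ hS₃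
    refine G.sep_ofArrows _ Y₄ g₄ hcov₄ fun i => ?_
    have hzero : Pm (G.r (g₄ i)) j ≫ Pm (G.r (g₂ k)) j ≫ x = 0 := by
      refine (hbij i).1 ?_
      change (Pm (G.r (g₄ i)) j ≫ Pm (G.r (g₂ k)) j ≫ x) ≫ a N = 0 ≫ a N
      rw [zero_comp, ← hz₃ (g₄ i) (h₄ i)]
      simp only [Category.assoc]
    have h := congrArg ev hzero
    rw [ev_precomp, ev_precomp, hx] at h
    exact h.trans (by rw [ev, Functor.map_zero, comp_zero])
  have hepi : Epi ((homologyFunctor A j).map (a (n₁ j))) := by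
    refine G.epi_of_sep _ fun U s Q q hq => ?_
    obtain ⟨ι₂, Y₂, g₂, hcov₂, hmem⟩ := hB U
    refine G.sep_ofArrows _ Y₂ g₂ hcov₂ fun k => ?_
    obtain ⟨N, hN, hT⟩ := hkey _ (hmem k)
    obtain ⟨e, he⟩ := hstep le_rfl hN
    obtain ⟨S₁, hS₁, hx₁⟩ := G.ev_locally_surjective (G.r (g₂ k) ≫ s ≫ e.inv)
    obtain ⟨ι₄, Y₄, g₄, h₄, hcov₄, hbij⟩ := hT S₁ hS₁
    refine G.sep_ofArrows _ Y₄ g₄ hcov₄ fun i => ?_
    obtain ⟨x, hx⟩ := hx₁ (g₄ i) (h₄ i)
    obtain ⟨y, hy⟩ := (hbij i).2 x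
    change y ≫ a N = x at hy
    have h : G.r (g₄ i) ≫ G.r (g₂ k) ≫ s = ev y ≫ (homologyFunctor A j).map (a (n₁ j)) := by
      rw [← he, ← Category.assoc (ev y), ← ev_comp, hy, hx]
      simp only [Category.assoc, Iso.inv_hom_id, Category.comp_id]
    calc G.r (g₄ i) ≫ G.r (g₂ k) ≫ s ≫ q = (G.r (g₄ i) ≫ G.r (g₂ k) ≫ s) ≫ q := by
          simp only [Category.assoc]
      _ = 0 := by rw [h, Category.assoc, hq, comp_zero]
  exact isIso_of_mono_of_epi _

end LocGen

end Groth.Agent.Mod48
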