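import Groth.Agent.Mod48.FreeOn
import Groth.Agent.Mod48.Exact
import Groth.Agent.Mod48.RlimConst
import Groth.Agent.SiteMod.Injective
import Groth.Agent.SiteCoh.ExtCompare
import Groth.Agent.Coh69.Grothendieck

/-!
The free modules `j_! O_U` as a locally projective family, and the comparison of the cohomology of the
underlying abelian sheaf with morphisms out of `j_! O_U` in the derived category of modules.
-/

universe u

open CategoryTheory CategoryTheory.Limits Opposite CategoryTheory.Abelian

namespace Groth.Agent.Mod48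

variable {C : Type u} [SmallCategory C] {J : GrothendieckTopology C} (O : Sheaf J CommRingCat.{u})

/-- Restriction `j_! O_V ⟶ j_! O_U`. -/
noncomputable def freeOnMap {V U : C} (g : V ⟶ U) : ModSite.freeOn O V ⟶ ModSite.freeOn O U :=
  (freeOnEquiv V _).symm (res _ g.op (freeOnEquiv U (ModSite.freeOn O U) (𝟙 _)))

variable {O}

lemma freeOnEquiv_eq {U : C} {X : ModSite.Mod O} (a : ModSite.freeOn O U ⟶ X) :
    freeOnEquiv U X a = (fgt.map a).app (op U) (freeOnEquiv U _ (𝟙 _)) := by
  rw [← freeOnEquiv_comp, Category.id_comp]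

lemma freeOnEquiv_map_comp {V U : C} (g : V ⟶ U) {X : ModSite.Mod O} (a : ModSite.freeOn O U ⟶ X) :
    freeOnEquiv V X (freeOnMap O g ≫ a) = res (pre X) g.op (freeOnEquiv U X a) := by
  rw [freeOnEquiv_comp, freeOnMap, Equiv.apply_symm_apply, app_res, ← freeOnEquiv_eq a]

lemma freeOnEquiv_zero (U : C) (X : ModSite.Mod O) : freeOnEquiv U X 0 = 0 := by
  have h := freeOnEquiv_comp U (0 : ModSite.freeOn O U ⟶ X) (0 : X ⟶ X)
  rw [comp_zero] at h
  exact h.trans (by rfl)

lemma res_zero' (M : PreM O) {X Y : Cᵒᵖ} (g : X ⟶ Y) : res M g (0 : M.obj X) = 0 := map_zero _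

/-- The family of the `j_! O_U`. -/
noncomputable def modGen (O : Sheaf J CommRingCat.{u}) : LocGen J (ModSite.Mod O) where
  P U := ModSite.freeOn O U
  r := freeOnMap O
  r_comp {W V U} g h := by
    apply (freeOnEquiv W _).injective
    rw [freeOnEquiv_map_comp, freeOnMap, Equiv.apply_symm_apply, freeOnMap, Equiv.apply_symm_apply, res_res]
    rfl
  sep {U X} a S hS h := by
    apply (freeOnEquiv U X).injective
    rw [freeOnEquiv_zero]
    refine Presheaf.IsSheaf.isSeparated ((SheafOfModules.toSheaf (ModSite.ringSh O)).obj X).property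
      U S hS _ _ fun V g hg => ?_
    have := (freeOnEquiv_map_comp g a).symm.trans ((congrArg (freeOnEquiv V X) (h g hg)).trans (freeOnEquiv_zero V X))
    exact this.trans (res_zero' _ _).symm
  lift {U X Y} p _ a := by
    have := toSheaf_preservesColimits (O := O)
    have : Epi ((SheafOfModules.toSheaf (ModSite.ringSh O)).map p) := inferInstance
    obtain ⟨S, hS⟩ := SiteCoh.exists_local_lift ((SheafOfModules.toSheaf (ModSite.ringSh O)).map p)
      (freeOnEquiv U Y a)
    refine ⟨S.1, S.2, fun V g hg => ?_⟩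
    obtain ⟨t, ht⟩ := hS ⟨V, g, hg⟩
    refine ⟨(freeOnEquiv V X).symm t, (freeOnEquiv V Y).injective ?_⟩
    rw [freeOnEquiv_comp, Equiv.apply_symm_apply, freeOnEquiv_map_comp]
    exact ht
  detect {X} h := by
    rw [IsZero.iff_id_eq_zero]
    apply SheafOfModules.hom_ext
    refine PresheafOfModules.hom_ext fun U => ?_
    ext x
    obtain ⟨U⟩ := U
    have hx : x = 0 := by
      obtain ⟨a, rfl⟩ := (freeOnEquiv U X).surjective x
      rw [h U a, freeOnEquiv_zero]
      rfl
    subst hx
    simp

/-- The unit section of `j_! O_U` as a map out of the free abelian sheaf. -/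
noncomputable def freeSecMap (O : Sheaf J CommRingCat.{u}) (U : C) :
    CohCx.freeSheaf J U ⟶ (SheafOfModules.toSheaf (ModSite.ringSh O)).obj (ModSite.freeOn O U) :=
  (SiteCoh.homAddEquivSec U _).symm (freeOnEquiv U _ (𝟙 _))

lemma freeSecMap_bijective (U : C) (F : ModSite.Mod O) :
    Function.Bijective fun φ : ModSite.freeOn O U ⟶ F =>
      freeSecMap O U ≫ (SheafOfModules.toSheaf (ModSite.ringSh O)).map φ := by
  have h : (fun φ : ModSite.freeOn O U ⟶ F =>
      freeSecMap O U ≫ (SheafOfModules.toSheaf (ModSite.ringSh O)).map φ) =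
      (SiteCoh.homAddEquivSec U _).symm ∘ (freeOnEquiv U F) := by
    funext φ
    apply (SiteCoh.homAddEquivSec U _).injective
    rw [Function.comp_apply, AddEquiv.apply_symm_apply, SiteCoh.homAddEquivSec_comp, freeSecMap,
      AddEquiv.apply_symm_apply, freeOnEquiv_eq φ]
    rfl
  rw [h]
  exact (SiteCoh.homAddEquivSec U _).symm.bijective.comp (freeOnEquiv U F).bijective

instance : HasExt.{u} (ModSite.Mod O) :=
  have : IsGrothendieckAbelian.{u} (ModSite.Mod O) := Coh69.sheafOfModules_isGrothendieckAbelian (ModSite.ringSh O)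
  hasExt_of_enoughInjectives _

/-- `H^n(U, F)` is `Ext^n` out of `j_! O_U` in the category of modules. -/
noncomputable def huExtEquiv (U : C) (F : ModSite.Mod O) (n : ℕ) :
    Ext.{u} (ModSite.freeOn O U) F n ≃+ ModSite.HU O F n U :=
  have : IsGrothendieckAbelian.{u} (ModSite.Mod O) := Coh69.sheafOfModules_isGrothendieckAbelian (ModSite.ringSh O)
  have := toSheaf_preservesColimits (O := O)
  have : PreservesFiniteColimits (SheafOfModules.toSheaf.{u} (ModSite.ringSh O)) :=
    PreservesColimitsOfSize.preservesFiniteColimits _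
  AddEquiv.ofBijective (SiteCoh.extTransfer (SheafOfModules.toSheaf (ModSite.ringSh O)) (freeSecMap O U) F n)
    (SiteCoh.extTransfer_bijective _ _ (freeSecMap_bijective U)
      (fun I _ k => SiteCoh.hu_subsingleton_of_isTotallyAcyclic
        (SiteMod.isTotallyAcyclic_toSheaf_injective (ModSite.ringSh O) I) U k) n F)

variable [HasDerivedCategory.{u + 1} (ModSite.Mod O)]

open DerivedCategory in
lemma vanishAbove_of_hu {U : C} {P : ObjectProperty (ModSite.Mod O)} {d : ℕ}
    (h : ∀ F, P F → ∀ k : ℕ, d < k → Subsingleton (ModSite.HU O F k U)) :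
    LocGen.VanishAbove ((modGen O).P U) P d := by
  intro F hF m q hmq f
  let X : ModSite.Mod O := ModSite.freeOn O U
  change ((singleFunctor _ m).obj X ⟶ (singleFunctor _ q).obj F) at f
  obtain ⟨k, hk⟩ := Int.eq_ofNat_of_zero_le (show 0 ≤ m - q by omega)
  have hsub := h F hF k (by omega)
  have : Subsingleton (Ext.{u} X F k) := (huExtEquiv U F k).toEquiv.subsingleton
  have : Subsingleton ((singleFunctor _ 0).obj X ⟶ ((singleFunctor _ 0).obj F)⟦(k : ℤ)⟧) :=
    (Ext.homEquiv (X := X) (Y := F) (n := k)).symm.subsingleton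
  let s := singleFunctors (ModSite.Mod O)
  have eX : ((singleFunctor _ m).obj X)⟦m⟧ ≅ (singleFunctor _ 0).obj X := (s.shiftIso m 0 m (add_zero m)).app X
  have eF : ((singleFunctor _ q).obj F)⟦m⟧ ≅ ((singleFunctor _ 0).obj F)⟦(k : ℤ)⟧ :=
    (s.shiftIso m (-(k : ℤ)) q (by omega)).app F ≪≫ ((s.shiftIso (k : ℤ) (-(k : ℤ)) 0 (by omega)).app F).symm
  apply (shiftFunctor _ m).map_injective
  rw [← cancel_mono eF.hom, ← cancel_epi eX.inv]
  exact Subsingleton.elim _ _

end Groth.Agent.Mod48
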