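import Groth.Agent.Mod48.Exact
import Mathlib.CategoryTheory.Abelian.Refinements
import Mathlib.Algebra.Homology.ShortComplex.ExactFunctor
import Mathlib.RingTheory.Flat.Basic

/-!
Flat sheaves of modules on a ringed site.
-/

universe u

open CategoryTheory CategoryTheory.Limits Opposite MonoidalCategory

namespace Groth.Agent.Mod48

variable {C : Type u} [SmallCategory C] {J : GrothendieckTopology C} {O : Sheaf J CommRingCat.{u}}

instance (G : ModSite.Mod O) : (tR G).Additive := inferInstance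
instance (G : ModSite.Mod O) : (tL G).Additive := inferInstance

lemma preservesFiniteLimits_tR_iff (F : ModSite.Mod O) :
    PreservesFiniteLimits (tR F) ↔ ∀ ⦃A B : ModSite.Mod O⦄ (k : A ⟶ B) [Mono k], Mono ((tR F).map k) := by
  constructor
  · intro h A B k _
    infer_instance
  · intro h
    have : (tR F).PreservesMonomorphisms := ⟨fun k _ => h k⟩
    have := Functor.preservesHomology_of_preservesMonos_and_cokernels (tR F)
    exact Functor.preservesFiniteLimits_of_preservesHomology (tR F)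

lemma isFlat_iff_preservesFiniteLimits (F : ModSite.Mod O) :
    ModSite.IsFlat F ↔ PreservesFiniteLimits (tR F) :=
  ⟨fun h => @preservesFiniteLimits_of_natIso _ _ _ _ _ _ (tRIso F) h.1,
    fun h => ⟨@preservesFiniteLimits_of_natIso _ _ _ _ _ _ (tRIso F).symm h,
      @preservesFiniteColimits_of_natIso _ _ _ _ _ _ (tRIso F).symm inferInstance⟩⟩

lemma isFlat_iff_mono (F : ModSite.Mod O) :
    ModSite.IsFlat F ↔ ∀ ⦃A B : ModSite.Mod O⦄ (k : A ⟶ B) [Mono k], Mono ((tR F).map k) :=
  (isFlat_iff_preservesFiniteLimits F).trans (preservesFiniteLimits_tR_iff F)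

lemma isFlat_of_iso {F F' : ModSite.Mod O} (e : F ≅ F') (h : ModSite.IsFlat F) : ModSite.IsFlat F' :=
  have := h.1
  have := h.2
  ⟨preservesFiniteLimits_of_natIso ((ModSite.tensorBi O).flip.mapIso e),
    preservesFiniteColimits_of_natIso ((ModSite.tensorBi O).flip.mapIso e)⟩

/-- Functoriality of `F ↦ tR F`. -/
noncomputable def tRMap {G G' : ModSite.Mod O} (g : G ⟶ G') : tR G ⟶ tR G' where
  app F := (tL F).map g
  naturality F F' f := by
    change shf.map (fgt.map f ▷ pre G) ≫ shf.map (pre F' ◁ fgt.map g) =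
      shf.map (pre F ◁ fgt.map g) ≫ shf.map (fgt.map f ▷ pre G')
    rw [← Functor.map_comp, ← Functor.map_comp, whisker_exchange]

lemma mono_tL_map_of_isFlat {F : ModSite.Mod O} (hF : ModSite.IsFlat F) {A B : ModSite.Mod O}
    (k : A ⟶ B) [Mono k] : Mono ((tL F).map k) := by
  have := (isFlat_iff_mono F).1 hF k
  rw [← NatIso.naturality_2 (tensSymm F) k]
  infer_instance

/-- `- ⊗ sheafify Q` is the sheafified sectionwise tensor product with `Q`. -/
noncomputable def tRShfIso (Q : PreM O) : fgt ⋙ tensorRight Q ⋙ shf ≅ tR (shf.obj Q) :=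
  NatIso.ofComponents (fun F => (tensShfRight F).app Q) (fun {F F'} f => by
    change shf.map (fgt.map f ▷ Q) ≫ shf.map (pre F' ◁ shfU Q) =
      shf.map (pre F ◁ shfU Q) ≫ shf.map (fgt.map f ▷ pre (shf.obj Q))
    rw [← Functor.map_comp, ← Functor.map_comp, whisker_exchange])

lemma mono_whiskerRight_of_flat_sections (Q : PreM O)
    (hQ : ∀ X, Module.Flat (O.obj.obj X) (Q.obj X)) {M N : PreM O} (k : M ⟶ N) [Mono k] :
    Mono (k ▷ Q) := by
  refine PresheafOfModules.mono_of_injective fun X => ?_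
  have : Module.Flat ((O.obj ⋙ forget₂ CommRingCat.{u} RingCat.{u}).obj X) (Q.obj X) := hQ X
  exact Module.Flat.rTensor_preserves_injective_linearMap (M := Q.obj X)
    (k.app X).hom (PresheafOfModules.injective_of_mono k X)

lemma isFlat_shf (Q : PreM O) (hQ : ∀ X, Module.Flat (O.obj.obj X) (Q.obj X)) :
    ModSite.IsFlat (shf.obj Q) := by
  rw [isFlat_iff_mono]
  intro A B k _
  have := mono_whiskerRight_of_flat_sections Q hQ (fgt.map k)
  have : Mono ((fgt ⋙ tensorRight Q ⋙ shf).map k) :=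
    inferInstanceAs (Mono (shf.map (fgt.map k ▷ Q)))
  rw [← NatIso.naturality_1 (tRShfIso Q) k]
  infer_instance

lemma free_sections_flat (T : Cᵒᵖ ⥤ Type u) (X : Cᵒᵖ) :
    Module.Flat (O.obj.obj X)
      (((PresheafOfModules.free (O.obj ⋙ forget₂ CommRingCat.{u} RingCat.{u})).obj T).obj X) :=
  inferInstanceAs (Module.Flat (O.obj.obj X) (T.obj X →₀ O.obj.obj X))

/-- Every sheaf of modules is a quotient of a flat one. -/
lemma exists_flat_epi (F : ModSite.Mod O) : ∃ (G : ModSite.Mod O) (π : G ⟶ F), ModSite.IsFlat G ∧ Epi π := by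
  let T : Cᵒᵖ ⥤ Type u := (pre F).presheaf ⋙ forget AddCommGrpCat
  let q : (PresheafOfModules.free _).obj T ⟶ pre F := PresheafOfModules.freeHomEquiv.symm (𝟙 _)
  have : Epi q := PresheafOfModules.epi_of_surjective fun X (m : (pre F).obj X) => ⟨ModuleCat.freeMk m, by
    change (q.app X).hom (ModuleCat.freeMk m) = m
    simp [q, PresheafOfModules.freeHomEquiv, PresheafOfModules.freeObjDesc]
    exact ModuleCat.freeDesc_apply (𝟙 (T.obj X)) m⟩
  have h1 : Epi (shf.map q) := inferInstance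
  exact ⟨shf.obj ((PresheafOfModules.free _).obj T), shf.map q ≫ (shfCounitIso.app F).hom,
    isFlat_shf _ (free_sections_flat T), epi_comp _ _⟩

/-- Tensoring a short exact sequence with flat cokernel preserves the monomorphism. -/
lemma mono_tR_map_of_flat_coker (S : ShortComplex (ModSite.Mod O)) (hS : S.ShortExact)
    (h3 : ModSite.IsFlat S.X₃) (G : ModSite.Mod O) : Mono ((tR G).map S.f) := by
  obtain ⟨P, π, hP, hπ⟩ := exists_flat_epi G
  let ι := kernel.ι π
  have hT : (ShortComplex.mk ι π (kernel.condition π)).Exact :=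
    ShortComplex.exact_of_f_is_kernel _ (kernelIsKernel π)
  have := hS.mono_f
  have := hS.epi_g
  have hm : Mono ((tR P).map S.f) := (isFlat_iff_mono P).1 hP S.f
  have hι : Mono ((tL S.X₃).map ι) := mono_tL_map_of_isFlat h3 ι
  have hcol : ((ShortComplex.mk ι π (kernel.condition π)).map (tL S.X₂)).Exact :=
    ShortComplex.Exact.map_of_epi_of_preservesCokernel hT (tL S.X₂) hπ inferInstance
  have hrow : (S.map (tR (kernel π))).Exact :=
    ShortComplex.Exact.map_of_epi_of_preservesCokernel hS.exact (tR (kernel π)) hS.epi_g inferInstance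
  refine Preadditive.mono_of_cancel_zero _ fun {A} x hx => ?_
  obtain ⟨A₁, e₁, he₁, y, hy⟩ := surjective_up_to_refinements_of_epi ((tL S.X₁).map π) x
  obtain ⟨A₂, e₂, he₂, z, hz⟩ : ∃ (A₂ : ModSite.Mod O) (e₂ : A₂ ⟶ A₁) (_ : Epi e₂)
      (z : A₂ ⟶ (tR (kernel π)).obj S.X₂), e₂ ≫ y ≫ (tR P).map S.f = z ≫ (tRMap ι).app S.X₂ :=
    hcol.exact_up_to_refinements (y ≫ (tR P).map S.f) (by
    change (y ≫ (tR P).map S.f) ≫ (tRMap π).app S.X₂ = 0
    rw [Category.assoc, (tRMap π).naturality S.f]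
    change y ≫ (tL S.X₁).map π ≫ (tR G).map S.f = 0
    rw [← Category.assoc, ← hy, Category.assoc, hx, comp_zero])
  have hz' : z ≫ (tR (kernel π)).map S.g = 0 := by
    refine (cancel_mono ((tL S.X₃).map ι)).1 ?_
    change (z ≫ (tR (kernel π)).map S.g) ≫ (tRMap ι).app S.X₃ = 0 ≫ _
    rw [Category.assoc, (tRMap ι).naturality S.g, ← Category.assoc, ← hz, zero_comp]
    simp only [Category.assoc, ← Functor.map_comp, S.zero, Functor.map_zero, comp_zero]
  obtain ⟨A₃, e₃, he₃, w, hw⟩ : ∃ (A₃ : ModSite.Mod O) (e₃ : A₃ ⟶ A₂) (_ : Epi e₃)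
      (w : A₃ ⟶ (tR (kernel π)).obj S.X₁), e₃ ≫ z = w ≫ (tR (kernel π)).map S.f :=
    hrow.exact_up_to_refinements z hz'
  have hy' : e₃ ≫ e₂ ≫ y = w ≫ (tRMap ι).app S.X₁ := by
    refine (cancel_mono ((tR P).map S.f)).1 ?_
    simp only [Category.assoc]
    rw [hz, ← Category.assoc e₃, hw, Category.assoc, (tRMap ι).naturality S.f]
  have h0 : (e₃ ≫ e₂ ≫ e₁) ≫ x = 0 := by
    simp only [Category.assoc]
    rw [hy]
    have : w ≫ (tL S.X₁).map ι ≫ (tL S.X₁).map π = 0 := by
      rw [← Functor.map_comp, kernel.condition, Functor.map_zero, comp_zero]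
    change w ≫ (tRMap ι).app S.X₁ ≫ (tL S.X₁).map π = 0 at this
    rw [← reassoc_of% hy'] at this
    exact this
  rwa [← cancel_epi (e₃ ≫ e₂ ≫ e₁), comp_zero]

lemma shortExact_map_tR (S : ShortComplex (ModSite.Mod O)) (hS : S.ShortExact)
    (h3 : ModSite.IsFlat S.X₃) (G : ModSite.Mod O) : (S.map (tR G)).ShortExact where
  exact := ShortComplex.Exact.map_of_epi_of_preservesCokernel hS.exact (tR G) hS.epi_g inferInstance
  mono_f := mono_tR_map_of_flat_coker S hS h3 G
  epi_g := have := hS.epi_g; inferInstanceAs (Epi ((tR G).map S.g))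

lemma shortExact_map_tL (S : ShortComplex (ModSite.Mod O)) (hS : S.ShortExact)
    (h3 : ModSite.IsFlat S.X₃) (G : ModSite.Mod O) : (S.map (tL G)).ShortExact :=
  ShortComplex.shortExact_of_iso (S.mapNatIso (tensSymm G)).symm (shortExact_map_tR S hS h3 G)

lemma isFlat_X₂ (S : ShortComplex (ModSite.Mod O)) (hS : S.ShortExact)
    (h1 : ModSite.IsFlat S.X₁) (h3 : ModSite.IsFlat S.X₃) : ModSite.IsFlat S.X₂ := by
  rw [isFlat_iff_mono]
  intro A B k _
  have hA := shortExact_map_tL S hS h3 A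
  have hB := shortExact_map_tL S hS h3 B
  have := (isFlat_iff_mono S.X₁).1 h1 k
  have := (isFlat_iff_mono S.X₃).1 h3 k
  let φ : S.map (tL A) ⟶ S.map (tL B) :=
    { τ₁ := (tR S.X₁).map k, τ₂ := (tR S.X₂).map k, τ₃ := (tR S.X₃).map k
      comm₁₂ := ((tRMap S.f).naturality k)
      comm₂₃ := ((tRMap S.g).naturality k) }
  have : Mono φ.τ₁ := (isFlat_iff_mono S.X₁).1 h1 k
  have : Mono φ.τ₃ := (isFlat_iff_mono S.X₃).1 h3 k
  have : Mono (S.map (tL B)).f := hB.mono_f
  have : Mono (S.map (tL A)).f := hA.mono_f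
  exact ShortComplex.mono_τ₂_of_exact_of_mono φ hA.exact

lemma isFlat_X₁ (S : ShortComplex (ModSite.Mod O)) (hS : S.ShortExact)
    (h2 : ModSite.IsFlat S.X₂) (h3 : ModSite.IsFlat S.X₃) : ModSite.IsFlat S.X₁ := by
  rw [isFlat_iff_mono]
  intro A B k _
  have := (isFlat_iff_mono S.X₂).1 h2 k
  have : Mono ((tL A).map S.f) := (shortExact_map_tL S hS h3 A).mono_f
  have h : (tR S.X₁).map k ≫ (tL B).map S.f = (tL A).map S.f ≫ (tR S.X₂).map k :=
    (tRMap S.f).naturality k
  have : Mono ((tR S.X₁).map k ≫ (tL B).map S.f) := by rw [h]; infer_instance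
  exact mono_of_mono _ ((tL B).map S.f)

lemma isFlat_of_isColimit_cofan {ι : Type u} (F : ι → ModSite.Mod O) (hF : ∀ i, ModSite.IsFlat (F i))
    (c : Cofan F) (hc : IsColimit c) : ModSite.IsFlat c.pt := by
  rw [isFlat_iff_mono]
  intro A B k _
  let α : Discrete.functor F ⋙ tL A ⟶ Discrete.functor F ⋙ tL B :=
    Discrete.natTrans fun i => (tR (F i.as)).map k
  have hα : Mono α := by
    have : ∀ i, Mono (α.app i) := fun i => (isFlat_iff_mono (F i.as)).1 (hF i.as) k
    exact NatTrans.mono_of_mono_app α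
  have hA := isColimitOfPreserves (tL A) hc
  have hB := isColimitOfPreserves (tL B) hc
  have : Mono (colim.map α) := inferInstance
  have e : (tR c.pt).map k =
      ((colimit.isColimit _).coconePointUniqueUpToIso hA).inv ≫ colim.map α ≫
        ((colimit.isColimit _).coconePointUniqueUpToIso hB).hom := by
    refine hA.hom_ext fun i => ?_
    rw [IsColimit.comp_coconePointUniqueUpToIso_inv_assoc]
    change _ = colimit.ι _ i ≫ colimMap α ≫ _
    rw [ι_colimMap_assoc]
    erw [IsColimit.comp_coconePointUniqueUpToIso_hom]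
    exact ((tRMap (c.ι.app i)).naturality k).symm
  rw [e]
  infer_instance

lemma isFlat_tens {F G : ModSite.Mod O} (hF : ModSite.IsFlat F) (hG : ModSite.IsFlat G) :
    ModSite.IsFlat (tens F G) := by
  rw [isFlat_iff_preservesFiniteLimits] at *
  exact preservesFiniteLimits_of_natIso (tensAssocNat F G)

end Groth.Agent.Mod48
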