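import Groth.Agent.Mod48.PushLoc
import Mathlib.Algebra.Homology.HomotopyCategory.MappingCone
import Mathlib.Algebra.Homology.HomologicalComplexLimits

/-!
Maps of complexes which are quasi-isomorphisms on sections: products, local criterion.
-/

universe v u v₀ u₀ t

open CategoryTheory CategoryTheory.Limits HomologicalComplex

namespace Groth.Agent.Mod48

variable {A : Type u} [Category.{v} A] [Abelian A]

/-- Injectivity on cohomology of sections over `T`. -/
def SecInj (T : A) {X Y : CochainComplex A ℤ} (s : X ⟶ Y) : Prop :=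
  ∀ (m : ℤ) (c : T ⟶ X.X m), c ≫ X.d m (m + 1) = 0 →
    (∃ b : T ⟶ Y.X (m - 1), b ≫ Y.d (m - 1) m = c ≫ s.f m) → ∃ b : T ⟶ X.X (m - 1), b ≫ X.d (m - 1) m = c

/-- Surjectivity on cohomology of sections over `T`. -/
def SecSurj (T : A) {X Y : CochainComplex A ℤ} (s : X ⟶ Y) : Prop :=
  ∀ (m : ℤ) (c' : T ⟶ Y.X m), c' ≫ Y.d m (m + 1) = 0 →
    ∃ c : T ⟶ X.X m, c ≫ X.d m (m + 1) = 0 ∧ ∃ b : T ⟶ Y.X (m - 1), b ≫ Y.d (m - 1) m = c ≫ s.f m - c'

/-- Sections over `T` of a complex are acyclic. -/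
def SecAcyclic (T : A) (X : CochainComplex A ℤ) : Prop :=
  ∀ (m : ℤ) (c : T ⟶ X.X m), c ≫ X.d m (m + 1) = 0 → ∃ b : T ⟶ X.X (m - 1), b ≫ X.d (m - 1) m = c

open CochainComplex in
lemma secInj_of_cone {T : A} {X Y : CochainComplex A ℤ} (s : X ⟶ Y) (h : SecAcyclic T (mappingCone s)) :
    SecInj T s := by
  rintro m c hc ⟨b, hb⟩
  let e : T ⟶ (mappingCone s).X (m - 1) :=
    c ≫ (mappingCone.inl s).v m (m - 1) (by omega) - b ≫ (mappingCone.inr s).f (m - 1)
  have he : e ≫ (mappingCone s).d (m - 1) (m - 1 + 1) = 0 := by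
    rw [show m - 1 + 1 = m by omega]
    simp only [e, Preadditive.sub_comp, Category.assoc, mappingCone.inl_v_d s m (m - 1) (m + 1) (by omega) (by omega),
      mappingCone.inr_f_d, Preadditive.comp_sub, reassoc_of% hc, zero_comp, sub_zero, reassoc_of% hb, sub_self]
  obtain ⟨w, hw⟩ := h (m - 1) e he
  refine ⟨-(w ≫ (mappingCone.fst s).1.v (m - 1 - 1) (m - 1) (by omega)), ?_⟩
  have h1 := congrArg (· ≫ (mappingCone.fst s).1.v (m - 1) m (by omega)) hw
  simp only [e, Category.assoc, Preadditive.sub_comp, mappingCone.inl_v_fst_v, mappingCone.inr_f_fst_v, comp_zero,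
    sub_zero, Category.comp_id, mappingCone.d_fst_v s (m - 1 - 1) (m - 1) m (by omega) (by omega)] at h1
  rw [Preadditive.neg_comp, Category.assoc]
  simpa using h1

open CochainComplex in
lemma secSurj_of_cone {T : A} {X Y : CochainComplex A ℤ} (s : X ⟶ Y) (h : SecAcyclic T (mappingCone s)) :
    SecSurj T s := by
  intro m c' hc'
  obtain ⟨w, hw⟩ := h m (c' ≫ (mappingCone.inr s).f m) (by
    rw [Category.assoc, mappingCone.inr_f_d, reassoc_of% hc', zero_comp])
  refine ⟨w ≫ (mappingCone.fst s).1.v (m - 1) m (by omega), ?_, -(w ≫ (mappingCone.snd s).v (m - 1) (m - 1) (by omega)), ?_⟩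
  · have h1 := congrArg (· ≫ (mappingCone.fst s).1.v m (m + 1) rfl) hw
    simp only [Category.assoc, mappingCone.inr_f_fst_v, comp_zero,
      mappingCone.d_fst_v s (m - 1) m (m + 1) (by omega) (by omega)] at h1
    rw [Category.assoc]
    simpa using h1
  · have h1 := congrArg (· ≫ (mappingCone.snd s).v m m (add_zero _)) hw
    simp only [Category.assoc, mappingCone.inr_f_snd_v, Category.comp_id,
      mappingCone.d_snd_v s (m - 1) m (by omega), Preadditive.comp_add] at h1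
    rw [← h1, Preadditive.neg_comp, Category.assoc, Category.assoc]
    abel

section Transfer

variable {B : Type*} [Category* B] [Abelian B] (G : A ⥤ B) [G.Additive] {T : A} {T' : B} (ν : T' ⟶ G.obj T)
  (hν : ∀ M : A, Function.Bijective fun φ : T ⟶ M => ν ≫ G.map φ) {X Y : CochainComplex A ℤ} (s : X ⟶ Y)

include hν in
lemma secInj_of_transfer (h : SecInj T' ((G.mapHomologicalComplex (ComplexShape.up ℤ)).map s)) : SecInj T s := by
  rintro m c hc ⟨b, hb⟩
  obtain ⟨b', hb'⟩ := h m (ν ≫ G.map c)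
    (by change (ν ≫ G.map c) ≫ G.map (X.d m (m + 1)) = 0; rw [Category.assoc, ← G.map_comp, hc, G.map_zero, comp_zero])
    ⟨ν ≫ G.map b, by
      change (ν ≫ G.map b) ≫ G.map (Y.d (m - 1) m) = (ν ≫ G.map c) ≫ G.map (s.f m)
      rw [Category.assoc, Category.assoc, ← G.map_comp, ← G.map_comp, hb]⟩
  obtain ⟨b₀, rfl⟩ := (hν _).2 b'
  refine ⟨b₀, (hν _).1 ?_⟩
  change ν ≫ G.map (b₀ ≫ X.d (m - 1) m) = ν ≫ G.map c
  rw [G.map_comp, ← Category.assoc]
  exact hb'

include hν in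
lemma secSurj_of_transfer (h : SecSurj T' ((G.mapHomologicalComplex (ComplexShape.up ℤ)).map s)) : SecSurj T s := by
  intro m c' hc'
  obtain ⟨c, hc, b, hb⟩ := h m (ν ≫ G.map c')
    (by change (ν ≫ G.map c') ≫ G.map (Y.d m (m + 1)) = 0; rw [Category.assoc, ← G.map_comp, hc', G.map_zero, comp_zero])
  obtain ⟨c₀, rfl⟩ := (hν _).2 c
  obtain ⟨b₀, rfl⟩ := (hν _).2 b
  refine ⟨c₀, (hν _).1 ?_, b₀, (hν _).1 ?_⟩
  · change ν ≫ G.map (c₀ ≫ X.d m (m + 1)) = ν ≫ G.map 0
    rw [G.map_comp, ← Category.assoc, G.map_zero, comp_zero]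
    exact hc
  · change ν ≫ G.map (b₀ ≫ Y.d (m - 1) m) = ν ≫ G.map (c₀ ≫ s.f m - c')
    rw [G.map_comp, G.map_sub, G.map_comp, Preadditive.comp_sub, ← Category.assoc ν (G.map c₀), ← Category.assoc]
    exact hb

end Transfer

section Pi

variable {ι : Type t} {X Y : ι → CochainComplex A ℤ} (s : ∀ k, X k ⟶ Y k) {cX : Fan X} {cY : Fan Y}
  (hX : ∀ j, IsLimit ((eval A (ComplexShape.up ℤ) j).mapCone cX))
  (hY : ∀ j, IsLimit ((eval A (ComplexShape.up ℤ) j).mapCone cY))
  (w : cX.pt ⟶ cY.pt) (hw : ∀ k, w ≫ cY.proj k = cX.proj k ≫ s k)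

include hX hw in
lemma secInj_pi (T : A) (h : ∀ k, SecInj T (s k)) : SecInj T w := by
  rintro m c hc ⟨b, hb⟩
  have hw' : ∀ k, w.f m ≫ (cY.proj k).f m = (cX.proj k).f m ≫ (s k).f m := fun k => congr_hom (hw k) m
  choose b' hb' using fun k => h k m (c ≫ (cX.proj k).f m)
    (by rw [Category.assoc, (cX.proj k).comm, reassoc_of% hc, zero_comp])
    ⟨b ≫ (cY.proj k).f (m - 1), by
      rw [Category.assoc, (cY.proj k).comm, reassoc_of% hb, hw', Category.assoc]⟩
  let β : T ⟶ cX.pt.X (m - 1) := (hX (m - 1)).lift ⟨T, Discrete.natTrans fun k => b' k.as⟩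
  have hβ : ∀ k, β ≫ (cX.proj k).f (m - 1) = b' k := fun k => (hX (m - 1)).fac _ ⟨k⟩
  refine ⟨β, (hX m).hom_ext fun ⟨k⟩ => ?_⟩
  change (β ≫ cX.pt.d (m - 1) m) ≫ (cX.proj k).f m = c ≫ (cX.proj k).f m
  rw [Category.assoc, ← (cX.proj k).comm, reassoc_of% hβ k, hb']

include hX hY hw in
lemma secSurj_pi (T : A) (h : ∀ k, SecSurj T (s k)) : SecSurj T w := by
  intro m c' hc'
  have hw' : ∀ k, w.f m ≫ (cY.proj k).f m = (cX.proj k).f m ≫ (s k).f m := fun k => congr_hom (hw k) m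
  choose c hc b hb using fun k => h k m (c' ≫ (cY.proj k).f m)
    (by rw [Category.assoc, (cY.proj k).comm, reassoc_of% hc', zero_comp])
  let γ : T ⟶ cX.pt.X m := (hX m).lift ⟨T, Discrete.natTrans fun k => c k.as⟩
  let β : T ⟶ cY.pt.X (m - 1) := (hY (m - 1)).lift ⟨T, Discrete.natTrans fun k => b k.as⟩
  have hγ : ∀ k, γ ≫ (cX.proj k).f m = c k := fun k => (hX m).fac _ ⟨k⟩
  have hβ : ∀ k, β ≫ (cY.proj k).f (m - 1) = b k := fun k => (hY (m - 1)).fac _ ⟨k⟩
  refine ⟨γ, (hX (m + 1)).hom_ext fun ⟨k⟩ => ?_, β, (hY m).hom_ext fun ⟨k⟩ => ?_⟩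
  · change (γ ≫ cX.pt.d m (m + 1)) ≫ (cX.proj k).f (m + 1) = 0 ≫ (cX.proj k).f (m + 1)
    rw [Category.assoc, ← (cX.proj k).comm, reassoc_of% hγ k, hc, zero_comp]
  · change (β ≫ cY.pt.d (m - 1) m) ≫ (cY.proj k).f m = (γ ≫ w.f m - c') ≫ (cY.proj k).f m
    rw [Category.assoc, ← (cY.proj k).comm, reassoc_of% hβ k, hb, Preadditive.sub_comp, Category.assoc γ, hw',
      reassoc_of% hγ k]

end Pi

namespace LocGen

variable {C : Type u₀} [Category.{v₀} C] {J : GrothendieckTopology C} (G : LocGen J A)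

/-- A map which is a quasi-isomorphism on sections is a quasi-isomorphism. -/
theorem quasiIso_of_sec {X Y : CochainComplex A ℤ} (s : X ⟶ Y) (hi : ∀ U, SecInj (G.P U) s)
    (hs : ∀ U, SecSurj (G.P U) s) : QuasiIso s := by
  refine ⟨fun m => ?_⟩
  rw [quasiIsoAt_iff_isIso_homologyMap]
  have hp : (m - 1 : ℤ) + 1 = m := sub_add_cancel m 1
  have : Mono (homologyMap s m) := by
    refine G.mono_of_sep _ fun U a ha => ?_
    obtain ⟨S, hS, hl⟩ := G.lift (X.homologyπ m) a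
    refine G.sep a S hS fun V g hg => ?_
    obtain ⟨z, hz⟩ := hl g hg
    obtain ⟨S', hS', hw⟩ := exists_local_boundary G (z ≫ cyclesMap s m) (by
      rw [Category.assoc, ← homologyπ_naturality, reassoc_of% hz, ha, comp_zero])
    refine G.sep _ S' hS' fun W k hk => ?_
    obtain ⟨w, hw⟩ := hw k hk
    obtain ⟨b, hb⟩ := hi W m ((G.r k ≫ z) ≫ X.iCycles m)
      (by rw [Category.assoc, iCycles_d, comp_zero])
      ⟨w, by rw [hw]; simp only [Category.assoc, cyclesMap_i]⟩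
    have hb' : b ≫ X.toCycles (m - 1) m = G.r k ≫ z := by
      rw [← cancel_mono (X.iCycles m), Category.assoc, toCycles_i, hb]
    rw [← hz, ← Category.assoc, ← hb', Category.assoc, toCycles_comp_homologyπ, comp_zero]
  have : Epi (homologyMap s m) := by
    refine G.epi_of_sep _ fun U a Q q hq => ?_
    obtain ⟨S, hS, hl⟩ := G.lift (Y.homologyπ m) a
    refine G.sep _ S hS fun V g hg => ?_
    obtain ⟨z', hz'⟩ := hl g hg
    obtain ⟨c, hc, b, hb⟩ := hs V m (z' ≫ Y.iCycles m) (by rw [Category.assoc, iCycles_d, comp_zero])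
    let z := X.liftCycles c (m + 1) (CochainComplex.next ℤ m) hc
    have hb' : b ≫ Y.toCycles (m - 1) m = z ≫ cyclesMap s m - z' := by
      rw [← cancel_mono (Y.iCycles m), Category.assoc, toCycles_i, hb, Preadditive.sub_comp, Category.assoc,
        cyclesMap_i, liftCycles_i_assoc]
    have h := congrArg (· ≫ Y.homologyπ m) hb'
    simp only [Category.assoc, toCycles_comp_homologyπ, comp_zero, Preadditive.sub_comp] at h
    rw [← homologyπ_naturality, hz'] at h
    rw [← Category.assoc, ← sub_eq_zero.1 h.symm, Category.assoc, Category.assoc, hq, comp_zero, comp_zero]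
  exact isIso_of_mono_of_epi _

end LocGen

end Groth.Agent.Mod48
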