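import Groth.Agent.Mod48.PushCriterion
import Groth.Agent.Mod48.ModVanish
import Groth.Agent.CohDer42.KInj
import Groth.Prelude.Def_SiteCmp

/-!
The derived direct image of modules on ringed sites.
-/

universe u

open CategoryTheory CategoryTheory.Limits Opposite DerivedCategory
attribute [local instance] HasDerivedCategory.standard

namespace Groth.Agent.Mod48

variable {C : Type u} [SmallCategory C] {J : GrothendieckTopology C} {O_C : Sheaf J CommRingCat.{u}}
  {D : Type u} [SmallCategory D] {K : GrothendieckTopology D} {O_D : Sheaf K CommRingCat.{u}}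

lemma enoughKInj_mod (O : Sheaf J CommRingCat.{u}) : EnoughKInj (ModSite.Mod O) := fun M => by
  have : IsGrothendieckAbelian.{u} (ModSite.Mod O) := Coh69.sheafOfModules_isGrothendieckAbelian (ModSite.ringSh O)
  obtain ⟨I, φ, h1, h2, -, -⟩ := Groth.Agent.CohDer42.exists_kinjective_resolution M
  exact ⟨I, φ, h1, h2⟩

variable (f : ModSite.RMor O_C O_D)

/-- Maps out of the inverse image of `j_! O_V` are sections over the image of `V`. -/
noncomputable def pullFreeEquiv (V : D) (M : ModSite.Mod O_C) :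
    (f.pull.obj (ModSite.freeOn O_D V) ⟶ M) ≃ (pre M).obj (op (f.fn.obj V)) :=
  (f.adj.homEquiv _ M).trans (freeOnEquiv V (f.push.obj M))

lemma pullFreeEquiv_comp (V : D) {M M' : ModSite.Mod O_C} (a : f.pull.obj (ModSite.freeOn O_D V) ⟶ M) (g : M ⟶ M') :
    pullFreeEquiv f V M' (a ≫ g) = (fgt.map g).app (op (f.fn.obj V)) (pullFreeEquiv f V M a) := by
  change freeOnEquiv V (f.push.obj M') (f.adj.homEquiv _ M' (a ≫ g)) = _
  rw [Adjunction.homEquiv_naturality_right, freeOnEquiv_comp]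
  rfl

/-- The inverse image of `j_! O_V` is `j_! O` of the image of `V`. -/
noncomputable def pullFreeIso (V : D) : f.pull.obj (ModSite.freeOn O_D V) ≅ ModSite.freeOn O_C (f.fn.obj V) where
  hom := (pullFreeEquiv f V _).symm (freeOnEquiv (f.fn.obj V) _ (𝟙 _))
  inv := (freeOnEquiv (f.fn.obj V) _).symm (pullFreeEquiv f V _ (𝟙 _))
  hom_inv_id := (pullFreeEquiv f V _).injective (by
    rw [pullFreeEquiv_comp, Equiv.apply_symm_apply, ← freeOnEquiv_comp, Category.id_comp, Equiv.apply_symm_apply])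
  inv_hom_id := (freeOnEquiv (f.fn.obj V) _).injective (by
    rw [freeOnEquiv_comp, Equiv.apply_symm_apply, ← pullFreeEquiv_comp, Category.id_comp, Equiv.apply_symm_apply])

lemma vanishAbove_pull (V : D) {P : ObjectProperty (ModSite.Mod O_C)} {d : ℕ}
    (h : ∀ F, P F → ∀ k : ℕ, d < k → Subsingleton (ModSite.HU O_C F k (f.fn.obj V))) :
    LocGen.VanishAbove (f.pull.obj ((modGen O_D).P V)) P d := by
  intro F hF m q hq x
  change (LocGen.Pd (f.pull.obj (ModSite.freeOn O_D V)) m ⟶ (singleFunctor _ q).obj F) at x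
  change x = 0
  rw [← cancel_epi (LocGen.Pm (pullFreeIso f V).inv m), comp_zero]
  exact vanishAbove_of_hu h F hF m q hq _

variable [SiteCmp.HasRpushD f]

/-- The unit of the derived direct image. -/
noncomputable abbrev pushUnit :
    f.push.mapHomotopyCategory (ComplexShape.up ℤ) ⋙ Qh ⟶ Qh ⋙ SiteCmp.RpushD f :=
  (SiteCmp.pushKh f).totalRightDerivedUnit DerivedCategory.Qh
    (HomotopyCategory.quasiIso (ModSite.Mod O_C) (ComplexShape.up ℤ))

lemma isIso_pushUnit (I : CochainComplex (ModSite.Mod O_C) ℤ) (hI : I.IsKInjective) :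
    IsIso ((pushUnit f).app ((HomotopyCategory.quotient _ (ComplexShape.up ℤ)).obj I)) :=
  isIso_unit_of_kInjective (SiteCmp.RpushD f) (pushUnit f) (enoughKInj_mod O_C) I hI

lemma isZero_homology_rpushD_of_isGE (X : DerivedCategory (ModSite.Mod O_C)) (m j : ℤ)
    (hX : TStructure.t.IsGE X m) (hj : j < m) :
    IsZero ((homologyFunctor (ModSite.Mod O_D) j).obj ((SiteCmp.RpushD f).obj X)) :=
  LocGen.isZero_homology_push_of_isGE _ (pushUnit f) (isIso_pushUnit f) f.adj (modGen O_D) (enoughKInj_mod O_C) X m j hX hj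

lemma isZero_homology_rpushD_single_of_neg (F : ModSite.Mod O_C) (i : ℤ) (hi : i < 0) :
    IsZero ((homologyFunctor (ModSite.Mod O_D) i).obj ((SiteCmp.RpushD f).obj (SiteCmp.inD O_C F))) :=
  isZero_homology_rpushD_of_isGE f _ 0 i inferInstance hi

lemma nonempty_homology_rpushD_single_iso [HasInjectiveResolutions (ModSite.Mod O_C)] (F : ModSite.Mod O_C) (p : ℕ) :
    Nonempty ((homologyFunctor (ModSite.Mod O_D) (p : ℤ)).obj ((SiteCmp.RpushD f).obj (SiteCmp.inD O_C F)) ≅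
      (f.Rpush p).obj F) :=
  LocGen.nonempty_homology_push_single_rightDerived_iso _ (pushUnit f) (isIso_pushUnit f) F p

/-- The unbounded derived direct image is computed by truncations under bounded cohomological dimension. -/
theorem isIso_homology_rpushD_truncGEπ (P : ObjectProperty (ModSite.Mod O_C)) [WSerre.IsWeakSerre P] (B : Set C)
    (B' : Set D)
    (hB : ∀ U : C, ∃ (ι : Type u) (Y : ι → C) (g : ∀ i, Y i ⟶ U), Sieve.ofArrows Y g ∈ J U ∧ ∀ i, Y i ∈ B)
    (hA : ∀ V ∈ B, ∃ d : ℕ, ∀ T ∈ J V, ∃ (ι : Type u) (Y : ι → C) (g : ∀ i, Y i ⟶ V),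
      (∀ i, T.arrows (g i)) ∧ Sieve.ofArrows Y g ∈ J V ∧
      ∀ (i : ι) (F : ModSite.Mod O_C), P F → ∀ k : ℕ, d < k → Subsingleton (ModSite.HU O_C F k (Y i)))
    (hB' : ∀ U : D, ∃ (ι : Type u) (Y : ι → D) (g : ∀ i, Y i ⟶ U), Sieve.ofArrows Y g ∈ K U ∧ ∀ i, Y i ∈ B')
    (hA' : ∀ V ∈ B', ∃ d : ℕ, ∀ T ∈ K V, ∃ (ι : Type u) (Y : ι → D) (g : ∀ i, Y i ⟶ V),
      (∀ i, T.arrows (g i)) ∧ Sieve.ofArrows Y g ∈ K V ∧
      ∀ (i : ι) (F : ModSite.Mod O_C), P F → ∀ k : ℕ, d < k → Subsingleton (ModSite.HU O_C F k (f.fn.obj (Y i))))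
    (N : ℤ)
    (hN : ∀ F, P F → ∀ i : ℤ, N < i →
      IsZero ((homologyFunctor (ModSite.Mod O_D) i).obj ((SiteCmp.RpushD f).obj (SiteCmp.inD O_C F))))
    (X : DerivedCategory (ModSite.Mod O_C)) (hX : WSerre.cohIn P X) (n : ℕ) (j : ℤ) (hj : N - (n : ℤ) ≤ j) :
    IsIso ((homologyFunctor (ModSite.Mod O_D) j).map
      ((SiteCmp.RpushD f).map ((TStructure.t.truncGEπ (-(n : ℤ))).app X))) := by
  refine LocGen.isIso_homology_push_truncGEπ _ (pushUnit f) (isIso_pushUnit f) f.adj (modGen O_D) (enoughKInj_mod O_C) P N hN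
    (modGen O_C) B B' hB (fun V hV => ?_) hB' (fun V hV => ?_) X hX n j hj
  · obtain ⟨d, hd⟩ := hA V hV
    refine ⟨d, fun T hT => ?_⟩
    obtain ⟨ι, Y, g, h1, h2, h3⟩ := hd T hT
    exact ⟨ι, Y, g, h1, h2, fun i => vanishAbove_of_hu fun F hF k hk => h3 i F hF k hk⟩
  · obtain ⟨d, hd⟩ := hA' V hV
    refine ⟨d, fun T hT => ?_⟩
    obtain ⟨ι, Y, g, h1, h2, h3⟩ := hd T hT
    exact ⟨ι, Y, g, h1, h2, fun i => vanishAbove_pull f (Y i) fun F hF k hk => h3 i F hF k hk⟩

end Groth.Agent.Mod48
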