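import Groth.Agent.Mod48.SectOnDerived
import Groth.Agent.SiteCoh.ExtRes
import Groth.Agent.SiteCoh.Over
import Groth.Agent.SiteMod.ExtZero
import Groth.Agent.SiteMod.SheafHomRestr

/-!
Local cohomology sheaves and local Ext sheaves under restriction and restriction of scalars.
-/

universe u

open CategoryTheory CategoryTheory.Limits Opposite

attribute [local instance] HasDerivedCategory.standard

namespace Groth.Agent.Mod48

section General

variable {A : Type*} [Category A] [Abelian A] [HasInjectiveResolutions A] {D : Type*} [Category D] [Abelian D]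

/-- Isomorphic functors have isomorphic derived functors. -/
noncomputable def rightDerivedNatIso {F G : A ⥤ D} [F.Additive] [G.Additive] (e : F ≅ G) (n : ℕ) :
    F.rightDerived n ≅ G.rightDerived n where
  hom := NatTrans.rightDerived e.hom n
  inv := NatTrans.rightDerived e.inv n
  hom_inv_id := by rw [← NatTrans.rightDerived_comp, e.hom_inv_id, NatTrans.rightDerived_id]
  inv_hom_id := by rw [← NatTrans.rightDerived_comp, e.inv_hom_id, NatTrans.rightDerived_id]

end General

variable {C : Type u} [SmallCategory C] {J : GrothendieckTopology C} {O : Sheaf J CommRingCat.{u}}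

/-- Restriction to `C/X` is exact. -/
lemma restr_exact (X : C) :
    PreservesFiniteLimits (ModSite.restr O X) ∧ PreservesFiniteColimits (ModSite.restr O X) := by
  refine ⟨⟨fun I _ _ => (ModSite.extZeroAdj O X).rightAdjoint_preservesLimits.preservesLimitsOfShape⟩, ?_⟩
  let T := SheafOfModules.toSheaf.{u} (ModSite.ringSh O)
  let T' := SheafOfModules.toSheaf.{u} (ModSite.ringSh (O.over X))
  have : PreservesFiniteColimits T := (toSheaf_preservesColimits (O := O)).preservesFiniteColimits
  have hT' : PreservesFiniteColimits T' :=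
    (toSheaf_preservesColimits (O := O.over X)).preservesFiniteColimits
  have : PreservesFiniteColimits (T ⋙ J.overPullback AddCommGrpCat.{u} X) := comp_preservesFiniteColimits _ _
  have e : ModSite.restr O X ⋙ T' ≅ T ⋙ J.overPullback AddCommGrpCat.{u} X :=
    NatIso.ofComponents (fun _ => Iso.refl _)
  have : PreservesFiniteColimits (ModSite.restr O X ⋙ T') := preservesFiniteColimits_of_natIso e.symm
  refine ⟨fun I _ _ => ?_⟩
  have : ReflectsColimitsOfShape I T' := reflectsColimitsOfShape_of_reflectsIsomorphisms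
  exact preservesColimitsOfShape_of_reflects_of_preserves _ T'

/-- Restriction to `C/X` preserves injectives. -/
lemma restr_injective (X : C) (I : ModSite.Mod O) [Injective I] : Injective ((ModSite.restr O X).obj I) := by
  have := SiteMod.extZero_preservesFiniteLimits (O := O) X
  have : (ModSite.extZero O X).PreservesMonomorphisms := preservesMonomorphisms_of_preservesLimitsOfShape _
  exact Injective.injective_of_adjoint (ModSite.extZeroAdj O X) I

/-- Restriction of a functor with a formula commuting with restriction, and its derived functors. -/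
theorem nonempty_rightDerived_restr_iso (X : C) [HasInjectiveResolutions (ModSite.Mod O)]
    [HasInjectiveResolutions (ModSite.Mod (O.over X))]
    (F : ModSite.Mod O ⥤ ModSite.Mod O) [F.Additive]
    (F' : ModSite.Mod (O.over X) ⥤ ModSite.Mod (O.over X)) [F'.Additive]
    (e : F ⋙ ModSite.restr O X ≅ ModSite.restr O X ⋙ F') (q : ℕ) :
    Nonempty (F.rightDerived q ⋙ ModSite.restr O X ≅ ModSite.restr O X ⋙ F'.rightDerived q) := by
  obtain ⟨_, _⟩ := restr_exact (O := O) X
  have : (ModSite.restr O X).PreservesHomology := Functor.preservesHomologyOfExact _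
  exact ⟨(SiteCoh.rightDerivedCompExactIso F (ModSite.restr O X) q).symm ≪≫ rightDerivedNatIso e q ≪≫
    rightDerivedPrecompIso (ModSite.restr O X) (fun I hI => @restr_injective _ _ _ _ X I hI) F' q⟩

/-- `Γ_Z` commutes with localisation. -/
theorem nonempty_sectOn_restr_iso [HasBinaryProducts C] (U X : C)
    [ModSite.HasPushOver (O.over X) (Over.mk (Limits.prod.snd : U ⨯ X ⟶ X))] :
    Nonempty (ModSite.sectOn O U ⋙ ModSite.restr O X ≅
      ModSite.restr O X ⋙ ModSite.sectOn (O.over X) (Over.mk (Limits.prod.snd : U ⨯ X ⟶ X))) := by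
  obtain ⟨_, _⟩ := restr_exact (O := O) X
  let U' : Over X := Over.mk (Limits.prod.snd : U ⨯ X ⟶ X)
  let m₁ : ModSite.sectOn O U ⋙ ModSite.restr O X ⟶ ModSite.restr O X :=
    Functor.whiskerRight (ModSite.sectOnι O U) (ModSite.restr O X) ≫ (Functor.leftUnitor _).hom
  let m₂ : ModSite.restr O X ⋙ ModSite.sectOn (O.over X) U' ⟶ ModSite.restr O X :=
    Functor.whiskerLeft (ModSite.restr O X) (ModSite.sectOnι (O.over X) U') ≫ (Functor.rightUnitor _).hom
  have h1 : ∀ F, Mono (m₁.app F) := fun F =>
    inferInstanceAs (Mono ((ModSite.restr O X).map ((ModSite.sectOnι O U).app F) ≫ 𝟙 _))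
  have h2 : ∀ F, Mono (m₂.app F) := fun F =>
    inferInstanceAs (Mono ((ModSite.sectOnι (O.over X) U').app ((ModSite.restr O X).obj F) ≫ 𝟙 _))
  refine nonempty_iso_of_image m₁ m₂ fun F W s => ?_
  have e1 : (∃ a, evSec (m₁.app F) W a = s) ↔ KilledOn U F (W := W.left) s :=
    (sectOn_image_iff O U F W.left s)
  have e2 : (∃ a, evSec (m₂.app F) W a = s) ↔ KilledOn U' ((ModSite.restr O X).obj F) s :=
    (sectOn_image_iff (O.over X) U' ((ModSite.restr O X).obj F) W s)
  have key : KilledOn U F (W := W.left) s ↔ KilledOn U' ((ModSite.restr O X).obj F) s := by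
    refine ⟨fun h V g hV => ?_, fun h V g hV => ?_⟩
    · exact h g.left ⟨hV.some.left ≫ Limits.prod.fst⟩
    · exact h (Over.homMk g : Over.mk (g ≫ W.hom) ⟶ W)
        ⟨Over.homMk (Limits.prod.lift hV.some (g ≫ W.hom)) (Limits.prod.lift_snd _ _)⟩
  exact e1.trans (key.trans e2.symm)

variable {O' : Sheaf J CommRingCat.{u}} (φ : O ⟶ O')

/-- Restriction of scalars along `φ`. -/
noncomputable abbrev scalRes : ModSite.Mod O' ⥤ ModSite.Mod O :=
  SheafOfModules.restrictScalars ((sheafCompose J (forget₂ CommRingCat.{u} RingCat.{u})).map φ)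

/-- `Γ_Z` commutes with restriction of scalars. -/
theorem nonempty_sectOn_scalRes_iso (U : C) [ModSite.HasPushOver O U] [ModSite.HasPushOver O' U] :
    Nonempty (ModSite.sectOn O' U ⋙ scalRes φ ≅ scalRes φ ⋙ ModSite.sectOn O U) := by
  have := (SiteMod.restrictScalars_properties ((sheafCompose J (forget₂ CommRingCat.{u} RingCat.{u})).map φ)).1
  have : (scalRes φ).PreservesMonomorphisms := preservesMonomorphisms_of_preservesLimitsOfShape _
  let m₁ : ModSite.sectOn O' U ⋙ scalRes φ ⟶ scalRes φ :=
    Functor.whiskerRight (ModSite.sectOnι O' U) (scalRes φ) ≫ (Functor.leftUnitor _).hom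
  let m₂ : scalRes φ ⋙ ModSite.sectOn O U ⟶ scalRes φ :=
    Functor.whiskerLeft (scalRes φ) (ModSite.sectOnι O U) ≫ (Functor.rightUnitor _).hom
  have h1 : ∀ F, Mono (m₁.app F) := fun F =>
    inferInstanceAs (Mono ((scalRes φ).map ((ModSite.sectOnι O' U).app F) ≫ 𝟙 _))
  have h2 : ∀ F, Mono (m₂.app F) := fun F =>
    inferInstanceAs (Mono ((ModSite.sectOnι O U).app ((scalRes φ).obj F) ≫ 𝟙 _))
  refine nonempty_iso_of_image m₁ m₂ fun F W s => ?_
  have e1 : (∃ a, evSec (m₁.app F) W a = s) ↔ KilledOn U F s := sectOn_image_iff O' U F W s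
  have e2 : (∃ a, evSec (m₂.app F) W a = s) ↔ KilledOn U ((scalRes φ).obj F) s :=
    sectOn_image_iff O U ((scalRes φ).obj F) W s
  exact e1.trans e2.symm

/-- Local cohomology sheaves commute with restriction of scalars. -/
theorem nonempty_HZsh_scalRes_iso (U : C) [ModSite.HasPushOver O U] [ModSite.HasPushOver O' U]
    [HasInjectiveResolutions (ModSite.Mod O)] [HasInjectiveResolutions (ModSite.Mod O')] (q : ℕ) :
    Nonempty (ModSite.HZsh O' U q ⋙ scalRes φ ≅ scalRes φ ⋙ ModSite.HZsh O U q) := by
  obtain ⟨hl, hc, -⟩ := SiteMod.restrictScalars_properties ((sheafCompose J (forget₂ CommRingCat.{u} RingCat.{u})).map φ)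
  have : PreservesFiniteLimits (scalRes φ) := hl.preservesFiniteLimits
  have : PreservesFiniteColimits (scalRes φ) := hc.preservesFiniteColimits
  have : (scalRes φ).PreservesHomology := Functor.preservesHomologyOfExact _
  have : IsGrothendieckAbelian.{u} (ModSite.Mod O) :=
    Coh69.sheafOfModules_isGrothendieckAbelian (ModSite.ringSh O)
  obtain ⟨e⟩ := nonempty_sectOn_scalRes_iso φ U
  exact ⟨(SiteCoh.rightDerivedCompExactIso (ModSite.sectOn O' U) (scalRes φ) q).symm ≪≫
    rightDerivedNatIso e q ≪≫ rightDerivedCompIsoOfAc (scalRes φ) (ModSite.sectOn O U)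
      (fun I hI => isAc_sectOn U (M := (scalRes φ).obj I) (@ta_injective _ _ _ O' I hI)) q⟩

end Groth.Agent.Mod48
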