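import Groth.Agent.SiteMod.PushTensor
import Groth.Agent.SiteMod.LocCharts
import Groth.Agent.SiteMod.Basics

/-!
The inverse image of the structure sheaf is the structure sheaf; inverse images of free modules.
-/

universe u

open CategoryTheory CategoryTheory.Limits Opposite

namespace Groth.Agent.Mod48

open SiteMod

variable {C D : Type u} [SmallCategory C] [SmallCategory D] {J : GrothendieckTopology C}
  {K : GrothendieckTopology D} {O_C : Sheaf J CommRingCat.{u}} {O_D : Sheaf K CommRingCat.{u}}
  (f : ModSite.RMor O_C O_D) (G : ModSite.Mod O_C)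

/-- A global section, restricted to the images. -/
noncomputable def pushSection (s : G.sections) : (f.push.obj G).sections :=
  PresheafOfModules.sectionsMk (fun X => toPush f G (W := X.unop) (s.val (op (f.fn.obj X.unop))))
    (fun X Y h => s.property (f.fn.map h.unop).op)

lemma pushSection_injective : Function.Injective (pushSection f G) := by
  intro s t h
  refine PresheafOfModules.sections_ext _ _ fun V => ?_
  refine ext_of_sieve (chartSieve_mem J K f.fn V.unop) fun V' v hv => ?_
  obtain ⟨X, ⟨g⟩⟩ := hv
  have e : s.val (op (f.fn.obj X)) = t.val (op (f.fn.obj X)) :=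
    congrArg (fun w : (f.push.obj G).sections => ofPush f G (w.val (op X))) h
  exact (s.property v.op).trans ((s.property g.op).symm.trans
    ((congrArg (res (pre G) g.op) e).trans ((t.property g.op).trans (t.property v.op).symm)))

/-- The value of a section of the direct image in a chart. -/
noncomputable abbrev chartVal (s : (f.push.obj G).sections) {V : C} {X : D} (g : V ⟶ f.fn.obj X) :
    (pre G).obj (op V) := res (pre G) g.op (ofPush f G (s.val (op X)))

lemma chartVal_indep (s : (f.push.obj G).sections) {V : C} {X₁ X₂ : D} (g₁ : V ⟶ f.fn.obj X₁)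
    (g₂ : V ⟶ f.fn.obj X₂) : chartVal f G s g₁ = chartVal f G s g₂ := by
  refine ext_of_sieve (X := op V) (pairSieve_mem J K f.fn g₁ g₂) fun V' v hv => ?_
  obtain ⟨X, g, p₁, p₂, q₁, q₂⟩ := hv
  have h : ∀ {Y : D} (gY : V ⟶ f.fn.obj Y) (p : X ⟶ Y), v ≫ gY = g ≫ f.fn.map p →
      res (pre G) v.op (chartVal f G s gY) = chartVal f G s g := fun {Y} gY p q => by
    rw [chartVal, res_res, ← op_comp, q, op_comp, ← res_res, ← res_ofPush]
    exact congrArg (fun z => res (pre G) g.op (ofPush f G z)) (s.property p.op)
  rw [h g₁ p₁ q₁, h g₂ p₂ q₂]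

lemma existsUnique_glue (s : (f.push.obj G).sections) (V : C) :
    ∃! y : (pre G).obj (op V), ∀ ⦃V' : C⦄ (v : V' ⟶ V) (X : D) (g : V' ⟶ f.fn.obj X),
      res (pre G) v.op y = chartVal f G s g := by
  let P := (CategoryTheory.sheafCompose J (forget AddCommGrpCat.{u})).obj (ModSite.toAb G)
  have hP := ((isSheaf_iff_isSheaf_of_type _ _).1 P.2) _ (chartSieve_mem J K f.fn V)
  let x : Presieve.FamilyOfElements P.obj (chartSieve f.fn V).arrows := fun V' v hv =>
    chartVal f G s hv.choose_spec.some
  have hx : x.Compatible := by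
    intro Y₁ Y₂ Z g₁ g₂ f₁ f₂ h₁ h₂ e
    change res (pre G) g₁.op (res (pre G) _ _) = res (pre G) g₂.op (res (pre G) _ _)
    rw [res_res, res_res, ← op_comp, ← op_comp]
    exact chartVal_indep f G s _ _
  refine ⟨hP.amalgamate x hx, fun V' v X g => ?_, fun y hy => ?_⟩
  · have hv : chartSieve f.fn V v := ⟨X, ⟨g⟩⟩
    exact (hP.valid_glue hx v hv).trans (chartVal_indep f G s _ g)
  · exact hP.isSeparatedFor.ext fun V' v hv =>
      (hy v _ hv.choose_spec.some).trans (hP.valid_glue hx v hv).symm

lemma pushSection_surjective : Function.Surjective (pushSection f G) := by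
  intro s
  choose y hy huniq using fun V => existsUnique_glue f G s V
  refine ⟨PresheafOfModules.sectionsMk (fun V => y V.unop) fun V W h => ?_,
    PresheafOfModules.sections_ext _ _ fun X => ?_⟩
  · refine huniq W.unop _ fun V' v Z g => ?_
    exact (res_res (pre G) _ _ _).trans (hy V.unop (v ≫ h.unop) Z g)
  · have h1 := hy (f.fn.obj X.unop) (𝟙 _) X.unop (𝟙 _)
    simp only [chartVal, op_id] at h1
    exact ((congr($((pre G).map_id (op (f.fn.obj X.unop))) (y (f.fn.obj X.unop)))).symm.trans h1).trans
      (congr($((pre G).map_id (op (f.fn.obj X.unop))) (ofPush f G (s.val X))))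

/-- `f^* O_D ≅ O_C`. -/
noncomputable def pullUnitIso : f.pull.obj (ModSite.unit O_D) ≅ ModSite.unit O_C :=
  SiteMod.isoOfHomEquiv
    (fun G => (f.adj.homEquiv _ G).trans ((f.push.obj G).unitHomEquiv.trans
      ((Equiv.ofBijective (pushSection f G) ⟨pushSection_injective f G, pushSection_surjective f G⟩).symm.trans
        G.unitHomEquiv.symm)))
    (fun G G' a b => by
      simp only [Equiv.trans_apply]
      rw [Adjunction.homEquiv_naturality_right, SheafOfModules.unitHomEquiv_comp_apply,
        SheafOfModules.unitHomEquiv_symm_comp]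
      refine congrArg G'.unitHomEquiv.symm ((Equiv.symm_apply_eq _).2 ?_)
      exact (congrArg (SheafOfModules.sectionsMap (f.push.map b))
        (Equiv.ofBijective_apply_symm_apply (pushSection f G) _ _).symm).trans rfl)

/-- `f^*` of a free module is free. -/
noncomputable def pullFreeModIso (ι : Type u) :
    f.pull.obj (SheafOfModules.free (R := ModSite.ringSh O_D) ι) ≅ SheafOfModules.free (R := ModSite.ringSh O_C) ι :=
  have : f.pull.IsLeftAdjoint := f.adj.isLeftAdjoint
  have : PreservesColimitsOfSize.{u, u} f.pull := f.adj.leftAdjoint_preservesColimits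
  PreservesCoproduct.iso f.pull (fun _ : ι => SheafOfModules.unit (ModSite.ringSh O_D)) ≪≫
    Sigma.mapIso fun _ => pullUnitIso f

end Groth.Agent.Mod48
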