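import Groth.Agent.Mod48.KFlatSymm
import Mathlib.Algebra.Homology.BifunctorAssociator

/-!
Associativity of the total tensor product of complexes of sheaves of modules.
-/

universe u

open CategoryTheory CategoryTheory.Limits Opposite MonoidalCategory HomologicalComplex

namespace Groth.Agent.Mod48

variable {C : Type u} [SmallCategory C] {J : GrothendieckTopology C} {O : Sheaf J CommRingCat.{u}}

section Assoc

variable (F G H : ModSite.Mod O)

/-- Comparison of `(F ⊗ G) ⊗ H` with the sheafified triple product. -/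
noncomputable def assocU : shf.obj ((pre F ⊗ pre G) ⊗ pre H) ⟶ tens (tens F G) H :=
  shf.map (shfU (pre F ⊗ pre G) ▷ pre H)

/-- Comparison of `F ⊗ (G ⊗ H)` with the sheafified triple product. -/
noncomputable def assocV : shf.obj ((pre F ⊗ pre G) ⊗ pre H) ⟶ tens F (tens G H) :=
  shf.map ((α_ (pre F) (pre G) (pre H)).hom ≫ pre F ◁ shfU (pre G ⊗ pre H))

instance isIso_assocU : IsIso (assocU F G H) := isIso_shf_map_whiskerRight _ _

instance isIso_assocV : IsIso (assocV F G H) := by
  have := isIso_shf_map_whiskerLeft (shfU (pre G ⊗ pre H)) (pre F)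
  rw [assocV, Functor.map_comp]
  infer_instance

/-- Associativity, in components. -/
noncomputable def assocApp : tens (tens F G) H ≅ tens F (tens G H) :=
  (asIso (assocU F G H)).symm ≪≫ asIso (assocV F G H)

lemma assocApp_hom : (assocApp F G H).hom = inv (assocU F G H) ≫ assocV F G H := rfl

end Assoc

lemma assocApp_nat₁ {F F' : ModSite.Mod O} (f : F ⟶ F') (G H : ModSite.Mod O) :
    shf.map (fgt.map (shf.map (fgt.map f ▷ pre G)) ▷ pre H) ≫ (assocApp F' G H).hom =
      (assocApp F G H).hom ≫ shf.map (fgt.map f ▷ pre (tens G H)) := by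
  have hu : assocU F G H ≫ shf.map (fgt.map (shf.map (fgt.map f ▷ pre G)) ▷ pre H) =
      shf.map ((fgt.map f ▷ pre G) ▷ pre H) ≫ assocU F' G H := by
    rw [assocU, assocU, ← Functor.map_comp, ← Functor.map_comp, ← MonoidalCategory.comp_whiskerRight,
      ← MonoidalCategory.comp_whiskerRight, shfU_naturality]
  rw [assocApp_hom, assocApp_hom, ← cancel_epi (assocU F G H), reassoc_of% hu, IsIso.hom_inv_id_assoc,
    Category.assoc, IsIso.hom_inv_id_assoc, assocV, assocV, ← Functor.map_comp, ← Functor.map_comp,
    associator_naturality_left_assoc, Category.assoc, whisker_exchange]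

lemma assocApp_nat₂ (F : ModSite.Mod O) {G G' : ModSite.Mod O} (g : G ⟶ G') (H : ModSite.Mod O) :
    shf.map (fgt.map (shf.map (pre F ◁ fgt.map g)) ▷ pre H) ≫ (assocApp F G' H).hom =
      (assocApp F G H).hom ≫ shf.map (pre F ◁ fgt.map (shf.map (fgt.map g ▷ pre H))) := by
  have hu : assocU F G H ≫ shf.map (fgt.map (shf.map (pre F ◁ fgt.map g)) ▷ pre H) =
      shf.map ((pre F ◁ fgt.map g) ▷ pre H) ≫ assocU F G' H := by
    rw [assocU, assocU, ← Functor.map_comp, ← Functor.map_comp, ← MonoidalCategory.comp_whiskerRight,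
      ← MonoidalCategory.comp_whiskerRight, shfU_naturality]
  rw [assocApp_hom, assocApp_hom, ← cancel_epi (assocU F G H), reassoc_of% hu, IsIso.hom_inv_id_assoc,
    Category.assoc, IsIso.hom_inv_id_assoc, assocV, assocV, ← Functor.map_comp, ← Functor.map_comp,
    associator_naturality_middle_assoc, Category.assoc, ← MonoidalCategory.whiskerLeft_comp,
    ← MonoidalCategory.whiskerLeft_comp, shfU_naturality]

lemma assocApp_nat₃ (F G : ModSite.Mod O) {H H' : ModSite.Mod O} (h : H ⟶ H') :
    shf.map (pre (tens F G) ◁ fgt.map h) ≫ (assocApp F G H').hom =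
      (assocApp F G H).hom ≫ shf.map (pre F ◁ fgt.map (shf.map (pre G ◁ fgt.map h))) := by
  have hu : assocU F G H ≫ shf.map (pre (tens F G) ◁ fgt.map h) =
      shf.map ((pre F ⊗ pre G) ◁ fgt.map h) ≫ assocU F G H' := by
    rw [assocU, assocU, ← Functor.map_comp, ← Functor.map_comp, whisker_exchange]
  rw [assocApp_hom, assocApp_hom, ← cancel_epi (assocU F G H), reassoc_of% hu, IsIso.hom_inv_id_assoc,
    Category.assoc, IsIso.hom_inv_id_assoc, assocV, assocV, ← Functor.map_comp, ← Functor.map_comp,
    associator_naturality_right_assoc, Category.assoc, ← MonoidalCategory.whiskerLeft_comp,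
    ← MonoidalCategory.whiskerLeft_comp, shfU_naturality]

/-- The associator of the tensor product as an isomorphism of trifunctors. -/
noncomputable def tensorBiAssoc :
    bifunctorComp₁₂ (ModSite.tensorBi O) (ModSite.tensorBi O) ≅
      bifunctorComp₂₃ (ModSite.tensorBi O) (ModSite.tensorBi O) :=
  NatIso.ofComponents (fun F => NatIso.ofComponents (fun G => NatIso.ofComponents (fun H => assocApp F G H)
      (fun {H H'} h => assocApp_nat₃ F G h))
    (fun {G G'} g => by ext H : 2; exact assocApp_nat₂ F g H))
    (fun {F F'} f => by ext G : 2; ext H : 2; exact assocApp_nat₁ f G H)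

section

variable (F K L : CC O)

instance hasGood₁₂ : HomologicalComplex.HasGoodTrifunctor₁₂Obj (ModSite.tensorBi O) (ModSite.tensorBi O) F K L
    (ComplexShape.up ℤ) (ComplexShape.up ℤ) :=
  fun _ _ => inferInstance

instance hasGood₂₃ : HomologicalComplex.HasGoodTrifunctor₂₃Obj (ModSite.tensorBi O) (ModSite.tensorBi O) F K L
    (ComplexShape.up ℤ) (ComplexShape.up ℤ) (ComplexShape.up ℤ) :=
  fun _ _ => inferInstance

instance additive_tensorBi : (ModSite.tensorBi O).Additive where
  map_add {A B f g} := by
    ext X : 2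
    exact (tR X).map_add (f := f) (g := g)

/-- Associativity of the total tensor product. -/
noncomputable def tcAssoc : tc (tc F K) L ≅ tc F (tc K L) :=
  have : ∀ A : ModSite.Mod O, ((ModSite.tensorBi O).obj A).Additive := fun A => inferInstanceAs (tL A).Additive
  HomologicalComplex.mapBifunctorAssociator tensorBiAssoc F K L (ComplexShape.up ℤ) (ComplexShape.up ℤ)
    (ComplexShape.up ℤ)

end

/-- The total tensor product of K-flat complexes is K-flat. -/
lemma isKFlat_tc {K L : CC O} (hK : ModSite.IsKFlat K) (hL : ModSite.IsKFlat L) : ModSite.IsKFlat (tc K L) := by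
  rw [isKFlat_iff] at *
  exact fun F hF => acyclic_of_iso (tcAssoc F K L) (hL _ (hK F hF))

end Groth.Agent.Mod48
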