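import Groth.Agent.Mod48.ScalAdj
import Groth.Agent.Mod48.ModPush
import Groth.Agent.Mod48.DerivedProd
import Groth.Agent.Mod48.EquivCohIn
import Groth.Agent.SiteCoh.TypeExact
import Groth.Prelude.Def_CohCx

/-!
The derived direct image of modules commutes with products and derived limits.
-/

universe w w' v v' u u' t

open CategoryTheory CategoryTheory.Limits CategoryTheory.Pretriangulated DerivedCategory

namespace Groth.Agent.Mod48

section General

variable {A : Type u} [Category.{v} A] [Abelian A] [HasDerivedCategory.{w} A]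

lemma Q_map_surjective_kInjective {M I : CochainComplex A ℤ} (hI : I.IsKInjective) (g : Q.obj M ⟶ Q.obj I) :
    ∃ φ : M ⟶ I, Q.map φ = g := by
  obtain ⟨φ', hφ'⟩ := (CochainComplex.IsKInjective.Qh_map_bijective
    ((HomotopyCategory.quotient A (ComplexShape.up ℤ)).obj M) I).2
    ((quotientCompQhIso A).hom.app M ≫ g ≫ (quotientCompQhIso A).inv.app I)
  obtain ⟨φ, rfl⟩ := (HomotopyCategory.quotient A (ComplexShape.up ℤ)).map_surjective φ'
  refine ⟨φ, ?_⟩
  have h : Qh.map ((HomotopyCategory.quotient A (ComplexShape.up ℤ)).map φ) ≫ (quotientCompQhIso A).hom.app I =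
      (quotientCompQhIso A).hom.app M ≫ Q.map φ := (quotientCompQhIso A).hom.naturality φ
  rw [hφ'] at h
  rw [← cancel_epi ((quotientCompQhIso A).hom.app M), ← h]
  exact (Category.assoc _ _ _).trans (congrArg (_ ≫ ·) ((Category.assoc _ _ _).trans
    ((congrArg (g ≫ ·) ((quotientCompQhIso A).inv_hom_id_app I)).trans (Category.comp_id g))))

lemma nonempty_homotopy_of_Q_map_eq {M I : CochainComplex A ℤ} (hI : I.IsKInjective) {φ ψ : M ⟶ I}
    (h : Q.map φ = Q.map ψ) : Nonempty (Homotopy φ ψ) := by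
  refine ⟨HomotopyCategory.homotopyOfEq _ _ ((CochainComplex.IsKInjective.Qh_map_bijective _ I).1 ?_)⟩
  have h1 : ∀ χ : M ⟶ I, Qh.map ((HomotopyCategory.quotient A (ComplexShape.up ℤ)).map χ) ≫
      (quotientCompQhIso A).hom.app I = (quotientCompQhIso A).hom.app M ≫ Q.map χ :=
    fun χ => (quotientCompQhIso A).hom.naturality χ
  exact (cancel_mono ((quotientCompQhIso A).hom.app I)).1 ((h1 φ).trans ((congrArg (_ ≫ ·) h).trans (h1 ψ).symm))

/-- Products of K-injective complexes are products in the derived category. -/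
lemma Q_pi_bijective {ι : Type t} [HasProductsOfShape ι A] (I : ι → CochainComplex A ℤ)
    (hI : ∀ k, (I k).IsKInjective) (Z : DerivedCategory A) :
    Function.Bijective fun g : Z ⟶ Q.obj (∏ᶜ I) => fun k => g ≫ Q.map (Pi.π I k) := by
  obtain ⟨M, ⟨e⟩⟩ : ∃ M : CochainComplex A ℤ, Nonempty (Q.obj M ≅ Z) := ⟨_, ⟨Q.objObjPreimageIso Z⟩⟩
  have hP : (∏ᶜ I).IsKInjective := isKInjective_pi I hI
  refine ⟨fun g g' h => ?_, fun f => ?_⟩
  · obtain ⟨φ, hφ⟩ := Q_map_surjective_kInjective hP (e.hom ≫ g)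
    obtain ⟨φ', hφ'⟩ := Q_map_surjective_kInjective hP (e.hom ≫ g')
    have hk : ∀ k, Nonempty (Homotopy (φ ≫ Pi.π I k) (φ' ≫ Pi.π I k)) := fun k => by
      refine nonempty_homotopy_of_Q_map_eq (hI k) ?_
      have := congrFun h k
      rw [Functor.map_comp, Functor.map_comp, hφ, hφ', Category.assoc, Category.assoc]
      exact congrArg (e.hom ≫ ·) this
    have : Homotopy φ φ' := Homotopy.equivSubZero.symm (piHomotopy I _ fun k =>
      (Homotopy.ofEq (Preadditive.sub_comp _ _ _)).trans (Homotopy.equivSubZero (hk k).some))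
    rw [← cancel_epi e.hom, ← hφ, ← hφ', Q_map_eq_of_homotopy A this]
  · choose φ hφ using fun k => Q_map_surjective_kInjective (hI k) (e.hom ≫ f k)
    refine ⟨e.inv ≫ Q.map (Pi.lift φ), funext fun k => ?_⟩
    change (e.inv ≫ Q.map (Pi.lift φ)) ≫ Q.map (Pi.π I k) = f k
    rw [Category.assoc, ← Functor.map_comp, Pi.lift_π, hφ, Iso.inv_hom_id_assoc]

variable {B : Type u'} [Category.{v'} B] [Abelian B] [HasDerivedCategory.{w'} B] {R : A ⥤ B} [R.Additive]
  (RF : DerivedCategory A ⥤ DerivedCategory B)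
  (α : R.mapHomotopyCategory (ComplexShape.up ℤ) ⋙ Qh ⟶ Qh ⋙ RF)
  (hα : ∀ I : CochainComplex A ℤ, I.IsKInjective →
      IsIso (α.app ((HomotopyCategory.quotient A (ComplexShape.up ℤ)).obj I)))

include α hα in
lemma additive_push (hA : EnoughKInj A) : RF.Additive := by
  refine ⟨fun {X Y f g} => ?_⟩
  obtain ⟨I, hI, ⟨eX⟩⟩ := exists_Qh_iso_kInjective A hA X
  obtain ⟨I', hI', ⟨eY⟩⟩ := exists_Qh_iso_kInjective A hA Y
  let e := ((quotientCompQhIso A).app I).symm ≪≫ eX
  let e' := ((quotientCompQhIso A).app I').symm ≪≫ eY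
  have := LocGen.isIso_unitQ RF α hα I hI
  obtain ⟨φ, hφ⟩ := Q_map_surjective_kInjective hI' (e.hom ≫ f ≫ e'.inv)
  obtain ⟨ψ, hψ⟩ := Q_map_surjective_kInjective hI' (e.hom ≫ g ≫ e'.inv)
  have hf : f = e.inv ≫ Q.map φ ≫ e'.hom := by rw [hφ]; simp
  have hg : g = e.inv ≫ Q.map ψ ≫ e'.hom := by rw [hψ]; simp
  have hfg : f + g = e.inv ≫ Q.map (φ + ψ) ≫ e'.hom := by
    rw [Functor.map_add, Preadditive.add_comp, Preadditive.comp_add, ← hf, ← hg]
  have hadd : RF.map (Q.map (φ + ψ)) = RF.map (Q.map φ) + RF.map (Q.map ψ) := by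
    rw [← cancel_epi (LocGen.unitQ RF α I), Preadditive.comp_add, ← LocGen.unitQ_naturality, ← LocGen.unitQ_naturality,
      ← LocGen.unitQ_naturality, Functor.map_add, Functor.map_add, Preadditive.add_comp]
  rw [hfg, RF.map_comp, RF.map_comp, hadd, hf, hg]
  simp only [RF.map_comp, Preadditive.add_comp, Preadditive.comp_add]

open CochainComplex in
include hα in
/-- The derived functor sends distinguished triangles to distinguished triangles. -/
lemma exists_distinguished_push (hA : EnoughKInj A) {X Y Z : DerivedCategory A} (a : X ⟶ Y) (b : Y ⟶ Z)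
    (c : Z ⟶ X⟦(1 : ℤ)⟧) (hT : Triangle.mk a b c ∈ distinguishedTriangles) :
    ∃ c' : RF.obj Z ⟶ (RF.obj X)⟦(1 : ℤ)⟧,
      Triangle.mk (RF.map a) (RF.map b) c' ∈ distinguishedTriangles := by
  obtain ⟨I, hI, ⟨eX⟩⟩ := exists_Qh_iso_kInjective A hA X
  obtain ⟨I', hI', ⟨eY⟩⟩ := exists_Qh_iso_kInjective A hA Y
  let e := ((quotientCompQhIso A).app I).symm ≪≫ eX
  let e' := ((quotientCompQhIso A).app I').symm ≪≫ eY
  obtain ⟨φ, hφ⟩ := Q_map_surjective_kInjective hI' (e.hom ≫ a ≫ e'.inv)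
  have hcone : (mappingCone φ).IsKInjective := by
    refine ⟨fun {K} f hK => ⟨HomotopyCategory.homotopyOfEq _ _ ?_⟩⟩
    rw [Functor.map_zero]
    have h3 : (I⟦(1 : ℤ)⟧).IsKInjective := inferInstance
    have hd : (HomotopyCategory.quotient A (ComplexShape.up ℤ)).map f ≫ (mappingCone.triangleh φ).mor₃ = 0 := by
      have e : (HomotopyCategory.quotient A (ComplexShape.up ℤ)).map f ≫
          (HomotopyCategory.quotient A (ComplexShape.up ℤ)).map (mappingCone.triangle φ).mor₃ = 0 := by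
        rw [← Functor.map_comp, ← Functor.map_zero]
        exact HomotopyCategory.eq_of_homotopy _ _ (h3.nonempty_homotopy_zero _ hK).some
      exact (Category.assoc _ _ _).symm.trans ((congrArg (· ≫ _) e).trans zero_comp)
    obtain ⟨g, hg⟩ := Triangle.coyoneda_exact₃ _ (HomotopyCategory.mappingCone_triangleh_distinguished φ)
      ((HomotopyCategory.quotient A (ComplexShape.up ℤ)).map f) hd
    obtain ⟨g', rfl⟩ : ∃ g' : K ⟶ I', (HomotopyCategory.quotient A (ComplexShape.up ℤ)).map g' = g :=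
      (HomotopyCategory.quotient A (ComplexShape.up ℤ)).map_surjective g
    exact hg.trans ((congrArg (· ≫ _) ((HomotopyCategory.eq_of_homotopy _ _ (hI'.nonempty_homotopy_zero g' hK).some).trans
      (Functor.map_zero _ _ _))).trans zero_comp)
  have hT' : Q.mapTriangle.obj (mappingCone.triangle φ) ∈ distinguishedTriangles :=
    (DerivedCategory.mem_distTriang_iff _).2 ⟨_, _, φ, ⟨Iso.refl _⟩⟩
  let T := Q.mapTriangle.obj (mappingCone.triangle φ)
  obtain ⟨θ, hθ₂, hθ₃⟩ : ∃ θ : Q.obj (mappingCone φ) ⟶ Z, Q.map (mappingCone.inr φ) ≫ θ = e'.hom ≫ b ∧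
      T.mor₃ ≫ e.hom⟦(1 : ℤ)⟧' = θ ≫ c := complete_distinguished_triangle_morphism T (Triangle.mk a b c) hT' hT e.hom e'.hom (by
        change Q.map φ ≫ e'.hom = e.hom ≫ a
        rw [hφ]; simp)
  have hθ : IsIso θ := isIso₃_of_isIso₁₂ (Triangle.homMk T (Triangle.mk a b c) e.hom e'.hom θ
    (by change Q.map φ ≫ e'.hom = e.hom ≫ a; rw [hφ]; simp) hθ₂ hθ₃) hT' hT e.isIso_hom e'.isIso_hom
  let κ : Q.obj (mappingCone ((R.mapHomologicalComplex (ComplexShape.up ℤ)).map φ)) ⟶ RF.obj Z :=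
    Q.map (mappingCone.mapHomologicalComplexIso φ R).inv ≫ LocGen.unitQ RF α (mappingCone φ) ≫ RF.map θ
  have := LocGen.isIso_unitQ RF α hα I hI
  have := LocGen.isIso_unitQ RF α hα I' hI'
  have := LocGen.isIso_unitQ RF α hα (mappingCone φ) hcone
  have : IsIso κ := inferInstanceAs (IsIso (_ ≫ _ ≫ _))
  let S := Q.mapTriangle.obj (mappingCone.triangle ((R.mapHomologicalComplex (ComplexShape.up ℤ)).map φ))
  let u₁ := asIso (LocGen.unitQ RF α I) ≪≫ RF.mapIso e
  let u₂ := asIso (LocGen.unitQ RF α I') ≪≫ RF.mapIso e'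
  refine ⟨inv κ ≫ S.mor₃ ≫ u₁.hom⟦(1 : ℤ)⟧', isomorphic_distinguished S
    ((DerivedCategory.mem_distTriang_iff _).2 ⟨_, _, _, ⟨Iso.refl _⟩⟩) _ (Triangle.isoMk _ _ u₁.symm u₂.symm (asIso κ).symm ?_ ?_ ?_)⟩
  · change RF.map a ≫ u₂.inv = u₁.inv ≫ Q.map ((R.mapHomologicalComplex (ComplexShape.up ℤ)).map φ)
    rw [Iso.comp_inv_eq, Category.assoc, Iso.eq_inv_comp]
    simp only [u₁, u₂, Iso.trans_hom, asIso_hom, Functor.mapIso_hom, Category.assoc]
    rw [← Category.assoc (Q.map _), LocGen.unitQ_naturality, Category.assoc, ← RF.map_comp, ← RF.map_comp, hφ]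
    simp
  · change RF.map b ≫ inv κ = u₂.inv ≫ Q.map (mappingCone.inr _)
    rw [IsIso.comp_inv_eq, Category.assoc, Iso.eq_inv_comp]
    have hi : Q.map (mappingCone.inr ((R.mapHomologicalComplex (ComplexShape.up ℤ)).map φ)) ≫
        Q.map (mappingCone.mapHomologicalComplexIso φ R).inv =
        Q.map ((R.mapHomologicalComplex (ComplexShape.up ℤ)).map (mappingCone.inr φ)) := by
      rw [← Functor.map_comp, ← mappingCone.map_inr φ R, Category.assoc]
      simp
    simp only [u₂, κ, Iso.trans_hom, asIso_hom, Functor.mapIso_hom, Category.assoc]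
    rw [reassoc_of% hi, ← Category.assoc (Q.map _), LocGen.unitQ_naturality, Category.assoc, ← RF.map_comp,
      ← RF.map_comp, hθ₂]
  · change (inv κ ≫ S.mor₃ ≫ u₁.hom⟦(1 : ℤ)⟧') ≫ u₁.inv⟦(1 : ℤ)⟧' = inv κ ≫ S.mor₃
    refine (Category.assoc _ _ _).trans (congrArg (inv κ ≫ ·) ((Category.assoc _ _ _).trans ?_))
    exact (congrArg (S.mor₃ ≫ ·) (((CategoryTheory.shiftFunctor (DerivedCategory B) (1 : ℤ)).map_comp u₁.hom u₁.inv).symm.trans
      ((congrArg _ u₁.hom_inv_id).trans (CategoryTheory.Functor.map_id _ _)))).trans (Category.comp_id _)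

end General

section Push

attribute [local instance] HasDerivedCategory.standard

variable {C : Type u} [SmallCategory C] {J : GrothendieckTopology C} {O_C : Sheaf J CommRingCat.{u}}
  {D : Type u} [SmallCategory D] {K : GrothendieckTopology D} {O_D : Sheaf K CommRingCat.{u}}
  (f : ModSite.RMor O_C O_D)

/-- The underlying abelian sheaf of a direct image. -/
noncomputable def toSheafPush : f.push ⋙ SheafOfModules.toSheaf (ModSite.ringSh O_D) ≅
    SheafOfModules.toSheaf (ModSite.ringSh O_C) ⋙ CohSite.push J K f.fn :=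
  NatIso.ofComponents (fun _ => Iso.refl _) (fun _ => by ext; rfl)

/-- A resolution of the direct image of a K-injective complex is a quasi-isomorphism on all sections. -/
theorem sec_qis_push (I : CochainComplex (ModSite.Mod O_C) ℤ) (hI : I.IsKInjective)
    (J' : CochainComplex (ModSite.Mod O_D) ℤ) (hJ : J'.IsKInjective)
    (s : (f.push.mapHomologicalComplex (ComplexShape.up ℤ)).obj I ⟶ J') [QuasiIso s] (U : D) :
    SecInj (ModSite.freeOn O_D U) s ∧ SecSurj (ModSite.freeOn O_D U) s := by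
  let ab := SheafOfModules.toSheaf.{u} (ModSite.ringSh O_D)
  have := toSheaf_preservesColimits (O := O_D)
  have : PreservesFiniteColimits ab := PreservesColimitsOfSize.preservesFiniteColimits _
  have h1 : TFOrth ((ab.mapHomologicalComplex (ComplexShape.up ℤ)).obj
      ((f.push.mapHomologicalComplex (ComplexShape.up ℤ)).obj I)) := by
    have hpl := SiteCoh.sheafPullback_preservesFiniteLimits_of_type J K f.fn
    let L := f.fn.sheafPullback AddCommGrpCat.{u} K J
    let adj : L ⊣ CohSite.push J K f.fn := f.fn.sheafAdjunctionContinuous AddCommGrpCat.{u} K J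
    have : L.Additive := adj.left_adjoint_additive
    have : PreservesFiniteColimits L :=
      ⟨fun _ _ _ => (adj.leftAdjoint_preservesColimits :
        PreservesColimitsOfSize.{0, 0} L).preservesColimitsOfShape⟩
    have : L.PreservesMonomorphisms := preservesMonomorphisms_of_preservesLimitsOfShape _
    exact tfOrth_rightAdjoint adj (((SheafOfModules.toSheaf (ModSite.ringSh O_C)).mapHomologicalComplex
      (ComplexShape.up ℤ)).obj I) fun Z hZ hac φ =>
        tfOrth_toSheaf (ModSite.ringSh O_C) I hI _ (fun n => isTF_map L (hZ n))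
          (acyclic_map_of_isTF L (fun S hS _ => hS.map_of_exact L) Z hZ hac) φ
  have h2 := tfOrth_cone ((ab.mapHomologicalComplex (ComplexShape.up ℤ)).map s) h1
    (tfOrth_toSheaf (ModSite.ringSh O_D) J' hJ)
  have hac : (CochainComplex.mappingCone ((ab.mapHomologicalComplex (ComplexShape.up ℤ)).map s)).Acyclic := by
    have : IsIso (Q.map ((ab.mapHomologicalComplex (ComplexShape.up ℤ)).map s)) :=
      (isIso_Q_map_iff_quasiIso (φ := (ab.mapHomologicalComplex (ComplexShape.up ℤ)).map s)).2 inferInstance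
    have hz : IsZero (Q.obj (CochainComplex.mappingCone ((ab.mapHomologicalComplex (ComplexShape.up ℤ)).map s))) :=
      (Triangle.isZero₃_iff_isIso₁ (Q.mapTriangle.obj (CochainComplex.mappingCone.triangle
        ((ab.mapHomologicalComplex (ComplexShape.up ℤ)).map s)))
        ((DerivedCategory.mem_distTriang_iff _).2 ⟨_, _, _, ⟨Iso.refl _⟩⟩)).2 this
    intro i
    rw [HomologicalComplex.exactAt_iff_isZero_homology]
    exact ((homologyFunctor _ i).map_isZero hz).of_iso ((homologyFunctorFactors _ i).app _).symm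
  have h3 := secAcyclic_of_tfOrth _ hac h2 U
  exact ⟨secInj_of_transfer ab (freeSecMap O_D U) (freeSecMap_bijective U) s (secInj_of_cone _ h3),
    secSurj_of_transfer ab (freeSecMap O_D U) (freeSecMap_bijective U) s (secSurj_of_cone _ h3)⟩

/-- The derived direct image commutes with products. -/
theorem isIso_piComparison_rpushD [SiteCmp.HasRpushD f] {ι : Type t}
    [HasProductsOfShape ι (ModSite.Mod O_C)] [HasProductsOfShape ι (ModSite.Mod O_D)]
    (E : ι → DerivedCategory (ModSite.Mod O_C)) [HasProduct E]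
    [HasProduct fun k => (SiteCmp.RpushD f).obj (E k)] :
    IsIso (piComparison (SiteCmp.RpushD f) E) := by
  choose I hI he using fun k => exists_Qh_iso_kInjective _ (enoughKInj_mod O_C) (E k)
  let e : ∀ k, Q.obj (I k) ≅ E k := fun k => ((quotientCompQhIso _).app (I k)).symm ≪≫ (he k).some
  choose J' s hJ hs using fun k => enoughKInj_mod O_D ((f.push.mapHomologicalComplex (ComplexShape.up ℤ)).obj (I k))
  let PI := ∏ᶜ I
  let PJ := ∏ᶜ J'
  let θ : Q.obj PI ⟶ ∏ᶜ E := Pi.lift fun k => Q.map (Pi.π I k) ≫ (e k).hom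
  have hθ : IsIso θ := by
    obtain ⟨g, hg⟩ := (Q_pi_bijective I hI (∏ᶜ E)).2 fun k => Pi.π E k ≫ (e k).inv
    refine ⟨g, (Q_pi_bijective I hI (Q.obj PI)).1 (funext fun k => ?_), Pi.hom_ext _ _ fun k => ?_⟩
    · change (θ ≫ g) ≫ Q.map (Pi.π I k) = 𝟙 _ ≫ Q.map (Pi.π I k)
      have := congrFun hg k
      change g ≫ Q.map (Pi.π I k) = _ at this
      rw [Category.assoc, this, Category.id_comp]
      simp [θ]
    · have := congrFun hg k
      change g ≫ Q.map (Pi.π I k) = _ at this
      simp [θ, reassoc_of% this]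
  let w : (f.push.mapHomologicalComplex (ComplexShape.up ℤ)).obj PI ⟶ PJ :=
    Pi.lift fun k => (f.push.mapHomologicalComplex (ComplexShape.up ℤ)).map (Pi.π I k) ≫ s k
  have hw : QuasiIso w := by
    have hl : PreservesLimitsOfShape (Discrete ι) f.push :=
      have : PreservesLimitsOfSize.{t, t} f.push := f.adj.rightAdjoint_preservesLimits
      inferInstance
    let cX : Fan (fun k => (f.push.mapHomologicalComplex (ComplexShape.up ℤ)).obj (I k)) :=
      Fan.mk ((f.push.mapHomologicalComplex (ComplexShape.up ℤ)).obj PI)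
        fun k => (f.push.mapHomologicalComplex (ComplexShape.up ℤ)).map (Pi.π I k)
    have hX : ∀ j, IsLimit ((HomologicalComplex.eval _ (ComplexShape.up ℤ) j).mapCone cX) := fun j =>
      (isLimitMapConeFanMkEquiv _ _ _).symm
        (isLimitFanMkObjOfIsLimit (HomologicalComplex.eval _ (ComplexShape.up ℤ) j ⋙ f.push) I (Pi.π I)
          (productIsProduct I))
    have hY : ∀ j, IsLimit ((HomologicalComplex.eval _ (ComplexShape.up ℤ) j).mapCone (Fan.mk PJ (Pi.π J'))) :=
      fun j => isLimitOfPreserves _ (productIsProduct J')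
    refine (modGen O_D).quasiIso_of_sec w (fun U => ?_) (fun U => ?_)
    · exact secInj_pi s (cY := Fan.mk PJ (Pi.π J')) hX w (fun k => Pi.lift_π _ _) _ fun k =>
        have := hs k; (sec_qis_push f (I k) (hI k) (J' k) (hJ k) (s k) U).1
    · exact secSurj_pi s (cY := Fan.mk PJ (Pi.π J')) hX hY w (fun k => Pi.lift_π _ _) _ fun k =>
        have := hs k; (sec_qis_push f (I k) (hI k) (J' k) (hJ k) (s k) U).2
  have hPI : PI.IsKInjective := isKInjective_pi I hI
  have := LocGen.isIso_unitQ (SiteCmp.RpushD f) (pushUnit f) (isIso_pushUnit f) PI hPI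
  have : IsIso (Q.map w) := (isIso_Q_map_iff_quasiIso (φ := w)).2 hw
  let a : Q.obj PJ ⟶ ∏ᶜ fun k => (SiteCmp.RpushD f).obj (E k) :=
    inv (Q.map w) ≫ LocGen.unitQ (SiteCmp.RpushD f) (pushUnit f) PI ≫ (SiteCmp.RpushD f).map θ ≫
      piComparison (SiteCmp.RpushD f) E
  have hs' : ∀ k, IsIso (Q.map (s k)) := fun k => (isIso_Q_map_iff_quasiIso (φ := s k)).2 (hs k)
  have hu : ∀ k, IsIso (LocGen.unitQ (SiteCmp.RpushD f) (pushUnit f) (I k)) := fun k =>
    LocGen.isIso_unitQ (SiteCmp.RpushD f) (pushUnit f) (isIso_pushUnit f) (I k) (hI k)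
  let c : ∀ k, Q.obj (J' k) ≅ (SiteCmp.RpushD f).obj (E k) := fun k =>
    (asIso (Q.map (s k))).symm ≪≫ asIso (LocGen.unitQ (SiteCmp.RpushD f) (pushUnit f) (I k)) ≪≫
      (SiteCmp.RpushD f).mapIso (e k)
  have hak : ∀ k, a ≫ Pi.π _ k = Q.map (Pi.π J' k) ≫ (c k).hom := fun k => by
    rw [← cancel_epi (Q.map w)]
    simp only [a, c, Category.assoc, piComparison_comp_π, IsIso.hom_inv_id_assoc, Iso.trans_hom, Iso.symm_hom,
      asIso_inv, asIso_hom, Functor.mapIso_hom]
    rw [← Functor.map_comp (SiteCmp.RpushD f), show θ ≫ Pi.π E k = Q.map (Pi.π I k) ≫ (e k).hom from Pi.lift_π _ _,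
      Functor.map_comp, ← Category.assoc (LocGen.unitQ _ _ _), ← LocGen.unitQ_naturality, ← Q.map_comp_assoc w,
      Pi.lift_π, Functor.map_comp]
    simp [Category.assoc]
  have : IsIso a := by
    obtain ⟨g, hg⟩ := (Q_pi_bijective J' hJ (∏ᶜ fun k => (SiteCmp.RpushD f).obj (E k))).2
      fun k => Pi.π (fun k => (SiteCmp.RpushD f).obj (E k)) k ≫ (c k).inv
    refine ⟨g, (Q_pi_bijective J' hJ (Q.obj PJ)).1 (funext fun k => ?_), Pi.hom_ext _ _ fun k => ?_⟩
    · have := congrFun hg k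
      change g ≫ Q.map (Pi.π J' k) = _ at this
      change (a ≫ g) ≫ Q.map (Pi.π J' k) = 𝟙 _ ≫ Q.map (Pi.π J' k)
      rw [Category.assoc, this, ← Category.assoc, hak, Category.assoc, Iso.hom_inv_id, Category.comp_id,
        Category.id_comp]
    · have := congrFun hg k
      change g ≫ Q.map (Pi.π J' k) = _ at this
      rw [Category.assoc, hak, reassoc_of% this, Iso.inv_hom_id, Category.comp_id, Category.id_comp]
  have h : (Q.map w ≫ a) = (LocGen.unitQ (SiteCmp.RpushD f) (pushUnit f) PI ≫ (SiteCmp.RpushD f).map θ) ≫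
      piComparison (SiteCmp.RpushD f) E := by
    simp [a]
  exact IsIso.of_isIso_fac_left h.symm

/-- The derived direct image commutes with derived limits. -/
theorem isRlimVia_rpushD [SiteCmp.HasRpushD f]
    (E : ℕ → DerivedCategory (ModSite.Mod O_C)) (t : ∀ n, E (n + 1) ⟶ E n) [HasProduct E]
    (L : DerivedCategory (ModSite.Mod O_C)) (a : ∀ n, L ⟶ E n) (hL : CohCx.IsRlimVia E t L a)
    [HasProduct fun n => (SiteCmp.RpushD f).obj (E n)] :
    CohCx.IsRlimVia (fun n => (SiteCmp.RpushD f).obj (E n)) (fun n => (SiteCmp.RpushD f).map (t n))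
      ((SiteCmp.RpushD f).obj L) (fun n => (SiteCmp.RpushD f).map (a n)) := by
  have := additive_push (SiteCmp.RpushD f) (pushUnit f) (isIso_pushUnit f) (enoughKInj_mod O_C)
  obtain ⟨c, hc⟩ := hL
  obtain ⟨c', hc'⟩ := exists_distinguished_push (SiteCmp.RpushD f) (pushUnit f) (isIso_pushUnit f)
    (enoughKInj_mod O_C) _ _ c hc
  have := isIso_piComparison_rpushD f E
  let p := asIso (piComparison (SiteCmp.RpushD f) E)
  refine ⟨p.inv ≫ c', isomorphic_distinguished _ hc' _ (Triangle.isoMk _ _ (Iso.refl _) p.symm p.symm ?_ ?_ ?_)⟩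
  · change Pi.lift (fun n => (SiteCmp.RpushD f).map (a n)) ≫ p.inv = 𝟙 _ ≫ (SiteCmp.RpushD f).map (Pi.lift a)
    rw [Category.id_comp, Iso.comp_inv_eq]
    refine Pi.hom_ext _ _ fun n => ?_
    simp [p, ← Functor.map_comp]
  · change Pi.lift _ ≫ p.inv = p.inv ≫ (SiteCmp.RpushD f).map _
    rw [Iso.comp_inv_eq, Category.assoc, Iso.eq_inv_comp]
    refine Pi.hom_ext _ _ fun n => ?_
    simp only [p, asIso_hom, Category.assoc, Pi.lift_π, piComparison_comp_π, ← Functor.map_comp, Functor.map_sub,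
      Preadditive.comp_sub]
    simp [Functor.map_comp]
  · change (p.inv ≫ c') ≫ (𝟙 _)⟦(1 : ℤ)⟧' = p.inv ≫ c'
    simp

end Push

end Groth.Agent.Mod48
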