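import Groth.Agent.Mod48.FreeResolution
import Groth.Agent.Mod48.KFlatSymm
import Groth.Agent.SiteMod.PullModelIso
import Mathlib.Algebra.Homology.DerivedCategory.Basic

/-!
Inverse images of K-flat complexes of flat modules.
-/

universe u

open CategoryTheory CategoryTheory.Limits Opposite HomologicalComplex

namespace Groth.Agent.Mod48

variable {C : Type u} [SmallCategory C] {J : GrothendieckTopology C} {O : Sheaf J CommRingCat.{u}}

lemma isFlat_sigma_of {ι : Type u} (X : ι → ModSite.Mod O) (h : ∀ j, ModSite.IsFlat (X j)) :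
    ModSite.IsFlat (∐ X) := by
  rw [isFlat_iff_mono]
  intro A B f _
  have := hasExactColimitsOfShape (O := O) (Discrete ι)
  let φ : Discrete.functor X ⋙ tL A ⟶ Discrete.functor X ⋙ tL B :=
    Discrete.natTrans fun k => (tR (X k.as)).map f
  have : ∀ k, Mono (φ.app k) := fun k => (isFlat_iff_mono _).1 (h k.as) f
  have := NatTrans.mono_of_mono_app φ
  exact colim.map_mono' φ (isColimitOfPreserves (tL A) (colimit.isColimit (Discrete.functor X)))
    (isColimitOfPreserves (tL B) (colimit.isColimit (Discrete.functor X))) _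
    fun k => ((tRMap (colimit.ι (Discrete.functor X) k)).naturality f).symm

lemma isFlat_of_isFreeSum {X : ModSite.Mod O} (h : IsFreeSum X) : ModSite.IsFlat X := by
  obtain ⟨ι, U, ⟨e⟩⟩ := h
  exact isFlat_of_iso e.symm (isFlat_sigma_of _ fun j => isFlat_freeOn (U j))

variable {D : Type u} [SmallCategory D] {K : GrothendieckTopology D} {O_D : Sheaf K CommRingCat.{u}}
  (f : ModSite.RMor O O_D)

lemma pull_preservesColimits : PreservesColimitsOfSize.{0, 0} f.pull ∧ f.pull.Additive :=
  ⟨f.adj.leftAdjoint_preservesColimits, f.adj.left_adjoint_additive⟩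

/-- Inverse images of bounded above complexes of flat modules are K-flat. -/
lemma isKFlat_pull_of_bounded_above (L : CC O_D) (b : ℤ) [L.IsStrictlyLE b]
    (hfl : ∀ n, ModSite.IsFlat (L.X n)) :
    ModSite.IsKFlat ((f.pull.mapHomologicalComplex (ComplexShape.up ℤ)).obj L) := by
  have := (pull_preservesColimits f).2
  have : CochainComplex.IsStrictlyLE ((f.pull.mapHomologicalComplex (ComplexShape.up ℤ)).obj L) b :=
    (CochainComplex.isStrictlyLE_iff _ _).2 fun i hi => f.pull.map_isZero (L.isZero_of_isStrictlyLE b i hi)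
  exact isKFlat_of_bounded_above _ b fun n => SiteMod.isFlat_pull f _ (hfl n)

/-- The inverse image of a colimit of bounded above complexes of flat modules is K-flat. -/
lemma isKFlat_pull_of_isColimit (T : ℕ ⥤ CC O_D) (c : Cocone T) (hc : IsColimit c)
    (hb : ∀ k, ∃ b : ℤ, (T.obj k).IsStrictlyLE b) (hfl : ∀ k n, ModSite.IsFlat ((T.obj k).X n)) :
    ModSite.IsKFlat ((f.pull.mapHomologicalComplex (ComplexShape.up ℤ)).obj c.pt) := by
  have := (pull_preservesColimits f).2
  have := (pull_preservesColimits f).1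
  have : PreservesColimitsOfShape ℕ f.pull := inferInstance
  refine isKFlat_of_isColimit (T ⋙ f.pull.mapHomologicalComplex (ComplexShape.up ℤ))
    ((f.pull.mapHomologicalComplex (ComplexShape.up ℤ)).mapCocone c)
    (HomologicalComplex.isColimitOfEval _ _ fun i => ?_) fun k => ?_
  · exact isColimitOfPreserves f.pull (isColimitOfPreserves (ev i) hc)
  · obtain ⟨b, hb⟩ := hb k
    exact isKFlat_pull_of_bounded_above f _ b (hfl k)

/-- The inverse image of a complex with flat terms and flat cycles is K-flat. -/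
lemma isKFlat_pull_of_flat_cycles (Q : CC O_D) (hQfl : ∀ n, ModSite.IsFlat (Q.X n))
    (hQc : ∀ n, ModSite.IsFlat (Q.cycles n)) :
    ModSite.IsKFlat ((f.pull.mapHomologicalComplex (ComplexShape.up ℤ)).obj Q) := by
  have hb : ∀ k : ℕ, ∃ b : ℤ, ((truncSeq Q).obj k).IsStrictlyLE b := fun k =>
    ⟨(k : ℤ) + 1, inferInstanceAs ((Q.truncLE ((k : ℤ) + 1)).IsStrictlyLE ((k : ℤ) + 1))⟩
  have hfl : ∀ (k : ℕ) (i : ℤ), ModSite.IsFlat (((truncSeq Q).obj k).X i) := fun k i => by
    change ModSite.IsFlat ((Q.truncLE ((k : ℤ) + 1)).X i)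
    rcases lt_trichotomy i ((k : ℤ) + 1) with hi | hi | hi
    · exact isFlat_of_iso (Q.truncLEXIso _ i hi).symm (hQfl i)
    · subst hi
      exact isFlat_of_iso (Q.truncLEXIsoCycles _).symm (hQc _)
    · exact isFlat_of_isZero (isZero_truncLE_X Q _ i hi)
  exact isKFlat_pull_of_isColimit f (truncSeq Q) (truncCocone Q) (isColimitTruncCocone Q) hb hfl

/-- The inverse image of a K-flat complex with flat terms is K-flat. -/
theorem isKFlat_pull (L : CC O_D) (hL : ModSite.IsKFlat L) (hfl : ∀ n, ModSite.IsFlat (L.X n)) :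
    ModSite.IsKFlat ((f.pull.mapHomologicalComplex (ComplexShape.up ℤ)).obj L) := by
  have := (pull_preservesColimits f).2
  obtain ⟨Kc, π, -, -, hb, hfree, -, c, -, hc⟩ := exists_resolution_system L
  have hflK : ∀ k n, ModSite.IsFlat ((Kc.obj k).X n) := fun k n => isFlat_of_isFreeSum (hfree k n)
  have hP : ModSite.IsKFlat (colimit Kc) :=
    isKFlat_of_isColimit Kc _ (colimit.isColimit Kc) fun k => by
      obtain ⟨b, hb⟩ := hb k
      exact isKFlat_of_bounded_above _ b (hflK k)
  have hPfl : ∀ n, ModSite.IsFlat ((colimit Kc).X n) := fun n =>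
    isFlat_of_isColimit_nat (Kc ⋙ ev n) _ (isColimitOfPreserves (ev n) (colimit.isColimit Kc))
      fun k => hflK k n
  let Q := CochainComplex.mappingCone c
  have hQ : ModSite.IsKFlat Q := (isKFlat_cone_two_out_of_three c).1 hP hL
  have hQfl : ∀ n, ModSite.IsFlat (Q.X n) := fun n => isFlat_cone_X c hPfl hfl n
  have hQac : Q.Acyclic := by
    letI := HasDerivedCategory.standard (ModSite.Mod O_D)
    have : IsIso (DerivedCategory.Q.map c) := (DerivedCategory.isIso_Q_map_iff_quasiIso (φ := c)).2 hc
    have hz : IsZero (DerivedCategory.Q.obj Q) :=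
      (Pretriangulated.Triangle.isZero₃_iff_isIso₁ (DerivedCategory.Q.mapTriangle.obj (CochainComplex.mappingCone.triangle c))
        ((DerivedCategory.mem_distTriang_iff _).2 ⟨_, _, _, ⟨Iso.refl _⟩⟩)).2 this
    intro i
    rw [HomologicalComplex.exactAt_iff_isZero_homology]
    exact ((DerivedCategory.homologyFunctor _ i).map_isZero hz).of_iso
      ((DerivedCategory.homologyFunctorFactors _ i).app _).symm
  have hQc : ∀ n, ModSite.IsFlat (Q.cycles n) := fun n => isFlat_cycles Q hQ hQac hQfl n
  have hfQ := isKFlat_pull_of_flat_cycles f Q hQfl hQc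
  have hfP := isKFlat_pull_of_isColimit f Kc _ (colimit.isColimit Kc) hb hflK
  exact (isKFlat_cone_two_out_of_three ((f.pull.mapHomologicalComplex (ComplexShape.up ℤ)).map c)).2.1 hfP
    (isKFlat_of_iso (CochainComplex.mappingCone.mapHomologicalComplexIso c f.pull) hfQ)

end Groth.Agent.Mod48
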