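import Groth.Agent.Mod48.GermLocal
import Groth.Agent.ProEt91.GeomLift
import Groth.Prelude.Def_EtFppf
import Mathlib.AlgebraicGeometry.AlgClosed.Basic
import Mathlib.AlgebraicGeometry.Morphisms.Flat

/-!
The small pro-etale site and the big fppf site as sites receiving the small etale site with lifting of
geometric points.
-/

universe u

open CategoryTheory CategoryTheory.Limits AlgebraicGeometry Opposite

namespace Groth.Agent.Mod48

set_option backward.isDefEq.respectTransparency.types false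

instance : Scheme.fppfPrecoverage.{u}.HasIsos :=
  have h1 : (@Flat ⊓ @LocallyOfFinitePresentation : MorphismProperty Scheme.{u}).ContainsIdentities :=
    ⟨fun X => ⟨(inferInstance : Flat (𝟙 X)), (inferInstance : LocallyOfFinitePresentation (𝟙 X))⟩⟩
  have h2 : (@Flat ⊓ @LocallyOfFinitePresentation : MorphismProperty Scheme.{u}).RespectsIso :=
    (MorphismProperty.IsStableUnderBaseChange.inf).respectsIso
  inferInstanceAs ((Scheme.precoverage (@Flat ⊓ @LocallyOfFinitePresentation : MorphismProperty Scheme.{u})).HasIsos)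

/-- Openness descends along a finite flat jointly surjective family of affines over an affine scheme. -/
theorem isOpen_of_affine {S : Scheme.{u}} [IsAffine S] {n : ℕ} (Z : ULift.{u} (Fin n) → Scheme.{u})
    [∀ j, IsAffine (Z j)] (f : ∀ j, Z j ⟶ S) [∀ j, Flat (f j)]
    (hs : ∀ y : S, ∃ j z, f j z = y) (T : Set S) (h : ∀ j, IsOpen (f j ⁻¹' T)) : IsOpen T := by
  let q : ∐ Z ⟶ S := Sigma.desc f
  have : AlgebraicGeometry.QuasiCompact q := inferInstance
  have : Flat q := IsZariskiLocalAtSource.sigmaDesc inferInstance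
  have : Surjective q := ⟨fun y => by
    obtain ⟨j, z, e⟩ := hs y
    refine ⟨Sigma.ι Z j z, ?_⟩
    rw [← Scheme.Hom.comp_apply, Sigma.ι_desc]
    exact e⟩
  rw [← (Flat.isQuotientMap_of_surjective q).isOpen_preimage]
  have hu : q ⁻¹' T = ⋃ j, Sigma.ι Z j '' (f j ⁻¹' T) := by
    ext w
    simp only [Set.mem_preimage, Set.mem_iUnion, Set.mem_image]
    constructor
    · intro hw
      obtain ⟨j, z, rfl⟩ := (sigmaOpenCover Z).exists_eq w
      refine ⟨j, z, ?_, rfl⟩
      rw [← show q (Sigma.ι Z j z) = f j z by rw [← Scheme.Hom.comp_apply, Sigma.ι_desc]]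
      exact hw
    · rintro ⟨j, z, hz, rfl⟩
      rwa [← Scheme.Hom.comp_apply, Sigma.ι_desc]
  rw [hu]
  exact isOpen_iUnion fun j => (Sigma.ι Z j).isOpenEmbedding.isOpenMap _ (h j)

/-- Openness descends along quasi-compact flat covers. -/
theorem isOpen_of_qcCover {S : Scheme.{u}} (E : PreZeroHypercover.{u} S) [QuasiCompactCover E]
    (hE : ∀ i, Flat (E.f i)) (T : Set S) (h : ∀ i, IsOpen (E.f i ⁻¹' T)) : IsOpen T := by
  refine isOpen_iff_forall_mem_open.2 fun x hx => ?_
  obtain ⟨_, ⟨A', hA, rfl⟩, hxA, -⟩ := S.isBasis_affineOpens.exists_subset_of_mem_open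
    (Set.mem_univ x) isOpen_univ
  let A : S.Opens := A'
  have hAf : IsAffineOpen A := hA
  obtain ⟨n, a, V, hV, hcov⟩ := QuasiCompactCover.exists_isAffineOpen_of_isCompact E (U := A) hAf.isCompact
  have hsub : ∀ j, Set.range ((V j).ι ≫ E.f (a j)) ⊆ Set.range A.ι := fun j => by
    rintro _ ⟨y, rfl⟩
    rw [Scheme.Opens.range_ι, Scheme.Hom.comp_apply, ← hcov]
    exact Set.mem_iUnion.2 ⟨j, _, y.2, rfl⟩
  let g : ∀ j : ULift.{u} (Fin n), (V j.down).toScheme ⟶ A.toScheme :=
    fun j => IsOpenImmersion.lift A.ι ((V j.down).ι ≫ E.f (a j.down)) (hsub j.down)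
  have hg : ∀ j, g j ≫ A.ι = (V j.down).ι ≫ E.f (a j.down) := fun j => IsOpenImmersion.lift_fac _ _ _
  have : IsAffine A.toScheme := hAf
  have : ∀ j : ULift.{u} (Fin n), IsAffine (V j.down).toScheme := fun j => hV j.down
  have : ∀ j, Flat (g j) := fun j => by
    have := hE (a j.down)
    have : Flat (g j ≫ A.ι) := by rw [hg]; infer_instance
    exact MorphismProperty.of_postcomp @Flat (W' := @IsOpenImmersion) _ A.ι inferInstance this
  have hs : ∀ y : A.toScheme, ∃ j z, g j z = y := fun y => by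
    have hy : A.ι y ∈ ⋃ j, E.f (a j) '' (V j : Set (E.X (a j))) := by
      rw [hcov]
      exact y.2
    obtain ⟨j, v, hv, e⟩ := Set.mem_iUnion.1 hy
    refine ⟨⟨j⟩, ⟨v, hv⟩, A.ι.isOpenEmbedding.injective ?_⟩
    rw [← Scheme.Hom.comp_apply, hg]
    exact e
  have hT : IsOpen (A.ι ⁻¹' T) := by
    refine isOpen_of_affine _ g hs _ fun j => ?_
    have e : g j ⁻¹' (A.ι ⁻¹' T) = (V j.down).ι ⁻¹' (E.f (a j.down) ⁻¹' T) := by
      ext z
      simp only [Set.mem_preimage, ← Scheme.Hom.comp_apply, hg]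
    rw [e]
    exact (h (a j.down)).preimage (V j.down).ι.continuous
  exact ⟨A.ι '' (A.ι ⁻¹' T), Set.image_preimage_subset _ _, A.ι.isOpenEmbedding.isOpenMap _ hT,
    ⟨x, hxA⟩, hx, rfl⟩

variable {X : Scheme.{u}}

/-- The small pro-etale site. -/
noncomputable def proEtGSite (X : Scheme.{u}) :
    GSite X (Scheme.ProEt.topology X) (ProEtS.eps X) where
  U := Scheme.ProEt.forget X
  faithful := inferInstance
  c := { app := fun _ => 𝟙 _, naturality := fun _ _ _ => (Category.comp_id _).trans (Category.id_comp _).symm }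
  bij V W := by
    refine ⟨fun a b h => (Scheme.ProEt.forgetFullyFaithful X).map_injective
      ((Category.comp_id _).symm.trans (h.trans (Category.comp_id _))), fun q => ?_⟩
    exact ⟨(Scheme.ProEt.forgetFullyFaithful X).preimage q,
      (Category.comp_id _).trans ((Scheme.ProEt.forgetFullyFaithful X).map_preimage (X := V) (Y := (ProEtS.eps X).obj W) q)⟩
  lift {V S} hS k _ _ v := by
    obtain ⟨W, g, w, hg, hw⟩ := ProEt91.exists_geometric_lift V S hS v
    exact ⟨W, g, w, hg, hw⟩
  pb {V₁ V₂ V} g₁ g₂ := by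
    have h1 : WeaklyEtale V₁.hom := V₁.prop
    have h2 : WeaklyEtale g₂.left := by
      have : WeaklyEtale (g₂.left ≫ V.hom) := by
        rw [MorphismProperty.Over.w]; exact V₂.prop
      have : WeaklyEtale V.hom := V.prop
      exact WeaklyEtale.of_comp g₂.left V.hom
    have : WeaklyEtale (pullback.fst g₁.left g₂.left ≫ V₁.hom) := inferInstance
    refine ⟨Scheme.ProEt.mk (pullback.fst g₁.left g₂.left ≫ V₁.hom),
      MorphismProperty.Over.homMk (pullback.fst g₁.left g₂.left) rfl,
      MorphismProperty.Over.homMk (pullback.snd g₁.left g₂.left) ?_,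
      IsPullback.of_hasPullback g₁.left g₂.left⟩
    show pullback.snd g₁.left g₂.left ≫ V₂.hom = pullback.fst g₁.left g₂.left ≫ V₁.hom
    rw [← MorphismProperty.Over.w g₁, ← MorphismProperty.Over.w g₂, pullback.condition_assoc]
  quot {V S} hS T hT := by
    obtain ⟨R, hR, hle⟩ := ProEt91.mem_topology_iff_exists.1 hS
    obtain ⟨ι, Y, f, rfl⟩ := R.exists_eq_ofArrows
    have hR' : (Presieve.ofArrows Y f).map (Scheme.ProEt.forget X ⋙ Over.forget X) ∈
        Scheme.proetalePrecoverage V.left := hR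
    rw [Presieve.map_ofArrows] at hR'
    obtain ⟨-, hwe⟩ := (Scheme.ofArrows_mem_precoverage_iff _).1 hR'.2
    let E : PreZeroHypercover V.left := PreZeroHypercover.mk ι (fun i => (Y i).left) fun i => (f i).left
    have : QuasiCompactCover E :=
      (Scheme.presieve₀_mem_qcPrecoverage_iff (E := E)).1 hR'.1
    have : QuasiCompactCover (QuasiCompactCover.ulift E) := inferInstance
    refine isOpen_of_qcCover (QuasiCompactCover.ulift E) (fun i => ?_) T fun i => hT _ _ (hle _ _ ⟨_⟩)
    show Flat (f _).left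
    have : WeaklyEtale (f ((QuasiCompactCover.exists_isAffineOpen_of_isCompact E
        i.1.2.isCompact).choose_spec.choose i.2)).left := hwe _
    infer_instance

/-- The big fppf site. -/
noncomputable def fppfGSite (X : Scheme.{u}) : GSite X (EtFppf.J X) (EtFppf.a X) where
  U := 𝟭 _
  faithful := inferInstance
  c := { app := fun _ => 𝟙 _, naturality := fun _ _ _ => (Category.comp_id _).trans (Category.id_comp _).symm }
  bij V W := ⟨fun a b h => (Category.comp_id _).symm.trans (h.trans (Category.comp_id _)),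
    fun q => ⟨q, Category.comp_id _⟩⟩
  lift {V S} hS k _ _ v := by
    obtain ⟨R, hR, hle⟩ := Precoverage.mem_toGrothendieck_iff_of_isStableUnderComposition.1
      ((GrothendieckTopology.mem_over_iff _ _).1 hS)
    obtain ⟨ι, Y, f, rfl⟩ := R.exists_eq_ofArrows
    obtain ⟨hsur, hP⟩ := (Scheme.ofArrows_mem_precoverage_iff _).1 hR
    obtain ⟨x⟩ : Nonempty (Spec (CommRingCat.of k)) := inferInstance
    obtain ⟨i, y, hy⟩ := hsur (v x)
    have : LocallyOfFinitePresentation (f i) := (hP i).2
    obtain ⟨z, -, -⟩ := Scheme.Pullback.exists_preimage_pullback (f := v) (g := f i) x y hy.symm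
    have : Nonempty ↑(pullback v (f i)) := ⟨z⟩
    have : JacobsonSpace ↑(pullback v (f i)) :=
      LocallyOfFiniteType.jacobsonSpace (pullback.fst v (f i))
    obtain ⟨c, -, hc⟩ := nonempty_inter_closedPoints (Z := (Set.univ : Set ↑(pullback v (f i))))
      Set.univ_nonempty isOpen_univ.isLocallyClosed
    let s := pointOfClosedPoint (pullback.fst v (f i)) c hc
    refine ⟨Over.mk (f i ≫ V.hom), Over.homMk (f i), s ≫ pullback.snd v (f i), ?_, ?_⟩
    · exact (Sieve.overEquiv_iff S (f i)).1 (hle _ _ ⟨i⟩)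
    · show (s ≫ pullback.snd v (f i)) ≫ f i = v
      rw [Category.assoc, ← pullback.condition, pointOfClosedPoint_comp_assoc]
  pb {V₁ V₂ V} g₁ g₂ :=
    ⟨Over.mk (pullback.fst g₁.left g₂.left ≫ V₁.hom), Over.homMk (pullback.fst g₁.left g₂.left) rfl,
      Over.homMk (pullback.snd g₁.left g₂.left) (by
        show pullback.snd g₁.left g₂.left ≫ V₂.hom = pullback.fst g₁.left g₂.left ≫ V₁.hom
        rw [← Over.w g₁, ← Over.w g₂, pullback.condition_assoc]),
      IsPullback.of_hasPullback g₁.left g₂.left⟩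
  quot {V S} hS T hT := by
    obtain ⟨R, hR, hle⟩ := Precoverage.mem_toGrothendieck_iff_of_isStableUnderComposition.1
      ((GrothendieckTopology.mem_over_iff _ _).1 hS)
    obtain ⟨ι, Y, f, rfl⟩ := R.exists_eq_ofArrows
    obtain ⟨hsur, hP⟩ := (Scheme.ofArrows_mem_precoverage_iff _).1 hR
    refine isOpen_iff_forall_mem_open.2 fun x hx => ?_
    obtain ⟨i, y, hy⟩ := hsur x
    have : Flat (f i) := (hP i).1
    have : LocallyOfFinitePresentation (f i) := (hP i).2
    refine ⟨f i '' (f i ⁻¹' T), Set.image_preimage_subset _ _, (f i).isOpenMap _ ?_, y, ?_, hy⟩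
    · exact hT (Over.mk (f i ≫ V.hom)) (Over.homMk (f i)) ((Sieve.overEquiv_iff S (f i)).1 (hle _ _ ⟨i⟩))
    · show f i y ∈ T
      rw [hy]; exact hx

instance (X : Scheme.{u}) : IsIso (proEtGSite X).c := by
  have : ∀ U, IsIso ((proEtGSite X).c.app U) := fun U => inferInstanceAs (IsIso (𝟙 _))
  exact NatIso.isIso_of_isIso_app _

instance (X : Scheme.{u}) : IsIso (fppfGSite X).c := by
  have : ∀ U, IsIso ((fppfGSite X).c.app U) := fun U => inferInstanceAs (IsIso (𝟙 _))
  exact NatIso.isIso_of_isIso_app _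

end Groth.Agent.Mod48
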