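import Groth.Agent.Mod48.ModGen
import Groth.Agent.SiteMod.UnitExt
import Groth.Agent.SiteMod.Injective
import Mathlib.Algebra.Category.ModuleCat.Presheaf.Free

/-!
`Ext` out of the free module on a sheaf of sets is the cohomology of the underlying abelian sheaf
with respect to that sheaf of sets.
-/

universe u

open CategoryTheory CategoryTheory.Limits Opposite CategoryTheory.Abelian

namespace Groth.Agent.Mod48

variable {C : Type u} [SmallCategory C] {J : GrothendieckTopology C} (O : Sheaf J CommRingCat.{u})

/-- The free module on a presheaf of sets. -/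
noncomputable abbrev freeSetMod (P : Cᵒᵖ ⥤ Type u) : ModSite.Mod O :=
  (ModSite.sheafify O).obj ((PresheafOfModules.free (ModSite.ringSh O).obj).obj P)

/-- Maps out of the free module on a presheaf of sets. -/
noncomputable abbrev freeSetModAdj :=
  (PresheafOfModules.freeAdjunction (ModSite.ringSh O).obj).comp
    (PresheafOfModules.sheafificationAdjunction (𝟙 (ModSite.ringSh O).obj))

variable (J) in
/-- Maps out of the free abelian sheaf on a presheaf of sets. -/
noncomputable abbrev freeSetAbAdj :=
  (AddCommGrpCat.adj.whiskerRight Cᵒᵖ).comp (sheafificationAdjunction J AddCommGrpCat.{u})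

/-- The generators, as a map out of the free abelian sheaf. -/
noncomputable def freeSetUnit (P : Cᵒᵖ ⥤ Type u) :
    (presheafToSheaf J AddCommGrpCat.{u}).obj (P ⋙ AddCommGrpCat.free.{u}) ⟶
      ModSite.toAb (freeSetMod O P) :=
  ((freeSetAbAdj J).homEquiv P _).symm ((freeSetModAdj O).unit.app P)

lemma freeSetUnit_bijective (P : Cᵒᵖ ⥤ Type u) (F : ModSite.Mod O) :
    Function.Bijective fun φ : freeSetMod O P ⟶ F =>
      freeSetUnit O P ≫ (SheafOfModules.toSheaf (ModSite.ringSh O)).map φ := by
  have h : (fun φ : freeSetMod O P ⟶ F =>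
      freeSetUnit O P ≫ (SheafOfModules.toSheaf (ModSite.ringSh O)).map φ) =
      ((freeSetAbAdj J).homEquiv P (ModSite.toAb F)).symm ∘ (freeSetModAdj O).homEquiv P F := by
    funext φ
    exact ((freeSetAbAdj J).homEquiv_naturality_right_symm _ _).symm.trans
      (congrArg ((freeSetAbAdj J).homEquiv P (ModSite.toAb F)).symm
        ((freeSetModAdj O).homEquiv_unit P F φ).symm)
  rw [h]
  exact ((freeSetAbAdj J).homEquiv P _).symm.bijective.comp ((freeSetModAdj O).homEquiv P F).bijective

/-- `Ext^p_O(O[K], F) ≅ H^p(K, F)`. -/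
noncomputable def extFreeSetHKEquiv [HasExt.{u} (ModSite.Mod O)] (K : Sheaf J (Type u))
    (F : ModSite.Mod O) (p : ℕ) :
    Ext (freeSetMod O K.obj) F p ≃+ CohCx.HK K (ModSite.toAb F) p :=
  have : IsGrothendieckAbelian.{u} (ModSite.Mod O) := Coh69.sheafOfModules_isGrothendieckAbelian (ModSite.ringSh O)
  have := toSheaf_preservesColimits (O := O)
  have : PreservesFiniteColimits (SheafOfModules.toSheaf.{u} (ModSite.ringSh O)) :=
    PreservesColimitsOfSize.preservesFiniteColimits _
  AddEquiv.ofBijective
    (SiteCoh.extTransfer (SheafOfModules.toSheaf (ModSite.ringSh O)) (freeSetUnit O K.obj) F p)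
    (SiteCoh.extTransfer_bijective _ _ (freeSetUnit_bijective O K.obj)
      (fun I _ k => SiteMod.isTotallyAcyclic_toSheaf_injective (ModSite.ringSh O) I K k) p F)

end Groth.Agent.Mod48
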