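import Groth.Agent.Mod48.GermSites
import Groth.Agent.ProEt91.Cont

/-!
The inverse image of a small etale sheaf along a morphism, seen through germs, and the description of the
pullback to the big fppf site on each object.
-/

universe u

open CategoryTheory CategoryTheory.Limits AlgebraicGeometry Opposite

namespace Groth.Agent.Mod48

set_option backward.isDefEq.respectTransparency.types false

open Unr55 (EtSh.germ EtSh.Pt EtSh.germ_map EtSh.mem_topology EtSh.exists_germ_eq EtSh.isSheafFor_forget)

variable {S T : Scheme.{u}} (f : T ⟶ S)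

/-- Points of a covering sieve of the small etale site. -/
lemma exists_point_of_mem {U : T.Etale} {R : Sieve U} (hR : R ∈ T.smallEtaleTopology U) (x : U.left) :
    ∃ (W : T.Etale) (g : W ⟶ U) (w : W.left), R g ∧ g.left w = x := by
  have e' : T.smallEtaleTopology =
      (T.smallPretopology (P := EtCoh.etaleMP) (Q := EtCoh.etaleMP)).toGrothendieck :=
    Scheme.smallGrothendieckTopology_eq_toGrothendieck_smallPretopology T le_rfl
  rw [e'] at hR
  obtain ⟨W, g, w, hg, -, hw⟩ := (Scheme.mem_toGrothendieck_smallPretopology U R).1 hR x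
  exact ⟨W, g, w, hg, hw⟩

/-- The small etale site of `T` as a site over `S`. -/
noncomputable def etaleGSite : GSite S T.smallEtaleTopology (EtCoh.bc f) where
  U := Scheme.Etale.forget T ⋙ Over.map f
  faithful :=
    have : (Scheme.Etale.forget T).Faithful := inferInstance
    have : (Over.map f).Faithful := ⟨fun h => Over.OverMorphism.ext (congrArg (fun q => q.left) h :)⟩
    inferInstance
  c :=
    { app := fun W => Over.homMk (pullback.fst W.hom f) (by
        show pullback.fst W.hom f ≫ W.hom = pullback.snd W.hom f ≫ f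
        exact pullback.condition)
      naturality := fun W W' g => Over.OverMorphism.ext (EtCoh.isPullback_bc_map f g).w }
  bij V W := by
    refine ⟨fun a b h => MorphismProperty.Over.Hom.ext (pullback.hom_ext ?_ ?_), fun q => ?_⟩
    · exact congrArg CommaMorphism.left h
    · exact (Over.w a.hom).trans (Over.w b.hom).symm
    · refine ⟨MorphismProperty.Over.homMk
        (pullback.lift (f := W.hom) (g := f) q.left V.hom (Over.w q)) (pullback.lift_snd _ _ _), ?_⟩
      exact Over.OverMorphism.ext (pullback.lift_fst _ _ _)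
  lift {V R} hR k _ _ v := by
    obtain ⟨W, g, w, hg, hw⟩ := exists_point_of_mem hR (v default)
    have := etale_left g
    obtain ⟨l, hl, -⟩ := Scheme.exists_fac_of_etale_of_isSepClosed g.left v w hw
    exact ⟨W, g, l, hg, hl⟩
  pb {V₁ V₂ V} g₁ g₂ := by
    have : Etale V₁.hom := V₁.prop
    have := etale_left g₂
    refine ⟨MorphismProperty.Over.mk ⊤ (pullback.fst g₁.left g₂.left ≫ V₁.hom)
        (inferInstance : Etale (pullback.fst g₁.left g₂.left ≫ V₁.hom)),
      MorphismProperty.Over.homMk (pullback.fst g₁.left g₂.left) rfl,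
      MorphismProperty.Over.homMk (pullback.snd g₁.left g₂.left) ?_,
      IsPullback.of_hasPullback g₁.left g₂.left⟩
    show pullback.snd g₁.left g₂.left ≫ V₂.hom = pullback.fst g₁.left g₂.left ≫ V₁.hom
    rw [← MorphismProperty.Over.w g₁, ← MorphismProperty.Over.w g₂, pullback.condition_assoc]
  quot {V R} hR P hP := by
    refine isOpen_iff_forall_mem_open.2 fun x hx => ?_
    obtain ⟨W, g, w, hg, hw⟩ := exists_point_of_mem hR x
    have := etale_left g
    refine ⟨g.left '' (g.left ⁻¹' P), Set.image_preimage_subset _ _, g.left.isOpenMap _ (hP W g hg),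
      w, ?_, hw⟩
    show g.left w ∈ P
    rw [hw]; exact hx

variable (T) in
/-- Etale coverings are fppf coverings. -/
theorem aCont : EtFppf.ACont T := by
  have : PreservesFiniteLimits (EtFppf.a T) :=
    inferInstanceAs (PreservesFiniteLimits (MorphismProperty.Over.forget EtCoh.etaleMP.{u} ⊤ T))
  have : RepresentablyFlat (EtFppf.a T) := flat_of_preservesFiniteLimits _
  rw [EtFppf.ACont, Functor.isContinuous_iff_coverPreserving]
  refine ⟨fun {U R} hR => ?_⟩
  rw [GrothendieckTopology.mem_over_iff]
  choose W g w hg hw using exists_point_of_mem hR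
  have hmem : Presieve.ofArrows (fun x : U.left => (W x).left) (fun x => (g x).left) ∈
      Scheme.fppfPrecoverage U.left := by
    refine (Scheme.ofArrows_mem_precoverage_iff _).2 ⟨fun x => ⟨x, w x, hw x⟩, fun x => ?_⟩
    have := etale_left (g x)
    exact ⟨inferInstance, inferInstance⟩
  refine GrothendieckTopology.superset_covering _ ?_ (Precoverage.generate_mem_toGrothendieck hmem)
  rw [Sieve.generate_le_iff]
  rintro Z q ⟨x⟩
  exact ⟨(EtFppf.a T).obj (W x), (EtFppf.a T).map (g x), 𝟙 _,
    Sieve.image_mem_functorPushforward _ _ (hg x), (Category.id_comp _).symm⟩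

/-- An etale `T`-scheme as an `S`-scheme. -/
noncomputable abbrev toBig : T.Etale ⥤ Over S := EtFppf.a T ⋙ Over.map f

instance toBig_isContinuous : (toBig f).IsContinuous T.smallEtaleTopology (EtFppf.J S) :=
  have : (EtFppf.a T).IsContinuous T.smallEtaleTopology (EtFppf.J T) := aCont T
  Functor.isContinuous_comp (EtFppf.a T) (Over.map f) _ (EtFppf.J T) _

variable [EtFppf.ACont S] (F : EtCoh.Ab S)

/-- The restriction of the big pullback to the small etale site of `T`. -/
noncomputable abbrev bigRes : EtCoh.Ab T :=
  ((toBig f).sheafPushforwardContinuous AddCommGrpCat.{u + 1} T.smallEtaleTopology (EtFppf.J S)).obj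
    ((EtFppf.aPull S).obj F)

/-- The projection of a base change. -/
noncomputable def bcProj (U : S.Etale) : (toBig f).obj ((EtCoh.bc f).obj U) ⟶ (EtFppf.a S).obj U :=
  (etaleGSite f).c.app U

/-- The comparison map from the inverse image. -/
noncomputable def toBigRes : (EtCoh.pull f).obj F ⟶ bigRes f F :=
  ((GSite.adj T.smallEtaleTopology (EtCoh.bc f)).homEquiv _ _).symm
    { hom :=
      { app := fun U => AddCommGrpCat.ofHom
          { toFun := fun s => ((EtFppf.aPull S).obj F).obj.map (bcProj f U.unop).op
              (GSite.etaSect (EtFppf.J S) (EtFppf.a S) F s)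
            map_zero' := (congrArg _ (map_zero _)).trans (map_zero _)
            map_add' := fun s s' => (congrArg _ (map_add _ _ _)).trans (map_add _ _ _) }
        naturality := fun U U' g => by
          ext s
          show ((EtFppf.aPull S).obj F).obj.map (bcProj f U'.unop).op
              (GSite.etaSect (EtFppf.J S) (EtFppf.a S) F (F.obj.map g s)) =
            ((EtFppf.aPull S).obj F).obj.map ((toBig f).map ((EtCoh.bc f).map g.unop)).op
              (((EtFppf.aPull S).obj F).obj.map (bcProj f U.unop).op
                (GSite.etaSect (EtFppf.J S) (EtFppf.a S) F s))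
          rw [← g.op_unop, ← GSite.eta_map, ← ConcreteCategory.comp_apply, ← ConcreteCategory.comp_apply,
            ← Functor.map_comp, ← Functor.map_comp, ← op_comp, ← op_comp]
          refine congrArg (fun k => ((EtFppf.aPull S).obj F).obj.map (Quiver.Hom.op k)
            (GSite.etaSect (EtFppf.J S) (EtFppf.a S) F s)) ?_
          exact ((etaleGSite f).c.naturality g.unop).symm } }

lemma toBigRes_eta {U : S.Etale} (s : EtCoh.sect F U) :
    (toBigRes f F).hom.app (op ((EtCoh.bc f).obj U))
        (GSite.etaSect T.smallEtaleTopology (EtCoh.bc f) F s) =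
      ((EtFppf.aPull S).obj F).obj.map (bcProj f U).op (GSite.etaSect (EtFppf.J S) (EtFppf.a S) F s) := by
  have h : (GSite.adj T.smallEtaleTopology (EtCoh.bc f)).homEquiv _ _ (toBigRes f F) = _ :=
    Equiv.apply_symm_apply _ _
  rw [Adjunction.homEquiv_unit] at h
  exact congrArg (fun φ : F ⟶ _ => φ.hom.app (op U) s) h

/-- Values are preserved. -/
lemma val_toBigRes {V : T.Etale} (η : GPt S) (v : (etaleGSite f).Pts η V)
    (t : ((EtCoh.pull f).obj F).obj.obj (op V)) :
    (fppfGSite S).val F η (v : Over.mk η.hom ⟶ (toBig f).obj V) ((toBigRes f F).hom.app (op V) t) =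
      (etaleGSite f).val F η v t := by
  let res : bigRes f F ⟶ (etaleGSite f).sky F :=
    { hom :=
      { app := fun W => ((fppfGSite S).value F).hom.app (op ((toBig f).obj W.unop))
        naturality := fun W W' g =>
          ((fppfGSite S).value F).hom.naturality ((toBig f).map g.unop).op } }
  have key : toBigRes f F ≫ res = (etaleGSite f).value F := by
    apply ((GSite.adj T.smallEtaleTopology (EtCoh.bc f)).homEquiv _ _).injective
    rw [GSite.value, Equiv.apply_symm_apply, Adjunction.homEquiv_unit]
    ext U s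
    funext ζ w
    show (fppfGSite S).val F ζ w ((toBigRes f F).hom.app (op ((EtCoh.bc f).obj U.unop))
        (GSite.etaSect T.smallEtaleTopology (EtCoh.bc f) F s)) = _
    rw [toBigRes_eta]
    exact ((fppfGSite S).val_map F (bcProj f U.unop) ζ w _).trans
      ((fppfGSite S).val_eta F ζ _ s)
  exact congrFun (congrFun (congrArg (fun φ : _ ⟶ (etaleGSite f).sky F => φ.hom.app (op V) t) key) η) v

lemma toBigRes_injective (V : T.Etale) : Function.Injective ((toBigRes f F).hom.app (op V)) :=
  fun t t' h => (etaleGSite f).eq_of_val F t t' fun η v => by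
    rw [← val_toBigRes, ← val_toBigRes, h]

lemma toBigRes_surjective (V : T.Etale) : Function.Surjective ((toBigRes f F).hom.app (op V)) := by
  intro t
  let P := (EtCoh.pull f).obj F
  let R : Sieve V :=
    { arrows := fun W g => ∃ σ : EtCoh.sect P W,
        (toBigRes f F).hom.app (op W) σ = (bigRes f F).obj.map g.op t
      downward_closed := fun {W W' g} ⟨σ, hσ⟩ k => ⟨P.obj.map k.op σ, by
        rw [op_comp, Functor.map_comp, ConcreteCategory.comp_apply, ← hσ]
        exact NatTrans.naturality_apply (toBigRes f F).hom k.op σ⟩ }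
  have hR : R ∈ T.smallEtaleTopology V := EtSh.mem_topology fun x => by
    obtain ⟨η, v, hv⟩ := exists_gpt ((etaleGSite f).U.obj V) x
    obtain ⟨W₀, w₀, σ₀, hσ₀⟩ := EtSh.exists_germ_eq η.hom F ((fppfGSite S).val F η v t)
    let vl : Spec (CommRingCat.of η.k) ⟶ V.left := v.left
    let wl : Spec (CommRingCat.of η.k) ⟶ W₀.left := w₀.left
    have hvw : wl ≫ W₀.hom = vl ≫ V.hom ≫ f := (Over.w w₀).trans (Over.w v).symm
    have : Etale W₀.hom := W₀.prop
    have : Etale V.hom := V.prop
    let q := pullback.fst (V.hom ≫ f) W₀.hom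
    let W : T.Etale := MorphismProperty.Over.mk ⊤ (q ≫ V.hom) (inferInstance : Etale (q ≫ V.hom))
    let a : W ⟶ V := MorphismProperty.Over.homMk q rfl
    let b : (etaleGSite f).U.obj W ⟶ (Scheme.Etale.forget S).obj W₀ :=
      Over.homMk (pullback.snd (V.hom ≫ f) W₀.hom) (by
        show pullback.snd (V.hom ≫ f) W₀.hom ≫ W₀.hom = (q ≫ V.hom) ≫ f
        rw [← pullback.condition, Category.assoc])
    let w : (etaleGSite f).Pts η W := Over.homMk (pullback.lift vl wl hvw.symm) (by
      show pullback.lift vl wl hvw.symm ≫ (q ≫ V.hom) ≫ f = η.hom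
      rw [Category.assoc, pullback.lift_fst_assoc]
      exact Over.w v)
    have wa : w ≫ (etaleGSite f).U.map a = v := Over.OverMorphism.ext (pullback.lift_fst _ _ _)
    have wb : w ≫ b = (w₀ : Over.mk η.hom ⟶ (Scheme.Etale.forget S).obj W₀) :=
      Over.OverMorphism.ext (pullback.lift_snd _ _ _)
    let σ : EtCoh.sect P W := P.obj.map ((etaleGSite f).toE b).op
      (GSite.etaSect T.smallEtaleTopology (EtCoh.bc f) F σ₀)
    let d : ((EtFppf.aPull S).obj F).obj.obj (op ((toBig f).obj W)) :=
      (bigRes f F).obj.map a.op t - (toBigRes f F).hom.app (op W) σ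
    have hd : (fppfGSite S).val F η w d = 0 := by
      refine (map_sub ((fppfGSite S).val F η w) _ _).trans (sub_eq_zero.2 ?_)
      refine Eq.trans ?_ (val_toBigRes f F η w σ).symm
      rw [GSite.val_rep, GSite.unE_toE]
      refine ((fppfGSite S).val_map F ((toBig f).map a) η w t).trans ?_
      exact (congrArg ((fppfGSite S).val F η · t) wa).trans
        (hσ₀.symm.trans (congrArg (fun q : EtSh.Pt η.hom W₀ => EtSh.germ η.hom F q σ₀) wb.symm))
    let O : W.left.Opens := ⟨(fppfGSite S).locusSet F d, (fppfGSite S).isOpen_locusSet F d⟩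
    have hz : ((EtFppf.aPull S).obj F).obj.map ((toBig f).map (openEtι W O)).op d = 0 := by
      refine (fppfGSite S).eq_zero_of_val F _ fun ζ u => ?_
      rw [GSite.val_map, ← GSite.mem_locusSet_iff]
      exact ((img u : O.toScheme)).2
    let wp : W.left := img (η := η) (Y := (etaleGSite f).U.obj W) w
    have hwO : wp ∈ O := ((fppfGSite S).mem_locusSet_iff F d η w).2 hd
    refine ⟨openEt W O, openEtι W O ≫ a, (⟨wp, hwO⟩ : O.toScheme), ⟨P.obj.map (openEtι W O).op σ, ?_⟩, ?_⟩
    · have hz' : (bigRes f F).obj.map (openEtι W O).op ((bigRes f F).obj.map a.op t) =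
          (bigRes f F).obj.map (openEtι W O).op ((toBigRes f F).hom.app (op W) σ) :=
        sub_eq_zero.1 ((map_sub _ _ _).symm.trans hz)
      rw [op_comp, Functor.map_comp, ConcreteCategory.comp_apply]
      exact (NatTrans.naturality_apply (toBigRes f F).hom (openEtι W O).op σ).trans hz'.symm
    · exact (congrArg (fun q : (etaleGSite f).Pts η V => img q) wa).trans hv
  choose σ hσ using fun W (g : W ⟶ V) (hg : R g) => hg
  have hcomp : Presieve.FamilyOfElements.Compatible
      (P := P.obj ⋙ forget AddCommGrpCat.{u + 1}) (R := R.arrows) σ := by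
    intro W₁ W₂ W g₁ g₂ f₁ f₂ h₁ h₂ w
    refine toBigRes_injective f F W ?_
    show (toBigRes f F).hom.app (op W) (P.obj.map g₁.op (σ W₁ f₁ h₁)) =
      (toBigRes f F).hom.app (op W) (P.obj.map g₂.op (σ W₂ f₂ h₂))
    rw [NatTrans.naturality_apply, NatTrans.naturality_apply, hσ, hσ, ← ConcreteCategory.comp_apply,
      ← ConcreteCategory.comp_apply, ← Functor.map_comp, ← Functor.map_comp, ← op_comp, ← op_comp, w]
  obtain ⟨s, hs, -⟩ := EtSh.isSheafFor_forget P hR σ hcomp
  refine ⟨s, (EtSh.isSheafFor_forget (bigRes f F) hR).isSeparatedFor.ext fun W g hg => ?_⟩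
  show (bigRes f F).obj.map g.op ((toBigRes f F).hom.app (op V) s) = (bigRes f F).obj.map g.op t
  rw [← hσ W g hg]
  exact (NatTrans.naturality_apply (toBigRes f F).hom g.op s).symm.trans (congrArg _ (hs g hg))

/-- Sections of the pullback to the big site over `T` are sections of the inverse image over `T`. -/
theorem nonempty_aPull_sections :
    Nonempty (((EtFppf.aPull S).obj F).obj.obj (op (Over.mk f)) ≅
      ((EtCoh.pull f).obj F).obj.obj (op (EtCoh.top T))) := by
  have : IsIso ((toBigRes f F).hom.app (op (EtCoh.top T))) :=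
    (ConcreteCategory.isIso_iff_bijective _).2
      ⟨toBigRes_injective f F _, toBigRes_surjective f F _⟩
  let e : Over.mk f ≅ (toBig f).obj (EtCoh.top T) :=
    Over.isoMk (Iso.refl _) ((Category.id_comp _).trans (Category.id_comp _))
  exact ⟨((EtFppf.aPull S).obj F).obj.mapIso e.symm.op ≪≫
    (asIso ((toBigRes f F).hom.app (op (EtCoh.top T)))).symm⟩

end Groth.Agent.Mod48
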