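import Groth.Agent.Mod48.LocalHomotopy

/-!
Local lifting up to homotopy through maps which are isomorphisms on homology in high degrees.
-/

universe u w

open CategoryTheory CategoryTheory.Limits Opposite CochainComplex

namespace Groth.Agent.Mod48

set_option backward.isDefEq.respectTransparency false

/-- The cone of a map which is an isomorphism on homology in high degrees is exact there. -/
lemma exactAt_mappingCone {A : Type*} [Category* A] [Abelian A] {G F : CochainComplex A ℤ} (f : G ⟶ F)
    (j : ℤ) (h1 : Epi (HomologicalComplex.homologyMap f j))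
    (h2 : Mono (HomologicalComplex.homologyMap f (j + 1))) : (mappingCone f).ExactAt j := by
  letI := HasDerivedCategory.standard A
  let T := DerivedCategory.Q.mapTriangle.obj (mappingCone.triangle f)
  have hT : T ∈ Pretriangulated.distinguishedTriangles :=
    (DerivedCategory.mem_distTriang_iff _).2 ⟨_, _, _, ⟨Iso.refl _⟩⟩
  have he : ∀ k : ℤ, (DerivedCategory.homologyFunctor A k).map (DerivedCategory.Q.map f) =
      ((DerivedCategory.homologyFunctorFactors A k).app G).hom ≫ HomologicalComplex.homologyMap f k ≫
        ((DerivedCategory.homologyFunctorFactors A k).app F).inv := fun k =>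
    by
      rw [← cancel_mono ((DerivedCategory.homologyFunctorFactors A k).app F).hom]
      simp only [Category.assoc, Iso.inv_hom_id, Category.comp_id]
      exact (DerivedCategory.homologyFunctorFactors A k).hom.naturality f
  have e1 : Epi ((DerivedCategory.homologyFunctor A j).map T.mor₁) := by
    change Epi ((DerivedCategory.homologyFunctor A j).map (DerivedCategory.Q.map f))
    rw [he j]
    infer_instance
  have e2 : Mono ((DerivedCategory.homologyFunctor A (j + 1)).map T.mor₁) := by
    change Mono ((DerivedCategory.homologyFunctor A (j + 1)).map (DerivedCategory.Q.map f))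
    rw [he (j + 1)]
    infer_instance
  have z1 := (DerivedCategory.HomologySequence.epi_homologyMap_mor₁_iff T hT j).1 e1
  have z2 := (DerivedCategory.HomologySequence.mono_homologyMap_mor₁_iff T hT j (j + 1) rfl).1 e2
  have hz : IsZero ((DerivedCategory.homologyFunctor A j).obj T.obj₃) :=
    (DerivedCategory.HomologySequence.exact₃ T hT j (j + 1) rfl).isZero_X₂_iff.2 ⟨z1, z2⟩
  rw [HomologicalComplex.exactAt_iff_isZero_homology]
  exact hz.of_iso ((DerivedCategory.homologyFunctorFactors A j).app _).symm

open SiteMod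

variable {C : Type u} [SmallCategory C] {J : GrothendieckTopology C} {O : Sheaf J CommRingCat.{u}}

/-- Maps out of strictly perfect complexes lift locally up to homotopy. -/
theorem exists_local_homotopy_lift {E F G : CochainComplex (ModSite.Mod O) ℤ} (α : E ⟶ F) (f : G ⟶ F)
    (hE : DCoh.IsStrictlyPerfectMod (ModSite.ringSh O) E) (a : ℤ)
    (hEa : ∀ j : ℤ, j < a → IsZero (E.X j))
    (hiso : ∀ j : ℤ, a < j → IsIso (HomologicalComplex.homologyMap f j))
    (hepi : Epi (HomologicalComplex.homologyMap f a)) (V : C) :
    ∃ R ∈ J V, ∀ ⦃W : C⦄ (g : W ⟶ V), R g →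
      ∃ β : ((ModSite.restr O W).mapHomologicalComplex (ComplexShape.up ℤ)).obj E ⟶
          ((ModSite.restr O W).mapHomologicalComplex (ComplexShape.up ℤ)).obj G,
        Nonempty (Homotopy (β ≫ ((ModSite.restr O W).mapHomologicalComplex (ComplexShape.up ℤ)).map f)
          (((ModSite.restr O W).mapHomologicalComplex (ComplexShape.up ℤ)).map α)) := by
  classical
  obtain ⟨⟨a₀, b₀, hab⟩, hsum⟩ := hE
  choose n q e he using fun m => exists_coord (hsum m)
  let D := mappingCone f
  let γ : E ⟶ D := α ≫ mappingCone.inr f
  have hD : ∀ j : ℤ, a ≤ j → D.ExactAt j := fun j hj =>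
    exactAt_mappingCone f j
      (by rcases eq_or_lt_of_le hj with rfl | h
          · exact hepi
          · have := hiso j h; infer_instance)
      (have := hiso (j + 1) (by omega); inferInstance)
  obtain ⟨R, hR, hσ⟩ := exists_contraction γ q e he a b₀ hEa (fun j hj => hab j (Or.inr hj)) hD V
    (b₀ + 1 - a).toNat
  refine ⟨R, hR, fun W g hg => ?_⟩
  obtain ⟨σ, hσ⟩ := hσ g hg
  let r := ModSite.restr O W
  have : r.Additive :=
    have := SiteMod.extZero_preservesFiniteLimits (O := O) W
    have : (ModSite.extZero O W).Additive := Functor.additive_of_preserves_binary_products _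
    (ModSite.extZeroAdj O W).right_adjoint_additive
  have hall : ∀ m, HEq γ q σ m := fun m => by
    by_cases hm : m + 1 < a
    · intro W' h x
      have hx : x = 0 := by
        change (fgt.map (𝟙 (E.X (m + 1)))).app (op W') x = 0
        rw [(hEa _ hm).eq_of_src (𝟙 (E.X (m + 1))) 0]
        rfl
      rw [hx]
      simp only [map_zero, add_zero]
    · exact hσ m (by omega)
  let Sf : ∀ i j : ℤ, r.obj (E.X j) ⟶ r.obj (D.X i) := fun i j =>
    if h : i + 1 = j then r.map (eqToHom (congrArg E.X h.symm)) ≫ Lhom (q (i + 1)) (σ i) else 0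
  have hSf : ∀ i, Sf i (i + 1) = Lhom (q (i + 1)) (σ i) := fun i => by
    simp only [Sf, dif_pos rfl, eqToHom_refl, CategoryTheory.Functor.map_id, Category.id_comp]
  have heq : ∀ i j k : ℤ, i + 1 = j → j + 1 = k →
      r.map (γ.f j) = Sf i j ≫ r.map (D.d i j) + r.map (E.d j k) ≫ Sf j k := by
    rintro i _ _ rfl rfl
    rw [hSf, hSf]
    apply fgt.map_injective
    refine PresheafOfModules.hom_ext fun T => ?_
    ext x
    exact (hall i T.unop.hom x).trans (congrArg₂ (α := (pre (D.X (i + 1))).obj (op T.unop.left)) (· + ·)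
      (congrArg ((fgt.map (D.d i (i + 1))).app (op T.unop.left))
        (Lhom_app (q (i + 1)) (σ i) T.unop x).symm)
      (Lhom_app (q (i + 1 + 1)) (σ (i + 1)) T.unop
        ((fgt.map (E.d (i + 1) (i + 1 + 1))).app (op T.unop.left) x)).symm)
  let β : ∀ k : ℤ, r.obj (E.X k) ⟶ r.obj (G.X k) := fun k =>
    Sf (k - 1) k ≫ r.map ((mappingCone.fst f).1.v (k - 1) k (by omega))
  have hβ : ∀ i k (h : i + 1 = k), β k = Sf i k ≫ r.map ((mappingCone.fst f).1.v i k h) := by
    intro i k h
    obtain rfl : i = k - 1 := by omega
    rfl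
  refine ⟨{ f := β, comm' := fun i j hij => ?_ }, ⟨(Homotopy.symm (?_ : Homotopy _ _))⟩⟩
  · obtain rfl : i + 1 = j := hij
    have h := congrArg (· ≫ r.map ((mappingCone.fst f).1.v i (i + 1) rfl)) (heq (i - 1) i (i + 1) (by omega) rfl)
    simp only [γ, HomologicalComplex.comp_f, Preadditive.add_comp, Category.assoc, ← Functor.map_comp,
      mappingCone.inr_f_fst_v, comp_zero, Functor.map_zero] at h
    rw [mappingCone.d_fst_v f (i - 1) i (i + 1) (by omega) rfl, Functor.map_neg, Functor.map_comp,
      Preadditive.comp_neg] at h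
    change β i ≫ r.map (G.d i (i + 1)) = r.map (E.d i (i + 1)) ≫ β (i + 1)
    rw [hβ i (i + 1) rfl, hβ (i - 1) i (by omega), Category.assoc]
    exact neg_add_eq_zero.1 h.symm
  · refine
      { hom := fun k i => Sf i k ≫ r.map ((mappingCone.snd f).v i i (add_zero i))
        zero := fun k i h => by simp only [Sf, dif_neg (show ¬ (i + 1 = k) from h), zero_comp]
        comm := fun k => ?_ }
    rw [dNext_eq _ (show (ComplexShape.up ℤ).Rel k (k + 1) from rfl),
      prevD_eq _ (show (ComplexShape.up ℤ).Rel (k - 1) k by simp)]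
    have h := congrArg (· ≫ r.map ((mappingCone.snd f).v k k (add_zero k)))
      (heq (k - 1) k (k + 1) (by omega) rfl)
    simp only [γ, HomologicalComplex.comp_f, Preadditive.add_comp, Category.assoc, ← Functor.map_comp,
      mappingCone.inr_f_snd_v, Category.comp_id] at h
    rw [mappingCone.d_snd_v f (k - 1) k (by omega), Functor.map_add, Preadditive.comp_add] at h
    change r.map (α.f k) = r.map (E.d k (k + 1)) ≫ Sf k (k + 1) ≫ r.map ((mappingCone.snd f).v k k _) +
      (Sf (k - 1) k ≫ r.map ((mappingCone.snd f).v (k - 1) (k - 1) _)) ≫ r.map (F.d (k - 1) k) +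
        β k ≫ r.map (f.f k)
    rw [h, hβ (k - 1) k (by omega), Category.assoc, Category.assoc, ← Functor.map_comp, ← Functor.map_comp]
    abel

end Groth.Agent.Mod48
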