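import Groth.Agent.Mod48.Tot
import Mathlib.Algebra.Homology.HomotopyCategory.Pretriangulated

/-!
First properties of K-flat complexes of sheaves of modules on a ringed site.
-/

universe u v

open CategoryTheory CategoryTheory.Limits Opposite MonoidalCategory HomologicalComplex

namespace Groth.Agent.Mod48

section Abelian

variable {A : Type*} [Category* A] [Abelian A]

lemma acyclic_of_isZero_homology {K : CochainComplex A ℤ} (h : ∀ i, IsZero (K.homology i)) :
    K.Acyclic := fun i => (K.exactAt_iff_isZero_homology i).2 (h i)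

lemma isZero_homology_of_acyclic {K : CochainComplex A ℤ} (h : K.Acyclic) (i : ℤ) :
    IsZero (K.homology i) := (K.exactAt_iff_isZero_homology i).1 (h i)

lemma acyclic_of_iso {K L : CochainComplex A ℤ} (e : K ≅ L) (h : K.Acyclic) : L.Acyclic :=
  acyclic_of_isZero_homology fun i =>
    (isZero_homology_of_acyclic h i).of_iso
      ((HomologicalComplex.homologyFunctor A _ i).mapIso e).symm

lemma isZero_mid {S : ShortComplex A} (hS : S.Exact) (h1 : IsZero S.X₁) (h3 : IsZero S.X₃) :
    IsZero S.X₂ :=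
  hS.isZero_X₂ (h1.eq_of_src _ _) (h3.eq_of_tgt _ _)

variable {S : ShortComplex (CochainComplex A ℤ)}

lemma acyclic_X₁ (hS : S.ShortExact) (h2 : S.X₂.Acyclic) (h3 : S.X₃.Acyclic) : S.X₁.Acyclic :=
  acyclic_of_isZero_homology fun i =>
    isZero_mid (hS.homology_exact₁ (i - 1) i (sub_add_cancel i 1))
      (isZero_homology_of_acyclic h3 _) (isZero_homology_of_acyclic h2 _)

lemma acyclic_X₂ (hS : S.ShortExact) (h1 : S.X₁.Acyclic) (h3 : S.X₃.Acyclic) : S.X₂.Acyclic :=
  acyclic_of_isZero_homology fun i =>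
    isZero_mid (hS.homology_exact₂ i)
      (isZero_homology_of_acyclic h1 _) (isZero_homology_of_acyclic h3 _)

lemma acyclic_X₃ (hS : S.ShortExact) (h1 : S.X₁.Acyclic) (h2 : S.X₂.Acyclic) : S.X₃.Acyclic :=
  acyclic_of_isZero_homology fun i =>
    isZero_mid (hS.homology_exact₃ i (i + 1) rfl)
      (isZero_homology_of_acyclic h2 _) (isZero_homology_of_acyclic h1 _)

lemma acyclic_X₃_of_quasiIso (hS : S.ShortExact) (hf : QuasiIso S.f) : S.X₃.Acyclic :=
  acyclic_of_isZero_homology fun i => by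
    have h0 : HomologicalComplex.homologyMap S.g i = 0 := by
      rw [← cancel_epi (HomologicalComplex.homologyMap S.f i), comp_zero,
        ← HomologicalComplex.homologyMap_comp, S.zero, HomologicalComplex.homologyMap_zero]
    refine (hS.homology_exact₃ i (i + 1) rfl).isZero_X₂ h0 ?_
    rw [← cancel_mono (HomologicalComplex.homologyMap S.f (i + 1)), zero_comp]
    exact hS.δ_comp i (i + 1) rfl

lemma quasiIso_of_acyclic_X₃ (hS : S.ShortExact) (h3 : S.X₃.Acyclic) : QuasiIso S.f := by
  rw [quasiIso_iff]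
  intro i
  rw [quasiIsoAt_iff_isIso_homologyMap]
  have : Mono (HomologicalComplex.homologyMap S.f i) :=
    (hS.homology_exact₁ (i - 1) i (sub_add_cancel i 1)).mono_g
      ((isZero_homology_of_acyclic h3 _).eq_of_src _ _)
  have : Epi (HomologicalComplex.homologyMap S.f i) :=
    (hS.homology_exact₂ i).epi_f ((isZero_homology_of_acyclic h3 _).eq_of_tgt _ _)
  exact isIso_of_mono_of_epi _

lemma quasiIso_g_of_acyclic_X₁ (hS : S.ShortExact) (h1 : S.X₁.Acyclic) : QuasiIso S.g := by
  rw [quasiIso_iff]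
  intro i
  rw [quasiIsoAt_iff_isIso_homologyMap]
  have : Mono (HomologicalComplex.homologyMap S.g i) :=
    (hS.homology_exact₂ i).mono_g ((isZero_homology_of_acyclic h1 _).eq_of_src _ _)
  have : Epi (HomologicalComplex.homologyMap S.g i) :=
    (hS.homology_exact₃ i (i + 1) rfl).epi_f ((isZero_homology_of_acyclic h1 _).eq_of_tgt _ _)
  exact isIso_of_mono_of_epi _

lemma acyclic_of_homotopy_id_zero {K : CochainComplex A ℤ} (h : Homotopy (𝟙 K) 0) : K.Acyclic :=
  acyclic_of_isZero_homology fun i => by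
    rw [IsZero.iff_id_eq_zero, ← HomologicalComplex.homologyMap_id, h.homologyMap_eq,
      HomologicalComplex.homologyMap_zero]

/-- A functor on complexes preserves the homotopy relation. -/
def PreservesHtp {B : Type*} [Category* B] [Preadditive B]
    (G : CochainComplex A ℤ ⥤ CochainComplex B ℤ) : Prop :=
  ∀ ⦃K L : CochainComplex A ℤ⦄ (f g : K ⟶ L), Homotopy f g → Nonempty (Homotopy (G.map f) (G.map g))

variable {B : Type*} [Category* B] [Abelian B]
  (G : CochainComplex A ℤ ⥤ CochainComplex B ℤ) [G.Additive]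

omit S in
/-- Every morphism of complexes factors as a degreewise split monomorphism followed by a projection
which is a homotopy equivalence. -/
lemma quasiIso_map_of_split {F F' : CochainComplex A ℤ} (φ : F ⟶ F') [QuasiIso φ]
    (hG : PreservesHtp G)
    (hsplit : ∀ S : ShortComplex (CochainComplex A ℤ), S.ShortExact →
      (∀ n, Nonempty (S.map (HomologicalComplex.eval A (ComplexShape.up ℤ) n)).Splitting) →
      (S.map G).ShortExact)
    (hcoker : ∀ (S : ShortComplex (CochainComplex A ℤ)),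
      S.X₁ = F → S.X₂ = (F' ⊞ CochainComplex.mappingCone (𝟙 F)) → S.ShortExact →
      (∀ n, Nonempty (S.map (HomologicalComplex.eval A (ComplexShape.up ℤ) n)).Splitting) →
      S.X₃.Acyclic → (G.obj S.X₃).Acyclic) :
    QuasiIso (G.map φ) := by
  let P := CochainComplex.mappingCone (𝟙 F)
  let i : F ⟶ F' ⊞ P := biprod.lift φ (CochainComplex.mappingCone.inr (𝟙 F))
  let e : HomotopyEquiv (F' ⊞ P) F' :=
    { hom := biprod.fst
      inv := biprod.inl
      homotopyHomInvId :=
        let h₁ := ((CochainComplex.mappingCone.homotopyToZeroOfId F).compRight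
          (biprod.inr : P ⟶ F' ⊞ P)).compLeft (biprod.snd : F' ⊞ P ⟶ P)
        let h₂ := Homotopy.add (Homotopy.refl (biprod.fst ≫ biprod.inl : F' ⊞ P ⟶ F' ⊞ P)) h₁
        (Homotopy.ofEq (by simp)).trans (h₂.symm.trans (Homotopy.ofEq (by simp [P])))
      homotopyInvHomId := Homotopy.ofEq (by simp) }
  have : QuasiIso (biprod.fst : F' ⊞ P ⟶ F') := e.quasiIso_hom
  have hfac : i ≫ biprod.fst = φ := biprod.lift_fst _ _
  have : QuasiIso i := by
    have : QuasiIso (i ≫ (biprod.fst : F' ⊞ P ⟶ F')) := by rw [hfac]; infer_instance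
    exact quasiIso_of_comp_right i (biprod.fst : F' ⊞ P ⟶ F')
  have hr : ∀ n, i.f n ≫ (biprod.snd : F' ⊞ P ⟶ P).f n ≫
      (CochainComplex.mappingCone.snd (𝟙 F)).v n n (add_zero n) = 𝟙 (F.X n) := fun n => by
    rw [← HomologicalComplex.comp_f_assoc, biprod.lift_snd, CochainComplex.mappingCone.inr_f_snd_v]
  have : ∀ n, IsSplitMono (i.f n) := fun n => IsSplitMono.mk' ⟨_, hr n⟩
  have : Mono i := HomologicalComplex.mono_of_mono_f i inferInstance
  let S : ShortComplex (CochainComplex A ℤ) := ShortComplex.mk i (cokernel.π i) (cokernel.condition i)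
  have hS : S.ShortExact := { exact := ShortComplex.exact_of_g_is_cokernel _ (cokernelIsCokernel i) }
  have hσ : ∀ n, Nonempty (S.map (HomologicalComplex.eval A (ComplexShape.up ℤ) n)).Splitting := fun n =>
    have hSn := hS.map_of_exact (HomologicalComplex.eval A (ComplexShape.up ℤ) n)
    have := hSn.epi_g
    ⟨ShortComplex.Splitting.ofExactOfRetraction _ hSn.exact _ (hr n) hSn.epi_g⟩
  have h1 : QuasiIso (G.map i) :=
    quasiIso_of_acyclic_X₃ (hsplit S hS hσ)
      (hcoker S rfl rfl hS hσ (acyclic_X₃_of_quasiIso hS inferInstance))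
  obtain ⟨H₁⟩ := hG _ _ e.homotopyHomInvId
  obtain ⟨H₂⟩ := hG _ _ e.homotopyInvHomId
  let Ge : HomotopyEquiv (G.obj (F' ⊞ P)) (G.obj F') :=
    { hom := G.map biprod.fst
      inv := G.map biprod.inl
      homotopyHomInvId := (Homotopy.ofEq (G.map_comp _ _).symm).trans (H₁.trans (Homotopy.ofEq (G.map_id _)))
      homotopyInvHomId := (Homotopy.ofEq (G.map_comp _ _).symm).trans (H₂.trans (Homotopy.ofEq (G.map_id _))) }
  have : QuasiIso (G.map (biprod.fst : F' ⊞ P ⟶ F')) := Ge.quasiIso_hom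
  rw [← hfac, G.map_comp]
  infer_instance

omit S in
lemma acyclic_map_cone_id (hG : PreservesHtp G) (F : CochainComplex A ℤ) :
    (G.obj (CochainComplex.mappingCone (𝟙 F))).Acyclic := by
  obtain ⟨h⟩ := hG _ _ (CochainComplex.mappingCone.homotopyToZeroOfId F)
  exact acyclic_of_homotopy_id_zero
    ((Homotopy.ofEq (G.map_id _).symm).trans (h.trans (Homotopy.ofEq (G.map_zero _ _))))

end Abelian

variable {C : Type u} [SmallCategory C] {J : GrothendieckTopology C} {O : Sheaf J CommRingCat.{u}}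

lemma isKFlat_iff (K : CC O) :
    ModSite.IsKFlat K ↔ ∀ F : CC O, F.Acyclic → (tc F K).Acyclic :=
  ⟨fun h F hF => acyclic_of_isZero_homology (h F (isZero_homology_of_acyclic hF)),
    fun h F hF => isZero_homology_of_acyclic (h F (acyclic_of_isZero_homology hF))⟩

lemma preservesHtp_tensorCx_obj (F : CC O) : PreservesHtp ((ModSite.tensorCx O).obj F) :=
  fun _ _ _ _ h => ⟨HomologicalComplex.mapBifunctorMapHomotopy₂ (𝟙 F) h (ModSite.tensorBi O) _⟩

lemma preservesHtp_tensorCx_flip_obj (K : CC O) : PreservesHtp ((ModSite.tensorCx O).flip.obj K) :=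
  fun _ _ _ _ h => ⟨HomologicalComplex.mapBifunctorMapHomotopy₁ h (𝟙 K) (ModSite.tensorBi O) _⟩

lemma shortExact_tensorCx_obj_of_split (F : CC O) (S : ShortComplex (CC O))
    (hσ : ∀ n, Nonempty (S.map (ev n)).Splitting) :
    (S.map ((ModSite.tensorCx O).obj F)).ShortExact :=
  shortExact_map_tensorCx_obj F S fun p q =>
    ((hσ q).some.map ((ModSite.tensorBi O).obj (F.X p))).shortExact

lemma shortExact_tensorCx_flip_obj_of_split (K : CC O) (S : ShortComplex (CC O))
    (hσ : ∀ n, Nonempty (S.map (ev n)).Splitting) :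
    (S.map ((ModSite.tensorCx O).flip.obj K)).ShortExact :=
  shortExact_map_tensorCx_flip_obj K S fun p q =>
    ((hσ p).some.map ((ModSite.tensorBi O).flip.obj (K.X q))).shortExact

lemma shortExact_tensorCx_obj_of_flat (F : CC O) (S : ShortComplex (CC O)) (hS : S.ShortExact)
    (h3 : ∀ n, ModSite.IsFlat (S.X₃.X n)) :
    (S.map ((ModSite.tensorCx O).obj F)).ShortExact :=
  shortExact_map_tensorCx_obj F S fun p q =>
    ShortComplex.shortExact_of_iso ((S.map (ev q)).mapNatIso (tLIso (F.X p))).symm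
      (shortExact_map_tL (S.map (ev q)) (hS.map_of_exact (ev q)) (h3 q) (F.X p))

lemma isKFlat_two_out_of_three (S : ShortComplex (CC O))
    (hS : ∀ F : CC O, (S.map ((ModSite.tensorCx O).obj F)).ShortExact) :
    (ModSite.IsKFlat S.X₁ → ModSite.IsKFlat S.X₂ → ModSite.IsKFlat S.X₃) ∧
    (ModSite.IsKFlat S.X₁ → ModSite.IsKFlat S.X₃ → ModSite.IsKFlat S.X₂) ∧
    (ModSite.IsKFlat S.X₂ → ModSite.IsKFlat S.X₃ → ModSite.IsKFlat S.X₁) := by
  simp only [isKFlat_iff]
  exact ⟨fun h1 h2 F hF => acyclic_X₃ (hS F) (h1 F hF) (h2 F hF),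
    fun h1 h3 F hF => acyclic_X₂ (hS F) (h1 F hF) (h3 F hF),
    fun h2 h3 F hF => acyclic_X₁ (hS F) (h2 F hF) (h3 F hF)⟩

lemma isKFlat_of_homotopy_id_zero {K : CC O} (h : Homotopy (𝟙 K) 0) : ModSite.IsKFlat K := by
  rw [isKFlat_iff]
  intro F _
  obtain ⟨h'⟩ := preservesHtp_tensorCx_obj F _ _ h
  exact acyclic_of_homotopy_id_zero ((Homotopy.ofEq (CategoryTheory.Functor.map_id _ _).symm).trans
    (h'.trans (Homotopy.ofEq (CategoryTheory.Functor.map_zero _ _ _))))

lemma isKFlat_of_iso {K L : CC O} (e : K ≅ L) (h : ModSite.IsKFlat K) : ModSite.IsKFlat L := by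
  rw [isKFlat_iff] at *
  exact fun F hF => acyclic_of_iso (((ModSite.tensorCx O).obj F).mapIso e) (h F hF)

lemma isKFlat_biprod {K L : CC O} (hK : ModSite.IsKFlat K) (hL : ModSite.IsKFlat L) :
    ModSite.IsKFlat (K ⊞ L) :=
  (isKFlat_two_out_of_three (ShortComplex.mk (biprod.inl : K ⟶ K ⊞ L) biprod.snd (by simp)) fun F =>
    shortExact_tensorCx_obj_of_split F _ fun n =>
      ⟨(ShortComplex.Splitting.mk (S := ShortComplex.mk (biprod.inl : K ⟶ K ⊞ L) biprod.snd (by simp))
        biprod.fst biprod.inr).map (ev n)⟩).2.1 hK hL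

lemma quasiIso_tensor_right {K : CC O} (hK : ∀ L : CC O, L.Acyclic → (tc L K).Acyclic)
    {F F' : CC O} (φ : F ⟶ F') [QuasiIso φ] :
    QuasiIso (((ModSite.tensorCx O).flip.obj K).map φ) :=
  quasiIso_map_of_split _ φ (preservesHtp_tensorCx_flip_obj K)
    (fun S _ hσ => shortExact_tensorCx_flip_obj_of_split K S hσ)
    (fun S _ _ _ _ h => hK _ h)

lemma quasiIso_tensor_left {P Q : CC O} (hP : ModSite.IsKFlat P) (hQ : ModSite.IsKFlat Q)
    (α : P ⟶ Q) [QuasiIso α] (F : CC O)
    (hF : ∀ R : CC O, ModSite.IsKFlat R → R.Acyclic → (tc F R).Acyclic) :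
    QuasiIso (((ModSite.tensorCx O).obj F).map α) :=
  quasiIso_map_of_split _ α (preservesHtp_tensorCx_obj F)
    (fun S _ hσ => shortExact_tensorCx_obj_of_split F S hσ)
    (fun S h1 h2 _ hσ h => hF _ ((isKFlat_two_out_of_three S fun G =>
      shortExact_tensorCx_obj_of_split G S hσ).1 (h1 ▸ hP)
        (h2 ▸ isKFlat_biprod hQ (isKFlat_of_homotopy_id_zero
          (CochainComplex.mappingCone.homotopyToZeroOfId P)))) h)

end Groth.Agent.Mod48
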