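import Groth.Agent.Mod48.PullSES
import Groth.Agent.Mod48.Exact

/-!
The inverse image of a short exact sequence of modules with flat cokernel is short exact.
-/

universe u

open CategoryTheory CategoryTheory.Limits Opposite

namespace Groth.Agent.Mod48

open SiteMod

variable {C D : Type u} [SmallCategory C] [SmallCategory D] {J : GrothendieckTopology C}
  {K : GrothendieckTopology D} {O_C : Sheaf J CommRingCat.{u}} {O_D : Sheaf K CommRingCat.{u}}
  (f : ModSite.RMor O_C O_D)

/-- The tautological map from the model to the inverse image. -/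
noncomputable def modelUnit (M : ModSite.Mod O_D) : pullModel f (pre M) ⟶ pre (f.pull.obj M) :=
  shfHomEquiv _ _ (shfPullModelIso f M).hom

lemma isLocalIso_modelUnit (M : ModSite.Mod O_D) : IsLocalIso (modelUnit f M) := by
  rw [← isIso_shf_map_iff_isLocalIso]
  have h : shf.map (modelUnit f M) ≫ shfCounitIso.hom.app (f.pull.obj M) = (shfPullModelIso f M).hom := by
    rw [modelUnit, shfHomEquiv]
    exact (Adjunction.homEquiv_counit _ _ _ _).symm.trans ((shfAdj.homEquiv _ _).symm_apply_apply _)
  have : IsIso (shf.map (modelUnit f M) ≫ shfCounitIso.hom.app (f.pull.obj M)) := by rw [h]; infer_instance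
  exact IsIso.of_isIso_comp_right _ (shfCounitIso.hom.app (f.pull.obj M))

lemma modelUnit_eq (M : ModSite.Mod O_D) :
    modelUnit f M = pushToModel f M _ (fgt.map (f.adj.unit.app M)) := by
  rw [modelUnit, shfPullModelIso, isoOfHomEquiv]
  simp only [Equiv.symm_trans_apply, Equiv.symm_symm, shfHomEquiv, Equiv.apply_symm_apply]
  exact congrArg (pushToModel f M _) (congrArg fgt.map
    ((f.adj.homEquiv_unit _ _ _).trans ((congrArg (f.adj.unit.app M ≫ ·) (f.push.map_id _)).trans (Category.comp_id _))))

lemma modelUnit_cls {M N : ModSite.Mod O_D} (g : M ⟶ N) {V : C} (ξ : Sums f (pre M) V) :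
    (fgt.map (f.pull.map g)).app (op V) ((modelUnit f M).app (op V) (cls f (pre M) ξ)) =
      (modelUnit f N).app (op V) (cls f (pre N) (sumsMap f (fgt.map g) ξ)) := by
  induction ξ using Finsupp.induction_linear with
  | zero => simp only [map_zero]
  | add a b ha hb => simp only [map_add, ha, hb]
  | single t b =>
    rw [show sumsMap f (fgt.map g) (Finsupp.single t b) = Finsupp.single (tripMap f (fgt.map g) t) b from
      Finsupp.mapDomain_single, cls_single, cls_single, modelUnit_eq, modelUnit_eq, map_smul, map_smul,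
      map_smul, pushToModel_sect₁, pushToModel_sect₁]
    refine congrArg (b • ·) ?_
    change (fgt.map (f.pull.map g)).app (op V) (Mod48.res (pre (f.pull.obj M)) t.g.op _) = _
    rw [app_res]
    refine congrArg (Mod48.res (pre (f.pull.obj N)) t.g.op) ?_
    exact (congr($(fgt.congr_map (f.adj.unit.naturality g)).app (op t.X) t.m)).symm

/-- The inverse image of a short exact sequence with flat cokernel is short exact. -/
theorem pull_shortExact (S : ShortComplex (ModSite.Mod O_D)) (hS : S.ShortExact)
    (hH : ModSite.IsFlat S.X₃) : (S.map f.pull).ShortExact := by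
  have := toSheaf_preservesColimits (O := O_D)
  have := toSheaf_preservesLimits (ModSite.ringSh O_D)
  have : PreservesFiniteColimits (SheafOfModules.toSheaf.{u} (ModSite.ringSh O_D)) :=
    PreservesColimitsOfSize.preservesFiniteColimits _
  have : PreservesFiniteLimits (SheafOfModules.toSheaf.{u} (ModSite.ringSh O_D)) :=
    PreservesLimitsOfSize.preservesFiniteLimits _
  have hS' := hS.map_of_exact (SheafOfModules.toSheaf.{u} (ModSite.ringSh O_D))
  have hpre : ∀ X : D, Function.Injective ((fgt.map S.f).app (op X)) ∧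
      Function.Exact ((fgt.map S.f).app (op X)) ((fgt.map S.g).app (op X)) := fun X =>
    SiteMod.sections_exact _ hS' (op X)
  have : Epi ((SheafOfModules.toSheaf.{u} (ModSite.ringSh O_D)).map S.g) := hS'.epi_g
  have hlift : ∀ (X : D) (r : (pre S.X₃).obj (op X)), ∃ T ∈ K X, ∀ ⦃Y : D⦄ (d : Y ⟶ X), T d →
      ∃ q : (pre S.X₂).obj (op Y), (fgt.map S.g).app (op Y) q = Mod48.res (pre S.X₃) d.op r := by
    intro X r
    obtain ⟨T, hT⟩ := SiteCoh.exists_local_lift ((SheafOfModules.toSheaf (ModSite.ringSh O_D)).map S.g) r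
    exact ⟨T.1, T.2, fun Y d hd => hT ⟨Y, d, hd⟩⟩
  have hmono : Mono (f.pull.map S.f) := by
    apply fgt.mono_of_mono_map
    refine PresheafOfModules.mono_of_injective fun {U} => (injective_iff_map_eq_zero _).2 fun y hy => ?_
    obtain ⟨T, hT, hpreim⟩ := locally_preimage (isLocalIso_modelUnit f S.X₁) U y
    refine ext_of_sieve hT fun V v hv => ?_
    obtain ⟨x, hx⟩ := hpreim v hv
    obtain ⟨ξ, rfl⟩ := cls_surjective f (pre S.X₁) x
    have h0 : (modelUnit f S.X₂).app (op V) (cls f (pre S.X₂) (sumsMap f (fgt.map S.f) ξ)) = 0 := by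
      rw [← modelUnit_cls, hx, app_res, hy, SiteMod.res_zero]
    obtain ⟨T', hT', heq⟩ := locally_eq (isLocalIso_modelUnit f S.X₂) (op V) _ 0 (h0.trans (map_zero _).symm)
    have hvan : Van f (pre S.X₂) (sumsMap f (fgt.map S.f) ξ) := van_of_local hT' fun W w hw => by
      rw [← cls_eq_zero, ← res_cls, heq w hw, SiteMod.res_zero]
    have := van_of_van_map f (fgt.map S.f) (fgt.map S.g) (fun X => (hpre X).1)
      (fun X q hq => ((hpre X).2 q).1 hq) (fun X p => ((hpre X).2 _).2 ⟨p, rfl⟩) hlift
      (locFlat_of_isFlat hH) ξ hvan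
    rw [← hx, (cls_eq_zero f _).2 this, map_zero, SiteMod.res_zero]
  have : f.pull.IsLeftAdjoint := f.adj.isLeftAdjoint
  have : PreservesColimitsOfSize.{0, 0} f.pull := f.adj.leftAdjoint_preservesColimits
  have : PreservesFiniteColimits f.pull := PreservesColimitsOfSize.preservesFiniteColimits _
  have : f.pull.Additive := f.adj.left_adjoint_additive
  have := hS.mono_f
  have := hS.epi_g
  exact { exact := ShortComplex.exact_of_g_is_cokernel _
            (CokernelCofork.mapIsColimit _ hS.gIsCokernel f.pull)
          mono_f := hmono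
          epi_g := inferInstanceAs (Epi (f.pull.map S.g)) }

end Groth.Agent.Mod48
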