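import Groth.Agent.ModCons93.Basic
import Groth.Agent.Cons51.Reduced
import Groth.Agent.LocConst45.ModConst
import Groth.Agent.Six47.PullExact
import Mathlib.Algebra.Homology.HomologicalComplex
import Mathlib.CategoryTheory.Abelian.Exact

/-!
Constructible sheaves of modules on small etale sites: a weak Serre subcategory, locality.
-/

set_option autoImplicit false
set_option backward.isDefEq.respectTransparency.types false
universe u

open CategoryTheory CategoryTheory.Limits AlgebraicGeometry Topology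
open scoped ZeroObject

namespace Groth.Agent.Mod48.EtCons

open Groth.Agent.ModCons93
attribute [local instance] Abelian.hasFiniteBiproducts

variable {Λ : Type (u + 1)} [CommRing Λ] {X Y : Scheme.{u}}

theorem FlcOn.pull_of_range_subset {F : EtModW.Mod Λ X} {E : Set X} (h : FlcOn F E) {S : Scheme.{u}}
    (f : S ⟶ X) [IsReduced S] (hf : Set.range f ⊆ E) :
    EtModW.IsFTLocConst Λ ((EtModW.pull Λ f).obj F) := by
  obtain ⟨T, g, hg, rfl, hF⟩ := h
  obtain ⟨l, rfl⟩ := Cons51.exists_lift f g hf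
  exact ftlc_of_iso ((EtSix.pullModComp Λ l g).app F).symm (LocConst45.Mod.isFTLocConst_pull l hF)

/-- Common refinement of two families of strata. -/
theorem StrataCover.inter {F G : EtModW.Mod Λ X} {S : Set X} (hF : StrataCover F S) (hG : StrataCover G S) :
    ∃ (ι : Type) (_ : Finite ι) (E : ι → Set X), (∀ i, E i ⊆ S) ∧
      (∀ i, Topology.IsConstructible ((Subtype.val : S → X) ⁻¹' E i)) ∧ (S ⊆ ⋃ i, E i) ∧
      ∀ i, ∃ (T : Scheme.{u}) (g : T ⟶ X), IsImmersion g ∧ Set.range g = E i ∧
        EtModW.IsFTLocConst Λ ((EtModW.pull Λ g).obj F) ∧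
        EtModW.IsFTLocConst Λ ((EtModW.pull Λ g).obj G) := by
  obtain ⟨ι, hι, E, hES, hEc, hcov, hflc⟩ := hF
  obtain ⟨κ, hκ, E', hES', hEc', hcov', hflc'⟩ := hG
  refine ⟨ι × κ, inferInstance, fun p => E p.1 ∩ E' p.2, fun p => Set.inter_subset_left.trans (hES _),
    fun p => (hEc _).inter (hEc' _), fun x hx => ?_, fun p => ?_⟩
  · obtain ⟨i, hi⟩ := Set.mem_iUnion.1 (hcov hx)
    obtain ⟨j, hj⟩ := Set.mem_iUnion.1 (hcov' hx)
    exact Set.mem_iUnion.2 ⟨(i, j), hi, hj⟩
  · obtain ⟨T, g, hg, hT, hgr⟩ :=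
      Cons51.exists_reduced_immersion ((hflc p.1).isLocallyClosed.inter (hflc' p.2).isLocallyClosed)
    exact ⟨T, g, hg, hgr, FlcOn.pull_of_range_subset (hflc p.1) g (hgr.le.trans Set.inter_subset_left),
      FlcOn.pull_of_range_subset (hflc' p.2) g (hgr.le.trans Set.inter_subset_right)⟩

theorem exists_strataCover {F : EtModW.Mod Λ X} (hF : EtModW.IsConstructible Λ F) {W : Set X} (hW : IsOpen W)
    {x : X} (hx : x ∈ W) :
    ∃ V : X.Opens, IsAffineOpen V ∧ x ∈ V ∧ (V : Set X) ⊆ W ∧ StrataCover F (V : Set X) := by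
  obtain ⟨_, ⟨V, hV, rfl⟩, hxV, hVW⟩ := X.isBasis_affineOpens.exists_subset_of_mem_open hx hW
  exact ⟨V, hV, hxV, hVW, strataCover_of_adapted (hF V hV)⟩

/-- Strata along an open immersion. -/
theorem StrataCover.image {F : EtModW.Mod Λ Y} {f : X ⟶ Y} [IsOpenImmersion f] {S : Set X}
    (h : StrataCover ((EtModW.pull Λ f).obj F) S) : StrataCover F (f '' S) := by
  obtain ⟨ι, hι, E, hES, hEc, hcov, hflc⟩ := h
  refine ⟨ι, hι, fun i => f '' E i, fun i => Set.image_mono (hES i), fun i => ?_, ?_, fun i => (hflc i).image⟩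
  · let e : S ≃ₜ f '' S := f.isOpenEmbedding.isEmbedding.homeomorphImage S
    have := (hEc i).image_of_isOpenEmbedding e.isOpenEmbedding
      (by rw [e.surjective.range_eq]; exact IsRetrocompact.univ)
    convert this using 1
    ext z
    constructor
    · rintro ⟨a, ha, haz⟩
      exact ⟨⟨a, hES i ha⟩, ha, Subtype.ext haz⟩
    · rintro ⟨a, ha, rfl⟩
      exact ⟨a.1, ha, rfl⟩
  · rw [← Set.image_iUnion]
    exact Set.image_mono hcov

theorem isConstructible_of_open_cover (F : EtModW.Mod Λ X) {ι : Type*} (U : ι → X.Opens) (hU : ⨆ i, U i = ⊤)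
    (h : ∀ i, EtModW.IsConstructible Λ ((EtModW.pull Λ (U i).ι).obj F)) : EtModW.IsConstructible Λ F := by
  refine isConstructible_of_nhds F fun x => ?_
  obtain ⟨i, hi⟩ := TopologicalSpace.Opens.mem_iSup.1 (hU.ge (show x ∈ (⊤ : X.Opens) from trivial))
  obtain ⟨V, hV, hxV, -, hcov⟩ := exists_strataCover (h i) isOpen_univ (x := (⟨x, hi⟩ : (U i).toScheme)) trivial
  exact ⟨(U i).ι '' (V : Set (U i).toScheme), (U i).ι.isOpenEmbedding.isOpenMap _ V.2, ⟨_, hxV, rfl⟩,
    StrataCover.image hcov⟩

/-- Constant sheaves on finite modules are locally constant of finite type. -/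
theorem ftlc_const (M : Type (u + 1)) [AddCommGroup M] [Module Λ M] [Module.Finite Λ M] :
    EtModW.IsFTLocConst Λ (EtModW.constMod Λ X M) :=
  (LocConst45.Mod.ftLocConst_iff _).2 fun x =>
    ⟨EtCoh.top X, x, M, inferInstance, inferInstance, inferInstance,
      LocConst45.Mod.constσ (ModuleCat.of Λ M) (EtCoh.top X), rfl, LocConst45.Mod.isTriv_const _ _⟩

/-- Locally constant sheaves of finite type are constructible. -/
theorem isConstructible_of_ftlc {F : EtModW.Mod Λ X} (h : EtModW.IsFTLocConst Λ F) :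
    EtModW.IsConstructible Λ F := by
  refine isConstructible_of_nhds F fun x => ?_
  obtain ⟨W, -, hxW, -⟩ := exists_isAffineOpen_mem_and_subset (X := X) (x := x) (U := ⊤) trivial
  refine ⟨W, W.2, hxW, Unit, inferInstance, fun _ => W, fun _ => subset_rfl, fun _ => ?_,
    fun w hw => Set.mem_iUnion.2 ⟨(), hw⟩,
    fun _ => ⟨W.toScheme, W.ι, inferInstance, W.range_ι, LocConst45.Mod.isFTLocConst_pull _ h⟩⟩
  rw [Subtype.coe_preimage_self]
  exact Topology.IsConstructible.univ

theorem isConstructible_isZero {F : EtModW.Mod Λ X} (hF : IsZero F) : EtModW.IsConstructible Λ F :=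
  isConstructible_of_iso
    (IsZero.iso ((constantSheaf X.smallEtaleTopology (ModuleCat.{u + 1} Λ)).map_isZero
      (ModuleCat.isZero_of_subsingleton (ModuleCat.of Λ PUnit.{u + 2}))) hF)
    (isConstructible_of_ftlc (ftlc_const PUnit.{u + 2}))

variable [IsNoetherianRing Λ]

theorem isConstructible_kernel_cokernel {F G : EtModW.Mod Λ X} (φ : F ⟶ G) (hF : EtModW.IsConstructible Λ F)
    (hG : EtModW.IsConstructible Λ G) :
    EtModW.IsConstructible Λ (kernel φ) ∧ EtModW.IsConstructible Λ (cokernel φ) := by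
  have key : ∀ x : X, ∃ W : Set X, IsOpen W ∧ x ∈ W ∧ StrataCover (kernel φ) W ∧ StrataCover (cokernel φ) W := by
    intro x
    obtain ⟨V, hV, hxV, -, hcF⟩ := exists_strataCover hF isOpen_univ (x := x) trivial
    obtain ⟨ι, hι, E, hES, hEc, hcov, hT⟩ := StrataCover.inter hcF (strataCover_of_adapted (hG V hV))
    choose T g hg hgr h1 h2 using hT
    refine ⟨V, V.2, hxV, ⟨ι, hι, E, hES, hEc, hcov, fun i => ?_⟩, ⟨ι, hι, E, hES, hEc, hcov, fun i => ?_⟩⟩
    · have := Six47.preservesFiniteLimits_pullMod Λ (g i)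
      exact ⟨T i, g i, hg i, hgr i, ftlc_of_iso (PreservesKernel.iso (EtModW.pull Λ (g i)) φ).symm
        ((LocConst45.Mod.ft_weakSerre Λ (T i)).1 _ _ _ (h1 i) (h2 i)).1⟩
    · have := Six47.preservesFiniteColimits_pullMod Λ (g i)
      exact ⟨T i, g i, hg i, hgr i, ftlc_of_iso (PreservesCokernel.iso (EtModW.pull Λ (g i)) φ).symm
        ((LocConst45.Mod.ft_weakSerre Λ (T i)).1 _ _ _ (h1 i) (h2 i)).2⟩
  exact ⟨isConstructible_of_nhds _ fun x => (key x).imp fun W h => ⟨h.1, h.2.1, h.2.2.1⟩,
    isConstructible_of_nhds _ fun x => (key x).imp fun W h => ⟨h.1, h.2.1, h.2.2.2⟩⟩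

theorem isConstructible_extension (S : ShortComplex (EtModW.Mod Λ X)) (hS : S.ShortExact)
    (h1 : EtModW.IsConstructible Λ S.X₁) (h3 : EtModW.IsConstructible Λ S.X₃) :
    EtModW.IsConstructible Λ S.X₂ := by
  refine isConstructible_of_nhds _ fun x => ?_
  obtain ⟨V, hV, hxV, -, hc1⟩ := exists_strataCover h1 isOpen_univ (x := x) trivial
  obtain ⟨ι, hι, E, hES, hEc, hcov, hT⟩ := StrataCover.inter hc1 (strataCover_of_adapted (h3 V hV))
  choose T g hg hgr e1 e3 using hT
  refine ⟨V, V.2, hxV, ι, hι, E, hES, hEc, hcov, fun i => ⟨T i, g i, hg i, hgr i, ?_⟩⟩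
  have := Six47.preservesFiniteLimits_pullMod Λ (g i)
  have := Six47.preservesFiniteColimits_pullMod Λ (g i)
  exact (LocConst45.Mod.ft_weakSerre Λ (T i)).2.prop_X₂_of_shortExact (hS.map_of_exact (EtModW.pull Λ (g i)))
    (e1 i) (e3 i)

theorem isConstructible_biproduct_fin : ∀ {m : ℕ} (A : Fin m → EtModW.Mod Λ X),
    (∀ i, EtModW.IsConstructible Λ (A i)) → EtModW.IsConstructible Λ (⨁ A)
  | 0, A, _ => isConstructible_isZero (by
      rw [IsZero.iff_id_eq_zero]
      exact biproduct.hom_ext' _ _ fun i => i.elim0)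
  | m + 1, A, h => by
    let f : (⨁ fun i : Fin m => A i.succ) ⟶ ⨁ A := biproduct.desc fun i => biproduct.ι A i.succ
    have w : f ≫ biproduct.π A 0 = 0 := biproduct.hom_ext' _ _ fun i => by
      simp [f, biproduct.ι_π_ne _ (Fin.succ_ne_zero i)]
    let σ : (ShortComplex.mk f (biproduct.π A 0) w).Splitting :=
      { r := biproduct.lift fun i => biproduct.π A i.succ
        s := biproduct.ι A 0
        f_r := biproduct.hom_ext' _ _ fun i => biproduct.hom_ext _ _ fun j => by
          simp [f, biproduct.ι_π, Fin.succ_inj]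
        s_g := biproduct.ι_π_self A 0
        id := by
          have e : biproduct.lift (fun i : Fin m => biproduct.π A i.succ) ≫ f =
              ∑ i : Fin m, biproduct.π A i.succ ≫ biproduct.ι A i.succ := by
            simp [f, biproduct.lift_desc]
          dsimp only
          rw [e]
          exact (add_comm _ _).trans
            ((Fin.sum_univ_succ fun i => biproduct.π A i ≫ biproduct.ι A i).symm.trans biproduct.total) }
    exact isConstructible_extension _ σ.shortExact
      (isConstructible_biproduct_fin _ fun i => h i.succ) (h 0)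

theorem isConstructible_coproduct_fin {m : ℕ} (A : Fin m → EtModW.Mod Λ X)
    (h : ∀ i, EtModW.IsConstructible Λ (A i)) : EtModW.IsConstructible Λ (∐ A) :=
  isConstructible_of_iso (biproduct.isoCoproduct A) (isConstructible_biproduct_fin A h)

theorem isConstructible_homology (S : ShortComplex (EtModW.Mod Λ X)) (h1 : EtModW.IsConstructible Λ S.X₁)
    (h2 : EtModW.IsConstructible Λ S.X₂) (h3 : EtModW.IsConstructible Λ S.X₃) :
    EtModW.IsConstructible Λ S.homology := by
  have hZ : EtModW.IsConstructible Λ S.cycles :=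
    isConstructible_of_iso S.cyclesIsoKernel.symm (isConstructible_kernel_cokernel S.g h2 h3).1
  exact isConstructible_of_iso
    ((colimit.isColimit (parallelPair S.toCycles 0)).coconePointUniqueUpToIso S.homologyIsCokernel)
    (isConstructible_kernel_cokernel S.toCycles h1 hZ).2

end Groth.Agent.Mod48.EtCons
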