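import Groth.Agent.Mod48.EtConsSerre
import Groth.Agent.EtCore45.EtalePull
import Groth.Agent.EtStrat51.Finite
import Groth.Agent.Unr55.Et.SplitPush
import Groth.Prelude.Def_SixF2

/-!
`j_! Λ` corepresents sections over `j`; it is constructible for qcqs etale `j`.
-/

set_option autoImplicit false
set_option backward.isDefEq.respectTransparency.types false
universe u

open CategoryTheory CategoryTheory.Limits AlgebraicGeometry Topology Opposite

namespace Groth.Agent.Mod48.EtCons

variable {Λ : Type (u + 1)} [CommRing Λ] {X Y U : Scheme.{u}}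

/-- `A` corepresents sections over `W`, with universal section `e`. -/
def CoRep (A : EtModW.Mod Λ X) (W : X.Etale) (e : EtModW.sect Λ A W) : Prop :=
  ∀ G : EtModW.Mod Λ X, Function.Bijective fun φ : A ⟶ G => φ.hom.app (op W) e

theorem sect_map_id (G : EtModW.Mod Λ X) {W : X.Etale} (s : EtModW.sect Λ G W) : G.obj.map (𝟙 W).op s = s := by
  rw [op_id, CategoryTheory.Functor.map_id]; rfl

theorem CoRep.congr {A : EtModW.Mod Λ X} {W W' : X.Etale} {e : EtModW.sect Λ A W} (h : CoRep A W e)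
    (i : W' ≅ W) : CoRep A W' (A.obj.map i.hom.op e) := fun G => by
  have hb : Function.Bijective (G.obj.map i.hom.op) := ConcreteCategory.bijective_of_isIso _
  have : (fun φ : A ⟶ G => φ.hom.app (op W') (A.obj.map i.hom.op e)) =
      (G.obj.map i.hom.op) ∘ fun φ : A ⟶ G => φ.hom.app (op W) e :=
    funext fun φ => NatTrans.naturality_apply φ.hom i.hom.op e
  rw [this]
  exact hb.comp (h G)

theorem CoRep.pull {A : EtModW.Mod Λ Y} {W : Y.Etale} {e : EtModW.sect Λ A W} (h : CoRep A W e) (f : X ⟶ Y) :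
    CoRep ((EtModW.pull Λ f).obj A) ((EtCoh.bc f).obj W)
      (((LocConst45.Mod.modAdj Λ f).unit.app A).hom.app (op W) e) := fun G => by
  have := (h ((EtModW.push Λ f).obj G)).comp ((LocConst45.Mod.modAdj Λ f).homEquiv A G).bijective
  refine (congrArg Function.Bijective (funext fun φ => ?_)).mp this
  simp only [Function.comp_apply, Adjunction.homEquiv_unit]
  rfl

theorem CoRep.extZero (j : U ⟶ X) [Etale j] [EtShriek.JCont j] {A : EtModW.Mod Λ U} {W : U.Etale}
    {e : EtModW.sect Λ A W} (h : CoRep A W e) :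
    CoRep ((EtSix.extZeroMod Λ j).obj A) ((EtShriek.compEtale j).obj W)
      (((EtSix.extZeroModAdj Λ j).unit.app A).hom.app (op W) e) := fun G => by
  have := (h ((EtSix.restrMod Λ j).obj G)).comp ((EtSix.extZeroModAdj Λ j).homEquiv A G).bijective
  refine (congrArg Function.Bijective (funext fun φ => ?_)).mp this
  simp only [Function.comp_apply, Adjunction.homEquiv_unit]
  rfl

theorem CoRep.nonempty_iso {A B : EtModW.Mod Λ X} {W : X.Etale} {e : EtModW.sect Λ A W} {d : EtModW.sect Λ B W}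
    (hA : CoRep A W e) (hB : CoRep B W d) : Nonempty (A ≅ B) := by
  obtain ⟨φ, hφ⟩ := (hA B).2 d
  obtain ⟨ψ, hψ⟩ := (hB A).2 e
  refine ⟨⟨φ, ψ, (hA A).1 ?_, (hB B).1 ?_⟩⟩
  · change ψ.hom.app (op W) (φ.hom.app (op W) e) = e
    exact (congrArg (ψ.hom.app (op W)) hφ).trans hψ
  · change φ.hom.app (op W) (ψ.hom.app (op W) d) = d
    exact (congrArg (φ.hom.app (op W)) hψ).trans hφ

/-- The top object is terminal. -/
noncomputable def isTerminalTop (X : Scheme.{u}) : IsTerminal (EtCoh.top X) :=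
  MorphismProperty.Over.mkIdTerminal EtCoh.etaleMP X

/-- Constants as global sections. -/
noncomputable def constUnit (X : Scheme.{u}) (M : ModuleCat.{u + 1} Λ) :
    M ⟶ ((constantSheaf X.smallEtaleTopology (ModuleCat.{u + 1} Λ)).obj M).obj.obj (op (EtCoh.top X)) :=
  (constantSheafAdj X.smallEtaleTopology (ModuleCat.{u + 1} Λ) (isTerminalTop X)).unit.app M

theorem const_bijective (M : ModuleCat.{u + 1} Λ) (G : EtModW.Mod Λ X) :
    Function.Bijective fun φ : (constantSheaf X.smallEtaleTopology (ModuleCat.{u + 1} Λ)).obj M ⟶ G =>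
      constUnit X M ≫ φ.hom.app (op (EtCoh.top X)) := by
  have := ((constantSheafAdj X.smallEtaleTopology (ModuleCat.{u + 1} Λ) (isTerminalTop X)).homEquiv M G).bijective
  refine (congrArg Function.Bijective (funext fun φ => ?_)).mp this
  rw [Adjunction.homEquiv_unit]
  rfl

theorem coRep_const (X : Scheme.{u}) :
    CoRep (EtSix.constΛ Λ X) (EtCoh.top X) (constUnit X (ModuleCat.of Λ Λ) 1) := fun G => by
  refine ⟨fun φ ψ h => (const_bijective _ G).1 (ModuleCat.hom_ext (LinearMap.ext_ring h)), fun s => ?_⟩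
  obtain ⟨φ, hφ⟩ := (const_bijective (ModuleCat.of Λ Λ) G).2
    (ModuleCat.ofHom (LinearMap.toSpanSingleton Λ _ s))
  exact ⟨φ, (ConcreteCategory.congr_hom hφ (1 : Λ)).trans (one_smul Λ s)⟩

/-- `j_! Λ`. -/
noncomputable abbrev gen (Λ : Type (u + 1)) [CommRing Λ] (j : U ⟶ X) [Etale j] [EtShriek.JCont j] :
    EtModW.Mod Λ X :=
  (EtSix.extZeroMod Λ j).obj (EtSix.constΛ Λ U)

/-- The universal section of `j_! Λ`. -/
theorem exists_coRep_gen (j : U ⟶ X) [Etale j] [EtShriek.JCont j] :
    ∃ e : EtModW.sect Λ (gen Λ j) (Scheme.Etale.mk j), CoRep (gen Λ j) (Scheme.Etale.mk j) e :=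
  ⟨_, ((coRep_const U).extZero j).congr
    (MorphismProperty.Over.isoMk (Iso.refl _) (by
      change 𝟙 U ≫ (𝟙 U ≫ j) = j
      simp) : Scheme.Etale.mk j ≅ (EtShriek.compEtale j).obj (EtCoh.top U))⟩

/-- An object of the small site and the object of its structure map. -/
noncomputable def etaIso (W : X.Etale) [Etale W.hom] : Scheme.Etale.mk W.hom ≅ W :=
  MorphismProperty.Over.isoMk (Iso.refl _) (Category.id_comp _)

theorem exists_coRep_genObj (W : X.Etale) [Etale W.hom] [EtShriek.JCont W.hom] :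
    ∃ e : EtModW.sect Λ (gen Λ W.hom) W, CoRep (gen Λ W.hom) W e := by
  obtain ⟨e, he⟩ := exists_coRep_gen (Λ := Λ) W.hom
  exact ⟨_, he.congr (etaIso W).symm⟩

/-- Restriction is left adjoint to direct image. -/
noncomputable def restrPushModAdj (Λ : Type (u + 1)) [CommRing Λ] (j : U ⟶ X) [Etale j] [EtShriek.JCont j] :
    EtSix.restrMod Λ j ⊣ EtModW.push Λ j :=
  (EtCore45.compBcAdj j).sheafPushforwardContinuous U.smallEtaleTopology X.smallEtaleTopology

/-- Inverse image along an etale morphism is restriction. -/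
noncomputable def pullRestrModIso (Λ : Type (u + 1)) [CommRing Λ] (j : U ⟶ X) [Etale j] [EtShriek.JCont j] :
    EtModW.pull Λ j ≅ EtSix.restrMod Λ j :=
  Adjunction.leftAdjointUniq (LocConst45.Mod.modAdj Λ j) (restrPushModAdj Λ j)

/-- Trivialisations descend along etale morphisms. -/
theorem isTriv_of_restr (j : U ⟶ X) [Etale j] [EtShriek.JCont j] {F : EtModW.Mod Λ X} {W : U.Etale}
    {M : Type (u + 1)} [AddCommGroup M] [Module Λ M]
    {σ : M →ₗ[Λ] EtModW.sect Λ ((EtSix.restrMod Λ j).obj F) W}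
    (h : LocConst45.Mod.IsTriv ((EtSix.restrMod Λ j).obj F) W σ) :
    LocConst45.Mod.IsTriv F ((EtShriek.compEtale j).obj W) σ := by
  have key : ∀ (A : X.Etale) (a : A ⟶ (EtShriek.compEtale j).obj W), ∃ (B : U.Etale) (b : B ⟶ W)
      (i : A ≅ (EtShriek.compEtale j).obj B), i.hom ≫ (EtShriek.compEtale j).map b = a := fun A a => by
    let l : A.left ⟶ W.left := a.left
    have : Etale l := EtCore45.etale_left a
    have : Etale W.hom := W.prop
    refine ⟨Scheme.Etale.mk (l ≫ W.hom), MorphismProperty.Over.homMk l rfl trivial,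
      MorphismProperty.Over.isoMk (Iso.refl _) ?_, ?_⟩
    · change 𝟙 A.left ≫ ((l ≫ W.hom) ≫ j) = A.hom
      rw [Category.id_comp, Category.assoc]
      exact Over.w a.hom
    · exact MorphismProperty.Over.Hom.ext (Category.id_comp l)
  have tr : ∀ {A : X.Etale} {a : A ⟶ (EtShriek.compEtale j).obj W} {B : U.Etale} {b : B ⟶ W}
      {i : A ≅ (EtShriek.compEtale j).obj B}, i.hom ≫ (EtShriek.compEtale j).map b = a → ∀ m,
      F.obj.map a.op (σ m) = F.obj.map i.hom.op (((EtSix.restrMod Λ j).obj F).obj.map b.op (σ m)) := by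
    intro A a B b i e m
    rw [← e]
    exact LocConst45.Mod.map_comp' F i.hom _ (σ m)
  have hid : ∀ {A B : X.Etale} (i : A ≅ B) (s : EtModW.sect Λ F B),
      F.obj.map i.inv.op (F.obj.map i.hom.op s) = s := fun i s => by
    rw [← LocConst45.Mod.map_comp', Iso.inv_hom_id, sect_map_id]
  have hid' : ∀ {A B : X.Etale} (i : A ≅ B) (s : EtModW.sect Λ F A),
      F.obj.map i.hom.op (F.obj.map i.inv.op s) = s := fun i s => by
    rw [← LocConst45.Mod.map_comp', Iso.hom_inv_id, sect_map_id]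
  refine ⟨fun A a m ⟨x⟩ hm => ?_, fun A a s x => ?_⟩
  · obtain ⟨B, b, i, e⟩ := key A a
    refine h.inj B b m ⟨i.hom.left x⟩ ?_
    exact (hid i _).symm.trans ((congrArg _ ((tr e m).symm.trans hm)).trans (map_zero _))
  · obtain ⟨B, b, i, e⟩ := key A a
    obtain ⟨C, g, c, m, hc, hm⟩ := h.surj B b (F.obj.map i.inv.op s) (i.hom.left x)
    refine ⟨(EtShriek.compEtale j).obj C, (EtShriek.compEtale j).map g ≫ i.inv, c, m, ?_, ?_⟩
    · change i.inv.left (g.left c) = x
      rw [hc]
      exact congrArg (fun k : A ⟶ A => k.left x) i.hom_inv_id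
    · refine (LocConst45.Mod.map_comp' F _ i.inv s).trans (hm.trans ?_)
      have e' : ((EtShriek.compEtale j).map g ≫ i.inv) ≫ a = (EtShriek.compEtale j).map (g ≫ b) := by
        rw [← e, Category.assoc, Iso.inv_hom_id_assoc, Functor.map_comp]
      rw [e']
      rfl

theorem bijective_split {T : Scheme.{u}} (W : T.Etale) (V : T.Etale) {ι : Type u} (t : ι → (V.left ⟶ W.left))
    (h : Unr55.SplitEt.IsSplitBy W.hom V t) :
    ∃ σ : ι → (EtCoh.top V.left ⟶ (EtCoh.bc V.hom).obj W), ∀ G : EtModW.Mod Λ V.left,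
      Function.Bijective fun (s : EtModW.sect Λ G ((EtCoh.bc V.hom).obj W)) (k : ι) =>
        G.obj.map (σ k).op s := by
  classical
  have : Etale W.hom := W.prop
  let p : ι → (V.left ⟶ pullback W.hom V.hom) := fun k =>
    pullback.lift (t k) (𝟙 _) ((h.1 k).trans (Category.id_comp _).symm)
  let σ : ι → (EtCoh.top V.left ⟶ (EtCoh.bc V.hom).obj W) := fun k =>
    MorphismProperty.Over.homMk (p k) (pullback.lift_snd _ _ _) trivial
  have hp1 : ∀ k, p k ≫ pullback.fst W.hom V.hom = t k := fun k => pullback.lift_fst _ _ _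
  have hp2 : ∀ k, p k ≫ pullback.snd W.hom V.hom = 𝟙 V.left := fun k => pullback.lift_snd _ _ _
  have hcov : Sieve.ofArrows (fun _ : ι => EtCoh.top V.left) σ ∈ V.left.smallEtaleTopology _ := by
    refine Unr55.EtSh.mem_topology fun z => ?_
    let P : Scheme.{u} := pullback W.hom V.hom
    let x0 : Spec (P.residueField z) ⟶ pullback W.hom V.hom := P.fromSpecResidueField z
    obtain ⟨k, hk, -⟩ := h.2 (P.residueField z) (x0 ≫ pullback.snd W.hom V.hom)
      (x0 ≫ pullback.fst W.hom V.hom) (by rw [Category.assoc, Category.assoc, pullback.condition])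
    have e : (x0 ≫ pullback.snd W.hom V.hom) ≫ p k = x0 := by
      apply pullback.hom_ext
      · exact (Category.assoc _ _ _).trans ((congrArg ((x0 ≫ pullback.snd W.hom V.hom) ≫ ·) (hp1 k)).trans hk.symm)
      · exact (Category.assoc _ _ _).trans ((congrArg ((x0 ≫ pullback.snd W.hom V.hom) ≫ ·) (hp2 k)).trans
          (Category.comp_id _))
    obtain ⟨s⟩ : Nonempty (Spec (P.residueField z)) := inferInstance
    refine ⟨_, _, (x0 ≫ pullback.snd W.hom V.hom) s, Sieve.ofArrows_mk _ _ k, ?_⟩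
    exact (congrArg (fun g : Spec (P.residueField z) ⟶ P => g s) e).trans (P.fromSpecResidueField_apply z s)
  have hov : ∀ {Z : (V.left).Etale} {k l : ι} (a b : Z ⟶ EtCoh.top V.left), a ≫ σ k = b ≫ σ l →
      a = b ∧ (Z.left → k = l) := by
    intro Z k l a b e
    let za : Z.left ⟶ V.left := a.left
    let zb : Z.left ⟶ V.left := b.left
    have e0 : za ≫ p k = zb ≫ p l :=
      congrArg (fun g : Z ⟶ (EtCoh.bc V.hom).obj W => g.left) e
    have e1 : za = zb :=
      ((Category.comp_id za).symm.trans (congrArg (za ≫ ·) (hp2 k).symm)).trans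
        (((Category.assoc _ _ _).symm.trans ((congrArg (· ≫ pullback.snd W.hom V.hom) e0).trans
          (Category.assoc _ _ _))).trans ((congrArg (zb ≫ ·) (hp2 l)).trans (Category.comp_id zb)))
    refine ⟨MorphismProperty.Over.Hom.ext e1, fun z => ?_⟩
    have e2 : za ≫ t k = za ≫ t l :=
      ((congrArg (za ≫ ·) (hp1 k).symm).trans (Category.assoc _ _ _).symm).trans
        ((congrArg (· ≫ pullback.fst W.hom V.hom) e0).trans ((Category.assoc _ _ _).trans
          ((congrArg (zb ≫ ·) (hp1 l)).trans (congrArg (· ≫ t l) e1.symm))))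
    let x : Spec (Z.left.residueField z) ⟶ V.left := Z.left.fromSpecResidueField z ≫ za
    obtain ⟨m, -, hu⟩ := h.2 _ x (x ≫ t k) (by rw [Category.assoc, h.1])
    refine (hu k rfl).trans (hu l ?_).symm
    exact (Category.assoc _ _ _).trans
      ((congrArg (Z.left.fromSpecResidueField z ≫ ·) e2).trans (Category.assoc _ _ _).symm)
  refine ⟨σ, fun G => ?_⟩
  have hs : Presieve.IsSheafFor (G.obj ⋙ forget _) (Presieve.ofArrows _ σ) :=
    (Presieve.isSheafFor_iff_generate _).2
      ((isSheaf_iff_isSheaf_of_type _ _).1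
        (Presheaf.isSheaf_comp_of_isSheaf V.left.smallEtaleTopology G.obj (forget _) G.property) _ hcov)
  rw [Presieve.isSheafFor_arrows_iff] at hs
  refine ⟨fun s s' e => ?_, fun x => ?_⟩
  · obtain ⟨t₀, -, htu⟩ := hs (fun k => G.obj.map (σ k).op s) fun i j Z gi gj e' => by
      change G.obj.map gi.op _ = G.obj.map gj.op _
      rw [← LocConst45.Mod.map_comp', ← LocConst45.Mod.map_comp', e']
    exact (htu s fun _ => rfl).trans (htu s' fun k => (congrFun e k).symm).symm
  · obtain ⟨t₀, ht, -⟩ := hs x fun i j Z gi gj e' => by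
      change G.obj.map gi.op (x i) = G.obj.map gj.op (x j)
      by_cases hZ : Nonempty Z.left
      · obtain ⟨z⟩ := hZ
        obtain ⟨e1, hij⟩ := hov gi gj e'
        obtain rfl := hij z
        rw [e1]
      · have hbot : (⊥ : Sieve Z) ∈ V.left.smallEtaleTopology Z :=
          Unr55.EtSh.mem_topology fun z => (hZ ⟨z⟩).elim
        exact ((isSheaf_iff_isSheaf_of_type _ _).1
          (Presheaf.isSheaf_comp_of_isSheaf V.left.smallEtaleTopology G.obj (forget _) G.property) _
          hbot).isSeparatedFor.ext fun _ _ hf => hf.elim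
    exact ⟨t₀, funext ht⟩

/-- A corepresenting sheaf of a split object is constant. -/
theorem CoRep.nonempty_iso_const {W : X.Etale} {n : ℕ} {A : EtModW.Mod Λ X} {e : EtModW.sect Λ A W}
    (hA : CoRep A W e) (σ : Fin n → (EtCoh.top X ⟶ W))
    (hσ : ∀ G : EtModW.Mod Λ X,
      Function.Bijective fun (s : EtModW.sect Λ G W) (k : Fin n) => G.obj.map (σ k).op s) :
    Nonempty (A ≅ EtModW.constMod Λ X (Fin n → Λ)) := by
  let C := EtModW.constMod Λ X (Fin n → Λ)
  let u := constUnit X (ModuleCat.of Λ (Fin n → Λ))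
  obtain ⟨c, hc⟩ := (hσ C).2 fun k => u (Pi.single k (1 : Λ))
  obtain ⟨φ, hφ⟩ := (hA C).2 c
  obtain ⟨ψ, hψ⟩ := (const_bijective (ModuleCat.of Λ (Fin n → Λ)) A).2
    (ModuleCat.ofHom (Fintype.linearCombination Λ fun k => A.obj.map (σ k).op e))
  have hψ' : ∀ k, ψ.hom.app (op (EtCoh.top X)) (u (Pi.single k (1 : Λ))) = A.obj.map (σ k).op e := fun k =>
    (ConcreteCategory.congr_hom hψ (Pi.single k (1 : Λ))).trans
      ((Fintype.linearCombination_apply_single Λ _ k 1).trans (one_smul _ _))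
  have hφ' : ∀ k, φ.hom.app (op (EtCoh.top X)) (A.obj.map (σ k).op e) = u (Pi.single k (1 : Λ)) := fun k =>
    (NatTrans.naturality_apply φ.hom (σ k).op e).trans
      ((congrArg (C.obj.map (σ k).op) hφ).trans (congrFun hc k))
  refine ⟨⟨φ, ψ, (hA A).1 ((hσ A).1 (funext fun k => ?_)), (const_bijective _ C).1 ?_⟩⟩
  · change A.obj.map (σ k).op (ψ.hom.app (op W) (φ.hom.app (op W) e)) = A.obj.map (σ k).op e
    exact ((congrArg (fun s => A.obj.map (σ k).op (ψ.hom.app (op W) s)) hφ).trans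
      (NatTrans.naturality_apply ψ.hom (σ k).op c).symm).trans
      ((congrArg (ψ.hom.app (op (EtCoh.top X))) (congrFun hc k)).trans (hψ' k))
  · refine ModuleCat.hom_ext ((Pi.basisFun Λ (Fin n)).ext fun k => ?_)
    rw [Pi.basisFun_apply]
    change φ.hom.app (op (EtCoh.top X)) (ψ.hom.app (op (EtCoh.top X)) (u (Pi.single k (1 : Λ)))) =
      u (Pi.single k (1 : Λ))
    rw [hψ' k]
    exact hφ' k

/-- A sheaf corepresenting sections over a finite etale object is locally constant. -/
theorem CoRep.ftlc_of_isFinite {W : X.Etale} [IsFinite W.hom] {A : EtModW.Mod Λ X}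
    {e : EtModW.sect Λ A W} (hA : CoRep A W e) : EtModW.IsFTLocConst Λ A := by
  refine (LocConst45.Mod.ftLocConst_iff _).2 fun x => ?_
  have : Etale W.hom := W.prop
  obtain ⟨V, ⟨v, hv⟩, n, t, ht⟩ := Unr55.SplitEt.exists_isSplitBy W.hom x
  have : Etale V.hom := V.prop
  let A' := (EtModW.pull Λ V.hom).obj A
  obtain ⟨σ, hσ⟩ := bijective_split (Λ := Λ) W V t ht
  have hσ' : ∀ G : EtModW.Mod Λ V.left, Function.Bijective
      fun (s : EtModW.sect Λ G ((EtCoh.bc V.hom).obj W)) (k : Fin n) => G.obj.map (σ ⟨k⟩).op s :=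
    fun G => (Equiv.arrowCongr Equiv.ulift (Equiv.refl _)).bijective.comp (hσ G)
  obtain ⟨i⟩ := (hA.pull V.hom).nonempty_iso_const (fun k => σ ⟨k⟩) hσ'
  let i' : (EtSix.restrMod Λ V.hom).obj A ≅ EtModW.constMod Λ V.left (Fin n → Λ) :=
    ((pullRestrModIso Λ V.hom).app A).symm ≪≫ i
  let M : ModuleCat.{u + 1} Λ := ModuleCat.of Λ (Fin n → Λ)
  let τ : (Fin n → Λ) →ₗ[Λ] EtModW.sect Λ ((EtSix.restrMod Λ V.hom).obj A) (EtCoh.top V.left) :=
    (i'.inv.hom.app (op (EtCoh.top V.left))).hom.comp (LocConst45.Mod.constσ M (EtCoh.top V.left))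
  have hτ : LocConst45.Mod.IsTriv ((EtSix.restrMod Λ V.hom).obj A) (EtCoh.top V.left) τ := by
    have hc := LocConst45.Mod.isTriv_const M (EtCoh.top V.left)
    have hb : ∀ Z, Function.Bijective (i'.inv.hom.app Z) := fun Z =>
      have : IsIso (i'.inv.hom.app Z) := inferInstanceAs (IsIso (((sheafToPresheaf _ _).map i'.inv).app Z))
      ConcreteCategory.bijective_of_isIso _
    refine ⟨fun Z a m hZ hm => hc.inj Z a m hZ ((hb (op Z)).1 ?_), fun Z a s z => ?_⟩
    · exact ((NatTrans.naturality_apply i'.inv.hom a.op _).trans hm).trans (map_zero _).symm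
    · obtain ⟨s', rfl⟩ := (hb (op Z)).2 s
      obtain ⟨C, g, c, m, h1, h2⟩ := hc.surj Z a s' z
      refine ⟨C, g, c, m, h1, (NatTrans.naturality_apply i'.inv.hom g.op s').symm.trans ?_⟩
      exact (congrArg (i'.inv.hom.app (op C)) h2).trans (NatTrans.naturality_apply i'.inv.hom (g ≫ a).op _)
  refine ⟨_, v, Fin n → Λ, inferInstance, inferInstance, inferInstance, τ, ?_, isTriv_of_restr V.hom hτ⟩
  change V.hom ((𝟙 V.left : V.left ⟶ V.left) v) = x
  exact hv

/-- `j_! Λ` is constructible. -/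
theorem isConstructible_gen [CompactSpace X] [QuasiSeparatedSpace X] [CompactSpace U]
    [QuasiSeparatedSpace U] (j : U ⟶ X) [Etale j] [EtShriek.JCont j] :
    EtModW.IsConstructible Λ (gen Λ j) := by
  obtain ⟨n, T, g, hg, hc, hd, hcov, hfin⟩ := EtStrat51.exists_strata j
  refine ModCons93.isConstructible_of_nhds _ fun x => ⟨Set.univ, isOpen_univ, trivial,
    ModCons93.strataCover_of_adapted ⟨n, T, g, hg,
      fun i => (hc i).preimage_of_isOpenEmbedding isOpen_univ.isOpenEmbedding_subtypeVal, hd, hcov,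
      fun i => ?_⟩⟩
  obtain ⟨e, he⟩ := exists_coRep_gen (Λ := Λ) j
  have : IsFinite ((EtCoh.bc (g i)).obj (Scheme.Etale.mk j)).hom := hfin i
  exact (he.pull (g i)).ftlc_of_isFinite

end Groth.Agent.Mod48.EtCons
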