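import Groth.Agent.Mod48.ProEtVanish

/-!
Base change of presented objects; generation of the pro-etale site by presented objects.
-/

universe u

open CategoryTheory CategoryTheory.Limits AlgebraicGeometry Opposite

namespace Groth.Agent.Mod48.ProLim

set_option backward.isDefEq.respectTransparency.types false

variable {X Y : Scheme.{u}} (f : X ⟶ Y)

/-- The comparison of base change on the etale and pro-etale sites. -/
noncomputable def bcEps (E : Y.Etale) : (ProEtS.bcP f).obj ((ProEtS.eps Y).obj E) ≅ (ProEtS.eps X).obj ((EtCoh.bc f).obj E) :=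
  MorphismProperty.Over.isoMk (Iso.refl _) (Category.id_comp _)

lemma bcEps_left (E : Y.Etale) : (bcEps f E).hom.left = 𝟙 _ := rfl

lemma bcEps_naturality {E E' : Y.Etale} (g : E ⟶ E') :
    (ProEtS.bcP f).map ((ProEtS.eps Y).map g) ≫ (bcEps f E').hom =
      (bcEps f E).hom ≫ (ProEtS.eps X).map ((EtCoh.bc f).map g) :=
  MorphismProperty.Over.Hom.ext ((Category.comp_id _).trans (Category.id_comp _).symm)

variable [QuasiCompact f] [QuasiSeparated f] (P : Pres Y)

/-- The base change of a cone. -/
noncomputable def bcPCone : Cone ((P.D ⋙ EtCoh.bc f) ⋙ ProEtS.eps X) where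
  pt := (ProEtS.bcP f).obj P.c.pt
  π :=
    { app := fun i => (ProEtS.bcP f).map (P.c.π.app i) ≫ (bcEps f (P.D.obj i)).hom
      naturality := fun i j a => by
        refine (Category.id_comp _).trans ?_
        show _ = ((ProEtS.bcP f).map (P.c.π.app i) ≫ (bcEps f (P.D.obj i)).hom) ≫
          (ProEtS.eps X).map ((EtCoh.bc f).map (P.D.map a))
        rw [Category.assoc, ← bcEps_naturality, ← Category.assoc, ← Functor.map_comp]
        exact congrArg (fun q => (ProEtS.bcP f).map q ≫ _) (P.c.w a).symm }

omit [QuasiCompact f] [QuasiSeparated f] in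
lemma bcPCone_left (i : P.I) :
    ((bcPCone f P).π.app i).left ≫ pullback.fst (P.D.obj i).hom f =
      pullback.fst P.c.pt.hom f ≫ (P.c.π.app i).left := by
  show (((ProEtS.bcP f).map (P.c.π.app i)).left ≫ 𝟙 _) ≫ _ = _
  erw [Category.comp_id]
  exact pullback.lift_fst _ _ _

omit [QuasiCompact f] [QuasiSeparated f] in
lemma bcPCone_right (i : P.I) :
    ((bcPCone f P).π.app i).left ≫ pullback.snd (P.D.obj i).hom f = pullback.snd P.c.pt.hom f := by
  show (((ProEtS.bcP f).map (P.c.π.app i)).left ≫ 𝟙 _) ≫ _ = _
  erw [Category.comp_id]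
  exact pullback.lift_snd _ _ _

omit [QuasiCompact f] [QuasiSeparated f] in
theorem nonempty_isLimit_bcPCone : Nonempty (IsLimit ((schP X).mapCone (bcPCone f P))) := by
  have : IsConnected P.I := IsCofiltered.isConnected P.I
  let α : ((P.D ⋙ EtCoh.bc f) ⋙ ProEtS.eps X) ⋙ schP X ⟶ (P.D ⋙ ProEtS.eps Y) ⋙ schP Y :=
    { app := fun i => pullback.fst (P.D.obj i).hom f
      naturality := fun i j a => pullback.lift_fst _ _ _ }
  refine ⟨isLimitOfIsPullbackOfIsConnected α _ _ (by exact
    { hom := pullback.fst P.c.pt.hom f
      w := fun i => (bcPCone_left f P i).symm }) (fun i => ?_) P.isLimit⟩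
  have h1 : IsPullback (pullback.snd (P.D.obj i).hom f) (pullback.fst (P.D.obj i).hom f) f (P.D.obj i).hom :=
    (IsPullback.of_hasPullback _ _).flip
  have h2 : IsPullback (((bcPCone f P).π.app i).left ≫ pullback.snd (P.D.obj i).hom f)
      (pullback.fst P.c.pt.hom f) f ((P.c.π.app i).left ≫ (P.D.obj i).hom) := by
    rw [bcPCone_right, show (P.c.π.app i).left ≫ (P.D.obj i).hom = P.c.pt.hom from
      MorphismProperty.Over.w (P.c.π.app i)]
    exact (IsPullback.of_hasPullback _ _).flip
  exact IsPullback.of_right h2 (bcPCone_left f P i) h1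

/-- The base change of a presentation. -/
noncomputable def bcPres : Pres X :=
  { I := P.I
    D := P.D ⋙ EtCoh.bc f
    c := bcPCone f P
    isLimit := (nonempty_isLimit_bcPCone f P).some
    affine := fun i j a => by
      have sq : IsPullback ((EtCoh.bc f).map (P.D.map a)).left (pullback.fst (P.D.obj i).hom f)
          (pullback.fst (P.D.obj j).hom f) (P.D.map a).left := by
        refine IsPullback.of_right ?_ (pullback.lift_fst _ _ _) (IsPullback.of_hasPullback (P.D.obj j).hom f).flip
        have e1 : ((EtCoh.bc f).map (P.D.map a)).left ≫ pullback.snd (P.D.obj j).hom f =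
            pullback.snd (P.D.obj i).hom f := pullback.lift_snd _ _ _
        rw [e1, show (P.D.map a).left ≫ (P.D.obj j).hom = (P.D.obj i).hom from
          MorphismProperty.Over.w (P.D.map a)]
        exact (IsPullback.of_hasPullback _ _).flip
      exact MorphismProperty.of_isPullback (P := @IsAffineHom) sq.flip (P.affine i j a)
    compact := fun i =>
      have hc : CompactSpace ↥(P.D.obj i).left := P.compact i
      have : QuasiCompact (pullback.fst (P.D.obj i).hom f) :=
        MorphismProperty.pullback_fst (P := @QuasiCompact) _ _ inferInstance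
      @QuasiCompact.compactSpace_of_compactSpace _ _ (pullback.fst (P.D.obj i).hom f) this hc
    qs := fun i => by
      have hq : QuasiSeparatedSpace ↥(P.D.obj i).left := P.qs i
      exact @quasiSeparatedSpace_of_quasiSeparated _ _ (pullback.fst (P.D.obj i).hom f) hq
        (MorphismProperty.pullback_fst (P := @QuasiSeparated) _ _ inferInstance) }

theorem presented_bcP {V : Y.ProEt} (hV : Presented V) : Presented ((ProEtS.bcP f).obj V) := by
  obtain ⟨P, rfl⟩ := hV
  exact ⟨bcPres f P, rfl⟩

omit [QuasiCompact f] [QuasiSeparated f] in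
/-- Objects mapped to from presented objects cover. -/
theorem mem_of_presented {U : Y.ProEt} (S : Sieve U)
    (h : ∀ (Z : Y.ProEt) (g : Z ⟶ U), Presented Z → S g) : S ∈ Scheme.ProEt.topology Y U := by
  let W : U.left.affineOpens → U.left.Opens := fun W => W
  refine (Scheme.ProEt.topology Y).transitive (ProEt91.openCover_mem W fun x => ?_) _ fun Z g hg => ?_
  · obtain ⟨_, ⟨A, hA, rfl⟩, hxA, -⟩ := U.left.isBasis_affineOpens.exists_subset_of_mem_open
      (Set.mem_univ x) isOpen_univ
    exact ⟨⟨A, hA⟩, hxA⟩
  · obtain ⟨T0, a, b0, ⟨W⟩, rfl⟩ := hg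
    rw [Sieve.pullback_comp]
    refine (Scheme.ProEt.topology _).pullback_stable a ?_
    have : IsAffine (W : U.left.Opens).toScheme := W.2
    have : CompactSpace (ProEt91.openObj U (W : U.left.Opens)).left :=
      inferInstanceAs (CompactSpace (W : U.left.Opens).toScheme)
    have : QuasiSeparatedSpace (ProEt91.openObj U (W : U.left.Opens)).left :=
      inferInstanceAs (QuasiSeparatedSpace (W : U.left.Opens).toScheme)
    obtain ⟨m, T, k, hT, -, hcov⟩ := exists_presented_refinement (ProEt91.openObj U (W : U.left.Opens))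
      ((Scheme.ProEt.topology _).top_mem _)
    refine GrothendieckTopology.superset_covering _ ?_ hcov
    rw [Sieve.generate_le_iff]
    rintro V w ⟨i⟩
    exact h _ _ (hT i)

omit [QuasiCompact f] [QuasiSeparated f] in
/-- A map of sheaves bijective on presented objects is an isomorphism. -/
theorem isIso_of_bijective_presented {F G : ProEtS.AbP Y} (φ : F ⟶ G)
    (h : ∀ Z : Y.ProEt, Presented Z → Function.Bijective (φ.hom.app (op Z))) : IsIso φ := by
  have : Sheaf.IsLocallySurjective φ := ⟨fun {U} s => mem_of_presented _ fun Z g hZ => by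
    obtain ⟨t, ht⟩ := (h Z hZ).2 (G.obj.map g.op s)
    exact ⟨t, ht⟩⟩
  have : Epi φ := (Sheaf.isLocallySurjective_iff_epi' AddCommGrpCat.{u + 1} φ).1 this
  have hinj : ∀ U : Y.ProEt, Function.Injective (φ.hom.app (op U)) := fun U =>
    (injective_iff_map_eq_zero (φ.hom.app (op U)).hom).2 fun t ht => by
      have hF := (isSheaf_iff_isSheaf_of_type _ _).1
        (Presheaf.isSheaf_comp_of_isSheaf _ F.obj (forget AddCommGrpCat.{u + 1}) F.property)
      let S : Sieve U :=
        { arrows := fun Z g => F.obj.map g.op t = 0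
          downward_closed := fun {Z Z' g} hg k => by
            rw [op_comp, Functor.map_comp, ConcreteCategory.comp_apply, hg, map_zero] }
      refine (hF S (mem_of_presented S fun Z g hZ => (h Z hZ).1 ?_)).isSeparatedFor.ext fun Z g hg => ?_
      · rw [NatTrans.naturality_apply, map_zero]
        exact (congrArg (G.obj.map g.op) ht).trans (map_zero _)
      · exact hg.trans (map_zero (F.obj.map g.op).hom).symm
  have : Mono φ := by
    have : Mono φ.hom := by
      rw [NatTrans.mono_iff_mono_app]
      exact fun W => (AddCommGrpCat.mono_iff_injective _).2 (hinj W.unop)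
    exact (sheafToPresheaf _ AddCommGrpCat.{u + 1}).mono_of_mono_map this
  exact isIso_of_mono_of_epi φ

end Groth.Agent.Mod48.ProLim
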