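import Groth.Agent.Mod48.GermLocal
import Groth.Agent.Unr55.Et.PullExact
import Mathlib.CategoryTheory.Sites.Abelian
import Mathlib.CategoryTheory.Sites.EpiMono

/-!
Pullback of small etale sheaves to a site with geometric point lifting is exact.
-/

universe u

open CategoryTheory CategoryTheory.Limits AlgebraicGeometry Opposite

namespace Groth.Agent.Mod48

set_option backward.isDefEq.respectTransparency.types false

open Unr55 (EtSh.germ EtSh.stalk_map_germ)

namespace GSite

variable {X : Scheme.{u}} {C : Type (u + 1)} [Category.{u} C] {K : GrothendieckTopology C} {e : X.Etale ⥤ C}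
  (Γ : GSite X K e)
  [e.IsContinuous X.smallEtaleTopology K]
  [(e.sheafPushforwardContinuous AddCommGrpCat.{u + 1} X.smallEtaleTopology K).IsRightAdjoint]

/-- Values are natural in the sheaf. -/
lemma val_natural {F G : EtCoh.Ab X} (φ : F ⟶ G) {V : C} (t : (pull K e F).obj.obj (op V)) (η : GPt X)
    (v : Γ.Pts η V) :
    Γ.val G η v (((e.sheafPullback AddCommGrpCat.{u + 1} X.smallEtaleTopology K).map φ).hom.app (op V) t) =
      (EtCoh.stalk η.hom).map φ (Γ.val F η v t) := by
  obtain ⟨W, g, w, ⟨U, h, s, hs⟩, rfl⟩ := Γ.exists_lift_pts (Γ.repSieve_mem F t) η v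
  have hn : ((e.sheafPullback AddCommGrpCat.{u + 1} X.smallEtaleTopology K).map φ).hom.app (op (e.obj U))
        (etaSect K e F s) = etaSect K e G (φ.hom.app (op U) s) :=
    (congrArg (fun ψ : F ⟶ _ => ψ.hom.app (op U) s) ((adj K e).unit.naturality φ)).symm
  rw [← val_map, ← val_map, hs]
  refine (congrArg _ ((NatTrans.naturality_apply
      ((e.sheafPullback AddCommGrpCat.{u + 1} X.smallEtaleTopology K).map φ).hom g.op t).symm.trans
    ((congrArg (((e.sheafPullback AddCommGrpCat.{u + 1} X.smallEtaleTopology K).map φ).hom.app (op W)) hs).trans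
      ((NatTrans.naturality_apply
        ((e.sheafPullback AddCommGrpCat.{u + 1} X.smallEtaleTopology K).map φ).hom h.op _).trans
        (congrArg _ hn))))).trans ?_
  rw [val_rep, val_rep]
  exact (EtSh.stalk_map_germ η.hom φ _ s).symm

variable [HasSheafify K AddCommGrpCat.{u + 1}]

include Γ in
/-- Pullback preserves monomorphisms. -/
theorem mono_pull_map {F G : EtCoh.Ab X} (φ : F ⟶ G) [Mono φ] :
    Mono ((e.sheafPullback AddCommGrpCat.{u + 1} X.smallEtaleTopology K).map φ) := by
  let ψ := (e.sheafPullback AddCommGrpCat.{u + 1} X.smallEtaleTopology K).map φ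
  have hinj : ∀ V, Function.Injective (ψ.hom.app (op V)) := fun V =>
    (injective_iff_map_eq_zero (ψ.hom.app (op V)).hom).2 fun t ht =>
      Γ.eq_zero_of_val F t fun η v => by
        refine Unr55.EtSh.stalk_map_injective_of_mono φ η.hom ?_
        rw [← val_natural, map_zero]
        exact (congrArg _ ht).trans (map_zero _)
  have : Mono ψ.hom := by
    rw [NatTrans.mono_iff_mono_app]
    exact fun W => (AddCommGrpCat.mono_iff_injective _).2 (hinj W.unop)
  exact (sheafToPresheaf _ AddCommGrpCat.{u + 1}).mono_of_mono_map this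

end GSite

end Groth.Agent.Mod48
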