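import Groth.Agent.Mod48.ProEtCartan
import Groth.Agent.Mod48.GermExact
import Groth.Agent.Mod48.FppfGlobal

/-!
Higher pro-etale classes of sheaves from the small etale site die etale locally; global vanishing on affines.
-/

universe u

open CategoryTheory CategoryTheory.Limits AlgebraicGeometry Opposite CategoryTheory.Abelian

namespace Groth.Agent.Mod48.ProLim

set_option backward.isDefEq.respectTransparency.types false

variable {X : Scheme.{u}}

/-- The final object of the small pro-etale site. -/
noncomputable def isTerminalTopP (X : Scheme.{u}) : IsTerminal (ProEtS.topP X) :=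
  MorphismProperty.Over.mkIdTerminal (P := @WeaklyEtale) X

/-- The free sheaf on the final object is the constant sheaf. -/
noncomputable def lFreeTopIso {C : Type (u + 1)} [Category.{u} C] {J : GrothendieckTopology C}
    [HasSheafify J AddCommGrpCat.{u + 1}] {T : C} (hT : IsTerminal T) :
    lFree J T ≅ (constantSheaf J AddCommGrpCat.{u + 1}).obj (AddCommGrpCat.of (ULift ℤ)) where
  hom := (lEquiv T _).symm (constEquiv hT _ (𝟙 _))
  inv := (constEquiv hT _).symm (lEquiv T _ (𝟙 _))
  hom_inv_id := by
    apply (lEquiv T _).injective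
    rw [lEquiv_comp, AddEquiv.apply_symm_apply, ← constEquiv_comp, Category.id_comp, AddEquiv.apply_symm_apply]
  inv_hom_id := by
    apply (constEquiv hT _).injective
    rw [constEquiv_comp, AddEquiv.apply_symm_apply, ← lEquiv_comp, Category.id_comp, AddEquiv.apply_symm_apply]

theorem subsingleton_ext_const_of_top (F : ProEtS.AbP X) (n : ℕ)
    [hs : Subsingleton (Ext.{u + 1} (lFree (Scheme.ProEt.topology X) (ProEtS.topP X)) F n)] :
    Subsingleton (ProEtS.HP X F n) := by
  let i := lFreeTopIso (J := Scheme.ProEt.topology X) (isTerminalTopP X)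
  refine ⟨fun a b => ?_⟩
  have key : ∀ c : ProEtS.HP X F n, c = (Ext.mk₀ i.inv).comp ((Ext.mk₀ i.hom).comp c (zero_add n)) (zero_add n) :=
    fun c => by
      rw [← Ext.comp_assoc _ _ _ (zero_add 0) (zero_add n) (by omega), Ext.mk₀_comp_mk₀, i.inv_hom_id,
        Ext.mk₀_id_comp]
  rw [key a, key b]
  exact congrArg (fun q => (Ext.mk₀ i.inv).comp q (zero_add n)) (hs.elim _ _)

variable [ProEtS.EpsCont X]

instance preservesMono_epsPull : (ProEtS.epsPull X).PreservesMonomorphisms :=
  ⟨fun f _ => (proEtGSite X).mono_pull_map f⟩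

/-- Pullback to the pro-etale site is exact. -/
theorem epsPull_shortExact {S : ShortComplex (EtCoh.Ab X)} (hS : S.ShortExact) :
    haveI := (ProEtS.epsAdj X).left_adjoint_additive
    (S.map (ProEtS.epsPull X)).ShortExact := by
  have := (ProEtS.epsAdj X).left_adjoint_additive
  have : PreservesColimitsOfSize.{0, 0} (ProEtS.epsPull X) := (ProEtS.epsAdj X).leftAdjoint_preservesColimits
  have := PreservesColimitsOfSize.preservesFiniteColimits (ProEtS.epsPull X)
  obtain ⟨h1, h2⟩ := (Functor.preservesFiniteColimits_iff_forall_exact_map_and_epi (ProEtS.epsPull X)).1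
    inferInstance S hS
  have := hS.mono_f
  exact { exact := h1, mono_f := (ProEtS.epsPull X).map_mono S.f, epi_g := h2 }

/-- Pullback to the pro-etale site preserves finite limits. -/
theorem preservesFiniteLimits_epsPull : PreservesFiniteLimits (ProEtS.epsPull X) := by
  have := (ProEtS.epsAdj X).left_adjoint_additive
  exact (Functor.preservesFiniteLimits_iff_forall_exact_map_and_mono (ProEtS.epsPull X)).2 fun S hS =>
    ⟨(epsPull_shortExact hS).exact, (epsPull_shortExact hS).mono_f⟩

omit [ProEtS.EpsCont X] in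
lemma exists_mem_of_cover {E : X.Etale} {S : Sieve E} (hS : S ∈ X.smallEtaleTopology E) (x : E.left) :
    ∃ (E' : X.Etale) (g : E' ⟶ E) (w : E'.left), S g ∧ g.left w = x := by
  have e' : X.smallEtaleTopology =
      (X.smallPretopology (P := EtCoh.etaleMP) (Q := EtCoh.etaleMP)).toGrothendieck :=
    Scheme.smallGrothendieckTopology_eq_toGrothendieck_smallPretopology X le_rfl
  rw [e'] at hS
  obtain ⟨W, g, w, hg, -, hw⟩ := (Scheme.mem_toGrothendieck_smallPretopology E S).1 hS x
  exact ⟨W, g, w, hg, hw⟩

/-- Higher classes of a sheaf from the etale site die etale locally. -/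
theorem exists_kill : ∀ (n : ℕ) (F : EtCoh.Ab X) (E : X.Etale)
    (ξ : Ext.{u + 1} (lFree (Scheme.ProEt.topology X) ((ProEtS.eps X).obj E)) (sh F) (n + 1)) (x : E.left),
    ∃ (E' : X.Etale) (g : E' ⟶ E) (w : E'.left), g.left w = x ∧ resX ((ProEtS.eps X).map g) ξ = 0 := by
  intro n
  induction n with
  | zero => ?_
  | succ n ih => ?_
  all_goals
    intro F E ξ x
    obtain ⟨_, ⟨A', hA, rfl⟩, hxA, -⟩ := E.left.isBasis_affineOpens.exists_subset_of_mem_open
      (Set.mem_univ x) isOpen_univ
    let A : E.left.Opens := A'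
    have hAf : IsAffine A.toScheme := hA
    have := (ProEtS.epsAdj X).left_adjoint_additive
    let T : ShortComplex (EtCoh.Ab X) :=
      ShortComplex.mk (Injective.ι F) (cokernel.π (Injective.ι F)) (cokernel.condition _)
    have hT : T.ShortExact :=
      { exact := ShortComplex.exact_of_g_is_cokernel _ (cokernelIsCokernel _) }
    have : Injective T.X₂ := inferInstanceAs (Injective (Injective.under F))
    have hS := epsPull_shortExact hT
    have : CompactSpace (openEt E A).left := inferInstanceAs (CompactSpace A.toScheme)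
    have : QuasiSeparatedSpace (openEt E A).left := inferInstanceAs (QuasiSeparatedSpace A.toScheme)
    have hz : ((resX ((ProEtS.eps X).map (openEtι E A)) ξ).comp
        (Ext.mk₀ (T.map (ProEtS.epsPull X)).f) (add_zero _)) = 0 :=
      (subsingleton_ext_sh T.X₂ _ (presented_eps (openEt E A))).elim _ _
    obtain ⟨s, hs⟩ := Ext.covariant_sequence_exact₁ _ hS _ hz rfl
  · obtain ⟨φ, rfl⟩ := Ext.addEquiv₀.symm.surjective s
    obtain ⟨t, rfl⟩ := (lEquiv _ _).symm.surjective φ
    obtain ⟨σ, hσ⟩ := (proEtGSite X).etaSect_surjective T.X₃ (openEt E A) t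
    have hepi : Sheaf.IsLocallySurjective T.g :=
      (Sheaf.isLocallySurjective_iff_epi' AddCommGrpCat.{u + 1} T.g).2 hT.epi_g
    obtain ⟨E', g, w, hg, hw⟩ := exists_mem_of_cover
      (Presheaf.imageSieve_mem X.smallEtaleTopology T.g.hom σ) (⟨x, hxA⟩ : A.toScheme)
    obtain ⟨b, hb⟩ := hg
    refine ⟨E', g ≫ openEtι E A, w, ?_, ?_⟩
    · show A.ι (g.left w) = x
      rw [hw]
      rfl
    · rw [Functor.map_comp, resX_comp, ← hs]
      show resX _ ((Ext.mk₀ ((lEquiv _ _).symm t)).comp hS.extClass (zero_add 1)) = 0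
      rw [resX_comp_ext, resX_mk₀]
      have e : (T.map (ProEtS.epsPull X)).X₃.obj.map ((ProEtS.eps X).map g).op t =
          (T.map (ProEtS.epsPull X)).g.hom.app (op ((ProEtS.eps X).obj E')) (eta T.X₂ b) := by
        rw [← hσ]
        refine (GSite.eta_map T.X₃ g σ).trans ?_
        refine (congrArg (eta T.X₃) hb.symm).trans ?_
        exact congrArg (fun ψ : T.X₂ ⟶ _ => ψ.hom.app (op E') b) ((ProEtS.epsAdj X).unit.naturality T.g)
      rw [e, ← lEquiv_symm_comp, ← Ext.mk₀_comp_mk₀,
        Ext.comp_assoc _ _ _ (add_zero 0) (zero_add 1) (by omega), hS.comp_extClass, Ext.comp_zero]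
  · obtain ⟨E', g, w, hw, hz⟩ := ih T.X₃ (openEt E A) s (⟨x, hxA⟩ : A.toScheme)
    refine ⟨E', g ≫ openEtι E A, w, ?_, ?_⟩
    · show A.ι (g.left w) = x
      rw [hw]
      rfl
    · rw [Functor.map_comp, resX_comp, ← hs]
      refine (resX_comp_ext ((ProEtS.eps X).map g) s hS.extClass rfl).trans ?_
      exact (congrArg (fun q => Ext.comp q hS.extClass rfl) hz).trans (Ext.zero_comp _ _ hS.extClass _ rfl)

/-- Higher direct images to the etale site vanish. -/
theorem isZero_RepsPush (F : EtCoh.Ab X) (q : ℕ) (hq : 0 < q) :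
    IsZero ((ProEtS.RepsPush X q).obj ((ProEtS.epsPull X).obj F)) := by
  obtain ⟨n, rfl⟩ := Nat.exists_eq_add_one.2 hq
  refine isZero_rightDerived_of_kill (ProEtS.eps X) _ n fun E ξ => ?_
  refine ⟨{ arrows := fun W g => resX ((ProEtS.eps X).map g) ξ = 0
            downward_closed := fun {W W' g} hg k => by
              rw [Functor.map_comp, resX_comp, hg]; exact resX_zero _ },
    Unr55.EtSh.mem_topology fun x => ?_, fun W g hg => hg⟩
  obtain ⟨E', g, w, hw, hz⟩ := exists_kill n F E ξ x
  exact ⟨E', g, w, hz, hw⟩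

/-- Vanishing on affine schemes for injective sheaves. -/
theorem subsingleton_HP_affine [IsAffine X] (I : EtCoh.Ab X) [Injective I] (p : ℕ) (hp : 0 < p) :
    Subsingleton (ProEtS.HP X ((ProEtS.epsPull X).obj I) p) := by
  obtain ⟨n, rfl⟩ := Nat.exists_eq_add_one.2 hp
  have h := subsingleton_ext_sh I n (U := (ProEtS.eps X).obj (EtCoh.top X))
    (presented_eps (hc := inferInstanceAs (CompactSpace X)) (hq := inferInstanceAs (QuasiSeparatedSpace X)) _)
  have : Subsingleton (Ext.{u + 1} (lFree (Scheme.ProEt.topology X) (ProEtS.topP X)) (sh I) (n + 1)) := h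
  exact subsingleton_ext_const_of_top _ _

end Groth.Agent.Mod48.ProLim
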