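import Groth.Agent.CohDer42.AcCrit
import Groth.Agent.CohDer42.RightDer
import Groth.Agent.Mod48.DerivedPrecomp

/-!
Right derived functors of a composite with an exact functor sending injectives to acyclic objects.
-/

universe v u v' u' v'' u''

open CategoryTheory Limits

attribute [local instance] HasDerivedCategory.standard

set_option autoImplicit false
set_option backward.isDefEq.respectTransparency false

namespace Groth.Agent.Mod48

variable {A : Type u} [Category.{v} A] [Abelian A] [HasInjectiveResolutions A]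
  {B : Type u'} [Category.{v'} B] [Abelian B]
  {D : Type u''} [Category.{v''} D] [Abelian D]

local notation "eN" => ComplexShape.embeddingUpNat

lemma mapExtendIso_natural (G : B ⥤ D) [G.Additive] {K L : CochainComplex B ℕ} (φ : K ⟶ L) :
    HomologicalComplex.extendMap ((G.mapHomologicalComplex (ComplexShape.up ℕ)).map φ) eN ≫
        (CohDer42.mapExtendIso G L).hom =
      (CohDer42.mapExtendIso G K).hom ≫
        (G.mapHomologicalComplex (ComplexShape.up ℤ)).map (HomologicalComplex.extendMap φ eN) := by
  ext n
  by_cases hn : 0 ≤ n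
  · simp only [HomologicalComplex.comp_f, Functor.mapHomologicalComplex_map_f, CohDer42.mapExtendIso,
      HomologicalComplex.Hom.isoOfComponents_hom_f, dif_pos hn, Iso.trans_hom, Functor.mapIso_hom,
      Iso.symm_hom, Category.assoc]
    rw [HomologicalComplex.extendMap_f _ _ (i := n.toNat) (show (n.toNat : ℤ) = n by lia),
      HomologicalComplex.extendMap_f _ _ (i := n.toNat) (show (n.toNat : ℤ) = n by lia)]
    simp [← Functor.map_comp]
  · exact (HomologicalComplex.isZero_extend_X _ eN n
      (fun k hk => hn (by simp at hk; lia))).eq_of_src _ _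

variable [EnoughInjectives B] (G : A ⥤ B) [G.Additive] [PreservesFiniteLimits G]
  [PreservesFiniteColimits G] (F : B ⥤ D) [F.Additive]

/-- The cohomology of `RF` on objects placed in degree zero. -/
noncomputable abbrev acT (q : ℕ) : B ⥤ D :=
  RFPlus43.RGsingle F ⋙ DerivedCategory.homologyFunctor D (q : ℤ)

/-- The image of a resolution, as a bounded below complex. -/
noncomputable def acCx {X : A} (R : InjectiveResolution X) : CochainComplex.Plus B :=
  ⟨(G.mapHomologicalComplex (ComplexShape.up ℤ)).obj R.cochainComplex, 0,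
    (CochainComplex.isStrictlyGE_iff _ 0).2 fun i hi =>
      G.map_isZero (CochainComplex.isZero_of_isStrictlyGE R.cochainComplex 0 i hi)⟩

/-- The augmentation of `acCx`. -/
noncomputable def acAug {X : A} (R : InjectiveResolution X) :
    RFPlus43.singleP.obj (G.obj X) ⟶ acCx G R :=
  ObjectProperty.homMk ((HomologicalComplex.singleMapHomologicalComplex G (ComplexShape.up ℤ) 0).inv.app X ≫
    (G.mapHomologicalComplex (ComplexShape.up ℤ)).map R.ι')

lemma quasiIso_acAug {X : A} (R : InjectiveResolution X) : QuasiIso (acAug G R).hom := by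
  have : QuasiIso ((G.mapHomologicalComplex (ComplexShape.up ℤ)).map R.ι') := inferInstance
  change QuasiIso ((HomologicalComplex.singleMapHomologicalComplex G (ComplexShape.up ℤ) 0).inv.app X ≫
    (G.mapHomologicalComplex (ComplexShape.up ℤ)).map R.ι')
  infer_instance

/-- The map of bounded below complexes induced by a map of resolutions. -/
noncomputable def acMap {X Y : A} {R : InjectiveResolution X} {R' : InjectiveResolution Y}
    (φ : R.cocomplex ⟶ R'.cocomplex) : acCx G R ⟶ acCx G R' :=
  ObjectProperty.homMk ((G.mapHomologicalComplex (ComplexShape.up ℤ)).map (HomologicalComplex.extendMap φ eN))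

lemma acAug_natural {X Y : A} (f : X ⟶ Y) {R : InjectiveResolution X} {R' : InjectiveResolution Y}
    (φ : R.cocomplex ⟶ R'.cocomplex) (comm : R.ι.f 0 ≫ φ.f 0 = f ≫ R'.ι.f 0) :
    acAug G R ≫ acMap G φ = RFPlus43.singleP.map (G.map f) ≫ acAug G R' := by
  let h : InjectiveResolution.Hom R R' f := ⟨φ, comm.trans (congrArg (· ≫ R'.ι.f 0) (CochainComplex.single₀_map_f_zero f).symm)⟩
  have h' : R.ι' ≫ HomologicalComplex.extendMap φ eN =
      (HomologicalComplex.single A (ComplexShape.up ℤ) 0).map f ≫ R'.ι' := h.ι'_comp_hom'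
  apply ObjectProperty.hom_ext
  change ((HomologicalComplex.singleMapHomologicalComplex G (ComplexShape.up ℤ) 0).inv.app X ≫
      (G.mapHomologicalComplex (ComplexShape.up ℤ)).map R.ι') ≫
      (G.mapHomologicalComplex (ComplexShape.up ℤ)).map (HomologicalComplex.extendMap φ eN) =
    (HomologicalComplex.single B (ComplexShape.up ℤ) 0).map (G.map f) ≫
      (HomologicalComplex.singleMapHomologicalComplex G (ComplexShape.up ℤ) 0).inv.app Y ≫
      (G.mapHomologicalComplex (ComplexShape.up ℤ)).map R'.ι'
  rw [Category.assoc, ← Functor.map_comp, h', Functor.map_comp]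
  exact ((HomologicalComplex.singleMapHomologicalComplex G (ComplexShape.up ℤ) 0).inv.naturality_assoc f _).symm

/-- Cohomology of `(G ⋙ F)` on a resolution and of the extended complexes. -/
noncomputable def acExtIso {X : A} (R : InjectiveResolution X) (q : ℕ) :
    (((G ⋙ F).mapHomologicalComplex (ComplexShape.up ℕ)).obj R.cocomplex).homology q ≅
      ((F.mapHomologicalComplex (ComplexShape.up ℤ)).obj (acCx G R).obj).homology (q : ℤ) :=
  (HomologicalComplex.extendHomologyIso _ eN (j := q) (j' := (q : ℤ)) rfl).symm ≪≫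
    (HomologicalComplex.homologyFunctor D (ComplexShape.up ℤ) (q : ℤ)).mapIso
      (CohDer42.mapExtendIso (G ⋙ F) R.cocomplex)

lemma acExtIso_natural {X Y : A} {R : InjectiveResolution X} {R' : InjectiveResolution Y}
    (φ : R.cocomplex ⟶ R'.cocomplex) (q : ℕ) :
    HomologicalComplex.homologyMap (((G ⋙ F).mapHomologicalComplex (ComplexShape.up ℕ)).map φ) q ≫
        (acExtIso G F R' q).hom =
      (acExtIso G F R q).hom ≫
        HomologicalComplex.homologyMap
          ((F.mapHomologicalComplex (ComplexShape.up ℤ)).map (acMap G φ).hom) (q : ℤ) := by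
  have h := congrArg (fun t => HomologicalComplex.homologyMap t (q : ℤ))
    (mapExtendIso_natural (G ⋙ F) φ)
  simp only [HomologicalComplex.homologyMap_comp] at h
  have h2 := HomologicalComplex.extendHomologyIso_hom_naturality
    (((G ⋙ F).mapHomologicalComplex (ComplexShape.up ℕ)).map φ) eN (j := q) (j' := (q : ℤ)) rfl
  dsimp only [acExtIso, Iso.trans_hom, Iso.symm_hom, Functor.mapIso_hom,
    HomologicalComplex.homologyFunctor_map]
  refine ((Category.assoc _ _ _).symm.trans ?_).trans (Category.assoc _ _ _).symm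
  rw [← cancel_epi (HomologicalComplex.extendHomologyIso _ eN (j := q) (j' := (q : ℤ)) rfl).hom]
  simp only [← Category.assoc, ← h2]
  simp only [Category.assoc, Iso.hom_inv_id_assoc, Iso.hom_inv_id, Category.comp_id]
  exact h.trans (Category.id_comp _).symm

variable [PreservesFiniteLimits F] (hG : ∀ I : A, Injective I → RFPlus43.IsAc F (G.obj I))

include hG in
lemma isIso_unit_acCx {X : A} (R : InjectiveResolution X) :
    IsIso ((RFPlus43.unitK F).app ((HomotopyCategory.Plus.quotient B).obj (acCx G R))) :=
  (RFPlus43.isIso_unitK_iff F _).2 (RFPlus43.isIso_unit_of_isAc F _ fun n =>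
    hG (R.cochainComplex.X n) inferInstance)

lemma isIso_RGK_acAug {X : A} (R : InjectiveResolution X) :
    IsIso ((RFPlus43.RGK F).map ((HomotopyCategory.Plus.quotient B).map (acAug G R))) := by
  have := quasiIso_acAug G R
  have : IsIso (DerivedCategory.Plus.Qh.map ((HomotopyCategory.Plus.quotient B).map (acAug G R))) :=
    Localization.inverts DerivedCategory.Plus.Qh (HomotopyCategory.Plus.quasiIso B) _
      ((HomotopyCategory.quotient_map_mem_quasiIso_iff _).2
        ((HomologicalComplex.mem_quasiIso_iff _).2 this))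
  exact inferInstanceAs (IsIso (DerivedCategory.Plus.ι.map (F.rightDerivedFunctorPlus.map
    (DerivedCategory.Plus.Qh.map ((HomotopyCategory.Plus.quotient B).map (acAug G R))))))

/-- From `F` on the image of a resolution to `RF` on the object. -/
noncomputable def acStep {X : A} (R : InjectiveResolution X) :
    (RFPlus43.GK F).obj ((HomotopyCategory.Plus.quotient B).obj (acCx G R)) ⟶
      (RFPlus43.RGsingle F).obj (G.obj X) :=
  have := isIso_RGK_acAug G F R
  (RFPlus43.unitK F).app ((HomotopyCategory.Plus.quotient B).obj (acCx G R)) ≫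
    inv ((RFPlus43.RGK F).map ((HomotopyCategory.Plus.quotient B).map (acAug G R)))

include hG in
lemma isIso_acStep {X : A} (R : InjectiveResolution X) : IsIso (acStep G F R) := by
  have := isIso_RGK_acAug G F R
  have := isIso_unit_acCx G F hG R
  unfold acStep
  exact IsIso.comp_isIso

lemma acStep_natural {X Y : A} (f : X ⟶ Y) {R : InjectiveResolution X} {R' : InjectiveResolution Y}
    (φ : R.cocomplex ⟶ R'.cocomplex) (comm : R.ι.f 0 ≫ φ.f 0 = f ≫ R'.ι.f 0) :
    (RFPlus43.GK F).map ((HomotopyCategory.Plus.quotient B).map (acMap G φ)) ≫ acStep G F R' =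
      acStep G F R ≫ (RFPlus43.RGsingle F).map (G.map f) := by
  have := isIso_RGK_acAug G F R
  have := isIso_RGK_acAug G F R'
  let Qp := HomotopyCategory.Plus.quotient B
  have e1 : (RFPlus43.RGK F).map (Qp.map (acAug G R)) ≫ (RFPlus43.RGK F).map (Qp.map (acMap G φ)) =
      (RFPlus43.RGK F).map (Qp.map (RFPlus43.singleP.map (G.map f))) ≫
        (RFPlus43.RGK F).map (Qp.map (acAug G R')) := by
    rw [← Functor.map_comp, ← Functor.map_comp, ← Functor.map_comp, ← Functor.map_comp,
      acAug_natural G f φ comm]
  change (RFPlus43.GK F).map (Qp.map (acMap G φ)) ≫ (RFPlus43.unitK F).app _ ≫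
      inv ((RFPlus43.RGK F).map (Qp.map (acAug G R'))) =
    ((RFPlus43.unitK F).app _ ≫ inv ((RFPlus43.RGK F).map (Qp.map (acAug G R)))) ≫
      (RFPlus43.RGK F).map (Qp.map (RFPlus43.singleP.map (G.map f)))
  refine (NatTrans.naturality_assoc _ _ _).trans ?_
  rw [Category.assoc]
  refine whisker_eq _ ?_
  rw [← cancel_epi ((RFPlus43.RGK F).map (Qp.map (acAug G R))), reassoc_of% e1,
    IsIso.hom_inv_id_assoc]
  simp [Qp]

/-- The comparison at one object. -/
noncomputable def acObjIso {X : A} (R : InjectiveResolution X) (q : ℕ) :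
    ((G ⋙ F).rightDerived q).obj X ≅ (acT F q).obj (G.obj X) :=
  R.isoRightDerivedObj (G ⋙ F) q ≪≫ acExtIso G F R q ≪≫
    ((RFPlus43.GKHomologyIso F (q : ℤ)).app (acCx G R)).symm ≪≫
    (have := isIso_acStep G F hG R
     (DerivedCategory.homologyFunctor D (q : ℤ)).mapIso (asIso (acStep G F R)))

lemma acObjIso_natural {X Y : A} (f : X ⟶ Y) {R : InjectiveResolution X} {R' : InjectiveResolution Y}
    (φ : R.cocomplex ⟶ R'.cocomplex) (comm : R.ι.f 0 ≫ φ.f 0 = f ≫ R'.ι.f 0) (q : ℕ) :
    ((G ⋙ F).rightDerived q).map f ≫ (acObjIso G F hG R' q).hom =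
      (acObjIso G F hG R q).hom ≫ (acT F q).map (G.map f) := by
  have h4 := (RFPlus43.GKHomologyIso F (q : ℤ)).inv.naturality (acMap G φ)
  simp only [acObjIso, Iso.trans_hom, Iso.symm_hom, Functor.mapIso_hom, asIso_hom, Iso.app_inv]
  rw [InjectiveResolution.isoRightDerivedObj_hom_naturality_assoc f R R' φ comm, Category.assoc,
    Category.assoc, Category.assoc]
  refine whisker_eq (R.isoRightDerivedObj (G ⋙ F) q).hom ?_
  erw [reassoc_of% (acExtIso_natural G F φ q)]
  refine whisker_eq (acExtIso G F R q).hom ?_
  erw [reassoc_of% h4]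
  refine whisker_eq _ ?_
  exact ((DerivedCategory.homologyFunctor D (q : ℤ)).map_comp _ _).symm.trans
    ((congrArg (DerivedCategory.homologyFunctor D (q : ℤ)).map (acStep_natural G F f φ comm)).trans
      ((DerivedCategory.homologyFunctor D (q : ℤ)).map_comp _ _))

/-- `(G ⋙ F).rightDerived q ≅ G ⋙ acT F q` for exact `G` sending injectives to `F`-acyclic objects. -/
noncomputable def acCompIso (q : ℕ) : (G ⋙ F).rightDerived q ≅ G ⋙ acT F q :=
  NatIso.ofComponents (fun X => acObjIso G F hG (injectiveResolution X) q)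
    (fun {X Y} f => acObjIso_natural G F hG f
      (InjectiveResolution.desc f (injectiveResolution Y) (injectiveResolution X))
      (InjectiveResolution.desc_commutes_zero f _ _) q)

/-- `F.rightDerived q` in terms of `RF`. -/
noncomputable def acBaseIso [HasInjectiveResolutions B] (q : ℕ) : F.rightDerived q ≅ acT F q :=
  have h : ∀ I : B, Injective I → RFPlus43.IsAc F ((𝟭 B).obj I) := fun I _ => RFPlus43.isAc_of_injective F I
  acCompIso (𝟭 B) F h q

/-- `(G ⋙ F).rightDerived q ≅ G ⋙ F.rightDerived q` for exact `G` sending injectives to `F`-acyclic objects. -/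
noncomputable def rightDerivedCompIsoOfAc [HasInjectiveResolutions B] (q : ℕ) :
    (G ⋙ F).rightDerived q ≅ G ⋙ F.rightDerived q :=
  acCompIso G F hG q ≪≫ Functor.isoWhiskerLeft G (acBaseIso F q).symm

/-- A criterion for acyclicity. -/
lemma isAc_of_isZero [HasInjectiveResolutions B] (X : B)
    (h : ∀ i : ℕ, 0 < i → IsZero ((F.rightDerived i).obj X)) : RFPlus43.IsAc F X :=
  (CohDer42.isAc_iff F X).2 ⟨inferInstance, h⟩

end Groth.Agent.Mod48
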