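import Groth.Agent.Mod48.ProEtBaseChange
import Groth.Agent.Mod48.DerivedAc
import Groth.Prelude.Def_RDer

/-!
Direct images commute with the pullback to the pro-etale site, for quasi-compact quasi-separated morphisms.
-/

universe u

open CategoryTheory CategoryTheory.Limits AlgebraicGeometry Opposite CategoryTheory.Abelian

namespace Groth.Agent.Mod48.ProLim

attribute [local instance] HasDerivedCategory.standard

set_option backward.isDefEq.respectTransparency.types false

variable {X Y : Scheme.{u}} (f : X ⟶ Y) [ProEtS.EpsCont X] [ProEtS.EpsCont Y] [ProEtS.PCont f]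

/-- Restriction to the etale site commutes with direct images. -/
noncomputable def pushSquare : ProEtS.epsPush X ⋙ EtCoh.push f ⟶ ProEtS.pushP f ⋙ ProEtS.epsPush Y where
  app G := ObjectProperty.homMk
    { app := fun E => G.obj.map (bcEps f E.unop).hom.op
      naturality := fun E E' a => by
        show G.obj.map ((ProEtS.eps X).map ((EtCoh.bc f).map a.unop)).op ≫ G.obj.map (bcEps f E'.unop).hom.op =
          G.obj.map (bcEps f E.unop).hom.op ≫ G.obj.map ((ProEtS.bcP f).map ((ProEtS.eps Y).map a.unop)).op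
        rw [← Functor.map_comp, ← Functor.map_comp, ← op_comp, ← op_comp, bcEps_naturality] }
  naturality G H φ := by
    apply ObjectProperty.hom_ext
    ext E : 2
    exact (φ.hom.naturality (bcEps f E.unop).hom.op).symm

/-- The base change map. -/
noncomputable def theta : EtCoh.push f ⋙ ProEtS.epsPull Y ⟶ ProEtS.epsPull X ⋙ ProEtS.pushP f where
  app F := ((ProEtS.epsAdj Y).homEquiv _ _).symm
    ((EtCoh.push f).map ((ProEtS.epsAdj X).unit.app F) ≫ (pushSquare f).app ((ProEtS.epsPull X).obj F))
  naturality F G φ := by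
    show (ProEtS.epsPull Y).map ((EtCoh.push f).map φ) ≫ _ = _ ≫ (ProEtS.pushP f).map ((ProEtS.epsPull X).map φ)
    refine ((ProEtS.epsAdj Y).homEquiv_naturality_left_symm _ _).symm.trans
      (Eq.trans (congrArg ((ProEtS.epsAdj Y).homEquiv _ _).symm ?_)
        ((ProEtS.epsAdj Y).homEquiv_naturality_right_symm _ _))
    have h1 : (EtCoh.push f).map φ ≫ (EtCoh.push f).map ((ProEtS.epsAdj X).unit.app G) =
        (EtCoh.push f).map ((ProEtS.epsAdj X).unit.app F) ≫
          (EtCoh.push f).map ((ProEtS.epsPush X).map ((ProEtS.epsPull X).map φ)) := by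
      rw [← Functor.map_comp, ← Functor.map_comp]
      exact congrArg (EtCoh.push f).map ((ProEtS.epsAdj X).unit.naturality φ)
    refine (Category.assoc _ _ _).symm.trans ((congrArg (· ≫ (pushSquare f).app _) h1).trans ?_)
    refine (Category.assoc _ _ _).trans ((congrArg ((EtCoh.push f).map _ ≫ ·)
      ((pushSquare f).naturality ((ProEtS.epsPull X).map φ))).trans ?_)
    exact (Category.assoc _ _ _).symm

/-- The base change map on sections coming from the etale site. -/
lemma theta_eta (F : EtCoh.Ab X) {V : Y.ProEt} {E : Y.Etale} (g : V ⟶ (ProEtS.eps Y).obj E)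
    (s : EtCoh.sect F ((EtCoh.bc f).obj E)) :
    ((theta f).app F).hom.app (op V) (res ((EtCoh.push f).obj F) g (eta ((EtCoh.push f).obj F) s)) =
      res F ((ProEtS.bcP f).map g ≫ (bcEps f E).hom) (eta F s) := by
  have h : (EtCoh.push f).map ((ProEtS.epsAdj X).unit.app F) ≫ (pushSquare f).app ((ProEtS.epsPull X).obj F) =
      (ProEtS.epsAdj Y).unit.app ((EtCoh.push f).obj F) ≫ (ProEtS.epsPush Y).map ((theta f).app F) :=
    (((ProEtS.epsAdj Y).homEquiv _ _).apply_symm_apply _).symm.trans ((ProEtS.epsAdj Y).homEquiv_unit ..)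
  refine (NatTrans.naturality_apply ((theta f).app F).hom g.op _).trans ?_
  rw [res_comp]
  exact congrArg (res F ((ProEtS.bcP f).map g))
    (congrArg (fun q : (EtCoh.push f).obj F ⟶ _ => q.hom.app (op E) s) h).symm

variable [QuasiCompact f] [QuasiSeparated f]

theorem bijective_theta (F : EtCoh.Ab X) (V : Y.ProEt) (hV : Presented V) :
    Function.Bijective (((theta f).app F).hom.app (op V)) := by
  obtain ⟨P, rfl⟩ := hV
  have hY1 : ∀ i, CompactSpace ↥((P.D ⋙ ProEtS.eps Y).obj i).left := P.compact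
  have hY2 : ∀ i, QuasiSeparatedSpace ↥((P.D ⋙ ProEtS.eps Y).obj i).left := P.qs
  have hY3 : ∀ (i j : P.I) (a : i ⟶ j), IsAffineHom ((P.D ⋙ ProEtS.eps Y).map a).left := P.affine
  let Q := bcPres f P
  have hX1 : ∀ i, CompactSpace ↥((Q.D ⋙ ProEtS.eps X).obj i).left := Q.compact
  have hX2 : ∀ i, QuasiSeparatedSpace ↥((Q.D ⋙ ProEtS.eps X).obj i).left := Q.qs
  have hX3 : ∀ (i j : Q.I) (a : i ⟶ j), IsAffineHom ((Q.D ⋙ ProEtS.eps X).map a).left := Q.affine
  constructor
  · refine (injective_iff_map_eq_zero (((theta f).app F).hom.app (op P.c.pt)).hom).2 fun x hx => ?_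
    obtain ⟨K, τ, rfl⟩ := exists_res_eq ((EtCoh.push f).obj F) (D := P.D ⋙ ProEtS.eps Y) P.isLimit x
    obtain ⟨σ, rfl⟩ := (proEtGSite Y).etaSect_surjective ((EtCoh.push f).obj F) (P.D.obj K) τ
    replace hx : res F (Q.c.π.app K) (eta F σ) = 0 := (theta_eta f F (P.c.π.app K) σ).symm.trans hx
    obtain ⟨j, a, ha⟩ := exists_res_eq_zero F (D := Q.D ⋙ ProEtS.eps X) Q.isLimit (i := K) (eta F σ) hx
    have h0 : ((EtCoh.push f).obj F).obj.map (P.D.map a).op σ = 0 :=
      (proEtGSite X).etaSect_injective F _ (((res_eta F ((EtCoh.bc f).map (P.D.map a)) σ).symm.trans ha).trans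
        (map_zero _).symm)
    rw [← P.c.w a, res_comp]
    refine (congrArg (res _ (P.c.π.app j))
      ((res_eta ((EtCoh.push f).obj F) (P.D.map a) σ).trans (congrArg (eta _) h0))).trans ?_
    exact (congrArg (res _ (P.c.π.app j)) (map_zero _)).trans (map_zero _)
  · intro t
    obtain ⟨K, τ, hτ⟩ := exists_res_eq F (D := Q.D ⋙ ProEtS.eps X) Q.isLimit t
    obtain ⟨σ, rfl⟩ := (proEtGSite X).etaSect_surjective F (Q.D.obj K) τ
    exact ⟨res _ (P.c.π.app K) (eta ((EtCoh.push f).obj F) σ), (theta_eta f F (P.c.π.app K) σ).trans hτ⟩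

theorem isIso_theta : IsIso (theta f) := by
  have : ∀ F, IsIso ((theta f).app F) := fun F => isIso_of_bijective_presented _ (bijective_theta f F)
  exact NatIso.isIso_of_isIso_app _

omit [ProEtS.EpsCont Y] in
/-- Pullbacks of injective sheaves are acyclic for direct image. -/
theorem isZero_RpushP_sh (I : EtCoh.Ab X) [Injective I] (n : ℕ) :
    IsZero ((ProEtS.RpushP f (n + 1)).obj (sh I)) := by
  refine isZero_rightDerived_of_kill (ProEtS.bcP f) _ n fun V ξ => ?_
  refine ⟨{ arrows := fun W g => resX ((ProEtS.bcP f).map g) ξ = 0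
            downward_closed := fun {W W' g} hg k => by
              rw [Functor.map_comp, resX_comp, hg]; exact resX_zero _ },
    mem_of_presented _ fun Z g hZ => ?_, fun W g hg => hg⟩
  exact (subsingleton_ext_sh I n (presented_bcP f hZ)).elim _ _

/-- Higher direct images commute with the pullback to the pro-etale site. -/
theorem nonempty_RpushP_iso (F : EtCoh.Ab X) (q : ℕ) :
    Nonempty ((ProEtS.RpushP f q).obj ((ProEtS.epsPull X).obj F) ≅
      (ProEtS.epsPull Y).obj ((EtCoh.Rpush f q).obj F)) := by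
  have := (ProEtS.epsAdj X).left_adjoint_additive
  have := (ProEtS.epsAdj Y).left_adjoint_additive
  have : PreservesColimitsOfSize.{0, 0} (ProEtS.epsPull X) := (ProEtS.epsAdj X).leftAdjoint_preservesColimits
  have := PreservesColimitsOfSize.preservesFiniteColimits (ProEtS.epsPull X)
  have : PreservesColimitsOfSize.{0, 0} (ProEtS.epsPull Y) := (ProEtS.epsAdj Y).leftAdjoint_preservesColimits
  have := PreservesColimitsOfSize.preservesFiniteColimits (ProEtS.epsPull Y)
  have : PreservesFiniteLimits (ProEtS.epsPull X) := preservesFiniteLimits_epsPull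
  have : PreservesFiniteLimits (ProEtS.epsPull Y) := preservesFiniteLimits_epsPull
  have : PreservesLimitsOfSize.{0, 0} (ProEtS.pushP f) := (ProEtS.pullPushAdjP f).rightAdjoint_preservesLimits
  have : PreservesFiniteLimits (ProEtS.pushP f) := PreservesLimitsOfSize.preservesFiniteLimits _
  have hG : ∀ I : EtCoh.Ab X, Injective I → RFPlus43.IsAc (ProEtS.pushP f) ((ProEtS.epsPull X).obj I) :=
    fun I _ => isAc_of_isZero _ _ fun i hi => by
      obtain ⟨n, rfl⟩ := Nat.exists_eq_add_one.2 hi
      exact isZero_RpushP_sh f I n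
  have := isIso_theta f
  let R := InjectiveResolution.of F
  let K := ((EtCoh.push f).mapHomologicalComplex (ComplexShape.up ℕ)).obj R.cocomplex
  exact ⟨((rightDerivedCompIsoOfAc (ProEtS.epsPull X) (ProEtS.pushP f) hG q).symm.app F) ≪≫
    (RDer.rightDerivedIso (asIso (theta f)).symm q).app F ≪≫
    R.isoRightDerivedObj (EtCoh.push f ⋙ ProEtS.epsPull Y) q ≪≫
    (K.sc q).mapHomologyIso (ProEtS.epsPull Y) ≪≫
    (ProEtS.epsPull Y).mapIso (R.isoRightDerivedObj (EtCoh.push f) q).symm⟩

end Groth.Agent.Mod48.ProLim
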