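import Groth.Agent.Mod48.ProEtIndCover
import Groth.Agent.S0755
import Groth.Agent.ProEt91.Cover
import Groth.Agent.ProEt91.Coprod
import Mathlib.RingTheory.TensorProduct.Quotient
import Mathlib.AlgebraicGeometry.Morphisms.ClosedImmersion
import Mathlib.CategoryTheory.Sites.DenseSubsite.Basic

/-!
Weakly etale schemes over a closed subscheme are covered by restrictions of weakly etale schemes.
-/

universe u

open CategoryTheory CategoryTheory.Limits AlgebraicGeometry Opposite TensorProduct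

namespace Groth.Agent.Mod48.ProLim

set_option backward.isDefEq.respectTransparency.types false

/-- Affine weakly etale schemes over a closed subscheme of an affine scheme are dominated by restrictions. -/
theorem exists_lift_affine {P S V : Scheme.{u}} (p : P ⟶ S) [IsClosedImmersion p] [IsAffine S] [IsAffine V]
    (a : V ⟶ P) [WeaklyEtale a] :
    ∃ (T Q : Scheme.{u}) (t : T ⟶ S) (qT : Q ⟶ T) (qP : Q ⟶ P) (k : Q ⟶ V), WeaklyEtale t ∧
      IsPullback qT qP t p ∧ k ≫ a = qP ∧ Surjective k ∧ AlgebraicGeometry.QuasiCompact k := by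
  have : IsAffine P := @isAffine_of_isAffineHom _ _ p inferInstance ‹IsAffine S›
  have hs : Function.Surjective p.appTop.hom := p.app_surjective ⊤ (isAffineOpen_top S)
  let R := Γ(S, ⊤)
  let I : Ideal R := RingHom.ker p.appTop.hom
  let e : (R ⧸ I) ≃+* Γ(P, ⊤) := RingHom.quotientKerEquivOfSurjective hs
  let σ : P ≅ Spec (CommRingCat.of (R ⧸ I)) := P.isoSpec ≪≫ Scheme.Spec.mapIso e.toCommRingCatIso.op
  have hσ : σ.hom ≫ Spec.map (CommRingCat.ofHom (Ideal.Quotient.mk I)) = p ≫ S.isoSpec.hom := by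
    have h1 : CommRingCat.ofHom (Ideal.Quotient.mk I) ≫ e.toCommRingCatIso.hom = p.appTop := by
      ext x
      exact RingHom.quotientKerEquivOfSurjective_apply_mk hs x
    rw [← Scheme.isoSpec_hom_naturality, ← h1, Spec.map_comp]
    simp [σ]
  obtain ⟨φ, hφ⟩ : ∃ φ : CommRingCat.of (R ⧸ I) ⟶ Γ(V, ⊤), Spec.map φ = V.isoSpec.inv ≫ a ≫ σ.hom :=
    ⟨Spec.preimage _, Spec.map_preimage _⟩
  letI : Algebra (R ⧸ I) Γ(V, ⊤) := φ.hom.toAlgebra
  have h1 : WeaklyEtale (Spec.map (CommRingCat.ofHom (algebraMap (R ⧸ I) Γ(V, ⊤)))) := by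
    show WeaklyEtale (Spec.map φ)
    rw [hφ]; infer_instance
  have hwe : Algebra.WeaklyEtale (R ⧸ I) Γ(V, ⊤) := by
    refine ⟨RingHom.flat_algebraMap_iff.1 ((HasRingHomProperty.Spec_iff (P := @Flat)).1 h1.flat), ?_⟩
    have h2 := h1.flat_diagonal
    rw [diagonal_SpecMap, MorphismProperty.cancel_right_of_respectsIso @Flat,
      HasRingHomProperty.Spec_iff (P := @Flat)] at h2
    exact h2
  obtain ⟨B', _, _, _, _, hff, -, hie⟩ := S0176.result (R ⧸ I) Γ(V, ⊤)
  obtain ⟨C, _, _, hC, ⟨ε⟩⟩ := S0755.result R I B' hie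
  have hwC : Algebra.WeaklyEtale R C := Ind91.weaklyEtale_of_isIndEtale hC
  have := WE91.weaklyEtale_SpecMap_algebraMap R C
  let T : Scheme.{u} := Spec (CommRingCat.of C)
  let Q : Scheme.{u} := Spec (CommRingCat.of (C ⊗[R] (R ⧸ I)))
  let t : T ⟶ S := Spec.map (CommRingCat.ofHom (algebraMap R C)) ≫ S.isoSpec.inv
  let incR : (R ⧸ I) →+* C ⊗[R] (R ⧸ I) :=
    (Algebra.TensorProduct.includeRight : (R ⧸ I) →ₐ[R] C ⊗[R] (R ⧸ I)).toRingHom
  let qP : Q ⟶ P := Spec.map (CommRingCat.ofHom incR) ≫ σ.inv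
  let ψ : B' ≃+* C ⊗[R] (R ⧸ I) :=
    ε.symm.toRingEquiv.trans (Algebra.TensorProduct.quotIdealMapEquivTensorQuot C I).toRingEquiv
  have hψ : ∀ x : R ⧸ I, ψ (algebraMap (R ⧸ I) B' x) = incR x := by
    intro x
    obtain ⟨r, rfl⟩ := Ideal.Quotient.mk_surjective x
    show Algebra.TensorProduct.quotIdealMapEquivTensorQuot C I (ε.symm (algebraMap (R ⧸ I) B' _)) = _
    rw [ε.symm.commutes]
    show Algebra.TensorProduct.quotIdealMapEquivTensorQuot C I (Ideal.Quotient.mk _ (algebraMap R C r)) = _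
    rw [Algebra.TensorProduct.quotIdealMapEquivTensorQuot_mk]
    show (algebraMap R C r) ⊗ₜ[R] (1 : R ⧸ I) = (1 : C) ⊗ₜ[R] Ideal.Quotient.mk I r
    rw [Algebra.algebraMap_eq_smul_one, TensorProduct.smul_tmul, ← Algebra.algebraMap_eq_smul_one,
      Ideal.Quotient.algebraMap_eq]
  let χ : Γ(V, ⊤) ⟶ CommRingCat.of (C ⊗[R] (R ⧸ I)) :=
    CommRingCat.ofHom (ψ.toRingHom.comp (algebraMap Γ(V, ⊤) B'))
  let k : Q ⟶ V := Spec.map χ ≫ V.isoSpec.inv
  have hk : k ≫ a = qP := by
    have h3 : φ ≫ χ = CommRingCat.ofHom incR := by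
      ext x
      show ψ (algebraMap Γ(V, ⊤) B' (algebraMap (R ⧸ I) Γ(V, ⊤) x)) = _
      rw [← IsScalarTower.algebraMap_apply, hψ]
      rfl
    show (Spec.map χ ≫ V.isoSpec.inv) ≫ a = Spec.map (CommRingCat.ofHom incR) ≫ σ.inv
    rw [← h3, Spec.map_comp, hφ]
    simp
  have hsurj : Surjective k := by
    have h4 : Surjective (Spec.map (CommRingCat.ofHom (algebraMap ↥Γ(V, ⊤) B'))) :=
      ⟨PrimeSpectrum.comap_surjective_of_faithfullyFlat⟩
    have h5 : χ = CommRingCat.ofHom (algebraMap ↥Γ(V, ⊤) B') ≫ ψ.toCommRingCatIso.hom := rfl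
    show Surjective (Spec.map χ ≫ V.isoSpec.inv)
    rw [h5, Spec.map_comp]
    infer_instance
  refine ⟨T, Q, t, Spec.map (CommRingCat.ofHom Algebra.TensorProduct.includeLeftRingHom), qP, k,
    inferInstanceAs (WeaklyEtale (Spec.map _ ≫ S.isoSpec.inv)), ?_, hk, hsurj,
    quasiCompact_of_compactSpace k⟩
  have hsq := isPullback_SpecMap_of_isPushout (CommRingCat.ofHom (algebraMap R C))
    (CommRingCat.ofHom (algebraMap R (R ⧸ I))) _ _ (CommRingCat.isPushout_tensorProduct R C (R ⧸ I))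
  refine hsq.of_iso (Iso.refl _) (Iso.refl _) σ.symm S.isoSpec.symm ?_ ?_ ?_ ?_
  · exact (Category.comp_id _).trans (Category.id_comp _).symm
  · exact (Category.id_comp _).symm
  · exact (Category.id_comp _).symm
  · show Spec.map (CommRingCat.ofHom (algebraMap R (R ⧸ I))) ≫ S.isoSpec.inv = σ.inv ≫ p
    rw [Iso.comp_inv_eq, Category.assoc, ← hσ, Iso.inv_hom_id_assoc]

variable {Z X : Scheme.{u}} (i : Z ⟶ X) [IsClosedImmersion i]

/-- A sieve containing all restrictions compatible with a given map covers. -/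
theorem mem_of_lifts {U : X.ProEt} {V : Z.ProEt} (a : V ⟶ (ProEtS.bcP i).obj U) (S : Sieve V)
    (h : ∀ (W : X.ProEt) (l : W ⟶ U) (q : (ProEtS.bcP i).obj W ⟶ V),
      q ≫ a = (ProEtS.bcP i).map l → S.arrows q) :
    S ∈ Scheme.ProEt.topology Z V := by
  let pr : ((ProEtS.bcP i).obj U).left ⟶ U.left := pullback.fst U.hom i
  let ι := {O : V.left.Opens // IsAffineOpen O ∧ ∃ A : U.left.Opens, IsAffineOpen A ∧
    O ≤ a.left ⁻¹ᵁ (pr ⁻¹ᵁ A)}
  have hcov : ∀ v : V.left, ∃ o : ι, v ∈ o.1 := fun v => by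
    obtain ⟨A, hA, hvA, -⟩ := exists_isAffineOpen_mem_and_subset (U := (⊤ : U.left.Opens))
      (x := pr (a.left v)) trivial
    obtain ⟨O, hO, hvO, hle⟩ := exists_isAffineOpen_mem_and_subset
      (U := a.left ⁻¹ᵁ (pr ⁻¹ᵁ A)) (x := v) hvA
    exact ⟨⟨O, hO, A, hA, hle⟩, hvO⟩
  have key : ∀ o : ι, ∃ (W : X.ProEt) (l : W ⟶ U) (q : (ProEtS.bcP i).obj W ⟶ ProEt91.openObj V o.1),
      (q ≫ ProEt91.openHom V o.1) ≫ a = (ProEtS.bcP i).map l ∧ Surjective q.left ∧
        AlgebraicGeometry.QuasiCompact q.left := by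
    rintro ⟨O, hO, A, hA, hle⟩
    have : IsAffine O.toScheme := hO
    have : IsAffine A.toScheme := hA
    have hp0 : IsClosedImmersion pr :=
      MorphismProperty.pullback_fst (P := @IsClosedImmersion) _ _ ‹IsClosedImmersion i›
    let p := pr ∣_ A
    have hpb := isPullback_morphismRestrict pr A
    have hp : IsClosedImmersion p := IsZariskiLocalAtTarget.restrict hp0 A
    let a' : O.toScheme ⟶ (pr ⁻¹ᵁ A).toScheme := IsOpenImmersion.lift (pr ⁻¹ᵁ A).ι (O.ι ≫ a.left) (by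
      rw [Scheme.Opens.range_ι]
      rintro _ ⟨x, rfl⟩
      exact hle x.2)
    have ha' : a' ≫ (pr ⁻¹ᵁ A).ι = O.ι ≫ a.left := IsOpenImmersion.lift_fac _ _ _
    have hwa : WeaklyEtale a.left := by
      have hs : WeaklyEtale ((ProEtS.bcP i).obj U).hom := ((ProEtS.bcP i).obj U).prop
      have : WeaklyEtale (a.left ≫ ((ProEtS.bcP i).obj U).hom) := by
        rw [ProEt91.overHom_w]; exact V.prop
      exact WeaklyEtale.of_comp a.left ((ProEtS.bcP i).obj U).hom
    have hwa' : WeaklyEtale a' := by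
      have : WeaklyEtale (a' ≫ (pr ⁻¹ᵁ A).ι) := by rw [ha']; infer_instance
      exact WeaklyEtale.of_comp a' (pr ⁻¹ᵁ A).ι
    obtain ⟨T, Q, t, qT, qP, k, ht, hQ, hk, hsurj, hqc⟩ := exists_lift_affine p a'
    have : WeaklyEtale U.hom := U.prop
    let W : X.ProEt := Scheme.ProEt.mk ((t ≫ A.ι) ≫ U.hom)
    let l : W ⟶ U := MorphismProperty.Over.homMk (t ≫ A.ι)
    have hbig : IsPullback qT (qP ≫ (pr ⁻¹ᵁ A).ι ≫ pullback.snd U.hom i) ((t ≫ A.ι) ≫ U.hom) i := by
      have h1 := hQ.paste_vert hpb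
      have h2 := h1.paste_vert (IsPullback.of_hasPullback U.hom i)
      simpa only [Category.assoc] using h2
    let θ : ((ProEtS.bcP i).obj W).left ≅ Q := hbig.isoPullback.symm
    have hθ1 : θ.hom ≫ qT = pullback.fst ((t ≫ A.ι) ≫ U.hom) i := hbig.isoPullback_inv_fst
    have hθ2 : θ.hom ≫ qP ≫ (pr ⁻¹ᵁ A).ι ≫ pullback.snd U.hom i = pullback.snd ((t ≫ A.ι) ≫ U.hom) i :=
      hbig.isoPullback_inv_snd
    have hq : (θ.hom ≫ k) ≫ O.ι ≫ V.hom = pullback.snd ((t ≫ A.ι) ≫ U.hom) i := by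
      rw [← ProEt91.overHom_w a, ← reassoc_of% ha', Category.assoc, reassoc_of% hk]
      exact hθ2
    let q : (ProEtS.bcP i).obj W ⟶ ProEt91.openObj V O := MorphismProperty.Over.homMk (θ.hom ≫ k) hq
    refine ⟨W, l, q, MorphismProperty.Over.Hom.ext ?_, ?_, ?_⟩
    · show ((θ.hom ≫ k) ≫ O.ι) ≫ a.left =
        pullback.lift (pullback.fst W.hom i ≫ t ≫ A.ι) (pullback.snd W.hom i) _
      have h6 : ((θ.hom ≫ k) ≫ O.ι) ≫ a.left = θ.hom ≫ qP ≫ (pr ⁻¹ᵁ A).ι := by
        rw [Category.assoc, ← ha', Category.assoc, reassoc_of% hk]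
      rw [h6]
      refine pullback.hom_ext ?_ ?_
      · refine Eq.trans ?_ (pullback.lift_fst _ _ _).symm
        show (θ.hom ≫ qP ≫ (pr ⁻¹ᵁ A).ι) ≫ pr = _
        have h7 : qP ≫ (pr ⁻¹ᵁ A).ι ≫ pr = qT ≫ t ≫ A.ι := by
          rw [← morphismRestrict_ι, ← Category.assoc, ← hQ.w, Category.assoc]
        rw [Category.assoc, Category.assoc, h7, ← Category.assoc, hθ1]
        rfl
      · refine Eq.trans ?_ (pullback.lift_snd _ _ _).symm
        exact ((Category.assoc _ _ _).trans (congrArg (θ.hom ≫ ·) (Category.assoc _ _ _))).trans hθ2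
    · show Surjective (θ.hom ≫ k)
      infer_instance
    · show AlgebraicGeometry.QuasiCompact (θ.hom ≫ k)
      infer_instance
  choose W l q hql hsurj hqc using key
  haveI := hsurj
  haveI := hqc
  exact ProEt91.mem_of_local (fun o : ι => o.1) hcov q S fun o => h (W o) (l o) _ (hql o)

instance isCoverDense_bcP : (ProEtS.bcP i).IsCoverDense (Scheme.ProEt.topology Z) where
  is_cover V := by
    let a : V ⟶ (ProEtS.bcP i).obj (ProEtS.topP X) :=
      MorphismProperty.Over.homMk (pullback.lift (V.hom ≫ i) V.hom (Category.comp_id _))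
        (pullback.lift_snd _ _ _)
    exact mem_of_lifts i a _ fun W _ q _ => ⟨⟨W, 𝟙 _, q, Category.id_comp _⟩⟩

instance isLocallyFull_bcP : (ProEtS.bcP i).IsLocallyFull (Scheme.ProEt.topology Z) where
  functorPushforward_imageSieve_mem {U U'} g := by
    have hb : PreservesLimitsOfSize.{0, 0} (CategoryTheory.Over.pullback i) :=
      (CategoryTheory.Over.mapPullbackAdj i).rightAdjoint_preservesLimits
    have : PreservesFiniteLimits (Scheme.ProEt.forget X ⋙ CategoryTheory.Over.pullback i) :=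
      comp_preservesFiniteLimits _ _
    have : PreservesFiniteLimits (ProEtS.bcP i ⋙ Scheme.ProEt.forget Z) :=
      inferInstanceAs (PreservesFiniteLimits (Scheme.ProEt.forget X ⋙ CategoryTheory.Over.pullback i))
    have : PreservesFiniteLimits (ProEtS.bcP i) :=
      ⟨fun J _ _ => preservesLimitsOfShape_of_reflects_of_preserves _ (Scheme.ProEt.forget Z)⟩
    let P := ProEtS.bcP i
    let a : P.obj U ⟶ P.obj (U ⨯ U') := prod.lift (𝟙 _) g ≫ (PreservesLimitPair.iso P U U').inv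
    have ha1 : a ≫ P.map prod.fst = 𝟙 _ := by
      simp only [a, Category.assoc]
      rw [PreservesLimitPair.iso_inv_fst, prod.lift_fst]
    have ha2 : a ≫ P.map prod.snd = g := by
      simp only [a, Category.assoc]
      rw [PreservesLimitPair.iso_inv_snd, prod.lift_snd]
    refine mem_of_lifts i a _ fun W l q hq => ?_
    have h1 : q = P.map (l ≫ prod.fst) := by
      rw [P.map_comp, ← hq, Category.assoc, ha1, Category.comp_id]
    refine ⟨W, l ≫ prod.fst, 𝟙 _, ⟨l ≫ prod.snd, ?_⟩, ?_⟩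
    · rw [← h1, P.map_comp, ← hq, Category.assoc, ha2]
    · exact (Category.id_comp _).trans h1.symm |>.symm

/-- The counit of a closed immersion is an isomorphism. -/
theorem isIso_counit_closed [ProEtS.PCont i] (F : ProEtS.AbP Z) :
    IsIso ((ProEtS.pullPushAdjP i).counit.app F) := by
  have := (ProEtS.pullPushAdjP i).counit_isIso_of_R_fully_faithful
  infer_instance

end Groth.Agent.Mod48.ProLim
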