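import Groth.Agent.Mod48.ProEtWC
import Groth.Agent.S0679
import Groth.Agent.Spec91.WLocalEmb
import Mathlib.AlgebraicGeometry.Morphisms.Finite
import Mathlib.AlgebraicGeometry.Morphisms.FinitePresentation

/-!
Exactness of direct images for finite morphisms of finite presentation and for closed immersions with
retrocompact complement.
-/

universe u

open CategoryTheory CategoryTheory.Limits AlgebraicGeometry Opposite Topology

namespace Groth.Agent.Mod48.ProLim

set_option backward.isDefEq.respectTransparency.types false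

/-- A quotient by a nil ideal of a w-contractible ring is w-contractible. -/
theorem isWContractible_of_nil {A B : Type u} [CommRing A] [CommRing B] [Algebra A B]
    (hs : Function.Surjective (algebraMap A B)) (hk : RingHom.ker (algebraMap A B) ≤ nilradical A)
    (h : EtPBC.IsWContractible A) : EtPBC.IsWContractible B := by
  obtain ⟨hw, hed, hsh⟩ := (S0677.result A).1 h
  have he := PrimeSpectrum.isClosedEmbedding_comap_of_surjective _ (algebraMap A B) hs
  have hr : Function.Surjective (PrimeSpectrum.comap (algebraMap A B)) := by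
    rw [← Set.range_eq_univ, range_comap_of_surjective _ _ hs, PrimeSpectrum.zeroLocus_eq_univ_iff]
    exact hk
  let e : PrimeSpectrum B ≃ₜ PrimeSpectrum A := he.isEmbedding.toHomeomorphOfSurjective hr
  refine (S0677.result B).2 ⟨Spec91.isWLocal_of_isClosedEmbedding he hw, ?_, fun M hM => ?_⟩
  · haveI := hed
    let g : _root_.ConnectedComponents (PrimeSpectrum A) ≃ₜ _root_.ConnectedComponents (PrimeSpectrum B) :=
      { toFun := e.symm.continuous.connectedComponentsMap
        invFun := e.continuous.connectedComponentsMap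
        left_inv := fun c => by
          obtain ⟨x, rfl⟩ := ConnectedComponents.surjective_coe c
          exact congrArg ConnectedComponents.mk (e.apply_symm_apply x)
        right_inv := fun c => by
          obtain ⟨x, rfl⟩ := ConnectedComponents.surjective_coe c
          exact congrArg ConnectedComponents.mk (e.symm_apply_apply x)
        continuous_toFun := e.symm.continuous.connectedComponentsMap_continuous
        continuous_invFun := e.continuous.connectedComponentsMap_continuous }
    exact extremallyDisconnected_of_homeo g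
  · haveI : Module.Finite A B := Module.Finite.of_surjective (Algebra.linearMap A B) hs
    haveI : (M.comap (algebraMap A B)).IsMaximal := Ideal.comap_isMaximal_of_surjective _ hs
    exact Germs91.strictlyHenselian_of_finite M _ rfl (hsh (M.comap (algebraMap A B)))

/-- A quotient cutting out a closed subset with quasi-compact complement keeps w-contractibility. -/
theorem isWContractible_of_compact_compl {A B : Type u} [CommRing A] [CommRing B] [Algebra A B]
    (hs : Function.Surjective (algebraMap A B))
    (hc : IsCompact (PrimeSpectrum.zeroLocus (RingHom.ker (algebraMap A B) : Set A))ᶜ)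
    (h : EtPBC.IsWContractible A) : EtPBC.IsWContractible B := by
  classical
  set J := RingHom.ker (algebraMap A B)
  obtain ⟨t, ht⟩ := PrimeSpectrum.isCompact_isOpen_iff.1
    ⟨hc, (PrimeSpectrum.isClosed_zeroLocus _).isOpen_compl⟩
  rw [compl_inj_iff] at ht
  have hrad : ∀ x ∈ t, ∃ n : ℕ, x ^ n ∈ J := fun x hx => by
    have : x ∈ PrimeSpectrum.vanishingIdeal (PrimeSpectrum.zeroLocus (J : Set A)) := by
      rw [← ht]
      exact PrimeSpectrum.subset_vanishingIdeal_zeroLocus _ hx
    rw [PrimeSpectrum.vanishingIdeal_zeroLocus_eq_radical] at this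
    exact this
  choose n hn using hrad
  let J₀ : Ideal A := Ideal.span (Set.range fun x : t => x.1 ^ n x.1 x.2)
  have hle : J₀ ≤ J := Ideal.span_le.2 (by rintro _ ⟨x, rfl⟩; exact hn _ _)
  have hJ : J ≤ J₀.radical := by
    have hspan : Ideal.span (t : Set A) ≤ J₀.radical := Ideal.span_le.2 fun x hx =>
      Ideal.mem_radical_iff.2 ⟨n x hx, Ideal.subset_span ⟨⟨x, hx⟩, rfl⟩⟩
    refine le_trans ?_ (Ideal.radical_le_radical_iff.2 hspan)
    rw [← PrimeSpectrum.vanishingIdeal_zeroLocus_eq_radical, PrimeSpectrum.zeroLocus_span, ht,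
      PrimeSpectrum.vanishingIdeal_zeroLocus_eq_radical]
    exact Ideal.le_radical
  have hfg : J₀.FG := Submodule.fg_span (Set.finite_range _)
  haveI : Algebra.FinitePresentation A (A ⧸ J₀) := Algebra.FinitePresentation.quotient hfg
  have h0 : EtPBC.IsWContractible (A ⧸ J₀) := S0679.result A (A ⧸ J₀) h
  let φ : A ⧸ J₀ →+* B := Ideal.Quotient.lift J₀ (algebraMap A B) fun a ha => hle ha
  letI : Algebra (A ⧸ J₀) B := φ.toAlgebra
  refine isWContractible_of_nil (A := A ⧸ J₀) (fun b => ?_) (fun a ha => ?_) h0
  · obtain ⟨a, rfl⟩ := hs b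
    exact ⟨Ideal.Quotient.mk J₀ a, rfl⟩
  · obtain ⟨a, rfl⟩ := Ideal.Quotient.mk_surjective a
    obtain ⟨m, hm⟩ := hJ (show a ∈ J from ha)
    exact ⟨m, (map_pow (Ideal.Quotient.mk J₀) a m).symm.trans (Ideal.Quotient.eq_zero_iff_mem.2 hm)⟩

variable {Z X : Scheme.{u}}

/-- Base change of affine weakly contractible objects along finite finitely presented morphisms. -/
theorem isWC_bcP_of_finite (f : Z ⟶ X) [IsFinite f] [LocallyOfFinitePresentation f] (W : X.ProEt)
    [IsAffine W.left] (hW : ProEtS.IsWC W) : ProEtS.IsWC ((ProEtS.bcP f).obj W) := by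
  let q : ((ProEtS.bcP f).obj W).left ⟶ W.left := pullback.fst W.hom f
  have hq : IsFinite q := MorphismProperty.pullback_fst (P := @IsFinite) _ _ ‹IsFinite f›
  have hq' : LocallyOfFinitePresentation q :=
    MorphismProperty.pullback_fst (P := @LocallyOfFinitePresentation) _ _ ‹LocallyOfFinitePresentation f›
  haveI : IsAffine ((ProEtS.bcP f).obj W).left := isAffine_of_isAffineHom q
  refine (ProEt91.isWC_iff _).1 ?_
  letI : Algebra Γ(W.left, ⊤) Γ(((ProEtS.bcP f).obj W).left, ⊤) := q.appTop.hom.toAlgebra
  haveI : Module.Finite Γ(W.left, ⊤) Γ(((ProEtS.bcP f).obj W).left, ⊤) := q.finite_appTop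
  haveI : Algebra.FinitePresentation Γ(W.left, ⊤) Γ(((ProEtS.bcP f).obj W).left, ⊤) :=
    HasRingHomProperty.appTop @LocallyOfFinitePresentation q hq'
  exact S0679.result _ _ ((ProEt91.isWC_iff W).2 hW)

/-- Base change of affine weakly contractible objects along closed immersions with retrocompact
complement. -/
theorem isWC_bcP_of_closed (i : Z ⟶ X) [IsClosedImmersion i] (hr : IsRetrocompact (Set.range i.base)ᶜ)
    (W : X.ProEt) [IsAffine W.left] (hW : ProEtS.IsWC W) : ProEtS.IsWC ((ProEtS.bcP i).obj W) := by
  let q : ((ProEtS.bcP i).obj W).left ⟶ W.left := pullback.fst W.hom i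
  have hq : IsClosedImmersion q :=
    MorphismProperty.pullback_fst (P := @IsClosedImmersion) _ _ ‹IsClosedImmersion i›
  haveI : IsAffine ((ProEtS.bcP i).obj W).left :=
    @isAffine_of_isAffineHom _ _ q
      (isAffineHom_of_isInducing _ hq.isClosedEmbedding.isInducing hq.isClosedEmbedding.isClosed_range)
      ‹IsAffine W.left›
  refine (ProEt91.isWC_iff _).1 ?_
  let O : X.Opens := ⟨(Set.range i.base)ᶜ, i.isClosedEmbedding.isClosed_range.isOpen_compl⟩
  have hqc : QuasiCompact O.ι := quasiCompact_iff_forall_isAffineOpen.2 fun V hV => by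
    rw [Topology.IsInducing.isCompact_iff O.ι.isOpenEmbedding.isInducing]
    show IsCompact (O.ι '' (O.ι ⁻¹' (V : Set X)))
    rw [Set.image_preimage_eq_inter_range, Scheme.Opens.range_ι, Set.inter_comm]
    exact hr hV.isCompact V.2
  have hpre : IsCompact (W.hom ⁻¹' (Set.range i.base)ᶜ) := by
    have heq : Set.range (pullback.fst W.hom O.ι) = W.hom ⁻¹' (Set.range i.base)ᶜ := by
      refine (IsOpenImmersion.range_pullbackFst O.ι W.hom).trans ?_
      rw [Scheme.Opens.opensRange_ι]
      rfl
    refine heq ▸ ?_
    have : CompactSpace ↥((𝟭 Scheme).obj W.left) := inferInstanceAs (CompactSpace ↥W.left)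
    have : CompactSpace ↥(pullback W.hom O.ι) :=
      QuasiCompact.compactSpace_of_compactSpace (pullback.fst W.hom O.ι)
    exact isCompact_range (pullback.fst W.hom O.ι).continuous
  letI : Algebra Γ(W.left, ⊤) Γ(((ProEtS.bcP i).obj W).left, ⊤) := q.appTop.hom.toAlgebra
  have hs : Function.Surjective q.appTop.hom := q.app_surjective ⊤ (isAffineOpen_top W.left)
  refine isWContractible_of_compact_compl hs ?_ ((ProEt91.isWC_iff W).2 hW)
  let e : W.left ≃ₜ PrimeSpectrum Γ(W.left, ⊤) := W.left.isoSpec.hom.homeomorph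
  let e' := ((ProEtS.bcP i).obj W).left.isoSpec.hom.homeomorph
  have hcomm : ∀ y, PrimeSpectrum.comap q.appTop.hom (e' y) = e (q y) := fun y =>
    congr($(Scheme.isoSpec_hom_naturality q) y)
  have hrange : Set.range q = W.hom ⁻¹' Set.range i.base := Scheme.Pullback.range_fst W.hom i
  have hZ : PrimeSpectrum.zeroLocus (RingHom.ker q.appTop.hom : Set Γ(W.left, ⊤)) =
      e '' (W.hom ⁻¹' Set.range i.base) := by
    rw [← range_comap_of_surjective _ _ hs, ← hrange, ← Set.range_comp]
    refine Set.ext fun p => ⟨?_, ?_⟩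
    · rintro ⟨z, rfl⟩
      exact ⟨e'.symm z, ((hcomm _).symm.trans (by rw [e'.apply_symm_apply]))⟩
    · rintro ⟨y, rfl⟩
      exact ⟨e' y, hcomm y⟩
  show IsCompact (PrimeSpectrum.zeroLocus (RingHom.ker q.appTop.hom : Set Γ(W.left, ⊤)))ᶜ
  rw [hZ, ← Set.image_compl_eq e.bijective]
  exact hpre.image e.continuous

/-- Direct images are exact if base change preserves affine weakly contractible objects. -/
theorem pushP_exact (f : Z ⟶ X) [ProEtS.PCont f]
    (h : ∀ W : X.ProEt, IsAffine W.left → ProEtS.IsWC W → ProEtS.IsWC ((ProEtS.bcP f).obj W)) :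
    PreservesFiniteLimits (ProEtS.pushP f) ∧ PreservesFiniteColimits (ProEtS.pushP f) :=
  preservesFinite_of_surjective_wc (ProEtS.pullPushAdjP f) fun _ _ φ _ W hW hW' =>
    surjective_of_epi φ (h W hW hW')

end Groth.Agent.Mod48.ProLim
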