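import Groth.Agent.Mod48.ProEtFinCover

/-!
Sections of extensions by zero vanish where every point specializes outside the open.
-/

universe u

open CategoryTheory CategoryTheory.Limits AlgebraicGeometry Opposite

namespace Groth.Agent.Mod48.ProLim

set_option backward.isDefEq.respectTransparency.types false

variable {X U : Scheme.{u}} (j : U ⟶ X) [WeaklyEtale j] [ProEtS.JPCont j] (F : ProEtS.AbP U)

/-- Where a section is zero or the object lies over the image. -/
def zeroSieve {V : X.ProEt} (t : ((ProEtS.extZeroP j).obj F).obj.obj (op V)) : Sieve V where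
  arrows W g := ((ProEtS.extZeroP j).obj F).obj.map g.op t = 0 ∨ Set.range W.hom ⊆ Set.range j
  downward_closed {W W'} g hg k := by
    rcases hg with h | h
    · left
      rw [op_comp, Functor.map_comp, ConcreteCategory.comp_apply, h, map_zero]
    · right
      rintro _ ⟨x, rfl⟩
      rw [← MorphismProperty.Over.w k]
      exact h ⟨_, rfl⟩

lemma zeroSieve_zero (V : X.ProEt) : zeroSieve j F (0 : ((ProEtS.extZeroP j).obj F).obj.obj (op V)) = ⊤ :=
  top_unique fun _ g _ => Or.inl (map_zero (((ProEtS.extZeroP j).obj F).obj.map g.op).hom)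

lemma zeroSieve_add {V : X.ProEt} (a b : ((ProEtS.extZeroP j).obj F).obj.obj (op V)) :
    zeroSieve j F a ⊓ zeroSieve j F b ≤ zeroSieve j F (a + b) := by
  rintro W g ⟨ha | ha, hb | hb⟩
  · left
    rw [map_add, ha, hb, add_zero]
  · exact Or.inr hb
  · exact Or.inr ha
  · exact Or.inr ha

lemma zeroSieve_neg {V : X.ProEt} (a : ((ProEtS.extZeroP j).obj F).obj.obj (op V)) :
    zeroSieve j F a ≤ zeroSieve j F (-a) := by
  rintro W g (ha | ha)
  · left
    rw [map_neg, ha, neg_zero]
  · exact Or.inr ha

lemma zeroSieve_pullback {V W : X.ProEt} (g : W ⟶ V) (t : ((ProEtS.extZeroP j).obj F).obj.obj (op V)) :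
    (zeroSieve j F t).pullback g = zeroSieve j F (((ProEtS.extZeroP j).obj F).obj.map g.op t) := by
  ext W' k
  exact or_congr_left (by rw [op_comp, Functor.map_comp, ConcreteCategory.comp_apply])

/-- Sections that are locally zero or lie over the image. -/
def zeroSub (V : X.ProEt) : AddSubgroup (((ProEtS.extZeroP j).obj F).obj.obj (op V)) where
  carrier := {t | zeroSieve j F t ∈ Scheme.ProEt.topology X V}
  zero_mem' := by
    show zeroSieve j F 0 ∈ Scheme.ProEt.topology X V
    rw [zeroSieve_zero]
    exact (Scheme.ProEt.topology X).top_mem V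
  add_mem' ha hb := (Scheme.ProEt.topology X).superset_covering (zeroSieve_add j F _ _)
    ((Scheme.ProEt.topology X).intersection_covering ha hb)
  neg_mem' {_} ha := (Scheme.ProEt.topology X).superset_covering (zeroSieve_neg j F _) ha

/-- The subpresheaf. -/
noncomputable def zeroPre : X.ProEtᵒᵖ ⥤ AddCommGrpCat.{u + 1} where
  obj V := AddCommGrpCat.of (zeroSub j F V.unop)
  map {V W} g := AddCommGrpCat.ofHom
    { toFun := fun t => ⟨((ProEtS.extZeroP j).obj F).obj.map g t.1, by
        show zeroSieve j F (((ProEtS.extZeroP j).obj F).obj.map g.unop.op t.1) ∈ Scheme.ProEt.topology X W.unop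
        rw [← zeroSieve_pullback]
        exact (Scheme.ProEt.topology X).pullback_stable g.unop t.2⟩
      map_zero' := Subtype.ext (map_zero _)
      map_add' := fun _ _ => Subtype.ext (map_add _ _ _) }
  map_id V := by
    ext t
    exact ConcreteCategory.congr_hom (((ProEtS.extZeroP j).obj F).obj.map_id _) t.1
  map_comp f g := by
    ext t
    exact ConcreteCategory.congr_hom (((ProEtS.extZeroP j).obj F).obj.map_comp f g) t.1

theorem zeroPre_isSheaf : Presheaf.IsSheaf (Scheme.ProEt.topology X) (zeroPre j F) := by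
  rw [Presheaf.isSheaf_iff_isSheaf_forget _ _ (forget AddCommGrpCat.{u + 1}), isSheaf_iff_isSheaf_of_type]
  intro V S hS x hx
  have hP := (isSheaf_iff_isSheaf_of_type _ _).1
    (Presheaf.isSheaf_comp_of_isSheaf (Scheme.ProEt.topology X) ((ProEtS.extZeroP j).obj F).obj
      (forget AddCommGrpCat.{u + 1}) ((ProEtS.extZeroP j).obj F).property)
  let x' : Presieve.FamilyOfElements (((ProEtS.extZeroP j).obj F).obj ⋙ forget AddCommGrpCat.{u + 1}) S.arrows :=
    fun W g hg => (x g hg).1
  have hx' : x'.Compatible := fun W₁ W₂ W g₁ g₂ f₁ f₂ h₁ h₂ w => congrArg Subtype.val (hx g₁ g₂ h₁ h₂ w)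
  obtain ⟨y, hy, huy⟩ := hP S hS x' hx'
  have hmem : zeroSieve j F y ∈ Scheme.ProEt.topology X V := by
    refine (Scheme.ProEt.topology X).transitive hS _ fun W g hg => ?_
    rw [zeroSieve_pullback, show ((ProEtS.extZeroP j).obj F).obj.map g.op y = (x g hg).1 from hy g hg]
    exact (x g hg).2
  exact ⟨⟨y, hmem⟩, fun W g hg => Subtype.ext (hy g hg), fun z hz =>
    Subtype.ext (huy z.1 fun W g hg => congrArg Subtype.val (hz g hg))⟩

/-- Every section of an extension by zero is locally zero or lives over the image. -/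
theorem zeroSieve_mem {V : X.ProEt} (t : ((ProEtS.extZeroP j).obj F).obj.obj (op V)) :
    zeroSieve j F t ∈ Scheme.ProEt.topology X V := by
  let G : ProEtS.AbP X := ⟨zeroPre j F, zeroPre_isSheaf j F⟩
  let incl : G ⟶ (ProEtS.extZeroP j).obj F :=
    { hom :=
      { app := fun V => AddCommGrpCat.ofHom (zeroSub j F V.unop).subtype
        naturality := fun _ _ _ => rfl } }
  let η := (ProEtS.extZeroPAdj j).unit.app F
  let l : F ⟶ (ProEtS.restrP j).obj G :=
    { hom :=
      { app := fun A => AddCommGrpCat.ofHom
          { toFun := fun s => (⟨η.hom.app A s, (Scheme.ProEt.topology X).superset_covering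
              (fun W g _ => Or.inr (by
                rintro _ ⟨x, rfl⟩
                rw [← MorphismProperty.Over.w g]
                exact ⟨_, rfl⟩)) ((Scheme.ProEt.topology X).top_mem _)⟩ : zeroSub j F ((ProEtS.compP j).obj A.unop))
            map_zero' := Subtype.ext (map_zero _)
            map_add' := fun a b => Subtype.ext (map_add _ _ _) }
        naturality := fun A A' a => by
          ext s
          exact Subtype.ext (NatTrans.naturality_apply η.hom a s) } }
  have hid : ((ProEtS.extZeroPAdj j).homEquiv _ _).symm l ≫ incl = 𝟙 _ := by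
    apply ((ProEtS.extZeroPAdj j).homEquiv _ _).injective
    rw [Adjunction.homEquiv_naturality_right, Equiv.apply_symm_apply, Adjunction.homEquiv_unit]
    rw [CategoryTheory.Functor.map_id]
    erw [Category.comp_id]
    ext A s
    rfl
  have h := congrArg (fun φ : (ProEtS.extZeroP j).obj F ⟶ (ProEtS.extZeroP j).obj F => φ.hom.app (op V) t) hid
  have hr := ((((ProEtS.extZeroPAdj j).homEquiv _ _).symm l).hom.app (op V) t).2
  change zeroSieve j F (incl.hom.app (op V) ((((ProEtS.extZeroPAdj j).homEquiv _ _).symm l).hom.app (op V) t)) ∈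
    Scheme.ProEt.topology X V at hr
  change incl.hom.app (op V) ((((ProEtS.extZeroPAdj j).homEquiv _ _).symm l).hom.app (op V) t) = t at h
  rwa [h] at hr

/-- Extensions by zero have no sections where every point specializes outside the image. -/
theorem subsingleton_extZero (V : X.ProEt) [IsAffine V.left]
    (hV : ∀ v : V.left, ∃ z : V.left, V.hom z ∉ Set.range j ∧ v ⤳ z) :
    Subsingleton (((ProEtS.extZeroP j).obj F).obj.obj (op V)) := by
  refine subsingleton_of_forall_eq 0 fun t => ?_
  obtain ⟨n, Y, g, hY, hg, hs⟩ := exists_finite_affine V (zeroSieve_mem j F t)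
  let K := {k : Fin n // ((ProEtS.extZeroP j).obj F).obj.map (g k).op t = 0}
  have hcov : Sieve.generate (Presieve.ofArrows (fun k : K => Y k.1) fun k => g k.1) ∈
      Scheme.ProEt.topology X V := by
    refine mem_of_finite _ _ (fun k => haveI := hY k.1; inferInstance) fun v => ?_
    obtain ⟨z, hz, hvz⟩ := hV v
    obtain ⟨k, y, hy⟩ := hs z
    have hk : ((ProEtS.extZeroP j).obj F).obj.map (g k).op t = 0 := by
      refine (hg k).resolve_right fun h => hz ?_
      rw [← hy, ← Scheme.Hom.comp_apply]
      rw [MorphismProperty.Over.w]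
      exact h ⟨y, rfl⟩
    have : WeaklyEtale V.hom := V.prop
    have : WeaklyEtale ((g k).left ≫ V.hom) := by
      rw [MorphismProperty.Over.w]; exact (Y k).prop
    have : WeaklyEtale (g k).left := WeaklyEtale.of_comp (g k).left V.hom
    subst hy
    obtain ⟨y', -, hy'⟩ := Flat.generalizingMap (g k).left hvz
    exact ⟨⟨k, hk⟩, y', hy'⟩
  have hsh := (isSheaf_iff_isSheaf_of_type _ _).1
    (Presheaf.isSheaf_comp_of_isSheaf (Scheme.ProEt.topology X) ((ProEtS.extZeroP j).obj F).obj
      (forget AddCommGrpCat.{u + 1}) ((ProEtS.extZeroP j).obj F).property)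
  refine (hsh _ hcov).isSeparatedFor.ext fun W q hq => ?_
  obtain ⟨_, a, _, ⟨k⟩, rfl⟩ := hq
  show ((ProEtS.extZeroP j).obj F).obj.map _ t = ((ProEtS.extZeroP j).obj F).obj.map _ 0
  rw [map_zero, op_comp, Functor.map_comp, ConcreteCategory.comp_apply, k.2, map_zero]

end Groth.Agent.Mod48.ProLim
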