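import Groth.Agent.Mod48.ProEtWC
import Groth.Agent.Mod48.ProEtExtZero
import Groth.Agent.ProEt91.Coprod
import Groth.Agent.ProEt91.OpenImm
import Groth.Agent.ProEt91.Cont
import Groth.Agent.Spec91.WLocal
import Groth.Agent.S0677
import Mathlib.AlgebraicGeometry.Morphisms.Finite

/-!
Sections of extensions by zero on affine weakly contractible objects, for quasi-compact open immersions.
-/

universe u

open CategoryTheory CategoryTheory.Limits AlgebraicGeometry Opposite Topology

namespace Groth.Agent.Mod48.ProLim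

set_option backward.isDefEq.respectTransparency.types false

/-- In a w-local space a quasi-compact open contains a clopen off which every point specializes outside. -/
theorem exists_clopen_of_wLocal {T : Type u} [TopologicalSpace T] (hT : ProEtW.IsWLocal T) {O : Set T}
    (hO : IsOpen O) (hc : IsCompact O) :
    ∃ T₁ : Set T, IsClopen T₁ ∧ T₁ ⊆ O ∧ ∀ x ∉ T₁, ∃ z, x ⤳ z ∧ z ∉ O := by
  obtain ⟨_, h0, huniq⟩ := hT
  obtain ⟨_, _, _⟩ := Spec91.closedPoints_profinite h0
  set Z := {x : T | IsClosed ({x} : Set T)}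
  have hcpt : IsCompact (Z ∩ O) := hc.inter_left h0
  have hcl : IsClosed (Z ∩ O) := by
    have he := h0.isClosedEmbedding_subtypeVal
    have h1 : IsCompact (Subtype.val ⁻¹' O : Set {x : T // IsClosed ({x} : Set T)}) := by
      rw [Subtype.isCompact_iff]
      rwa [show Subtype.val '' (Subtype.val ⁻¹' O : Set {x : T // IsClosed ({x} : Set T)}) = Z ∩ O from
        Subtype.image_preimage_coe Z O]
    have h2 := he.isClosedMap _ h1.isClosed
    exact (congrArg (IsClosed (X := T)) (Subtype.image_preimage_coe Z O)).mp h2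
  obtain ⟨T₁, T₂, h₁, h₂, hd, hu, hZ₁, hZ₂⟩ := Spec91.exists_lift_decomposition
    (Spec91.isConnected_closedPoints_inter huniq) hcl (h0.inter hO.isClosed_compl)
    (Set.disjoint_left.2 fun x hx hx' => hx'.2 hx.2) (by rw [← Set.inter_union_distrib_left]; simp [Z])
  refine ⟨T₁, ⟨h₁, ?_⟩, fun x hx => ?_, fun x hx => ?_⟩
  · rw [eq_compl_iff_isCompl.2 ⟨hd, codisjoint_iff.2 hu⟩]
    exact h₂.isOpen_compl
  · obtain ⟨z, ⟨hz, hxz⟩, -⟩ := huniq x
    have : z ∈ Z ∩ O := hZ₁ ▸ ⟨hz, hxz.mem_closed h₁ hx⟩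
    exact hxz.mem_open hO this.2
  · obtain ⟨z, ⟨hz, hxz⟩, -⟩ := huniq x
    have hx2 : x ∈ T₂ := (hu.ge (Set.mem_univ x)).resolve_left hx
    have : z ∈ Z ∩ Oᶜ := hZ₂ ▸ ⟨hz, hxz.mem_closed h₂ hx2⟩
    exact ⟨z, hxz, this.2⟩

variable {X U : Scheme.{u}} (j : U ⟶ X) [IsOpenImmersion j] [ProEtS.JPCont j]

/-- Restriction to the part of an affine weakly contractible object over the open. -/
theorem exists_part [QuasiCompact j] (W : X.ProEt) [IsAffine W.left] (hW : ProEtS.IsWC W) :
    ∃ (A : U.ProEt) (h : (ProEtS.compP j).obj A ⟶ W), ∀ F : ProEtS.AbP U,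
      Function.Bijective (((ProEtS.extZeroP j).obj F).obj.map h.op) := by
  have hwl : ProEtW.IsWLocal (PrimeSpectrum Γ(W.left, ⊤)) :=
    ((S0677.result _).1 ((ProEt91.isWC_iff W).2 hW)).1
  let e : W.left ≃ₜ PrimeSpectrum Γ(W.left, ⊤) := W.left.isoSpec.hom.homeomorph
  have hpre : IsCompact (W.hom ⁻¹' Set.range j) := by
    have heq : Set.range (pullback.fst W.hom j) = W.hom ⁻¹' Set.range j :=
      IsOpenImmersion.range_pullbackFst j W.hom
    refine heq ▸ ?_
    have : CompactSpace ↥((𝟭 Scheme).obj W.left) := inferInstanceAs (CompactSpace ↥W.left)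
    have : CompactSpace ↥(pullback W.hom j) := QuasiCompact.compactSpace_of_compactSpace (pullback.fst W.hom j)
    exact isCompact_range (pullback.fst W.hom j).continuous
  obtain ⟨T₁, hT₁, hsub, hout⟩ := exists_clopen_of_wLocal hwl (O := e '' (W.hom ⁻¹' Set.range j))
    (e.isOpenMap _ (j.opensRange.2.preimage W.hom.continuous)) (hpre.image e.continuous)
  let V : ULift.{u} Bool → W.left.Opens := fun b => cond b.down
    ⟨e ⁻¹' T₁, hT₁.2.preimage e.continuous⟩ ⟨e ⁻¹' T₁ᶜ, hT₁.compl.2.preimage e.continuous⟩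
  have hV : ProEt91.Decomp W V := by
    refine ⟨?_, fun x => ?_⟩
    · rintro ⟨a⟩ ⟨b⟩ hab
      cases a <;> cases b
      · exact absurd rfl hab
      · exact Set.disjoint_left.2 fun x hx hx' => hx hx'
      · exact Set.disjoint_left.2 fun x hx hx' => hx' hx
      · exact absurd rfl hab
    · by_cases hx : e x ∈ T₁
      · exact ⟨⟨true⟩, hx⟩
      · exact ⟨⟨false⟩, hx⟩
  have hrange : Set.range ((V ⟨true⟩).ι ≫ W.hom) ⊆ Set.range j := by
    rintro _ ⟨x, rfl⟩
    obtain ⟨y, hy, hyx⟩ := hsub x.2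
    show W.hom x.1 ∈ Set.range j
    obtain rfl := e.injective hyx
    exact hy
  let a := IsOpenImmersion.lift j ((V ⟨true⟩).ι ≫ W.hom) hrange
  have : WeaklyEtale W.hom := W.prop
  have : WeaklyEtale (a ≫ j) := by
    rw [IsOpenImmersion.lift_fac]; infer_instance
  have : WeaklyEtale a := WeaklyEtale.of_comp a j
  let A : U.ProEt := Scheme.ProEt.mk a
  let h : (ProEtS.compP j).obj A ⟶ W :=
    MorphismProperty.Over.homMk (V ⟨true⟩).ι (IsOpenImmersion.lift_fac j _ hrange).symm
  refine ⟨A, h, fun F => ?_⟩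
  let G : Sheaf (Scheme.ProEt.topology X) (Type (u + 1)) :=
    (sheafCompose _ (forget AddCommGrpCat.{u + 1})).obj ((ProEtS.extZeroP j).obj F)
  have : IsAffine (ProEt91.openObj W (V ⟨false⟩)).left := by
    have hci : IsClosedImmersion (Scheme.Opens.ι (V ⟨false⟩)) := IsClosedImmersion.of_isPreimmersion _ (by
      rw [Scheme.Opens.range_ι]
      exact hT₁.compl.1.preimage e.continuous)
    have : IsAffineHom (Scheme.Opens.ι (V ⟨false⟩)) :=
      isAffineHom_of_isInducing _ hci.isClosedEmbedding.isInducing hci.isClosedEmbedding.isClosed_range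
    exact @isAffine_of_isAffineHom _ _ (Scheme.Opens.ι (V ⟨false⟩)) this ‹IsAffine W.left›
  have h0 : Subsingleton (G.obj.obj (op (ProEt91.openObj W (V ⟨false⟩)))) := by
    refine subsingleton_extZero j F _ fun v => ?_
    obtain ⟨z, hvz, hz⟩ := hout _ v.2
    have hvz' : v.1 ⤳ e.symm z := by
      simpa using hvz.map e.symm.continuous
    have hmem : e.symm z ∈ V ⟨false⟩ := by
      have : z ∈ T₁ᶜ := hvz.mem_closed hT₁.compl.1 v.2
      show e (e.symm z) ∈ T₁ᶜ
      simpa using this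
    refine ⟨⟨e.symm z, hmem⟩, fun hj => hz ⟨e.symm z, hj, e.apply_symm_apply z⟩, ?_⟩
    exact (Topology.IsInducing.subtypeVal).specializes_iff.1 hvz'
  let k : (ProEtS.compP j).obj A ⟶ ProEt91.openObj W (V ⟨true⟩) :=
    MorphismProperty.Over.homMk (𝟙 _) ((Category.id_comp _).trans (IsOpenImmersion.lift_fac j _ hrange).symm)
  have : IsIso ((Scheme.ProEt.forget X ⋙ Over.forget X).map k) := inferInstanceAs (IsIso (𝟙 _))
  have : IsIso k := isIso_of_reflects_iso k (Scheme.ProEt.forget X ⋙ Over.forget X)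
  have hk : h = k ≫ ProEt91.openHom W (V ⟨true⟩) := MorphismProperty.Over.Hom.ext (Category.id_comp _).symm
  have hb : Function.Bijective (G.obj.map k.op) := (isIso_iff_bijective _).1 inferInstance
  have hfun : ⇑(((ProEtS.extZeroP j).obj F).obj.map h.op) =
      G.obj.map k.op ∘ G.obj.map (ProEt91.openHom W (V ⟨true⟩)).op := by
    rw [hk, op_comp, Functor.map_comp]
    rfl
  rw [hfun]
  refine hb.comp ⟨fun s t hst => ProEt91.glue_ext hV G ?_, fun s => ?_⟩
  · rintro ⟨(_ | _)⟩
    · exact h0.elim _ _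
    · exact hst
  · obtain ⟨t, ht⟩ := ProEt91.exists_glue hV G fun b => match b with
      | ⟨true⟩ => s
      | ⟨false⟩ => (0 : ((ProEtS.extZeroP j).obj F).obj.obj (op (ProEt91.openObj W (V ⟨false⟩))))
    exact ⟨t, ht ⟨true⟩⟩

/-- Extension by zero along a quasi-compact open immersion commutes with limits. -/
theorem preservesLimits_extZero [QuasiCompact j] (J : Type u) [SmallCategory J] :
    PreservesLimitsOfShape J (ProEtS.extZeroP j) := by
  refine preservesLimitsOfShape_of_wc _ fun W hW hW' => ?_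
  obtain ⟨A, h, hh⟩ := exists_part j W hW'
  have := ProEt91.pCont j
  have : ∀ F, IsIso ((ProEtS.extZeroPAdj j).unit.app F) := fun F => (ProEt91.isIso_adj j F F).1
  have : IsIso (ProEtS.extZeroPAdj j).unit := NatIso.isIso_of_isIso_app _
  let ev : X.ProEt → (ProEtS.AbP X ⥤ AddCommGrpCat.{u + 1}) := fun V =>
    sheafToPresheaf (Scheme.ProEt.topology X) AddCommGrpCat.{u + 1} ⋙
      (evaluation X.ProEtᵒᵖ AddCommGrpCat.{u + 1}).obj (op V)
  let β : ev W ⟶ ev ((ProEtS.compP j).obj A) :=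
    Functor.whiskerLeft (sheafToPresheaf _ _) ((evaluation _ _).map h.op)
  have : IsIso (Functor.whiskerLeft (ProEtS.extZeroP j) β) := by
    have : ∀ F, IsIso ((Functor.whiskerLeft (ProEtS.extZeroP j) β).app F) := fun F =>
      (ConcreteCategory.isIso_iff_bijective _).2 (hh F)
    exact NatIso.isIso_of_isIso_app _
  exact preservesLimitsOfShape_of_natIso
    (Functor.isoWhiskerRight (asIso (ProEtS.extZeroPAdj j).unit)
        (sheafToPresheaf (Scheme.ProEt.topology U) AddCommGrpCat.{u + 1} ⋙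
          (evaluation U.ProEtᵒᵖ AddCommGrpCat.{u + 1}).obj (op A)) ≪≫
      (asIso (Functor.whiskerLeft (ProEtS.extZeroP j) β)).symm)

end Groth.Agent.Mod48.ProLim
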