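import Groth.Agent.Mod48.ProEtHullEval
import Groth.Agent.Mod48.ProEtClosedLift
import Groth.Agent.Mod48.ProEtClosedWC
import Groth.Agent.Mod48.ProEtExtLim
import Mathlib.Algebra.Homology.ShortComplex.ShortExact

/-!
The localization sequence of abelian pro-etale sheaves for a closed subscheme with quasi-compact complement.
-/

universe u

open CategoryTheory CategoryTheory.Limits AlgebraicGeometry Opposite

namespace Groth.Agent.Mod48.ProLim

set_option backward.isDefEq.respectTransparency.types false

variable {X Z U : Scheme.{u}}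

/-- A sheaf with subsingleton values is zero. -/
theorem isZero_of_subsingleton {A : ProEtS.AbP X}
    (h : ∀ W : X.ProEt, IsAffine W.left → ProEtS.IsWC W → Subsingleton (A.obj.obj (op W))) : IsZero A := by
  have : IsIso (0 : A ⟶ A) := isIso_of_bijective_wc _ fun W hW hW' => by
    have := h W hW hW'
    exact ⟨fun a b _ => Subsingleton.elim a b, fun b => ⟨b, Subsingleton.elim _ _⟩⟩
  exact (IsZero.iff_id_eq_zero A).2 (by rw [← IsIso.hom_inv_id (0 : A ⟶ A), zero_comp])

/-- Vanishing of the abelian left Kan extension gives vanishing of the one on underlying sets. -/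
theorem subsingleton_lan_types (f : Z ⟶ X) (F : ProEtS.AbP X) (V : Z.ProEt)
    (h : Subsingleton (((ProEtS.bcP f).op.lan.obj F.obj).obj (op V))) :
    Subsingleton ((lanP f ((sheafCompose (Scheme.ProEt.topology X) (forget AddCommGrpCat.{u + 1})).obj F).obj).obj
      (op V)) := by
  let G := forget AddCommGrpCat.{u + 1}
  let P := (ProEtS.bcP f).op.lan.obj F.obj
  let η := (ProEtS.bcP f).op.lanUnit.app F.obj
  let E := Functor.LeftExtension.mk (P ⋙ G)
    (Functor.whiskerRight η G : F.obj ⋙ G ⟶ (ProEtS.bcP f).op ⋙ P ⋙ G)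
  have := representablyFlat_bcP f
  have : PreservesFilteredColimitsOfSize.{u, u + 1} G :=
    preservesFilteredColimitsOfSize_of_univLE.{u + 1, u + 1, u, u + 1} G
  have hE : E.IsPointwiseLeftKanExtension := fun W => by
    have h := Functor.isPointwiseLeftKanExtensionOfIsLeftKanExtension P η W
    have : IsFiltered (CostructuredArrow (ProEtS.bcP f).op W) := inferInstance
    exact (isColimitOfPreserves G h).ofIsoColimit
      (Cocone.ext (Iso.refl _) fun j => by
        refine (Category.comp_id _).trans ?_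
        exact G.map_comp _ _)
  have hLK : (P ⋙ G).IsLeftKanExtension (L := (ProEtS.bcP f).op) (Functor.whiskerRight η G) := hE.isLeftKanExtension
  let T : Sheaf (Scheme.ProEt.topology X) (Type (u + 1)) := (sheafCompose _ G).obj F
  let θ : lanP f T.obj ≅ P ⋙ G :=
    @Functor.leftKanExtensionUnique _ _ _ _ _ _ (lanP f T.obj) _ _ ((ProEtS.bcP f).op.lanUnit.app T.obj) _
      (P ⋙ G) (Functor.whiskerRight η G) hLK
  have hb : Function.Injective (θ.hom.app (op V)) :=
    ((isIso_iff_bijective _).1 (inferInstance : IsIso (θ.hom.app (op V)))).1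
  exact ⟨fun a b => hb (h.elim _ _)⟩

section

variable (i : Z ⟶ X) [IsClosedImmersion i] (j : U ⟶ X) [IsOpenImmersion j]
  (hc : Set.range j.base = (Set.range i.base)ᶜ) [ProEtS.JPCont j] [ProEtS.PCont i]

include hc

/-- Restriction to the open kills direct images from the closed complement. -/
theorem subsingleton_restr_push (G : ProEtS.AbP Z) (A : U.ProEt) :
    Subsingleton (((ProEtS.restrP j).obj ((ProEtS.pushP i).obj G)).obj.obj (op A)) := by
  have : IsEmpty ((ProEtS.bcP i).obj ((ProEtS.compP j).obj A)).left := ⟨fun x => by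
    have h1 : (((ProEtS.compP j).obj A).hom) ((pullback.fst ((ProEtS.compP j).obj A).hom i) x) ∈
        Set.range i.base := by
      refine ⟨pullback.snd ((ProEtS.compP j).obj A).hom i x, ?_⟩
      rw [← Scheme.Hom.comp_apply, ← Scheme.Hom.comp_apply, pullback.condition]
    have h2 : (((ProEtS.compP j).obj A).hom) ((pullback.fst ((ProEtS.compP j).obj A).hom i) x) ∈
        Set.range j.base := ⟨A.hom _, rfl⟩
    rw [hc] at h2
    exact h2 h1⟩
  exact ProEt91.subsingleton_of_isEmpty ((sheafCompose _ (forget AddCommGrpCat.{u + 1})).obj G)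
    ((ProEtS.bcP i).obj ((ProEtS.compP j).obj A))

theorem isZero_restr_push (G : ProEtS.AbP Z) : IsZero ((ProEtS.restrP j).obj ((ProEtS.pushP i).obj G)) :=
  isZero_of_subsingleton fun A _ _ => subsingleton_restr_push i j hc G A

theorem isZero_pull_extZero (H : ProEtS.AbP U) : IsZero ((ProEtS.pullP i).obj ((ProEtS.extZeroP j).obj H)) := by
  refine (IsZero.iff_id_eq_zero _).2 ?_
  apply ((ProEtS.pullPushAdjP i).homEquiv _ _).injective
  apply ((ProEtS.extZeroPAdj j).homEquiv _ _).injective
  exact (isZero_restr_push i j hc _).eq_of_tgt _ _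

/-- The pair of restrictions detects zero sheaves. -/
theorem isZero_of_restr_pull [QuasiCompact j] (G : ProEtS.AbP X) (h1 : IsZero ((ProEtS.restrP j).obj G))
    (h2 : IsZero ((ProEtS.pullP i).obj G)) : IsZero G := by
  refine isZero_of_subsingleton fun W hW hWC => subsingleton_of_forall_eq 0 fun t => ?_
  have hr : IsRetrocompact (Set.range i.base)ᶜ := by
    rw [← hc]
    intro V hVc hVo
    have h := QuasiCompact.isCompact_preimage (f := j) V hVo hVc
    have h' := h.image j.continuous
    rwa [Set.image_preimage_eq_inter_range, Set.inter_comm] at h'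
  let VZ := (ProEtS.bcP i).obj W
  have hVA : IsAffine VZ.left := by
    have hq : IsClosedImmersion (pullback.fst W.hom i) :=
      MorphismProperty.pullback_fst (P := @IsClosedImmersion) _ _ ‹IsClosedImmersion i›
    exact @isAffine_of_isAffineHom _ _ (pullback.fst W.hom i)
      (isAffineHom_of_isInducing _ hq.isClosedEmbedding.isInducing hq.isClosedEmbedding.isClosed_range) hW
  have hVW : ProEtS.IsWC VZ := isWC_bcP_of_closed i hr W hWC
  let J := Scheme.ProEt.topology Z
  have hz : IsZero (((presheafToSheaf J AddCommGrpCat.{u + 1}).obj ((ProEtS.bcP i).op.lan.obj G.obj)).obj.obj (op VZ)) :=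
    ((sheafToPresheaf J AddCommGrpCat.{u + 1} ⋙ (evaluation Z.ProEtᵒᵖ AddCommGrpCat.{u + 1}).obj (op VZ)).map_isZero
      (h2.of_iso ((Functor.sheafPullbackConstruction.sheafPullbackIso (ProEtS.bcP i) _ _ _).app G).symm))
  have hsub : Subsingleton (((ProEtS.bcP i).op.lan.obj G.obj).obj (op VZ)) :=
    ⟨fun a b => (bijective_lanAb i G VZ hVW).1 ((AddCommGrpCat.subsingleton_of_isZero hz).elim _ _)⟩
  let T := (sheafCompose (Scheme.ProEt.topology X) (forget AddCommGrpCat.{u + 1})).obj G
  have := subsingleton_lan_types i G VZ hsub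
  let z : G.obj.obj (op W) := 0
  obtain ⟨W', g', h, hg, hst⟩ := el_eq i T.obj (g := 𝟙 VZ) (s := t) (s' := z)
    (Subsingleton.elim _ _)
  have hh : G.obj.map h.op t = 0 := Eq.trans (b := G.obj.map h.op z) hst (map_zero (G.obj.map h.op).hom)
  -- affine pieces of the witness covering the closed part
  have hV0 : ∀ v : VZ.left, ∃ O : W'.left.Opens, IsAffineOpen O ∧ (g'.left ≫ pullback.fst W'.hom i) v ∈ O :=
    fun v => by
      obtain ⟨O, hO, hv, -⟩ := exists_isAffineOpen_mem_and_subset (U := (⊤ : W'.left.Opens))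
        (x := (g'.left ≫ pullback.fst W'.hom i) v) trivial
      exact ⟨O, hO, hv⟩
  choose O hO hOv using hV0
  obtain ⟨s, hs⟩ := isCompact_univ.elim_finite_subcover
    (fun v : VZ.left => (((g'.left ≫ pullback.fst W'.hom i) ⁻¹ᵁ O v : VZ.left.Opens) : Set VZ.left))
    (fun v => ((g'.left ≫ pullback.fst W'.hom i) ⁻¹ᵁ O v).2) fun v _ => Set.mem_iUnion.2 ⟨v, hOv v⟩
  -- affine pieces of the part over the open
  let UW : W.left.Opens := W.hom ⁻¹ᵁ j.opensRange
  have hUc : IsCompact (UW : Set W.left) := by
    have heq : Set.range (pullback.fst W.hom j) = W.hom ⁻¹' Set.range j :=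
      IsOpenImmersion.range_pullbackFst j W.hom
    show IsCompact (W.hom ⁻¹' Set.range j)
    refine heq ▸ ?_
    have : CompactSpace ↥((𝟭 Scheme).obj W.left) := inferInstanceAs (CompactSpace ↥W.left)
    have : CompactSpace ↥(pullback W.hom j) := QuasiCompact.compactSpace_of_compactSpace (pullback.fst W.hom j)
    exact isCompact_range (pullback.fst W.hom j).continuous
  have hA0 : ∀ w : UW, ∃ A : W.left.Opens, IsAffineOpen A ∧ w.1 ∈ A ∧ A ≤ UW := fun w => by
    obtain ⟨A, hA, hw, hle⟩ := exists_isAffineOpen_mem_and_subset w.2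
    exact ⟨A, hA, hw, hle⟩
  choose A hA hAw hAle using hA0
  obtain ⟨r, hr'⟩ := hUc.elim_finite_subcover (fun w : UW => (A w : Set W.left)) (fun w => (A w).2)
    fun w hw => Set.mem_iUnion.2 ⟨⟨w, hw⟩, hAw _⟩
  have hA0' : ∀ w, G.obj.map (ProEt91.openHom W (A w)).op t = 0 := fun w => by
    have hrange : Set.range ((A w).ι ≫ W.hom) ⊆ Set.range j := by
      rintro _ ⟨x, rfl⟩
      exact hAle w x.2
    let a := IsOpenImmersion.lift j ((A w).ι ≫ W.hom) hrange
    have : WeaklyEtale W.hom := W.prop
    have : WeaklyEtale (a ≫ j) := by rw [IsOpenImmersion.lift_fac]; infer_instance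
    have : WeaklyEtale a := WeaklyEtale.of_comp a j
    let A' : U.ProEt := Scheme.ProEt.mk a
    let k : (ProEtS.compP j).obj A' ⟶ ProEt91.openObj W (A w) :=
      MorphismProperty.Over.homMk (𝟙 _) ((Category.id_comp _).trans (IsOpenImmersion.lift_fac j _ hrange).symm)
    have : IsIso ((Scheme.ProEt.forget X ⋙ Over.forget X).map k) := inferInstanceAs (IsIso (𝟙 _))
    have : IsIso k := isIso_of_reflects_iso k (Scheme.ProEt.forget X ⋙ Over.forget X)
    have hsub : Subsingleton (G.obj.obj (op ((ProEtS.compP j).obj A'))) :=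
      AddCommGrpCat.subsingleton_of_isZero
        ((sheafToPresheaf _ _ ⋙ (evaluation U.ProEtᵒᵖ AddCommGrpCat.{u + 1}).obj (op A')).map_isZero h1)
    exact ((ConcreteCategory.isIso_iff_bijective (G.obj.map k.op)).1 inferInstance).1 (hsub.elim _ _)
  let Y : ↥s ⊕ ↥r → X.ProEt := Sum.elim (fun v => ProEt91.openObj W' (O v)) (fun w => ProEt91.openObj W (A w))
  let g : ∀ k, Y k ⟶ W := fun k => match k with
    | .inl v => ProEt91.openHom W' (O v) ≫ h
    | .inr w => ProEt91.openHom W (A w)
  haveI := hW
  have hcov : Sieve.generate (Presieve.ofArrows (fun k : Fin (Fintype.card (↥s ⊕ ↥r)) => Y ((Fintype.equivFin _).symm k))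
      fun k => g ((Fintype.equivFin _).symm k)) ∈ Scheme.ProEt.topology X W := by
    refine mem_of_finite _ _ (fun k => ?_) fun x => ?_
    · rcases (Fintype.equivFin (↥s ⊕ ↥r)).symm k with v | w
      · have : IsAffine (O v).toScheme := hO v
        exact inferInstanceAs (CompactSpace ↥(O v).toScheme)
      · have : IsAffine (A w).toScheme := hA w
        exact inferInstanceAs (CompactSpace ↥(A w).toScheme)
    · suffices ∃ k, x ∈ Set.range (g k).left by
        obtain ⟨k, hk⟩ := this
        exact ⟨Fintype.equivFin _ k, by rw [(Fintype.equivFin _).symm_apply_apply]; exact hk⟩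
      by_cases hx : x ∈ UW
      · obtain ⟨w, hw, hxw⟩ := Set.mem_iUnion₂.1 (hr' hx)
        exact ⟨.inr ⟨w, hw⟩, ⟨x, hxw⟩, rfl⟩
      · have hxi : x ∈ Set.range (pullback.fst W.hom i) := by
          rw [Scheme.Pullback.range_fst]
          show W.hom x ∈ Set.range i.base
          by_contra hni
          apply hx
          show W.hom x ∈ Set.range j.base
          rw [hc]
          exact hni
        obtain ⟨v, rfl⟩ := hxi
        obtain ⟨v', hv', hvv'⟩ := Set.mem_iUnion₂.1 (hs (Set.mem_univ v))
        refine ⟨.inl ⟨v', hv'⟩, ⟨(g'.left ≫ pullback.fst W'.hom i) v, hvv'⟩, ?_⟩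
        have h3 := congrArg (fun q : VZ ⟶ VZ => q.left ≫ pullback.fst W.hom i) hg
        change (g'.left ≫ pullback.lift (pullback.fst W'.hom i ≫ h.left) (pullback.snd W'.hom i) _) ≫
          pullback.fst W.hom i = 𝟙 _ ≫ pullback.fst W.hom i at h3
        have h4 : (g'.left ≫ pullback.fst W'.hom i) ≫ h.left = pullback.fst W.hom i := by
          refine Eq.trans ?_ (h3.trans (Category.id_comp _))
          refine Eq.trans ?_ (Category.assoc _ _ _).symm
          refine (Category.assoc _ _ _).trans ?_
          exact congrArg (g'.left ≫ ·) (pullback.lift_fst _ _ _).symm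
        show h.left ((g'.left ≫ pullback.fst W'.hom i) v) = _
        rw [← Scheme.Hom.comp_apply, h4]
        rfl
  refine ((isSheaf_iff_isSheaf_of_type _ _).1 T.property _ hcov).isSeparatedFor.ext fun W'' q hq => ?_
  obtain ⟨_, b, _, ⟨k⟩, rfl⟩ := hq
  show G.obj.map _ t = G.obj.map _ 0
  rw [map_zero, op_comp, Functor.map_comp, ConcreteCategory.comp_apply]
  refine (congrArg (G.obj.map b.op) ?_).trans (map_zero _)
  rcases (Fintype.equivFin (↥s ⊕ ↥r)).symm k with v | w
  · show G.obj.map (ProEt91.openHom W' (O v) ≫ h).op t = 0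
    rw [op_comp, Functor.map_comp, ConcreteCategory.comp_apply, hh, map_zero]
  · exact hA0' w

/-- The localization sequence is short exact. -/
theorem shortExact_localization [QuasiCompact j] (F : ProEtS.AbP X) :
    ∃ h : (ProEtS.extZeroPAdj j).counit.app F ≫ (ProEtS.pullPushAdjP i).unit.app F = 0,
      (ShortComplex.mk _ _ h).ShortExact := by
  have hw : (ProEtS.extZeroPAdj j).counit.app F ≫ (ProEtS.pullPushAdjP i).unit.app F = 0 := by
    apply ((ProEtS.extZeroPAdj j).homEquiv _ _).injective
    exact (isZero_restr_push i j hc _).eq_of_tgt _ _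
  refine ⟨hw, ?_⟩
  set S := ShortComplex.mk _ _ hw
  -- exactness of the two restrictions
  have hlim : PreservesLimitsOfSize.{u, u} (ProEtS.pullP i) :=
    ⟨fun {J} _ => preservesLimits_pullP i J⟩
  have : PreservesFiniteLimits (ProEtS.pullP i) := PreservesLimitsOfSize.preservesFiniteLimits _
  have : PreservesColimitsOfSize.{0, 0} (ProEtS.pullP i) := (ProEtS.pullPushAdjP i).leftAdjoint_preservesColimits
  have := PreservesColimitsOfSize.preservesFiniteColimits (ProEtS.pullP i)
  have := (ProEtS.pullPushAdjP i).left_adjoint_additive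
  have : PreservesLimitsOfSize.{0, 0} (ProEtS.restrP j) := (ProEtS.extZeroPAdj j).rightAdjoint_preservesLimits
  have : PreservesFiniteLimits (ProEtS.restrP j) := PreservesLimitsOfSize.preservesFiniteLimits _
  have := ProEt91.pCont j
  let L := ProEtS.compP j
  let R := ProEtS.bcP j
  let adj : L ⊣ R :=
    MorphismProperty.Over.mapPullbackAdj @WeaklyEtale ⊤ j (inferInstanceAs (WeaklyEtale j)) trivial
  let adj₂ : ProEtS.restrP j ⊣ ProEtS.pushP j :=
    adj.sheafPushforwardContinuous (E := AddCommGrpCat.{u + 1}) (Scheme.ProEt.topology U) (Scheme.ProEt.topology X)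
  have : PreservesColimitsOfSize.{0, 0} (ProEtS.restrP j) := adj₂.leftAdjoint_preservesColimits
  have := PreservesColimitsOfSize.preservesFiniteColimits (ProEtS.restrP j)
  have := adj₂.left_adjoint_additive
  -- the image under restriction to the open
  have hj1 : IsIso ((ProEtS.restrP j).map S.f) := by
    have : IsIso ((ProEtS.extZeroPAdj j).unit.app ((ProEtS.restrP j).obj F)) :=
      (ProEt91.isIso_adj j ((ProEtS.restrP j).obj F) ((ProEtS.restrP j).obj F)).1
    exact IsIso.of_isIso_fac_left ((ProEtS.extZeroPAdj j).right_triangle_components F)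
  have hj3 : IsZero ((ProEtS.restrP j).obj S.X₃) := isZero_restr_push i j hc _
  have hjS : (S.map (ProEtS.restrP j)).ShortExact := by
    have : Mono (S.map (ProEtS.restrP j)).f := inferInstanceAs (Mono ((ProEtS.restrP j).map S.f))
    have : Epi (S.map (ProEtS.restrP j)).g := ⟨fun a b _ => hj3.eq_of_src a b⟩
    have hg : (S.map (ProEtS.restrP j)).g = 0 := hj3.eq_of_tgt _ _
    exact ⟨((S.map (ProEtS.restrP j)).exact_iff_epi hg).2 (inferInstanceAs (Epi ((ProEtS.restrP j).map S.f)))⟩
  -- the image under restriction to the closed part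
  have hi2 : IsIso ((ProEtS.pullP i).map S.g) := by
    have : IsIso ((ProEtS.pullPushAdjP i).counit.app ((ProEtS.pullP i).obj F)) := isIso_counit_closed i _
    exact @IsIso.of_isIso_fac_right _ _ _ _ _ _ _ _ this (IsIso.id _) ((ProEtS.pullPushAdjP i).left_triangle_components F)
  have hi1 : IsZero ((ProEtS.pullP i).obj S.X₁) := isZero_pull_extZero i j hc _
  have hiS : (S.map (ProEtS.pullP i)).ShortExact := by
    have : Mono (S.map (ProEtS.pullP i)).f := ⟨fun a b _ => hi1.eq_of_tgt a b⟩
    have : Epi (S.map (ProEtS.pullP i)).g := inferInstanceAs (Epi ((ProEtS.pullP i).map S.g))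
    have hf : (S.map (ProEtS.pullP i)).f = 0 := hi1.eq_of_src _ _
    exact ⟨((S.map (ProEtS.pullP i)).exact_iff_mono hf).2 (inferInstanceAs (Mono ((ProEtS.pullP i).map S.g)))⟩
  -- conservativity
  have hex : S.Exact := by
    rw [S.exact_iff_isZero_homology]
    exact isZero_of_restr_pull i j hc _
      (((S.map (ProEtS.restrP j)).exact_iff_isZero_homology.1 hjS.exact).of_iso (S.mapHomologyIso _).symm)
      (((S.map (ProEtS.pullP i)).exact_iff_isZero_homology.1 hiS.exact).of_iso (S.mapHomologyIso _).symm)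
  have hker : IsZero (kernel S.f) := by
    refine isZero_of_restr_pull i j hc _ ?_ ?_
    · have := hjS.mono_f
      exact (isZero_kernel_of_mono ((ProEtS.restrP j).map S.f)).of_iso (PreservesKernel.iso _ S.f)
    · have : Mono ((ProEtS.pullP i).map S.f) := hiS.mono_f
      exact (isZero_kernel_of_mono ((ProEtS.pullP i).map S.f)).of_iso (PreservesKernel.iso _ S.f)
  have hcok : IsZero (cokernel S.g) := by
    refine isZero_of_restr_pull i j hc _ ?_ ?_
    · have : Epi ((ProEtS.restrP j).map S.g) := hjS.epi_g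
      exact (isZero_cokernel_of_epi ((ProEtS.restrP j).map S.g)).of_iso (PreservesCokernel.iso _ S.g)
    · have : Epi ((ProEtS.pullP i).map S.g) := hiS.epi_g
      exact (isZero_cokernel_of_epi ((ProEtS.pullP i).map S.g)).of_iso (PreservesCokernel.iso _ S.g)
  have : Mono S.f := Preadditive.mono_of_kernel_zero (hker.eq_of_src _ _)
  have : Epi S.g := Preadditive.epi_of_cokernel_zero (hcok.eq_of_tgt _ _)
  exact ⟨hex⟩

end

end Groth.Agent.Mod48.ProLim
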