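import Groth.Agent.ProEt91.Cover

/-!
Affine weakly contractible objects detect isomorphisms and epimorphisms of pro-etale sheaves.
-/

universe u

open CategoryTheory CategoryTheory.Limits AlgebraicGeometry Opposite

namespace Groth.Agent.Mod48.ProLim

set_option backward.isDefEq.respectTransparency.types false

variable {X : Scheme.{u}}

/-- A sieve containing all arrows from affine weakly contractible objects covers. -/
theorem mem_of_wc {U : X.ProEt} (S : Sieve U)
    (h : ∀ (W : X.ProEt) (g : W ⟶ U), IsAffine W.left → ProEtS.IsWC W → S.arrows g) :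
    S ∈ Scheme.ProEt.topology X U := by
  obtain ⟨V, g, hV, hS⟩ := ProEt91.exists_cover_data U
    (fun A : {A : U.left.Opens // IsAffineOpen A} => A.1) (fun A => A.2) fun x => by
      obtain ⟨A, hA, hx, -⟩ := exists_isAffineOpen_mem_and_subset (U := (⊤ : U.left.Opens)) (x := x) trivial
      exact ⟨⟨A, hA⟩, hx⟩
  refine hS S fun i => h _ _ (hV i).1 ?_
  have := (hV i).1
  exact (ProEt91.isWC_iff (V i)).1 (hV i).2

/-- A morphism surjective on affine weakly contractible objects is an epimorphism. -/
theorem epi_of_surjective_wc {F G : ProEtS.AbP X} (φ : F ⟶ G)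
    (h : ∀ W : X.ProEt, IsAffine W.left → ProEtS.IsWC W → Function.Surjective (φ.hom.app (op W))) :
    Epi φ := by
  have : Sheaf.IsLocallySurjective φ := ⟨fun {U} s => mem_of_wc _ fun W g hW hW' => by
    obtain ⟨t, ht⟩ := h W hW hW' (G.obj.map g.op s)
    exact ⟨t, ht⟩⟩
  exact (Sheaf.isLocallySurjective_iff_epi' AddCommGrpCat.{u + 1} φ).1 this

/-- Epimorphisms are surjective on weakly contractible objects. -/
theorem surjective_of_epi {F G : ProEtS.AbP X} (φ : F ⟶ G) [Epi φ] {W : X.ProEt} (hW : ProEtS.IsWC W) :
    Function.Surjective (φ.hom.app (op W)) := by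
  let U := sheafCompose (Scheme.ProEt.topology X) (forget AddCommGrpCat.{u + 1})
  have h : Sheaf.IsLocallySurjective φ := (Sheaf.isLocallySurjective_iff_epi' AddCommGrpCat.{u + 1} φ).2 ‹_›
  have : Sheaf.IsLocallySurjective (U.map φ) := ⟨fun {V} s => h.1 s⟩
  exact hW _ _ (U.map φ) ((Sheaf.isLocallySurjective_iff_epi' (Type (u + 1)) _).1 this)

/-- A morphism bijective on affine weakly contractible objects is an isomorphism. -/
theorem isIso_of_bijective_wc {F G : ProEtS.AbP X} (φ : F ⟶ G)
    (h : ∀ W : X.ProEt, IsAffine W.left → ProEtS.IsWC W → Function.Bijective (φ.hom.app (op W))) :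
    IsIso φ := by
  have := epi_of_surjective_wc φ fun W hW hW' => (h W hW hW').2
  have hinj : ∀ U : X.ProEt, Function.Injective (φ.hom.app (op U)) := fun U =>
    (injective_iff_map_eq_zero (φ.hom.app (op U)).hom).2 fun t ht => by
      have hF := (isSheaf_iff_isSheaf_of_type _ _).1
        (Presheaf.isSheaf_comp_of_isSheaf _ F.obj (forget AddCommGrpCat.{u + 1}) F.property)
      let S : Sieve U :=
        { arrows := fun Z g => F.obj.map g.op t = 0
          downward_closed := fun {Z Z' g} hg k => by
            rw [op_comp, Functor.map_comp, ConcreteCategory.comp_apply, hg, map_zero] }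
      refine (hF S (mem_of_wc S fun Z g hZ hZ' => (h Z hZ hZ').1 ?_)).isSeparatedFor.ext fun Z g hg => ?_
      · rw [NatTrans.naturality_apply, map_zero]
        exact (congrArg (G.obj.map g.op) ht).trans (map_zero _)
      · exact hg.trans (map_zero (F.obj.map g.op).hom).symm
  have : Mono φ := by
    have : Mono φ.hom := by
      rw [NatTrans.mono_iff_mono_app]
      exact fun W => (AddCommGrpCat.mono_iff_injective _).2 (hinj W.unop)
    exact (sheafToPresheaf _ AddCommGrpCat.{u + 1}).mono_of_mono_map this
  exact isIso_of_mono_of_epi φ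

/-- A functor to pro-etale sheaves preserves limits if its values on affine weakly contractible objects
do. -/
theorem preservesLimitsOfShape_of_wc {C : Type (u + 2)} [Category.{u + 1} C] {J : Type u} [SmallCategory J]
    [HasLimitsOfShape J C] (E : C ⥤ ProEtS.AbP X)
    (h : ∀ W : X.ProEt, IsAffine W.left → ProEtS.IsWC W → PreservesLimitsOfShape J
      (E ⋙ sheafToPresheaf _ _ ⋙ (evaluation X.ProEtᵒᵖ AddCommGrpCat.{u + 1}).obj (op W))) :
    PreservesLimitsOfShape J E := by
  refine ⟨fun {K} => preservesLimit_of_preserves_limit_cone (limit.isLimit K) ?_⟩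
  let P := limit.isLimit (K ⋙ E)
  let φ := P.lift (E.mapCone (limit.cone K))
  have : IsIso φ := isIso_of_bijective_wc φ fun W hW hW' => by
    let ev := sheafToPresheaf (Scheme.ProEt.topology X) AddCommGrpCat.{u + 1} ⋙
      (evaluation X.ProEtᵒᵖ AddCommGrpCat.{u + 1}).obj (op W)
    have := h W hW hW'
    have h1 : IsLimit (ev.mapCone (E.mapCone (limit.cone K))) := isLimitOfPreserves (E ⋙ ev) (limit.isLimit K)
    have h2 : IsLimit (ev.mapCone (limit.cone (K ⋙ E))) := isLimitOfPreserves _ P
    have he : ev.map φ = (IsLimit.conePointUniqueUpToIso h1 h2).hom :=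
      h2.hom_ext fun j => (ev.map_comp φ ((limit.cone (K ⋙ E)).π.app j)).symm.trans <|
        (congrArg ev.map (P.fac (E.mapCone (limit.cone K)) j)).trans
        (IsLimit.conePointUniqueUpToIso_hom_comp h1 h2 j).symm
    have : IsIso (φ.hom.app (op W)) := by
      show IsIso (ev.map φ)
      rw [he]
      infer_instance
    exact (ConcreteCategory.isIso_iff_bijective _).1 this
  exact IsLimit.ofPointIso P

/-- A right adjoint to pro-etale sheaves is exact if it is surjective on affine weakly contractible
objects. -/
theorem preservesFinite_of_surjective_wc {Z : Scheme.{u}} {L : ProEtS.AbP X ⥤ ProEtS.AbP Z}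
    {R : ProEtS.AbP Z ⥤ ProEtS.AbP X} (adj : L ⊣ R)
    (h : ∀ (F G : ProEtS.AbP Z) (φ : F ⟶ G), Epi φ → ∀ W : X.ProEt, IsAffine W.left → ProEtS.IsWC W →
      Function.Surjective ((R.map φ).hom.app (op W))) :
    PreservesFiniteLimits R ∧ PreservesFiniteColimits R := by
  have := (adj.rightAdjoint_preservesLimits : PreservesLimitsOfSize.{0, 0} R)
  have hl : PreservesFiniteLimits R := PreservesLimitsOfSize.preservesFiniteLimits _
  have : R.PreservesEpimorphisms := ⟨fun φ hφ => epi_of_surjective_wc _ (h _ _ φ hφ)⟩
  have : R.Additive := Functor.additive_of_preserves_binary_products R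
  have : R.PreservesHomology := Functor.preservesHomology_of_preservesEpis_and_kernels R
  exact ⟨hl, R.preservesFiniteColimits_of_preservesHomology⟩

end Groth.Agent.Mod48.ProLim
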