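import Groth.Prelude.Def_ModSite
import Mathlib.Algebra.Category.ModuleCat.Sheaf.Localization

universe u

open CategoryTheory CategoryTheory.Limits Opposite MonoidalCategory

namespace Groth.Agent.Mod48

variable {C : Type u} [SmallCategory C] {J : GrothendieckTopology C} (O : Sheaf J CommRingCat.{u})

/-- Presheaves of modules over the presheaf of rings underlying `O`. -/
abbrev PreM : Type (u + 1) := PresheafOfModules.{u} (O.obj ⋙ forget₂ CommRingCat.{u} RingCat.{u})

variable {O}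

/-- The forgetful functor to `PreM O`. -/
noncomputable def fgt : ModSite.Mod O ⥤ PreM O := SheafOfModules.forget (ModSite.ringSh O)

/-- The presheaf of modules underlying a sheaf of modules. -/
noncomputable abbrev pre (F : ModSite.Mod O) : PreM O := fgt.obj F

/-- Sheafification out of `PreM O`. -/
noncomputable def shf : PreM O ⥤ ModSite.Mod O := ModSite.sheafify O

/-- The sheafification adjunction. -/
noncomputable def shfAdj : (shf : PreM O ⥤ ModSite.Mod O) ⊣ fgt :=
  (PresheafOfModules.sheafificationAdjunction.{u} (𝟙 (ModSite.ringSh O).obj)).ofNatIsoRight (Iso.refl _)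

/-- The sheafification adjunction, with hom sets in `PreM O`. -/
noncomputable abbrev shfHomEquiv (P : PreM O) (H : ModSite.Mod O) :
    (shf.obj P ⟶ H) ≃ (P ⟶ pre H) :=
  shfAdj.homEquiv P H

lemma shfHomEquiv_naturality_left {P Q : PreM O} {H : ModSite.Mod O} (f : P ⟶ Q)
    (g : shf.obj Q ⟶ H) :
    shfHomEquiv P H (shf.map f ≫ g) = f ≫ shfHomEquiv Q H g :=
  Adjunction.homEquiv_naturality_left _ f g

lemma isIso_shf_map_iff {P Q : PreM O} (f : P ⟶ Q) :
    IsIso (shf.map f) ↔ ∀ H : ModSite.Mod O, Function.Bijective (fun g : Q ⟶ pre H => f ≫ g) := by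
  constructor
  · intro hf H
    have e : (fun g : Q ⟶ pre H => f ≫ g) =
        (shfHomEquiv P H) ∘ (fun g : shf.obj Q ⟶ H => shf.map f ≫ g) ∘ (shfHomEquiv Q H).symm := by
      funext g
      simp [shfHomEquiv_naturality_left]
    rw [e]
    refine (Equiv.bijective _).comp (Function.Bijective.comp ?_ (Equiv.bijective _))
    exact (asIso (shf.map f)).homFromEquiv.symm.bijective
  · intro h
    refine (isIso_iff_coyoneda_map_bijective _).2 fun H => ?_
    have e : (fun g : shf.obj Q ⟶ H => shf.map f ≫ g) =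
        (shfHomEquiv P H).symm ∘ (fun g : Q ⟶ pre H => f ≫ g) ∘ (shfHomEquiv Q H) := by
      funext g
      simp [← shfHomEquiv_naturality_left]
    rw [e]
    exact (Equiv.bijective _).comp ((h H).comp (Equiv.bijective _))

/-- A morphism of presheaves of modules which is locally bijective. -/
structure IsLocalIso {P Q : PreM O} (f : P ⟶ Q) : Prop where
  inj : Presheaf.IsLocallyInjective J ((PresheafOfModules.toPresheaf _).map f)
  surj : Presheaf.IsLocallySurjective J ((PresheafOfModules.toPresheaf _).map f)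

lemma isIso_shf_map_iff_isLocalIso {P Q : PreM O} (f : P ⟶ Q) :
    IsIso (shf.map f) ↔ IsLocalIso f := by
  change IsIso ((ModSite.sheafify O).map f) ↔ _
  have := PresheafOfModules.inverseImage_W_toPresheaf_eq_inverseImage_isomorphisms
    (J := J) (𝟙 (ModSite.ringSh O).obj)
  have h2 : J.W ((PresheafOfModules.toPresheaf _).map f) ↔ IsIso ((ModSite.sheafify O).map f) :=
    iff_of_eq (congrFun (congrFun (congrFun this P) Q) f)
  rw [← h2, J.W_iff_isLocallyBijective]
  exact ⟨fun h => ⟨h.1, h.2⟩, fun h => ⟨h.1, h.2⟩⟩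

/-- Restriction of sections of a presheaf of modules. -/
noncomputable def res (M : PreM O) {X Y : Cᵒᵖ} (g : X ⟶ Y) (m : M.obj X) : M.obj Y := M.map g m

lemma res_res (M : PreM O) {X Y Z : Cᵒᵖ} (g : X ⟶ Y) (k : Y ⟶ Z) (m : M.obj X) :
    res M k (res M g m) = res M (g ≫ k) m := (PresheafOfModules.map_comp_apply M g k m).symm

lemma app_res {M M' : PreM O} (f : M ⟶ M') {X Y : Cᵒᵖ} (g : X ⟶ Y) (m : M.obj X) :
    f.app Y (res M g m) = res M' g (f.app X m) := PresheafOfModules.naturality_apply f g m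

lemma res_add (M : PreM O) {X Y : Cᵒᵖ} (g : X ⟶ Y) (a b : M.obj X) :
    res M g (a + b) = res M g a + res M g b := map_add _ _ _

lemma res_smul (M : PreM O) {X Y : Cᵒᵖ} (g : X ⟶ Y) (r : O.obj.obj X) (m : M.obj X) :
    res M g (r • m) = (O.obj.map g).hom r • res M g m := M.map_smul g r m

lemma ext_of_sieve {H : ModSite.Mod O} {X : Cᵒᵖ} {S : Sieve X.unop} (hS : S ∈ J X.unop)
    {a b : (pre H).obj X} (h : ∀ ⦃Y : C⦄ (g : Y ⟶ X.unop), S g → res (pre H) g.op a = res (pre H) g.op b) :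
    a = b := by
  exact (((isSheaf_iff_isSheaf_of_type _ _).1 ((CategoryTheory.sheafCompose J (forget AddCommGrpCat.{u})).obj
    (ModSite.toAb H)).2).isSeparated S hS).ext h

/-- A pure tensor in the sectionwise tensor product. -/
noncomputable def tp {M N : PreM O} {X : Cᵒᵖ} (m : M.obj X) (n : N.obj X) : (M ⊗ N).obj X :=
  m ⊗ₜ[O.obj.obj X] n

lemma map_tp {M N : PreM O} {X Y : Cᵒᵖ} (g : X ⟶ Y) (m : M.obj X) (n : N.obj X) :
    (M ⊗ N).map g (tp m n) = tp (res M g m) (res N g n) := rfl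

lemma tp_add_left {M N : PreM O} {X : Cᵒᵖ} (m₁ m₂ : M.obj X) (n : N.obj X) :
    tp (m₁ + m₂) n = tp m₁ n + tp m₂ n := TensorProduct.add_tmul _ _ _

lemma tp_add_right {M N : PreM O} {X : Cᵒᵖ} (m : M.obj X) (n₁ n₂ : N.obj X) :
    tp m (n₁ + n₂) = tp m n₁ + tp m n₂ := TensorProduct.tmul_add _ _ _

lemma tp_smul_left {M N : PreM O} {X : Cᵒᵖ} (r : O.obj.obj X) (m : M.obj X) (n : N.obj X) :
    tp (r • m) n = r • tp m n := TensorProduct.smul_tmul' _ _ _ |>.symm

lemma tp_smul_right {M N : PreM O} {X : Cᵒᵖ} (r : O.obj.obj X) (m : M.obj X) (n : N.obj X) :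
    tp m (r • n) = r • tp m n := TensorProduct.tmul_smul _ _ _

lemma tensor_hom_ext {M N Q : PreM O} {a b : M ⊗ N ⟶ Q}
    (h : ∀ X (m : M.obj X) (n : N.obj X), a.app X (tp m n) = b.app X (tp m n)) : a = b :=
  PresheafOfModules.hom_ext fun X => ModuleCat.MonoidalCategory.tensor_ext (h X)

lemma whiskerRight_tp {M M' N : PreM O} (f : M ⟶ M') {X : Cᵒᵖ} (m : M.obj X) (n : N.obj X) :
    (f ▷ N).app X (tp m n) = tp (f.app X m) n := rfl

section Lift

variable {M M' : PreM O} {f : M ⟶ M'} {N : PreM O} {H : ModSite.Mod O}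

lemma locally_preimage (hf : IsLocalIso f) (X : Cᵒᵖ) (m' : M'.obj X) :
    ∃ S ∈ J X.unop, ∀ ⦃Y : C⦄ (g : Y ⟶ X.unop), S g → ∃ m : M.obj (op Y), f.app _ m = res M' g.op m' :=
  ⟨_, hf.surj.imageSieve_mem m', fun _ _ hg => hg⟩

lemma locally_eq (hf : IsLocalIso f) (X : Cᵒᵖ) (m₁ m₂ : M.obj X) (h : f.app X m₁ = f.app X m₂) :
    ∃ S ∈ J X.unop, ∀ ⦃Y : C⦄ (g : Y ⟶ X.unop), S g → res M g.op m₁ = res M g.op m₂ :=
  ⟨_, hf.inj.equalizerSieve_mem m₁ m₂ h, fun _ _ hg => hg⟩

variable (f) in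
/-- `h` is the value of the extension of `b` at `(m', n)`. -/
def IsVal (b : M ⊗ N ⟶ pre H) (X : Cᵒᵖ) (m' : M'.obj X) (n : N.obj X) (h : (pre H).obj X) : Prop :=
  ∀ ⦃Y : Cᵒᵖ⦄ (g : X ⟶ Y) (m : M.obj Y), f.app Y m = res M' g m' →
    res (pre H) g h = b.app Y (tp (m) (res N g n))

lemma b_tmul_map (b : M ⊗ N ⟶ pre H) {X Y : Cᵒᵖ} (g : X ⟶ Y) (m : M.obj X) (n : N.obj X) :
    res (pre H) g (b.app X (tp (m) (n))) = b.app Y (tp (res M g m) (res N g n)) :=
  ((app_res b g _).symm).trans rfl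

lemma isVal_unique (hf : IsLocalIso f) {b : M ⊗ N ⟶ pre H} {X m' n h₁ h₂}
    (e₁ : IsVal f b X m' n h₁) (e₂ : IsVal f b X m' n h₂) : h₁ = h₂ := by
  obtain ⟨S, hS, hp⟩ := locally_preimage hf X m'
  refine ext_of_sieve hS fun Y g hg => ?_
  obtain ⟨m, hm⟩ := hp g hg
  rw [e₁ g.op m hm, e₂ g.op m hm]

lemma exists_isVal (hf : IsLocalIso f) (b : M ⊗ N ⟶ pre H) (X : Cᵒᵖ) (m' : M'.obj X) (n : N.obj X) :
    ∃ h, IsVal f b X m' n h := by
  obtain ⟨S, hS, hp⟩ := locally_preimage hf X m'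
  choose m hm using hp
  let P := ((CategoryTheory.sheafCompose J (forget AddCommGrpCat.{u})).obj (ModSite.toAb H))
  let x : Presieve.FamilyOfElements P.obj S.arrows := fun Y g hg => b.app (op Y) (tp (m g hg) (res N g.op n))
  have key : ∀ ⦃Y : Cᵒᵖ⦄ (g : X ⟶ Y) (m₁ m₂ : M.obj Y), f.app Y m₁ = res M' g m' →
      f.app Y m₂ = res M' g m' → b.app Y (tp (m₁) (res N g n)) = b.app Y (tp (m₂) (res N g n)) := by
    intro Y g m₁ m₂ h₁ h₂
    obtain ⟨T, hT, he⟩ := locally_eq hf Y m₁ m₂ (h₁.trans h₂.symm)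
    refine ext_of_sieve hT fun Z k hk => ?_
    rw [b_tmul_map, b_tmul_map, he k hk]
  have hx : x.Compatible := by
    intro Y₁ Y₂ Z g₁ g₂ f₁ f₂ h₁ h₂ comm
    change res (pre H) g₁.op (b.app _ _) = res (pre H) g₂.op (b.app _ _)
    rw [b_tmul_map, b_tmul_map]
    have e : res N g₁.op (res N f₁.op n) = res N g₂.op (res N f₂.op n) := by
      rw [res_res, res_res, ← op_comp, ← op_comp, comm]
    rw [← e, res_res]
    apply key
    · rw [app_res, hm, res_res]
    · rw [app_res, hm, res_res, ← op_comp, ← op_comp, comm]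
  have hP : Presieve.IsSheaf J P.obj := (isSheaf_iff_isSheaf_of_type _ _).1 P.2
  obtain ⟨h, hh, -⟩ := hP S hS x hx
  refine ⟨h, fun Y g m₀ hm₀ => ?_⟩
  refine ext_of_sieve (J.pullback_stable g.unop hS) fun Z k hk => ?_
  rw [b_tmul_map, res_res N g k.op n]
  refine ((res_res (pre H) g k.op h).trans (hh (k ≫ g.unop) hk)).trans ?_
  apply key
  · exact hm _ _
  · rw [app_res, hm₀, res_res]; rfl

/-- The extension of `b` along `f ▷ N`. -/
noncomputable def val (hf : IsLocalIso f) (b : M ⊗ N ⟶ pre H) (X : Cᵒᵖ) (m' : M'.obj X) (n : N.obj X) :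
    (pre H).obj X :=
  (exists_isVal hf b X m' n).choose

lemma val_spec (hf : IsLocalIso f) (b : M ⊗ N ⟶ pre H) (X : Cᵒᵖ) (m' : M'.obj X) (n : N.obj X) :
    IsVal f b X m' n (val hf b X m' n) :=
  (exists_isVal hf b X m' n).choose_spec

lemma val_eq_of (hf : IsLocalIso f) (b : M ⊗ N ⟶ pre H) {X : Cᵒᵖ} {m' : M'.obj X} {n : N.obj X}
    {h : (pre H).obj X} (hh : IsVal f b X m' n h) : val hf b X m' n = h :=
  isVal_unique hf (val_spec hf b X m' n) hh

lemma map_val (hf : IsLocalIso f) (b : M ⊗ N ⟶ pre H) {X Y : Cᵒᵖ} (g : X ⟶ Y) (m' : M'.obj X) (n : N.obj X) :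
    res (pre H) g (val hf b X m' n) = val hf b Y (res M' g m') (res N g n) := by
  refine (val_eq_of hf b fun Z k m hm => ?_).symm
  rw [res_res, res_res] at *
  exact val_spec hf b X m' n (g ≫ k) m hm

lemma val_app (hf : IsLocalIso f) (b : M ⊗ N ⟶ pre H) (X : Cᵒᵖ) (m : M.obj X) (n : N.obj X) :
    val hf b X (f.app X m) n = b.app X (tp (m) (n)) := by
  refine val_eq_of hf b fun Y g m₀ hm₀ => ?_
  rw [b_tmul_map]
  obtain ⟨T, hT, he⟩ := locally_eq hf Y m₀ (res M g m) (hm₀.trans (app_res f g m).symm)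
  refine ext_of_sieve hT fun Z k hk => ?_
  rw [b_tmul_map, b_tmul_map, he k hk]

lemma bijective_precomp_whiskerRight (hf : IsLocalIso f) :
    Function.Bijective (fun b' : M' ⊗ N ⟶ pre H => (f ▷ N) ≫ b') := by
  constructor
  · intro b₁ b₂ e
    refine tensor_hom_ext fun X m' n => ?_
    obtain ⟨S, hS, hp⟩ := locally_preimage hf X m'
    refine ext_of_sieve hS fun Y g hg => ?_
    obtain ⟨m, hm⟩ := hp g hg
    rw [b_tmul_map, b_tmul_map, ← hm]
    have e' := DFunLike.congr_fun (congrArg ModuleCat.Hom.hom (congrFun (congrArg PresheafOfModules.Hom.app e) (op Y)))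
      (tp m (res N g.op n))
    exact e'
  · intro b
    refine ⟨{ app := fun X => ModuleCat.MonoidalCategory.tensorLift (fun m' n => val hf b X m' n) ?_ ?_ ?_ ?_
              naturality := ?_ }, ?_⟩
    · intro a₁ a₂ n
      obtain ⟨S₁, hS₁, hp₁⟩ := locally_preimage hf X a₁
      obtain ⟨S₂, hS₂, hp₂⟩ := locally_preimage hf X a₂
      refine ext_of_sieve (J.intersection_covering hS₁ hS₂) fun Y g hg => ?_
      obtain ⟨m₁, h₁⟩ := hp₁ g hg.1
      obtain ⟨m₂, h₂⟩ := hp₂ g hg.2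
      rw [map_val, res_add, res_add, map_val, map_val, ← h₁, ← h₂, ← map_add, val_app, val_app, val_app,
        tp_add_left, map_add]
    · intro r a n
      obtain ⟨S₁, hS₁, hp₁⟩ := locally_preimage hf X a
      refine ext_of_sieve hS₁ fun Y g hg => ?_
      obtain ⟨m₁, h₁⟩ := hp₁ g hg
      rw [map_val, res_smul, res_smul, map_val, ← h₁, ← (f.app (op Y)).hom.map_smul, val_app, val_app,
        tp_smul_left]
      exact (b.app (op Y)).hom.map_smul _ _
    · intro a n₁ n₂
      obtain ⟨S₁, hS₁, hp₁⟩ := locally_preimage hf X a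
      refine ext_of_sieve hS₁ fun Y g hg => ?_
      obtain ⟨m₁, h₁⟩ := hp₁ g hg
      rw [map_val, res_add, res_add, map_val, map_val, ← h₁, val_app, val_app, val_app, tp_add_right, map_add]
    · intro r a n
      obtain ⟨S₁, hS₁, hp₁⟩ := locally_preimage hf X a
      refine ext_of_sieve hS₁ fun Y g hg => ?_
      obtain ⟨m₁, h₁⟩ := hp₁ g hg
      rw [map_val, res_smul, res_smul, map_val, ← h₁, val_app, val_app, tp_smul_right]
      exact (b.app (op Y)).hom.map_smul _ _
    · intro X Y g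
      exact ModuleCat.MonoidalCategory.tensor_ext fun m' n => (map_val hf b g m' n).symm
    · exact tensor_hom_ext fun X m n => val_app hf b X m n

end Lift

/-- Tensoring with a presheaf preserves local isomorphisms. -/
lemma isIso_shf_map_whiskerRight {M M' : PreM O} (f : M ⟶ M') (N : PreM O) [IsIso (shf.map f)] :
    IsIso (shf.map (f ▷ N)) :=
  (isIso_shf_map_iff _).2 fun _ =>
    bijective_precomp_whiskerRight ((isIso_shf_map_iff_isLocalIso f).1 inferInstance)

lemma isIso_shf_map_whiskerLeft {M M' : PreM O} (f : M ⟶ M') (N : PreM O) [IsIso (shf.map f)] :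
    IsIso (shf.map (N ◁ f)) := by
  have := isIso_shf_map_whiskerRight f N
  have e : N ◁ f = (β_ N M).hom ≫ (f ▷ N) ≫ (β_ M' N).hom := by
    rw [BraidedCategory.braiding_naturality_left, SymmetricCategory.symmetry_assoc]
  rw [e, Functor.map_comp, Functor.map_comp]
  infer_instance

end Groth.Agent.Mod48
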