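import Groth.Agent.Mod48.RestrPull
import Mathlib.Algebra.Category.ModuleCat.Sheaf.LocallyFree

/-!
Inverse images of local generators and local presentations.
-/

universe u

open CategoryTheory CategoryTheory.Limits Opposite

namespace Groth.Agent.Mod48

set_option backward.isDefEq.respectTransparency false

variable {C D : Type u} [SmallCategory C] [SmallCategory D] {J : GrothendieckTopology C}
  {K : GrothendieckTopology D} {O_C : Sheaf J CommRingCat.{u}} {O_D : Sheaf K CommRingCat.{u}}
  (f : ModSite.RMor O_C O_D) (F : ModSite.Mod O_D)

/-- `f_X^*(F|X) ≅ (f^*F)|fX`. -/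
noncomputable def overPullIso (X : D) :
    (pullX f X).obj ((ModSite.restr O_D X).obj F) ≅
      (ModSite.restr O_C (f.fn.obj X)).obj (f.pull.obj F) :=
  (restrPullIso f X).app F

instance preservesColimits_pullX (X : D) : PreservesColimitsOfSize.{u, u} (pullX f X) :=
  (adjX f X).leftAdjoint_preservesColimits

/-- Inverse image of local generators. -/
noncomputable def pullLG (q : SheafOfModules.LocalGeneratorsData.{u} (R := ModSite.ringSh O_D) F) :
    SheafOfModules.LocalGeneratorsData.{u} (R := ModSite.ringSh O_C) (f.pull.obj F) where
  I := q.I
  X i := f.fn.obj (q.X i)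
  coversTop := coversTop_image f q.coversTop
  generators i :=
    haveI := preservesColimits_pullX f (q.X i)
    ((q.generators i).map (pullX f (q.X i)) (pullXUnitIso f (q.X i)).symm).ofEpi
    (overPullIso f F (q.X i)).hom

/-- Inverse image of local presentations. -/
noncomputable def pullQC (q : SheafOfModules.QuasicoherentData.{u} (R := ModSite.ringSh O_D) F) :
    SheafOfModules.QuasicoherentData.{u} (R := ModSite.ringSh O_C) (f.pull.obj F) where
  I := q.I
  X i := f.fn.obj (q.X i)
  coversTop := coversTop_image f q.coversTop
  presentation i :=
    haveI := preservesColimits_pullX f (q.X i)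
    SheafOfModules.Presentation.ofIsIso (overPullIso f F (q.X i)).hom
    ((q.presentation i).map (pullX f (q.X i)) (pullXUnitIso f (q.X i)).symm)

theorem isFiniteType_pullLG (q : SheafOfModules.LocalGeneratorsData.{u} (R := ModSite.ringSh O_D) F)
    [hq : q.IsFiniteType] : (pullLG f F q).IsFiniteType where
  isFiniteType i := { finite := (hq.isFiniteType i).finite }

theorem isFinitePresentation_pullQC (q : SheafOfModules.QuasicoherentData.{u} (R := ModSite.ringSh O_D) F)
    [hq : q.IsFinitePresentation] : (pullQC f F q).IsFinitePresentation where
  isFinite_presentation i :=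
    { isFiniteType_generators := { finite := (hq.isFinite_presentation i).isFiniteType_generators.finite }
      isFiniteType_relations := { finite := (hq.isFinite_presentation i).isFiniteType_relations.finite } }

theorem isLocallyFreeData_pullLG (q : SheafOfModules.LocalGeneratorsData.{u} (R := ModSite.ringSh O_D) F)
    [hq : q.IsLocallyFreeData] : (pullLG f F q).IsLocallyFreeData where
  isIso i := by
    haveI := preservesColimits_pullX f (q.X i)
    have := hq.isIso i
    change IsIso (((q.generators i).map (pullX f (q.X i)) (pullXUnitIso f (q.X i)).symm).ofEpi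
      (overPullIso f F (q.X i)).hom).π
    rw [SheafOfModules.GeneratingSections.ofEpi_π, SheafOfModules.GeneratingSections.map_π_eq]
    infer_instance

end Groth.Agent.Mod48
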