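import Groth.Agent.SiteMod.ClosedPush
import Groth.Agent.SiteMod.FlatCrit
import Mathlib.CategoryTheory.Abelian.Exact
import Mathlib.Algebra.Homology.ShortComplex.ExactFunctor

/-!
Direct image along a closed immersion of ringed spaces: exact, full and faithful.
-/

set_option backward.isDefEq.respectTransparency.types false

universe u

open CategoryTheory CategoryTheory.Limits Opposite TopologicalSpace

namespace Groth.Agent.Mod48.ClosedImm

open SiteMod

section General

variable {T : TopCat.{u}} {O : Sheaf (Opens.grothendieckTopology T) CommRingCat.{u}}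

/-- Restriction of sections along an inclusion of opens. -/
noncomputable abbrev rs (G : ModSite.Mod O) {V U : Opens T} (h : V ≤ U) (x : (pre G).obj (op U)) :
    (pre G).obj (op V) :=
  res (pre G) (homOfLE h).op x

variable (O) in
/-- Restriction of functions along an inclusion of opens. -/
noncomputable abbrev rr {V U : Opens T} (h : V ≤ U) : O.obj.obj (op U) →+* O.obj.obj (op V) :=
  rres (homOfLE h).op

lemma rs_rs (G : ModSite.Mod O) {W V U : Opens T} (h : V ≤ U) (k : W ≤ V) (x : (pre G).obj (op U)) :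
    rs G k (rs G h x) = rs G (k.trans h) x := res_res _ _ _ x

lemma rs_rfl (G : ModSite.Mod O) {U : Opens T} (x : (pre G).obj (op U)) : rs G le_rfl x = x :=
  res_id_apply (pre G) x

lemma rs_smul (G : ModSite.Mod O) {V U : Opens T} (h : V ≤ U) (a : O.obj.obj (op U)) (x : (pre G).obj (op U)) :
    rs G h (a • x) = rr O h a • rs G h x := res_smul _ _ a x

lemma ext_cover {G : ModSite.Mod O} {W : Opens T} {a b : (pre G).obj (op W)}
    (h : ∀ x ∈ W, ∃ (V : Opens T) (hV : V ≤ W), x ∈ V ∧ rs G hV a = rs G hV b) : a = b := by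
  let S : Sieve W :=
    { arrows := fun V v => res (pre G) v.op a = res (pre G) v.op b
      downward_closed := fun {V V'} v hv g => by
        show res (pre G) (g ≫ v).op a = res (pre G) (g ≫ v).op b
        rw [op_comp, ← res_res, hv, res_res] }
  have hS : S ∈ Opens.grothendieckTopology T W := fun x hx => ?_
  · exact ext_of_sieve (X := op W) hS fun V v hv => hv
  obtain ⟨V, hV, hxV, e⟩ := h x hx
  exact ⟨V, homOfLE hV, e, hxV⟩

end General

variable {Z X : TopCat.{u}} (i : Z ⟶ X) {O_Z : TopCat.Sheaf CommRingCat.{u} Z}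
  {O_X : TopCat.Sheaf CommRingCat.{u} X}
  (c : O_X ⟶ ((TopologicalSpace.Opens.map i).sheafPushforwardContinuous CommRingCat.{u}
    (Opens.grothendieckTopology X) (Opens.grothendieckTopology Z)).obj O_Z)

/-- The structure map on sections over `U`. -/
noncomputable abbrev cr (U : Opens X) : O_X.obj.obj (op U) →+* O_Z.obj.obj (op ((Opens.map i).obj U)) :=
  (c.hom.app (op U)).hom

lemma map_le {V U : Opens X} (h : V ≤ U) : (Opens.map i).obj V ≤ (Opens.map i).obj U := fun _ hx => h hx

lemma cr_rr {V U : Opens X} (h : V ≤ U) (b : O_X.obj.obj (op U)) :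
    cr i c V (rr O_X h b) = rr O_Z (map_le i h) (cr i c U b) :=
  congr($(c.hom.naturality (homOfLE h).op) b)

lemma exists_lift (hc : Sheaf.IsLocallySurjective c) {U : Opens X} (a : O_Z.obj.obj (op ((Opens.map i).obj U)))
    {y : X} (hy : y ∈ U) :
    ∃ (V : Opens X) (h : V ≤ U), y ∈ V ∧ ∃ b, cr i c V b = rr O_Z (map_le i h) a := by
  obtain ⟨V, v, ⟨b, hb⟩, hyV⟩ := Presheaf.imageSieve_mem (Opens.grothendieckTopology X) c.hom (U := op U) a y hy
  exact ⟨V, leOfHom v, hyV, b, hb⟩

variable {i} (hi : Topology.IsClosedEmbedding i)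

/-- The largest open with a given preimage. -/
def Umax (W : Opens Z) : Opens X :=
  ⟨((i : Z → X) '' (W : Set Z)ᶜ)ᶜ, (hi.isClosedMap _ W.isOpen.isClosed_compl).isOpen_compl⟩

lemma mem_Umax {W : Opens Z} {y : X} : y ∈ Umax hi W ↔ ∀ z, (i : Z → X) z = y → z ∈ W := by
  change y ∉ (i : Z → X) '' (W : Set Z)ᶜ ↔ _
  simp only [Set.mem_image, Set.mem_compl_iff, SetLike.mem_coe]
  exact ⟨fun h z hz => by_contra fun hzW => h ⟨z, hzW, hz⟩, fun h ⟨z, hzW, hz⟩ => hzW (h z hz)⟩

lemma pre_Umax_le (W : Opens Z) : (Opens.map i).obj (Umax hi W) ≤ W := fun z hz => (mem_Umax hi).1 hz z rfl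

lemma le_pre_Umax (W : Opens Z) : W ≤ (Opens.map i).obj (Umax hi W) := fun z hz =>
  (mem_Umax hi).2 fun _ h => by rwa [hi.injective h]

lemma le_Umax {U : Opens X} {W : Opens Z} (h : (Opens.map i).obj U ≤ W) : U ≤ Umax hi W := fun y hy =>
  (mem_Umax hi).2 fun z hz => h (show (i : Z → X) z ∈ U from hz ▸ hy)

lemma pre_le {U : Opens X} {W : Opens Z} (h : U ≤ Umax hi W) : (Opens.map i).obj U ≤ W :=
  (map_le i h).trans (pre_Umax_le hi W)

include hi in
lemma exists_pre_eq {W : Opens Z} {U : Opens X} (h : W ≤ (Opens.map i).obj U) :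
    ∃ U', U' ≤ U ∧ (Opens.map i).obj U' = W :=
  ⟨Umax hi W ⊓ U, inf_le_right, le_antisymm (fun z hz => pre_Umax_le hi W hz.1)
    (fun z hz => ⟨le_pre_Umax hi W hz, h hz⟩)⟩

include hi in
lemma exists_pre (W : Opens Z) : ∃ U, (Opens.map i).obj U = W :=
  ⟨Umax hi W, le_antisymm (pre_Umax_le hi W) (le_pre_Umax hi W)⟩

variable (i) in
/-- The direct image functor. -/
noncomputable abbrev P : ModSite.Mod O_Z ⥤ ModSite.Mod O_X :=
  (ModSite.RMor.ofFlat (TopologicalSpace.Opens.map i) c).push

include hi in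
theorem epi_push {F G : ModSite.Mod O_Z} (φ : F ⟶ G) [Epi φ] : Epi ((P i c).map φ) := by
  rw [epi_iff_locSurj]
  intro U x
  obtain ⟨S, hS, hy⟩ := (epi_iff_locSurj φ).1 inferInstance ((Opens.map i).obj U) x
  refine ⟨{ arrows := fun V v => ∃ y, ap ((P i c).map φ) y = res (pre ((P i c).obj G)) v.op x
            downward_closed := ?_ }, fun y hyU => ?_, fun V v hv => hv⟩
  · rintro V V' v ⟨y, hy⟩ g
    exact ⟨res (pre ((P i c).obj F)) g.op y, (res_ap _ g y).symm.trans
      ((congrArg _ hy).trans (res_res _ _ _ x))⟩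
  by_cases hyr : y ∈ Set.range i
  · obtain ⟨z, rfl⟩ := hyr
    obtain ⟨R, r, hr, hzR⟩ := hS z hyU
    obtain ⟨U', hU', hR⟩ := exists_pre_eq hi (leOfHom r)
    subst hR
    obtain ⟨s, hs⟩ := hy r hr
    exact ⟨U', homOfLE hU', ⟨s, hs⟩, hzR⟩
  · let U₀ : Opens X := ⟨(Set.range i)ᶜ, hi.isClosed_range.isOpen_compl⟩
    exact ⟨U ⊓ U₀, homOfLE inf_le_left, ⟨0, sections_subsingleton_of_eq_bot G
      (W := (Opens.map i).obj (U ⊓ U₀)) (fun z hz => hz.2 ⟨z, rfl⟩) _ _⟩, hyU, hyr⟩

include hi in
theorem preservesFiniteColimits_push : PreservesFiniteColimits (P i c) := by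
  have : (P i c).PreservesEpimorphisms := ⟨fun φ _ => epi_push c hi φ⟩
  have : (P i c).PreservesZeroMorphisms := inferInstance
  have : PreservesFiniteLimits (P i c) := inferInstance
  have : (P i c).PreservesHomology := Functor.preservesHomology_of_preservesEpis_and_kernels _
  exact Functor.preservesFiniteColimits_of_preservesHomology _

include hi in
theorem faithful_push : (P i c).Faithful := by
  refine ⟨fun {F G} φ ψ h => ?_⟩
  refine SheafOfModules.hom_ext (PresheafOfModules.hom_ext fun W => ModuleCat.hom_ext (LinearMap.ext fun s => ?_))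
  obtain ⟨W⟩ := W
  obtain ⟨U, rfl⟩ := exists_pre hi W
  exact congrArg (fun η => ap η (M := (P i c).obj F) (W := U) (toPush (ModSite.RMor.ofFlat (Opens.map i) c) F s)) h

section Full

variable {F G : ModSite.Mod O_Z} (ψ : (P i c).obj F ⟶ (P i c).obj G)

/-- A map of direct images on sections over an open of the source. -/
noncomputable def phi (W : Opens Z) (s : (pre F).obj (op W)) : (pre G).obj (op W) :=
  rs G (le_pre_Umax hi W) (ofPush (ModSite.RMor.ofFlat (Opens.map i) c) G
    (ap ψ (toPush (ModSite.RMor.ofFlat (Opens.map i) c) F (W := Umax hi W) (rs F (pre_Umax_le hi W) s))))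

lemma phi_pre (U : Opens X) (s : (pre F).obj (op ((Opens.map i).obj U))) :
    phi c hi ψ _ s = ap ψ (W := U) s := by
  have h := res_ap ψ (homOfLE (le_Umax hi (le_refl ((Opens.map i).obj U))))
    (toPush (ModSite.RMor.ofFlat (Opens.map i) c) F (W := Umax hi ((Opens.map i).obj U)) (rs F (pre_Umax_le hi _) s))
  refine Eq.trans ?_ (h.trans (congrArg (ap ψ) ((rs_rs F _ _ s).trans (rs_rfl F s))))
  rfl

lemma phi_res {W' W : Opens Z} (h : W' ≤ W) (s : (pre F).obj (op W)) :
    phi c hi ψ W' (rs F h s) = rs G h (phi c hi ψ W s) := by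
  obtain ⟨U, rfl⟩ := exists_pre hi W
  obtain ⟨U', hU', rfl⟩ := exists_pre_eq hi h
  rw [phi_pre, phi_pre]
  exact (res_ap ψ (homOfLE hU') (W := U) s).symm

lemma phi_add (W : Opens Z) (s t : (pre F).obj (op W)) :
    phi c hi ψ W (s + t) = phi c hi ψ W s + phi c hi ψ W t := by
  obtain ⟨U, rfl⟩ := exists_pre hi W
  rw [phi_pre, phi_pre, phi_pre]
  exact map_add ((fgt.map ψ).app (op U)).hom _ _

lemma phi_smul (hc : Sheaf.IsLocallySurjective c) (W : Opens Z) (a : O_Z.obj.obj (op W))
    (s : (pre F).obj (op W)) : phi c hi ψ W (a • s) = a • phi c hi ψ W s := by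
  obtain ⟨U, rfl⟩ := exists_pre hi W
  refine ext_cover fun z hz => ?_
  obtain ⟨V, hV, hzV, b, hb⟩ := exists_lift i c hc a (y := (i : Z → X) z) hz
  refine ⟨(Opens.map i).obj V, map_le i hV, hzV, ?_⟩
  rw [← phi_res, rs_smul, rs_smul, ← phi_res, ← hb, phi_pre, phi_pre]
  exact map_smul ((fgt.map ψ).app (op V)).hom b
    (toPush (ModSite.RMor.ofFlat (Opens.map i) c) F (W := V) (rs F (map_le i hV) s))

/-- The preimage of a map of direct images. -/
noncomputable def phiHom (hc : Sheaf.IsLocallySurjective c) : F ⟶ G :=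
  ⟨PresheafOfModules.homMk
    { app := fun W => AddCommGrpCat.ofHom (AddMonoidHom.mk' (phi c hi ψ W.unop) (phi_add c hi ψ W.unop))
      naturality := fun W W' g => by
        refine AddCommGrpCat.hom_ext (AddMonoidHom.ext fun s => ?_)
        exact phi_res c hi ψ (leOfHom g.unop) s }
    (fun W r m => phi_smul c hi ψ hc W.unop r m)⟩

end Full

include hi in
theorem full_push (hc : Sheaf.IsLocallySurjective c) : (P i c).Full :=
  ⟨fun {F G} ψ => ⟨phiHom c hi ψ hc, SheafOfModules.hom_ext (PresheafOfModules.hom_ext fun U =>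
    ModuleCat.hom_ext (LinearMap.ext fun s => phi_pre c hi ψ U.unop s))⟩⟩

end Groth.Agent.Mod48.ClosedImm
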