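import Groth.Agent.SiteMod.ExtZero
import Mathlib.CategoryTheory.Sites.Point.Over
import Mathlib.CategoryTheory.Sites.Point.Skyscraper

/-!
The stalk of an extension by zero is the direct sum of the stalks at the points above.
-/

universe u

open CategoryTheory CategoryTheory.Limits Opposite

namespace Groth.Agent.Mod48

open SiteMod
open SGA45 (ExtByZero.ins ExtByZero.extMap_ins ExtByZero.restr)

variable {C : Type u} [SmallCategory C] {J : GrothendieckTopology C} {O : Sheaf J CommRingCat.{u}} (U : C)
  (G : ModSite.Mod (O.over U)) (p : GrothendieckTopology.Point.{u} J)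

/-- The stalk of the sheafified presheaf. -/
noncomputable def stalkShfIso (P : PreM O) :
    ModSite.stalkAb p (shf.obj P) ≅ p.presheafFiber.obj P.presheaf :=
  p.sheafFiber.mapIso ((PresheafOfModules.sheafificationCompToSheaf.{u} (𝟙 (ModSite.ringSh O).obj)).app P) ≪≫
    (p.presheafToSheafCompSheafFiberIso AddCommGrpCat.{u}).app P.presheaf

/-- The element of the fibre of `C/U` above. -/
def overPt {W : C} (φ : W ⟶ U) (w : p.fiber.obj W) : (p.over (p.fiber.map φ w)).fiber.obj (Over.mk φ) :=
  ⟨w, (rfl : p.fiber.map φ w = p.fiber.map φ w)⟩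

/-- The map out of a summand. -/
noncomputable def toCoprodComp {W : C} (φ : W ⟶ U) (w : p.fiber.obj W) :
    (ModSite.toAb G).obj.obj (op (Over.mk φ)) ⟶
      ∐ fun x : p.fiber.obj U => ModSite.stalkAb (p.over x) G :=
  (p.over (p.fiber.map φ w)).toPresheafFiber (Over.mk φ) (overPt U p φ w) (ModSite.toAb G).obj ≫
    Sigma.ι (fun x : p.fiber.obj U => ModSite.stalkAb (p.over x) G) (p.fiber.map φ w)

lemma toCoprodComp_eq {Y : Over U} (x : p.fiber.obj U) (y : (p.over x).fiber.obj Y) :
    toCoprodComp U G p Y.hom y.1 =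
      (p.over x).toPresheafFiber Y y (ModSite.toAb G).obj ≫
        Sigma.ι (fun x : p.fiber.obj U => ModSite.stalkAb (p.over x) G) x := by
  obtain ⟨y, hy⟩ := y
  have hx : p.fiber.map Y.hom y = x := hy
  subst hx
  rfl

open Classical in
/-- The map out of a value of the presheaf extension by zero. -/
noncomputable def toCoprodAt (W : C) (w : p.fiber.obj W) :
    (extPre U G).presheaf.obj (op W) ⟶ ∐ fun x : p.fiber.obj U => ModSite.stalkAb (p.over x) G :=
  AddCommGrpCat.ofHom
    (DirectSum.toAddMonoid (fun φ : W ⟶ U => (toCoprodComp U G p φ w).hom) :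
      DirectSum (W ⟶ U) (fun φ => SGA45.ExtByZero.fib (SiteMod.val' U G) (op W) φ) →+ _)

lemma toCoprodAt_summand (W : C) (w : p.fiber.obj W) (φ : W ⟶ U) (s : (pre G).obj (op (Over.mk φ))) :
    (toCoprodAt U G p W w).hom (summand U G φ s) = (toCoprodComp U G p φ w).hom s := by
  classical
  refine Eq.trans ?_ (DirectSum.toAddMonoid_of (fun φ : W ⟶ U => (toCoprodComp U G p φ w).hom) φ s)
  rfl

lemma toCoprodAt_w {V W : C} (f : V ⟶ W) (v : p.fiber.obj V) :
    (extPre U G).presheaf.map f.op ≫ toCoprodAt U G p V v = toCoprodAt U G p W (p.fiber.map f v) := by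
  classical
  apply AddCommGrpCat.hom_ext
  apply DirectSum.addHom_ext
  intro φ s
  change (toCoprodAt U G p V v).hom (Mod48.res (extPre U G) f.op (summand U G φ s)) =
    (toCoprodAt U G p W (p.fiber.map f v)).hom (summand U G φ s)
  let h : Over.mk (f ≫ φ) ⟶ Over.mk φ := Over.homMk f
  rw [show Mod48.res (extPre U G) f.op (summand U G φ s) =
      summand U G (f ≫ φ) (Mod48.res (pre G) h.op s) from res_summand U G h s]
  refine (toCoprodAt_summand U G p V v (f ≫ φ) (Mod48.res (pre G) h.op s)).trans ?_
  refine Eq.trans ?_ (toCoprodAt_summand U G p W (p.fiber.map f v) φ s).symm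
  let y : (p.over (p.fiber.map φ (p.fiber.map f v))).fiber.obj (Over.mk (f ≫ φ)) :=
    ⟨v, (Functor.map_comp_apply p.fiber f φ v :
      p.fiber.map (f ≫ φ) v = p.fiber.map φ (p.fiber.map f v))⟩
  refine (ConcreteCategory.congr_hom (toCoprodComp_eq U G p (p.fiber.map φ (p.fiber.map f v)) y)
    (Mod48.res (pre G) h.op s)).trans ?_
  exact congrArg (Sigma.ι (fun x : p.fiber.obj U => ModSite.stalkAb (p.over x) G) _).hom
    ((p.over (p.fiber.map φ (p.fiber.map f v))).toPresheafFiber_w_apply h y (ModSite.toAb G).obj s)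

/-- From the stalk of the presheaf extension by zero to the direct sum. -/
noncomputable def toCoprod :
    p.presheafFiber.obj (extPre U G).presheaf ⟶ ∐ fun x : p.fiber.obj U => ModSite.stalkAb (p.over x) G :=
  p.presheafFiberDesc (toCoprodAt U G p) (fun _ _ f v => toCoprodAt_w U G p f v)

/-- The summand, as a morphism. -/
noncomputable def summandHom (Y : Over U) :
    (ModSite.toAb G).obj.obj (op Y) ⟶ (extPre U G).presheaf.obj (op Y.left) :=
  AddCommGrpCat.ofHom (summand U G Y.hom)

/-- From the direct sum to the stalk of the presheaf extension by zero. -/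
noncomputable def ofCoprod :
    (∐ fun x : p.fiber.obj U => ModSite.stalkAb (p.over x) G) ⟶ p.presheafFiber.obj (extPre U G).presheaf :=
  Sigma.desc fun x => (p.over x).presheafFiberDesc
    (fun Y y => summandHom U G Y ≫ p.toPresheafFiber Y.left y.1 (extPre U G).presheaf)
    (fun Y Y' h y => by
      ext s
      refine (congrArg (p.toPresheafFiber Y.left y.1 (extPre U G).presheaf).hom
        (res_summand U G (φ := Y'.hom) h s).symm).trans ?_
      exact p.toPresheafFiber_w_apply h.left y.1 (extPre U G).presheaf (summand U G Y'.hom s))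

@[reassoc]
lemma ι_ofCoprod (x : p.fiber.obj U) (Y : Over U) (y : (p.over x).fiber.obj Y) :
    (p.over x).toPresheafFiber Y y (ModSite.toAb G).obj ≫
        Sigma.ι (fun x : p.fiber.obj U => ModSite.stalkAb (p.over x) G) x ≫ ofCoprod U G p =
      summandHom U G Y ≫ p.toPresheafFiber Y.left y.1 (extPre U G).presheaf := by
  refine (congrArg ((p.over x).toPresheafFiber Y y (ModSite.toAb G).obj ≫ ·) (Sigma.ι_desc _ x)).trans ?_
  exact (p.over x).toPresheafFiber_presheafFiberDesc _ _ Y y

/-- The stalk of the presheaf extension by zero. -/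
noncomputable def presheafStalkIso :
    p.presheafFiber.obj (extPre U G).presheaf ≅ ∐ fun x : p.fiber.obj U => ModSite.stalkAb (p.over x) G where
  hom := toCoprod U G p
  inv := ofCoprod U G p
  hom_inv_id := by
    classical
    apply p.presheafFiber_hom_ext
    intro W w
    refine ((p.toPresheafFiber_presheafFiberDesc_assoc (toCoprodAt U G p)
      (fun _ _ f v => toCoprodAt_w U G p f v) W w (ofCoprod U G p))).trans ?_
    refine Eq.trans ?_ (Category.comp_id _).symm
    apply AddCommGrpCat.hom_ext
    apply DirectSum.addHom_ext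
    intro φ s
    change (ofCoprod U G p).hom ((toCoprodAt U G p W w).hom (summand U G φ s)) =
      (p.toPresheafFiber W w (extPre U G).presheaf).hom (summand U G φ s)
    refine (congrArg (ofCoprod U G p).hom (toCoprodAt_summand U G p W w φ s)).trans ?_
    exact ConcreteCategory.congr_hom (ι_ofCoprod U G p _ (Over.mk φ) (overPt U p φ w)) s
  inv_hom_id := by
    refine Sigma.hom_ext _ _ fun x => ?_
    apply (p.over x).presheafFiber_hom_ext
    intro Y y
    refine (ι_ofCoprod_assoc U G p x Y y (toCoprod U G p)).trans ?_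
    refine (congrArg (summandHom U G Y ≫ ·) (p.toPresheafFiber_presheafFiberDesc (toCoprodAt U G p)
      (fun _ _ f v => toCoprodAt_w U G p f v) Y.left y.1)).trans ?_
    refine Eq.trans ?_ (congrArg ((p.over x).toPresheafFiber Y y (ModSite.toAb G).obj ≫ ·) (Category.comp_id _).symm)
    ext s
    exact (toCoprodAt_summand U G p Y.left y.1 Y.hom s).trans
      (ConcreteCategory.congr_hom (toCoprodComp_eq U G p x y) s)

/-- The stalk of an extension by zero is the direct sum of the stalks at the points above. -/
theorem stalkAb_extZero_iso :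
    Nonempty (ModSite.stalkAb p ((ModSite.extZero O U).obj G) ≅
      ∐ fun x : p.fiber.obj U => ModSite.stalkAb (p.over x) G) :=
  ⟨p.sheafFiber.mapIso ((SheafOfModules.toSheaf (ModSite.ringSh O)).mapIso (extZeroIso U G).symm) ≪≫
    stalkShfIso p (extPre U G) ≪≫ presheafStalkIso U G p⟩

end Groth.Agent.Mod48
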