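import Groth.Agent.SiteMod.FlatStalk
import Groth.Agent.SiteMod.Basics
import Groth.Agent.SiteMod.FreeTop
import Mathlib.CategoryTheory.Sites.Point.Skyscraper
import Mathlib.CategoryTheory.Sites.Point.Over
import Mathlib.Algebra.Category.ModuleCat.Products
import Mathlib.LinearAlgebra.InvariantBasisNumber
import Mathlib.LinearAlgebra.DirectSum.Finsupp
import Mathlib.SetTheory.Cardinal.ENat

/-!
The stalk functor on modules, and the rank of a free module.
-/

universe u

open CategoryTheory CategoryTheory.Limits Opposite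

namespace Groth.Agent.Mod48

open SiteMod

variable {C : Type u} [SmallCategory C] {J : GrothendieckTopology C} (p : GrothendieckTopology.Point.{u} J)
  (O : Sheaf J CommRingCat.{u})

/-- The stalk, as a functor to modules. -/
noncomputable def stalkFun : ModSite.Mod O ⥤ ModuleCat.{u} (ModSite.stalkRing p O) where
  obj F := ModSite.stalkMod p F
  map {F G} φ := ModuleCat.ofHom (X := ModSite.stalkAb p F) (Y := ModSite.stalkAb p G)
    { toFun := (p.sheafFiber.map ((SheafOfModules.toSheaf (ModSite.ringSh O)).map φ)).hom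
      map_add' := map_add _
      map_smul' := ModSite.sheafFiber_map_smul p φ }
  map_id F := by
    refine ModuleCat.hom_ext (LinearMap.ext fun m => ?_)
    change (p.sheafFiber.map ((SheafOfModules.toSheaf (ModSite.ringSh O)).map (𝟙 F))).hom m = m
    rw [CategoryTheory.Functor.map_id, CategoryTheory.Functor.map_id]
    rfl
  map_comp φ ψ := by
    refine ModuleCat.hom_ext (LinearMap.ext fun m => ?_)
    change (p.sheafFiber.map ((SheafOfModules.toSheaf (ModSite.ringSh O)).map (φ ≫ ψ))).hom m = _
    rw [Functor.map_comp, Functor.map_comp]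
    rfl

lemma stalkFun_map_grm {F G : ModSite.Mod O} (φ : F ⟶ G) (X : C) (x : p.fiber.obj X) (s : (pre F).obj (op X)) :
    (stalkFun p O).map φ (grm p F X x s) = grm p G X x ((fgt.map φ).app (op X) s) :=
  ConcreteCategory.congr_hom
    (p.toPresheafFiber_naturality (((SheafOfModules.toSheaf (ModSite.ringSh O)).map φ).hom) X x) s

theorem preservesColimits_stalkFun : PreservesColimitsOfSize.{u, u} (stalkFun p O) := by
  have h1 := SiteMod.toSheaf_preservesColimits' (ModSite.ringSh O)
  have h2 : PreservesColimitsOfSize.{u, u} (p.sheafFiber (A := AddCommGrpCat.{u})) :=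
    p.skyscraperSheafAdjunction.leftAdjoint_preservesColimits
  have h3 : PreservesColimitsOfSize.{u, u}
      (stalkFun p O ⋙ forget₂ (ModuleCat.{u} (ModSite.stalkRing p O)) AddCommGrpCat.{u}) :=
    inferInstanceAs (PreservesColimitsOfSize.{u, u}
      (SheafOfModules.toSheaf (ModSite.ringSh O) ⋙ p.sheafFiber))
  have : ReflectsColimitsOfSize.{u, u} (forget₂ (ModuleCat.{u} (ModSite.stalkRing p O)) AddCommGrpCat.{u}) :=
    reflectsColimits_of_reflectsIsomorphisms
  exact preservesColimits_of_reflects_of_preserves _ (forget₂ (ModuleCat.{u} (ModSite.stalkRing p O)) AddCommGrpCat.{u})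

/-- A neighbourhood of the point. -/
noncomputable def nbhd : p.fiber.Elements := IsCofiltered.nonempty.some

/-- The stalk of the structure module as the stalk of the structure sheaf. -/
noncomputable def unitStalkHom : ModSite.stalkRing p O →ₗ[ModSite.stalkRing p O] ModSite.stalkMod p (ModSite.unit O) :=
  LinearMap.toSpanSingleton _ _ (grm p (ModSite.unit O) (nbhd p).1 (nbhd p).2 (toU 1))

lemma grm_one_eq {X Y : C} (x : p.fiber.obj X) (y : p.fiber.obj Y) :
    grm p (ModSite.unit O) X x (toU 1) = grm p (ModSite.unit O) Y y (toU 1) := by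
  obtain ⟨W, w, π, hπ⟩ := exists_nbhd p (fun b : ULift.{u} Bool => if b.down then X else Y)
    (fun b => match b with
      | ⟨true⟩ => x
      | ⟨false⟩ => y)
  have hx : p.fiber.map (π ⟨true⟩) w = x := hπ ⟨true⟩
  have hy : p.fiber.map (π ⟨false⟩) w = y := hπ ⟨false⟩
  conv_lhs => rw [← hx, ← germ_res]
  conv_rhs => rw [← hy, ← germ_res]
  refine congrArg (grm p (ModSite.unit O) W w) ?_
  exact (map_one (O.obj.map (π ⟨true⟩).op).hom).trans (map_one (O.obj.map (π ⟨false⟩).op).hom).symm

lemma unitStalkHom_germRing {X : C} (x : p.fiber.obj X) (r : O.obj.obj (op X)) :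
    unitStalkHom p O (ModSite.germRing p X x r) = grm p (ModSite.unit O) X x (toU r) := by
  change ModSite.germRing p X x r • grm p (ModSite.unit O) _ _ (toU 1) = _
  rw [grm_one_eq p O (nbhd p).2 x, ← grm_smul]
  exact congrArg (grm p (ModSite.unit O) X x) (mul_one r)

theorem bijective_unitStalkHom : Function.Bijective (unitStalkHom p O) := by
  constructor
  · rw [injective_iff_map_eq_zero]
    intro a ha
    obtain ⟨X, x, r, rfl⟩ := exists_germRing (O := O) p a
    rw [unitStalkHom_germRing] at ha
    obtain ⟨Y, g, y, hy, e⟩ := exists_res_eq_of_germ_eq p (ModSite.unit O) x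
      (ha.trans (grm_zero p (ModSite.unit O) X x).symm)
    rw [← hy, ← germRing_res]
    have e' : rres g.op r = 0 := e.trans (map_zero (O.obj.map g.op).hom)
    rw [e']
    exact map_zero _
  · intro m
    obtain ⟨X, x, s, rfl⟩ := exists_germ p (ModSite.unit O) m
    exact ⟨ModSite.germRing p X x (ofU s), unitStalkHom_germRing p O x _⟩

/-- The stalk of the structure module. -/
noncomputable def unitStalkIso : (stalkFun p O).obj (ModSite.unit O) ≅ ModuleCat.of (ModSite.stalkRing p O) (ModSite.stalkRing p O) :=
  (LinearEquiv.ofBijective (unitStalkHom p O) (bijective_unitStalkHom p O)).toModuleIso.symm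

/-- The stalk of a free module. -/
noncomputable def stalkFreeEquiv (ι : Type u) :
    (stalkFun p O).obj (SheafOfModules.free (R := ModSite.ringSh O) ι) ≃ₗ[ModSite.stalkRing p O]
      (ι →₀ ModSite.stalkRing p O) :=
  haveI := preservesColimits_stalkFun p O
  haveI : DecidableEq ι := Classical.decEq ι
  (PreservesCoproduct.iso (stalkFun p O) (fun _ : ι => ModSite.unit O) ≪≫
    Sigma.mapIso (fun _ => unitStalkIso p O) ≪≫
    ModuleCat.coprodIsoDirectSum _).toLinearEquiv ≪≫ₗ (finsuppLEquivDirectSum _ _ ι).symm

/-- The rank of a free module is well defined, if the site has a point with nonzero stalk ring. -/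
theorem card_eq_of_freeIso [Nontrivial (ModSite.stalkRing p O)] {ι κ : Type u}
    (e : SheafOfModules.free (R := ModSite.ringSh O) ι ≅ SheafOfModules.free κ) :
    ENat.card ι = ENat.card κ := by
  let l : (ι →₀ ModSite.stalkRing p O) ≃ₗ[ModSite.stalkRing p O] (κ →₀ ModSite.stalkRing p O) :=
    (stalkFreeEquiv p O ι).symm ≪≫ₗ ((stalkFun p O).mapIso e).toLinearEquiv ≪≫ₗ stalkFreeEquiv p O κ
  have h := (Finsupp.basisSingleOne (R := ModSite.stalkRing p O) (ι := ι)).mk_eq_rank''
  have h' := (Finsupp.basisSingleOne (R := ModSite.stalkRing p O) (ι := κ)).mk_eq_rank''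
  rw [ENat.card, ENat.card, h, h', l.rank_eq]

end Groth.Agent.Mod48
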