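import Groth.Agent.Mod48.FlatPullChart
import Groth.Agent.Mod48.StalkExtZero
import Groth.Agent.Mod48.StalkFun
import Groth.Agent.SiteMod.FlatRinged
import Mathlib.RingTheory.Flat.Stability

/-!
For a module `F` flat over the base of a morphism of ringed spaces, `G ↦ f^*G ⊗ F` preserves monomorphisms.

The model `pullModel G ⊗ F` is used: at a point `x` a sum of pure tensors has an image in
`G_{f x} ⊗ F_x`, and conversely an element of `G_{f x} ⊗ F_x` gives a germ of the model.
-/

universe u

open CategoryTheory CategoryTheory.Limits Opposite TopologicalSpace MonoidalCategory TensorProduct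

namespace Groth.Agent.Mod48.FlatOver

open SiteMod

set_option backward.isDefEq.respectTransparency.types false

variable {X Y : TopCat.{u}} {f : X ⟶ Y} {O_X : TopCat.Sheaf CommRingCat.{u} X}
  {O_Y : TopCat.Sheaf CommRingCat.{u} Y}
  (c : O_Y ⟶ ((Opens.map f).sheafPushforwardContinuous CommRingCat.{u}
    (Opens.grothendieckTopology Y) (Opens.grothendieckTopology X)).obj O_X)

/-- The point of the source. -/
noncomputable abbrev ptX (x : X) : GrothendieckTopology.Point.{u} (Opens.grothendieckTopology X) :=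
  Opens.pointGrothendieckTopology x

/-- Membership as an element of a fibre. -/
def mk {Z : TopCat.{u}} {z : Z} {U : Opens Z} (h : z ∈ U) :
    (Opens.pointGrothendieckTopology z).fiber.obj U := ⟨⟨h⟩⟩

/-- The point of the target. -/
noncomputable abbrev ptY (x : X) : GrothendieckTopology.Point.{u} (Opens.grothendieckTopology Y) :=
  Opens.pointGrothendieckTopology (f x)

lemma mem_of_chart {x : X} {V : Opens X} {W : Opens Y} (g : V ⟶ (Opens.map f).obj W) (hx : x ∈ V) :
    f x ∈ W := leOfHom g hx

/-- The stalk of the base ring. -/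
noncomputable abbrev A (x : X) : CommRingCat.{u} := ModSite.stalkRing (ptY (f := f) x) O_Y

/-- The map of stalks. -/
noncomputable def beta (x : X) : A (f := f) (O_Y := O_Y) x ⟶ ModSite.stalkRing (ptX x) O_X :=
  (ptY (f := f) x).presheafFiberDesc
    (fun W h => c.hom.app (op W) ≫ (ptX x).toPresheafFiber ((Opens.map f).obj W) (mk h.down.down) O_X.obj)
    (fun W W' k h => by
      refine (Category.assoc _ _ _).symm.trans ((congrArg (· ≫ _) (c.hom.naturality k.op)).trans ?_)
      refine (Category.assoc _ _ _).trans (congrArg (c.hom.app (op W') ≫ ·) ?_)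
      exact (ptX x).toPresheafFiber_w ((Opens.map f).map k) (mk h.down.down) O_X.obj)

lemma beta_germ {x : X} {V : Opens X} {W : Opens Y} (g : V ⟶ (Opens.map f).obj W) (hx : x ∈ V)
    (r : O_Y.obj.obj (op W)) :
    (beta c x).hom (ModSite.germRing (ptY (f := f) x) W (mk (mem_of_chart g hx)) r) =
      ModSite.germRing (ptX x) V (mk hx) (sig (ringedMap c) g r) := by
  refine (ConcreteCategory.congr_hom ((ptY (f := f) x).toPresheafFiber_presheafFiberDesc _ _ W
    (mk (mem_of_chart g hx))) r).trans ?_
  exact ((ptX x).toPresheafFiber_w_apply g (mk hx) O_X.obj _).symm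

/-- The map to the stalk of the pulled back ring. -/
noncomputable def eps (x : X) : A (f := f) (O_Y := O_Y) x ⟶ ModSite.stalkRing (ptX x) (ringedMap c).invRing :=
  (ptY (f := f) x).presheafFiberDesc
    (fun W h => (((ringedMap c).fn.sheafAdjunctionContinuous CommRingCat.{u} (Opens.grothendieckTopology Y)
        (Opens.grothendieckTopology X)).unit.app O_Y).hom.app (op W) ≫
      (ptX x).toPresheafFiber ((Opens.map f).obj W) (mk h.down.down) (ringedMap c).invRing.obj)
    (fun W W' k h => by
      refine (Category.assoc _ _ _).symm.trans ((congrArg (· ≫ _)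
        ((((ringedMap c).fn.sheafAdjunctionContinuous CommRingCat.{u} (Opens.grothendieckTopology Y)
          (Opens.grothendieckTopology X)).unit.app O_Y).hom.naturality k.op)).trans ?_)
      refine (Category.assoc _ _ _).trans (congrArg (_ ≫ ·) ?_)
      exact (ptX x).toPresheafFiber_w ((Opens.map f).map k) (mk h.down.down) (ringedMap c).invRing.obj)

lemma eps_germ {x : X} {V : Opens X} {W : Opens Y} (g : V ⟶ (Opens.map f).obj W) (hx : x ∈ V)
    (r : O_Y.obj.obj (op W)) :
    (eps c x).hom (ModSite.germRing (ptY (f := f) x) W (mk (mem_of_chart g hx)) r) =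
      ModSite.germRing (ptX x) V (mk hx) (invSig (ringedMap c) g r) := by
  refine (ConcreteCategory.congr_hom ((ptY (f := f) x).toPresheafFiber_presheafFiberDesc _ _ W
    (mk (mem_of_chart g hx))) r).trans ?_
  exact ((ptX x).toPresheafFiber_w_apply g (mk hx) (ringedMap c).invRing.obj _).symm

lemma exists_germA {x : X} (a : A (f := f) (O_Y := O_Y) x) :
    ∃ (W : Opens Y) (h : f x ∈ W) (r : O_Y.obj.obj (op W)), ModSite.germRing (ptY (f := f) x) W (mk h) r = a := by
  obtain ⟨W, h, r, hr⟩ := exists_germRing (ptY (f := f) x) a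
  exact ⟨W, h.down.down, r, hr⟩

lemma invSharp_eps (x : X) (a : A (f := f) (O_Y := O_Y) x) :
    (((ptX x).sheafFiber (A := CommRingCat.{u})).map (ringedMap c).invSharp).hom ((eps c x).hom a) =
      (beta c x).hom a := by
  obtain ⟨W, h, r, rfl⟩ := exists_germA a
  let g : (Opens.map f).obj W ⟶ (Opens.map f).obj W := 𝟙 _
  refine (congrArg (((ptX x).sheafFiber (A := CommRingCat.{u})).map (ringedMap c).invSharp).hom
    (eps_germ c g h r)).trans ?_
  refine Eq.trans ?_ (beta_germ c g h r).symm
  refine ((ptX x).toPresheafFiber_naturality_apply (ringedMap c).invSharp.hom _ (mk h)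
    (invSig (ringedMap c) g r)).trans ?_
  exact congrArg (ModSite.germRing (O := O_X) (ptX x) _ (mk h)) (invSharp_invSig (ringedMap c) g r)

lemma bijective_eps (x : X) : Function.Bijective (eps c x).hom := by
  refine ⟨(injective_iff_map_eq_zero _).2 fun a ha => ?_, fun b => ?_⟩
  · obtain ⟨W, h, r, rfl⟩ := exists_germA a
    rw [eps_germ c (𝟙 _) h r] at ha
    obtain ⟨V, v, hv, -, hr⟩ := exists_rres_eq_of_germRing_eq (ptX x) (mk h) (f' := 0)
      (ha.trans (map_zero ((ptX x).toPresheafFiber _ (mk h) (ringedMap c).invRing.obj).hom).symm)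
    rw [map_zero, rres_invSig_self] at hr
    obtain ⟨S, hS, hS'⟩ := exists_invSig_eq_zero (ringedMap c) (v ≫ 𝟙 _) r hr
    obtain ⟨V', w, hw, hx'⟩ := hS x hv.down.down
    obtain ⟨W', g', k, -, hk⟩ := hS' w hw
    have hy : f x ∈ W' := mem_of_chart g' hx'
    have h1 := germRing_res (O := O_Y) (ptY (f := f) x) k (mk hy) r
    rw [hk] at h1
    exact (h1.symm.trans (map_zero ((ptY (f := f) x).toPresheafFiber W' (mk hy) O_Y.obj).hom) :)
  · obtain ⟨V, hv, b, rfl⟩ := exists_germRing (ptX x) b
    obtain ⟨S, hS, hS'⟩ := exists_invSig (ringedMap c) b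
    obtain ⟨V', w, hw, hx'⟩ := hS x hv.down.down
    obtain ⟨W, g, r, hr⟩ := hS' w hw
    refine ⟨ModSite.germRing (ptY (f := f) x) W (mk (mem_of_chart g hx')) r, ?_⟩
    rw [eps_germ c g hx' r, ← hr]
    exact germRing_res (ptX x) w (mk hx') b

variable (F : ModSite.Mod O_X) (x : X)

/-- The stalk of `F`, over the stalk of the base ring. -/
def Fy (_c : O_Y ⟶ ((Opens.map f).sheafPushforwardContinuous CommRingCat.{u}
    (Opens.grothendieckTopology Y) (Opens.grothendieckTopology X)).obj O_X) : Type u :=
  ModSite.stalkMod (ptX x) F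

noncomputable instance : AddCommGroup (Fy F x c) :=
  inferInstanceAs (AddCommGroup (ModSite.stalkMod (ptX x) F))

noncomputable instance : Module (A (f := f) (O_Y := O_Y) x) (Fy F x c) :=
  Module.compHom (ModSite.stalkMod (ptX x) F) (beta c x).hom

/-- A germ, over the stalk of the base ring. -/
noncomputable def gF {V : Opens X} (hx : x ∈ V) (s : (pre F).obj (op V)) : Fy F x c :=
  grm (ptX x) F V (mk hx) s

lemma gF_add {V : Opens X} (hx : x ∈ V) (s s' : (pre F).obj (op V)) :
    gF c F x hx (s + s') = gF c F x hx s + gF c F x hx s' :=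
  map_add ((ptX x).toPresheafFiber V (mk hx) (ModSite.toAb F).obj).hom s s'

lemma gF_zero {V : Opens X} (hx : x ∈ V) : gF c F x hx (0 : (pre F).obj (op V)) = 0 :=
  grm_zero (ptX x) F V (mk hx)

lemma gF_res {V V' : Opens X} (v : V' ⟶ V) (hx : x ∈ V') (s : (pre F).obj (op V)) :
    gF c F x hx (Mod48.res (pre F) v.op s) = gF c F x (leOfHom v hx) s :=
  germ_res (ptX x) F v (mk hx) s

lemma gF_sig {V : Opens X} {W : Opens Y} (g : V ⟶ (Opens.map f).obj W) (hx : x ∈ V)
    (r : O_Y.obj.obj (op W)) (s : (pre F).obj (op V)) :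
    ModSite.germRing (ptY (f := f) x) W (mk (mem_of_chart g hx)) r • gF c F x hx s =
      gF c F x hx (sig (ringedMap c) g r • s) := by
  refine Eq.trans ?_ (grm_smul (ptX x) F V (mk hx) _ s).symm
  exact congrArg (fun z : ModSite.stalkRing (ptX x) O_X => z • grm (ptX x) F V (mk hx) s) (beta_germ c g hx r)

lemma flat_Fy (hF : @Module.Flat (ModSite.stalkRing (ptX x) (ringedMap c).invRing)
      (ModSite.stalkAb (ptX x) F) _ _
      (Module.compHom (ModSite.stalkAb (ptX x) F)
        (((ptX x).sheafFiber (A := CommRingCat.{u})).map (ringedMap c).invSharp).hom)) :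
    Module.Flat (A (f := f) (O_Y := O_Y) x) (Fy F x c) := by
  let B := ModSite.stalkRing (ptX x) (ringedMap c).invRing
  letI : Algebra (A (f := f) (O_Y := O_Y) x) B := (eps c x).hom.toAlgebra
  letI : Module B (Fy F x c) := Module.compHom (ModSite.stalkAb (ptX x) F)
        (((ptX x).sheafFiber (A := CommRingCat.{u})).map (ringedMap c).invSharp).hom
  haveI : Module.Flat B (Fy F x c) := hF
  haveI : IsScalarTower (A (f := f) (O_Y := O_Y) x) B (Fy F x c) := by
    refine IsScalarTower.of_algebraMap_smul fun a m => ?_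
    exact congrArg (fun z : ModSite.stalkRing (ptX x) O_X => z • (show ModSite.stalkMod (ptX x) F from m))
      (invSharp_eps c x a)
  haveI : Module.Flat (A (f := f) (O_Y := O_Y) x) B := RingHom.Flat.of_bijective (bijective_eps c x)
  exact Module.Flat.trans (A (f := f) (O_Y := O_Y) x) B (Fy F x c)

variable (M : ModSite.Mod O_Y)

/-- The model of `f^*M ⊗ F`. -/
noncomputable abbrev P : Mod48.PreM O_X := pullModel (ringedMap c) (pre M) ⊗ pre F

/-- The target of the evaluation at `x`. -/
abbrev Tgt : Type u := ModSite.stalkMod (ptY (f := f) x) M ⊗[A (f := f) (O_Y := O_Y) x] Fy F x c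

/-- A germ of `M`. -/
noncomputable abbrev gM {W : Opens Y} (hy : f x ∈ W) (m : (pre M).obj (op W)) :
    ModSite.stalkMod (ptY (f := f) x) M := grm (ptY (f := f) x) M W (mk hy) m

/-- Evaluation of a pulled back section against a section of `F`. -/
noncomputable def evOne {V : Opens X} (hx : x ∈ V) {W : Opens Y} (hy : f x ∈ W) (m : (pre M).obj (op W)) :
    O_X.obj.obj (op V) →+ (pre F).obj (op V) →+ Tgt c F x M :=
  AddMonoidHom.mk'
    (fun b => AddMonoidHom.mk' (fun s => gM x M hy m ⊗ₜ gF c F x hx (b • s))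
      (fun s s' => by rw [smul_add, gF_add, TensorProduct.tmul_add]))
    (fun b b' => by
      ext s
      change gM x M hy m ⊗ₜ gF c F x hx ((b + b') • s) = _
      rw [add_smul, gF_add, TensorProduct.tmul_add]
      rfl)

lemma evOne_apply {V : Opens X} (hx : x ∈ V) {W : Opens Y} (hy : f x ∈ W) (m : (pre M).obj (op W))
    (b : O_X.obj.obj (op V)) (s : (pre F).obj (op V)) :
    evOne c F x M hx hy m b s = gM x M hy m ⊗ₜ gF c F x hx (b • s) := rfl

/-- Evaluation of formal sums. -/
noncomputable def evSums {V : Opens X} (hx : x ∈ V) :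
    Sums (ringedMap c) (pre M) V →+ (pre F).obj (op V) →+ Tgt c F x M :=
  Finsupp.liftAddHom fun t => evOne c F x M hx (mem_of_chart t.g hx) t.m

lemma evSums_single {V : Opens X} (hx : x ∈ V) (t : Trip (ringedMap c) (pre M) V) (b : O_X.obj.obj (op V))
    (s : (pre F).obj (op V)) :
    evSums c F x M hx (Finsupp.single t b) s =
      gM x M (mem_of_chart t.g hx) t.m ⊗ₜ gF c F x hx (b • s) := by
  rw [evSums, Finsupp.liftAddHom_apply_single, evOne_apply]

lemma evSums_smul {V : Opens X} (hx : x ∈ V) (ξ : Sums (ringedMap c) (pre M) V) (r : O_X.obj.obj (op V))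
    (s : (pre F).obj (op V)) : evSums c F x M hx (r • ξ) s = evSums c F x M hx ξ (r • s) := by
  induction ξ using Finsupp.induction_linear with
  | zero => simp
  | add a b ha hb => simp only [smul_add, map_add, AddMonoidHom.add_apply, ha, hb]
  | single t b =>
    rw [Finsupp.smul_single, evSums_single, evSums_single, smul_smul, smul_eq_mul, mul_comm]

lemma evSums_sumsRes {V V' : Opens X} (v : V' ⟶ V) (hx : x ∈ V') (ξ : Sums (ringedMap c) (pre M) V)
    (s : (pre F).obj (op V)) :
    evSums c F x M hx (sumsRes _ _ v ξ) (Mod48.res (pre F) v.op s) = evSums c F x M (leOfHom v hx) ξ s := by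
  induction ξ using Finsupp.induction_linear with
  | zero => simp
  | add a b ha hb => simp only [map_add, AddMonoidHom.add_apply, ha, hb]
  | single t b =>
    rw [sumsRes_single, evSums_single, evSums_single]
    refine congrArg (fun z => gM x M (mem_of_chart t.g (leOfHom v hx)) t.m ⊗ₜ z) ?_
    rw [← gF_res c F x v hx, res_smul]

/-- Evaluation of combinations. -/
noncomputable def evComb {V : Opens X} (hx : x ∈ V) {W : Opens Y} (hy : f x ∈ W) :
    Comb (O_C := O_X) (pre M) W V →+ (pre F).obj (op V) →+ Tgt c F x M :=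
  Finsupp.liftAddHom fun m => evOne c F x M hx hy m

lemma evComb_single {V : Opens X} (hx : x ∈ V) {W : Opens Y} (hy : f x ∈ W) (m : (pre M).obj (op W))
    (b : O_X.obj.obj (op V)) (s : (pre F).obj (op V)) :
    evComb c F x M hx hy (Finsupp.single m b) s = gM x M hy m ⊗ₜ gF c F x hx (b • s) := by
  rw [evComb, Finsupp.liftAddHom_apply_single, evOne_apply]

lemma evComb_smul {V : Opens X} (hx : x ∈ V) {W : Opens Y} (hy : f x ∈ W)
    (μ : Comb (O_C := O_X) (pre M) W V) (r : O_X.obj.obj (op V)) (s : (pre F).obj (op V)) :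
    evComb c F x M hx hy (r • μ) s = evComb c F x M hx hy μ (r • s) := by
  induction μ using Finsupp.induction_linear with
  | zero => simp
  | add a b ha hb => simp only [smul_add, map_add, AddMonoidHom.add_apply, ha, hb]
  | single t b =>
    rw [Finsupp.smul_single, evComb_single, evComb_single, smul_smul, smul_eq_mul, mul_comm]

lemma evComb_rels {V : Opens X} (hx : x ∈ V) {W : Opens Y} (g : V ⟶ (Opens.map f).obj W)
    {μ : Comb (O_C := O_X) (pre M) W V} (hμ : μ ∈ rels (ringedMap c) (pre M) g) :
    ∀ s, evComb c F x M hx (mem_of_chart g hx) μ s = 0 := by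
  induction hμ using Submodule.span_induction with
  | zero => intro s; simp
  | add a b _ _ ha hb => intro s; rw [map_add, AddMonoidHom.add_apply, ha s, hb s, add_zero]
  | smul r a _ ha => intro s; rw [evComb_smul]; exact ha _
  | mem a ha =>
    intro s
    obtain ⟨κ, hκ, rfl⟩ := ha
    have h1 : ∀ κ : (pre M).obj (op W) →₀ O_Y.obj.obj (op W),
        evComb c F x M hx (mem_of_chart g hx) (Finsupp.mapRange (sig (ringedMap c) g) (map_zero _) κ) s =
          gM x M (mem_of_chart g hx) (Finsupp.linearCombination (O_Y.obj.obj (op W)) id κ) ⊗ₜ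
            gF c F x hx s := by
      intro κ
      induction κ using Finsupp.induction_linear with
      | zero => rw [map_zero, gM, grm_zero, TensorProduct.zero_tmul]; simp
      | add a b ha hb =>
        rw [Finsupp.mapRange_add (map_add _), map_add, AddMonoidHom.add_apply, ha, hb, map_add,
          ← TensorProduct.add_tmul]
        exact congrArg (· ⊗ₜ gF c F x hx s)
          (map_add ((ptY (f := f) x).toPresheafFiber W (mk (mem_of_chart g hx)) (ModSite.toAb M).obj).hom _ _).symm
      | single m r =>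
        rw [Finsupp.mapRange_single, evComb_single, Finsupp.linearCombination_single, id, gM, gM, grm_smul,
          TensorProduct.smul_tmul, ← gF_sig c F x g hx]
    rw [h1, hκ, gM, grm_zero, TensorProduct.zero_tmul]

lemma evSums_vanAt {V : Opens X} (hx : x ∈ V) {ξ : Sums (ringedMap c) (pre M) V}
    (hξ : VanAt (ringedMap c) (pre M) ξ) (s : (pre F).obj (op V)) : evSums c F x M hx ξ s = 0 := by
  obtain ⟨W, g, n, t, b, h, -, hsum, hmem⟩ := hξ
  refine Eq.trans ?_ (evComb_rels c F x M hx g hmem s)
  rw [hsum, map_sum, map_sum, AddMonoidHom.finsetSum_apply, AddMonoidHom.finsetSum_apply]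
  refine Finset.sum_congr rfl fun j _ => ?_
  rw [evSums_single, evComb_single]
  exact congrArg (· ⊗ₜ gF c F x hx (b j • s))
    (germ_res (ptY (f := f) x) M (h j) (mk (mem_of_chart g hx)) (t j).m).symm

lemma evSums_van {V : Opens X} (hx : x ∈ V) {ξ : Sums (ringedMap c) (pre M) V}
    (hξ : Van (ringedMap c) (pre M) ξ) : evSums c F x M hx ξ = 0 := by
  refine AddMonoidHom.ext fun s => ?_
  obtain ⟨S, hS, hS'⟩ := hξ
  obtain ⟨V', v, hv, hx'⟩ := hS x hx
  rw [← evSums_sumsRes c F x M v hx', evSums_vanAt c F x M hx' (hS' v hv)]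
  rfl

/-- Evaluation of the model. -/
noncomputable def evQuo {V : Opens X} (hx : x ∈ V) :
    Quo (ringedMap c) (pre M) V →+ (pre F).obj (op V) →+ Tgt c F x M :=
  QuotientAddGroup.lift (vanSub (ringedMap c) (pre M) V).toAddSubgroup (evSums c F x M hx)
    fun _ hξ => evSums_van c F x M hx hξ

/-- Evaluation at `x` of the model of `f^*M ⊗ F`. -/
noncomputable def ev {V : Opens X} (hx : x ∈ V) :
    Quo (ringedMap c) (pre M) V ⊗[O_X.obj.obj (op V)] (pre F).obj (op V) →+ Tgt c F x M :=
  TensorProduct.liftAddHom (evQuo c F x M hx) fun r q s => by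
    obtain ⟨ξ, rfl⟩ := Submodule.Quotient.mk_surjective _ q
    exact evSums_smul c F x M hx ξ r s

lemma ev_tp {V : Opens X} (hx : x ∈ V) (ξ : Sums (ringedMap c) (pre M) V) (s : (pre F).obj (op V)) :
    ev c F x M hx (tp (cls (ringedMap c) (pre M) ξ) s : (P c F M).obj (op V)) =
      evSums c F x M hx ξ s := rfl

/-- The stalk of the model. -/
noncomputable abbrev St : AddCommGrpCat.{u} :=
  (ptX x).presheafFiber.obj (P c F M).presheaf

/-- The germ of a tensor. -/
noncomputable def gP {V : Opens X} (hx : x ∈ V) (z : (P c F M).obj (op V)) :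
    St c F x M :=
  ((ptX x).toPresheafFiber V (mk hx) (P c F M).presheaf).hom z

lemma gP_res {V V' : Opens X} (v : V' ⟶ V) (hx : x ∈ V') (z : (P c F M).obj (op V)) :
    gP c F x M hx (Mod48.res (P c F M) v.op z) = gP c F x M (leOfHom v hx) z :=
  (ptX x).toPresheafFiber_w_apply v (mk hx) (P c F M).presheaf z

/-- The germ of a pulled back section against a section. -/
noncomputable def om {W : Opens Y} (hy : f x ∈ W) (m : (pre M).obj (op W)) {V : Opens X} (hx : x ∈ V)
    (s : (pre F).obj (op V)) : St c F x M :=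
  gP c F x M (V := V ⊓ (Opens.map f).obj W) ⟨hx, hy⟩
    (tp (sect₁ (ringedMap c) (pre M) (homOfLE inf_le_right) m) (Mod48.res (pre F) (homOfLE inf_le_left).op s))

lemma om_eq {W : Opens Y} (hy : f x ∈ W) (m : (pre M).obj (op W)) {V V' : Opens X} (v : V' ⟶ V)
    (g : V' ⟶ (Opens.map f).obj W) (hx : x ∈ V') (s : (pre F).obj (op V)) :
    om c F x M hy m (leOfHom v hx) s =
      gP c F x M hx (tp (sect₁ (ringedMap c) (pre M) g m) (Mod48.res (pre F) v.op s)) := by
  let i : V' ⟶ V ⊓ (Opens.map f).obj W := homOfLE (le_inf (leOfHom v) (leOfHom g))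
  refine (gP_res c F x M i hx _).symm.trans (congrArg (gP c F x M hx) ?_)
  refine (res_tp i.op _ _).trans (congrArg₂ tp ?_ ?_)
  · exact (res_sect₁ (ringedMap c) (pre M) i _ m).trans
      (congrArg (fun z => sect₁ (ringedMap c) (pre M) z m) (Subsingleton.elim _ g))
  · exact (res_res (pre F) _ _ s).trans (congrArg (fun z => Mod48.res (pre F) z s) (Subsingleton.elim _ v.op))

lemma gP_add {V : Opens X} (hx : x ∈ V) (z z' : (P c F M).obj (op V)) :
    gP c F x M hx (z + z') = gP c F x M hx z + gP c F x M hx z' :=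
  map_add ((ptX x).toPresheafFiber V (mk hx) (P c F M).presheaf).hom z z'

lemma sect₁_add' {V : Opens X} {W : Opens Y} (g : V ⟶ (Opens.map f).obj W) (m m' : (pre M).obj (op W)) :
    sect₁ (ringedMap c) (pre M) g (m + m') =
      sect₁ (ringedMap c) (pre M) g m + sect₁ (ringedMap c) (pre M) g m' :=
  sect₁_add (ringedMap c) (pre M) g m m'

lemma om_add_right {W : Opens Y} (hy : f x ∈ W) (m : (pre M).obj (op W)) {V : Opens X} (hx : x ∈ V)
    (s s' : (pre F).obj (op V)) :
    om c F x M hy m hx (s + s') = om c F x M hy m hx s + om c F x M hy m hx s' := by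
  rw [om, om, om, ← gP_add, ← tp_add_right, ← res_add]

lemma om_add_left {W : Opens Y} (hy : f x ∈ W) (m m' : (pre M).obj (op W)) {V : Opens X} (hx : x ∈ V)
    (s : (pre F).obj (op V)) :
    om c F x M hy (m + m') hx s = om c F x M hy m hx s + om c F x M hy m' hx s := by
  rw [om, om, om, ← gP_add, ← tp_add_left, ← sect₁_add']

/-- A pulled back germ against the stalk. -/
noncomputable def rebIn {W : Opens Y} (hy : f x ∈ W) (m : (pre M).obj (op W)) :
    ModSite.stalkAb (ptX x) F ⟶ St c F x M :=
  (ptX x).presheafFiberDesc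
    (fun V h => AddCommGrpCat.ofHom (AddMonoidHom.mk' (fun s : (pre F).obj (op V) => om c F x M hy m h.down.down s)
      (om_add_right c F x M hy m h.down.down)))
    (fun V V' v h => by
      ext s
      change om c F x M hy m h.down.down (Mod48.res (pre F) v.op s) = om c F x M hy m (leOfHom v h.down.down) s
      let i : V ⊓ (Opens.map f).obj W ⟶ V := homOfLE inf_le_left
      refine Eq.trans ?_ (om_eq c F x M hy m (i ≫ v) (homOfLE inf_le_right)
        (⟨h.down.down, hy⟩ : x ∈ V ⊓ (Opens.map f).obj W) s).symm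
      refine congrArg (fun z => gP c F x M (V := V ⊓ (Opens.map f).obj W) ⟨h.down.down, hy⟩ (tp _ z)) ?_
      exact res_res (pre F) _ _ s)

lemma rebIn_gF {W : Opens Y} (hy : f x ∈ W) (m : (pre M).obj (op W)) {V : Opens X} (hx : x ∈ V)
    (s : (pre F).obj (op V)) :
    (rebIn c F x M hy m).hom (gF c F x hx s) = om c F x M hy m hx s :=
  ConcreteCategory.congr_hom ((ptX x).toPresheafFiber_presheafFiberDesc (P := (ModSite.toAb F).obj) _ _ V (mk hx)) s

lemma exists_gF (z : Fy F x c) : ∃ (V : Opens X) (hx : x ∈ V) (s : (pre F).obj (op V)), gF c F x hx s = z := by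
  obtain ⟨V, h, s, hs⟩ := exists_germ (ptX x) F z
  exact ⟨V, h.down.down, s, hs⟩

/-- Germs against germs. -/
noncomputable def rebOut :
    ModSite.stalkAb (ptY (f := f) x) M ⟶
      AddCommGrpCat.of (Fy F x c →+ St c F x M) :=
  (ptY (f := f) x).presheafFiberDesc
    (fun W h => AddCommGrpCat.ofHom (AddMonoidHom.mk'
      (fun m : (pre M).obj (op W) => (rebIn c F x M h.down.down m).hom)
      (fun m m' => AddMonoidHom.ext fun z => by
        obtain ⟨V, hx, s, rfl⟩ := exists_gF c F x z
        exact (rebIn_gF c F x M _ _ hx s).trans ((om_add_left c F x M _ m m' hx s).trans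
          (congrArg₂ (· + ·) (rebIn_gF c F x M _ m hx s).symm (rebIn_gF c F x M _ m' hx s).symm)))))
    (fun W W' k h => by
      ext m z
      obtain ⟨V, hx, s, rfl⟩ := exists_gF c F x z
      change (rebIn c F x M h.down.down (Mod48.res (pre M) k.op m)).hom (gF c F x hx s) =
        (rebIn c F x M _ m).hom (gF c F x hx s)
      rw [rebIn_gF, rebIn_gF, om,
        om_eq c F x M _ m (homOfLE inf_le_left) (homOfLE inf_le_right ≫ (Opens.map f).map k) ⟨hx, h.down.down⟩ s,
        sect₁_res]
      rfl)

lemma rebOut_germ {W : Opens Y} (hy : f x ∈ W) (m : (pre M).obj (op W)) (z : Fy F x c) :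
    ((rebOut c F x M).hom (gM x M hy m)) z = (rebIn c F x M hy m).hom z := by
  have h : (rebOut c F x M).hom (gM x M hy m) = (rebIn c F x M hy m).hom :=
    ConcreteCategory.congr_hom
      ((ptY (f := f) x).toPresheafFiber_presheafFiberDesc (P := (ModSite.toAb M).obj) _ _ W (mk hy)) m
  exact DFunLike.congr_fun h z

/-- From the tensor product of stalks to germs of the model. -/
noncomputable def reb : Tgt c F x M →+ St c F x M :=
  TensorProduct.liftAddHom (rebOut c F x M).hom fun a μ z => by
    obtain ⟨W₁, h₁, r, rfl⟩ := exists_germA a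
    obtain ⟨W₂, h₂, m, rfl⟩ := exists_germ (ptY (f := f) x) M μ
    obtain ⟨V, hx, s, rfl⟩ := exists_gF c F x z
    let W := W₁ ⊓ W₂
    have hy : f x ∈ W := ⟨h₁, h₂.down.down⟩
    let V₀ := V ⊓ (Opens.map f).obj W
    let g : V₀ ⟶ (Opens.map f).obj W := homOfLE inf_le_right
    have hr : ModSite.germRing (O := O_Y) (ptY (f := f) x) W₁ (mk h₁) r =
        ModSite.germRing (ptY (f := f) x) W (mk (mem_of_chart g (⟨hx, hy⟩ : x ∈ V₀)))
          (rres (homOfLE (inf_le_left : W ≤ W₁)).op r) :=
      (germRing_res (ptY (f := f) x) (homOfLE inf_le_left) (mk hy) r).symm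
    have hm : grm (ptY (f := f) x) M W₂ h₂ m = gM x M hy (Mod48.res (pre M) (homOfLE (inf_le_right : W ≤ W₂)).op m) :=
      (germ_res (ptY (f := f) x) M (homOfLE inf_le_right) (mk hy) m).symm
    rw [hr, hm, ← gF_res c F x (homOfLE inf_le_left : V₀ ⟶ V) ⟨hx, hy⟩ s, gF_sig c F x g, gM, ← grm_smul]
    refine (rebOut_germ c F x M hy _ _).trans (((rebIn_gF c F x M hy _ _ _).trans ?_).trans
      ((rebIn_gF c F x M hy _ _ _).symm.trans (rebOut_germ c F x M hy _ _).symm))
    rw [om_eq c F x M hy _ (𝟙 V₀) g ⟨hx, hy⟩, om_eq c F x M hy _ (𝟙 V₀) g ⟨hx, hy⟩, op_id, res_id', res_id']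
    rw [sect₁_smul, tp_smul_left, ← tp_smul_right]
where
  res_id' {V : Opens X} (s : (pre F).obj (op V)) : Mod48.res (pre F) (𝟙 (op V)) s = s :=
    congr($((pre F).map_id (op V)) s)

lemma reb_tmul {W : Opens Y} (hy : f x ∈ W) (m : (pre M).obj (op W)) {V : Opens X} (hx : x ∈ V)
    (s : (pre F).obj (op V)) :
    reb c F x M (gM x M hy m ⊗ₜ gF c F x hx s) = om c F x M hy m hx s :=
  (rebOut_germ c F x M hy m _).trans (rebIn_gF c F x M hy m hx s)

lemma reb_evSums {V : Opens X} (hx : x ∈ V) (ξ : Sums (ringedMap c) (pre M) V) (s : (pre F).obj (op V)) :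
    reb c F x M (evSums c F x M hx ξ s) =
      gP c F x M hx (tp (cls (ringedMap c) (pre M) ξ) s) := by
  induction ξ using Finsupp.induction_linear with
  | zero =>
    rw [map_zero, AddMonoidHom.zero_apply, map_zero, map_zero]
    exact ((congrArg (gP c F x M hx) (TensorProduct.zero_tmul _ s)).trans (map_zero _)).symm
  | add a b ha hb =>
    rw [map_add, AddMonoidHom.add_apply, map_add, ha, hb, map_add, tp_add_left, gP_add]
  | single t b =>
    rw [evSums_single, reb_tmul, cls_single, tp_smul_left, ← tp_smul_right,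
      om_eq c F x M _ _ (𝟙 V) t.g hx]
    refine congrArg (gP c F x M hx) (congrArg (tp _) ?_)
    exact congr($((pre F).map_id (op V)) (b • s))

end Groth.Agent.Mod48.FlatOver
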