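import Groth.Agent.Mod48.ClosedImmBasic
import Mathlib.Topology.Sheaves.SheafCondition.UniqueGluing

/-!
The essential image of the direct image along a closed immersion of ringed spaces.
-/

set_option backward.isDefEq.respectTransparency.types false

universe u

open CategoryTheory CategoryTheory.Limits Opposite TopologicalSpace

namespace Groth.Agent.Mod48.ClosedImm

open SiteMod

section General

variable {T : TopCat.{u}} {O : Sheaf (Opens.grothendieckTopology T) CommRingCat.{u}}

lemma glue (G : ModSite.Mod O) {ι : Type u} (U : ι → Opens T) {W : Opens T} (hle : ∀ j, U j ≤ W)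
    (hc : ∀ x ∈ W, ∃ j, x ∈ U j) (s : ∀ j, (pre G).obj (op (U j)))
    (compat : ∀ j k, rs G (inf_le_left : U j ⊓ U k ≤ U j) (s j) = rs G inf_le_right (s k)) :
    ∃ t, ∀ j, rs G (hle j) t = s j := by
  let s' : ∀ j, ToType ((ModSite.toAb G).obj.obj (op (U j))) := fun j => s j
  have compat' : TopCat.Presheaf.IsCompatible ((ModSite.toAb G).obj : TopCat.Presheaf AddCommGrpCat.{u} T) U s' :=
    fun j k => compat j k
  obtain ⟨t, ht, -⟩ := TopCat.Sheaf.existsUnique_gluing' (F := (ModSite.toAb G : TopCat.Sheaf AddCommGrpCat.{u} T))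
    U W (fun j => homOfLE (hle j)) (fun x hx => Opens.mem_iSup.2 (hc x hx)) s' compat'
  exact ⟨t, ht⟩

lemma empty_subsingleton (G : ModSite.Mod O) {W : Opens T} (hW : ∀ x, x ∉ W) :
    Subsingleton ((pre G).obj (op W)) :=
  ⟨sections_subsingleton_of_eq_bot G hW⟩

lemma fun_subsingleton {W : Opens T} (hW : ∀ x, x ∉ W) (a b : O.obj.obj (op W)) : a = b :=
  sections_subsingleton_of_eq_bot (ModSite.unit O) hW a b

end General

variable {Z X : TopCat.{u}} {i : Z ⟶ X} {O_Z : TopCat.Sheaf CommRingCat.{u} Z}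
  {O_X : TopCat.Sheaf CommRingCat.{u} X}
  {c : O_X ⟶ ((TopologicalSpace.Opens.map i).sheafPushforwardContinuous CommRingCat.{u}
    (Opens.grothendieckTopology X) (Opens.grothendieckTopology Z)).obj O_Z}
  (hi : Topology.IsClosedEmbedding i) (hc : Sheaf.IsLocallySurjective c) (G : ModSite.Mod O_X)
  (hG : ∀ (U : Opens X) (b : O_X.obj.obj (op U)), cr i c U b = 0 → ∀ s : (pre G).obj (op U), b • s = 0)

/-- The complement of the image. -/
def U₀ : Opens X := ⟨(Set.range i)ᶜ, hi.isClosed_range.isOpen_compl⟩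

lemma not_mem_pre {U : Opens X} (hU : U ≤ U₀ hi) (z : Z) : z ∉ (Opens.map i).obj U := fun hz => hU hz ⟨z, rfl⟩

include hG in
lemma eq_zero {U : Opens X} (hU : U ≤ U₀ hi) (s : (pre G).obj (op U)) : s = 0 := by
  refine (one_smul (O_X.obj.obj (op U)) s).symm.trans ?_
  exact hG U 1 (fun_subsingleton (not_mem_pre hi hU) _ _) s

include hG in
lemma smul_congr {U : Opens X} {b b' : O_X.obj.obj (op U)} (h : cr i c U b = cr i c U b')
    (s : (pre G).obj (op U)) : b • s = b' • s := by
  have := hG U (b - b') ((map_sub _ _ _).trans (sub_eq_zero.2 h)) s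
  rwa [sub_smul, sub_eq_zero] at this

include hi hG in
lemma res_injective {U U' : Opens X} (h : U ≤ U') (hpre : (Opens.map i).obj U' ≤ (Opens.map i).obj U)
    {s t : (pre G).obj (op U')} (e : rs G h s = rs G h t) : s = t := by
  refine ext_cover fun y hy => ?_
  by_cases hyr : y ∈ Set.range i
  · obtain ⟨z, rfl⟩ := hyr
    exact ⟨U, h, hpre hy, e⟩
  · exact ⟨U' ⊓ U₀ hi, inf_le_left, ⟨hy, hyr⟩,
      (eq_zero hi G hG inf_le_right _).trans (eq_zero hi G hG inf_le_right _).symm⟩

include hi hG in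
lemma res_surjective {U U' : Opens X} (h : U ≤ U') (hpre : (Opens.map i).obj U' ≤ (Opens.map i).obj U)
    (s : (pre G).obj (op U)) : ∃ t : (pre G).obj (op U'), rs G h t = s := by
  let V : ULift.{u} Bool → Opens X := fun j => bif j.down then U else U' ⊓ U₀ hi
  let σ : ∀ j, (pre G).obj (op (V j)) := fun j => match j with
    | ⟨true⟩ => s
    | ⟨false⟩ => 0
  obtain ⟨t, ht⟩ := glue G V (W := U')
    (fun j => by rcases j with ⟨_ | _⟩; exacts [inf_le_left, h])
    (fun y hy => by
      by_cases hyr : y ∈ Set.range i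
      · obtain ⟨z, rfl⟩ := hyr
        exact ⟨⟨true⟩, hpre hy⟩
      · exact ⟨⟨false⟩, hy, hyr⟩)
    σ (by
      rintro ⟨_ | _⟩ ⟨_ | _⟩
      · rfl
      · exact (eq_zero hi G hG (inf_le_left.trans inf_le_right) _).trans
          (eq_zero hi G hG (inf_le_left.trans inf_le_right) _).symm
      · exact (eq_zero hi G hG (inf_le_right.trans inf_le_right) _).trans
          (eq_zero hi G hG (inf_le_right.trans inf_le_right) _).symm
      · rfl)
  exact ⟨t, ht ⟨true⟩⟩

/-- `t` is the product of `s` by the function `a` on the preimage. -/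
def IsAct (c : O_X ⟶ ((TopologicalSpace.Opens.map i).sheafPushforwardContinuous CommRingCat.{u}
      (Opens.grothendieckTopology X) (Opens.grothendieckTopology Z)).obj O_Z)
    {W : Opens Z} (a : O_Z.obj.obj (op W)) (s t : (pre G).obj (op (Umax hi W))) : Prop :=
  ∀ (U : Opens X) (h : U ≤ Umax hi W) (b : O_X.obj.obj (op U)),
    cr i c U b = rr O_Z (pre_le hi h) a → rs G h t = b • rs G h s

include hc in
lemma exists_lift_Umax {W : Opens Z} (a : O_Z.obj.obj (op W)) {y : X} (hy : y ∈ Umax hi W) :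
    ∃ (U : Opens X) (h : U ≤ Umax hi W), y ∈ U ∧ ∃ b, cr i c U b = rr O_Z (pre_le hi h) a := by
  by_cases hyr : y ∈ Set.range i
  · obtain ⟨V, hV, hyV, b, hb⟩ := exists_lift i c hc (rr O_Z (pre_Umax_le hi W) a) hy
    refine ⟨V, hV, hyV, b, hb.trans ?_⟩
    exact rres_rres _ _ a
  · exact ⟨Umax hi W ⊓ U₀ hi, inf_le_left, ⟨hy, hyr⟩, 0, fun_subsingleton (not_mem_pre hi inf_le_right) _ _⟩

include hc hG in
lemma exists_act {W : Opens Z} (a : O_Z.obj.obj (op W)) (s : (pre G).obj (op (Umax hi W))) :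
    ∃ t, IsAct hi G c a s t := by
  let ι := { p : Σ U : Opens X, O_X.obj.obj (op U) //
    ∃ h : p.1 ≤ Umax hi W, cr i c p.1 p.2 = rr O_Z (pre_le hi h) a }
  obtain ⟨t, ht⟩ := glue G (fun p : ι => p.1.1) (W := Umax hi W) (fun p => p.2.1)
    (fun y hy => by
      obtain ⟨U, h, hyU, b, hb⟩ := exists_lift_Umax hi hc a hy
      exact ⟨⟨⟨U, b⟩, h, hb⟩, hyU⟩)
    (fun p => p.1.2 • rs G p.2.1 s)
    (fun p q => by
      rw [rs_smul, rs_smul, rs_rs, rs_rs]
      refine smul_congr G hG ?_ _
      rw [cr_rr, cr_rr, p.2.2, q.2.2]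
      rw [rres_rres, rres_rres]
      rfl)
  exact ⟨t, fun U h b hb => ht ⟨⟨U, b⟩, h, hb⟩⟩

include hc in
lemma act_ext {W : Opens Z} (a a' : O_Z.obj.obj (op W)) {t t' : (pre G).obj (op (Umax hi W))}
    (h : ∀ (U : Opens X) (hU : U ≤ Umax hi W) (b b' : O_X.obj.obj (op U)),
      cr i c U b = rr O_Z (pre_le hi hU) a → cr i c U b' = rr O_Z (pre_le hi hU) a' →
        rs G hU t = rs G hU t') : t = t' := by
  refine ext_cover fun y hy => ?_
  obtain ⟨U, hU, hyU, b, hb⟩ := exists_lift_Umax hi hc a hy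
  obtain ⟨U', hU', hyU', b', hb'⟩ := exists_lift_Umax hi hc a' hy
  refine ⟨U ⊓ U', inf_le_left.trans hU, ⟨hyU, hyU'⟩,
    h _ (inf_le_left.trans hU) (rr O_X inf_le_left b) (rr O_X inf_le_right b') ?_ ?_⟩
  · exact (cr_rr i c _ b).trans ((congrArg _ hb).trans (rres_rres _ _ a))
  · exact (cr_rr i c _ b').trans ((congrArg _ hb').trans (rres_rres _ _ a'))

/-- The action of functions on the preimage. -/
noncomputable def act {W : Opens Z} (a : O_Z.obj.obj (op W)) (s : (pre G).obj (op (Umax hi W))) :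
    (pre G).obj (op (Umax hi W)) :=
  (exists_act hi hc G hG a s).choose

lemma act_spec {W : Opens Z} (a : O_Z.obj.obj (op W)) (s : (pre G).obj (op (Umax hi W)))
    (U : Opens X) (h : U ≤ Umax hi W) (b : O_X.obj.obj (op U)) (hb : cr i c U b = rr O_Z (pre_le hi h) a) :
    rs G h (act hi hc G hG a s) = b • rs G h s :=
  (exists_act hi hc G hG a s).choose_spec U h b hb

lemma Umax_mono {W' W : Opens Z} (h : W' ≤ W) : Umax hi W' ≤ Umax hi W :=
  le_Umax hi ((pre_Umax_le hi W').trans h)

lemma act_res {W' W : Opens Z} (h : W' ≤ W) (a : O_Z.obj.obj (op W)) (s : (pre G).obj (op (Umax hi W))) :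
    rs G (Umax_mono hi h) (act hi hc G hG a s) = act hi hc G hG (rr O_Z h a) (rs G (Umax_mono hi h) s) := by
  refine act_ext hi hc G (rr O_Z h a) (rr O_Z h a) fun U hU b b' hb _ => ?_
  rw [act_spec hi hc G hG (rr O_Z h a) _ U hU b hb, rs_rs, rs_rs]
  exact act_spec hi hc G hG a s U _ b (hb.trans (rres_rres _ _ a))

/-- The underlying abelian presheaf. -/
noncomputable def imgAb : (Opens Z)ᵒᵖ ⥤ AddCommGrpCat.{u} where
  obj W := (ModSite.toAb G).obj.obj (op (Umax hi W.unop))
  map g := (ModSite.toAb G).obj.map (homOfLE (Umax_mono hi (leOfHom g.unop))).op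
  map_id _ := (ModSite.toAb G).obj.map_id _
  map_comp _ _ := (ModSite.toAb G).obj.map_comp _ _

/-- The module structure on the sections. -/
@[implicit_reducible]
noncomputable def imgModule (W : (Opens Z)ᵒᵖ) :
    Module ((ModSite.ringSh O_Z).obj.obj W) ((imgAb hi G).obj W) where
  smul a s := act hi hc G hG (W := W.unop) a s
  one_smul s := by
    have h := act_spec hi hc G hG (W := W.unop) 1 s _ le_rfl 1 ((map_one _).trans (map_one _).symm)
    rw [rs_rfl, rs_rfl, one_smul] at h
    exact h
  zero_smul s := by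
    have h := act_spec hi hc G hG (W := W.unop) 0 s _ le_rfl 0 ((map_zero _).trans (map_zero _).symm)
    rw [rs_rfl, rs_rfl, zero_smul] at h
    exact h
  mul_smul a a' s := by
    change act hi hc G hG (W := W.unop) (a * a') s = act hi hc G hG a (act hi hc G hG a' s)
    refine act_ext hi hc G a a' fun U hU b b' hb hb' => ?_
    rw [act_spec hi hc G hG a _ U hU b hb, act_spec hi hc G hG a' s U hU b' hb', ← mul_smul]
    exact act_spec hi hc G hG _ s U hU (b * b')
      ((map_mul _ _ _).trans ((congrArg₂ _ hb hb').trans (map_mul _ _ _).symm))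
  add_smul a a' s := by
    change act hi hc G hG (W := W.unop) (a + a') s = act hi hc G hG a s + act hi hc G hG a' s
    refine act_ext hi hc G a a' fun U hU b b' hb hb' => ?_
    refine Eq.trans ?_ (res_add _ _ _ _).symm
    refine ((act_spec hi hc G hG _ s U hU (b + b')
      ((map_add _ _ _).trans ((congrArg₂ _ hb hb').trans (map_add _ _ _).symm))).trans (add_smul b b' _)).trans ?_
    exact (congrArg₂ (· + ·) (act_spec hi hc G hG a s U hU b hb) (act_spec hi hc G hG a' s U hU b' hb')).symm
  smul_add a s t := by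
    change act hi hc G hG (W := W.unop) a (show (pre G).obj (op (Umax hi W.unop)) from s + t) =
      (act hi hc G hG a s + act hi hc G hG a t : (pre G).obj (op (Umax hi W.unop)))
    refine act_ext hi hc G (W := W.unop) a a fun U hU b b' hb _ => ?_
    refine (act_spec hi hc G hG a _ U hU b hb).trans ?_
    refine Eq.trans ?_ (res_add _ _ _ _).symm
    refine ((congrArg (b • ·) (res_add _ _ _ _)).trans (smul_add b _ _)).trans ?_
    exact (congrArg₂ (· + ·) (act_spec hi hc G hG a s U hU b hb) (act_spec hi hc G hG a t U hU b hb)).symm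
  smul_zero a := by
    change act hi hc G hG (W := W.unop) a (0 : (pre G).obj (op (Umax hi W.unop))) = 0
    refine act_ext hi hc G a a fun U hU b b' hb _ => ?_
    rw [act_spec hi hc G hG a _ U hU b hb]
    have h0 : rs G hU (0 : (pre G).obj (op (Umax hi W.unop))) = 0 := map_zero _
    rw [h0, smul_zero]

/-- The presheaf of modules on the source. -/
noncomputable def imgPre : PresheafOfModules.{u} (ModSite.ringSh O_Z).obj :=
  letI := imgModule hi hc G hG
  PresheafOfModules.ofPresheaf (imgAb hi G) fun _ _ g r m => act_res hi hc G hG (leOfHom g.unop) r m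

include hG in
theorem img_isSheaf :
    Presheaf.IsSheaf (Opens.grothendieckTopology Z) (imgAb hi G) := by
  refine (TopCat.Presheaf.isSheaf_iff_isSheafUniqueGluing (imgAb hi G : TopCat.Presheaf AddCommGrpCat.{u} Z)).2 ?_
  intro ι W sf hsf
  let V : Option ι → Opens X := fun j => j.elim (U₀ hi) (fun j => Umax hi (W j))
  let σ : ∀ j, (pre G).obj (op (V j)) := fun j => match j with
    | none => 0
    | some j => sf j
  have hV : ∀ j, V j ≤ Umax hi (iSup W) := by
    rintro (_ | j)
    · exact fun y hy => (mem_Umax hi).2 fun z hz => absurd ⟨z, hz⟩ hy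
    · exact Umax_mono hi (le_iSup W j)
  have hcov : ∀ y ∈ Umax hi (iSup W), ∃ j, y ∈ V j := by
    intro y hy
    by_cases hyr : y ∈ Set.range i
    · obtain ⟨z, rfl⟩ := hyr
      obtain ⟨j, hj⟩ := Opens.mem_iSup.1 ((mem_Umax hi).1 hy z rfl)
      exact ⟨some j, le_pre_Umax hi (W j) hj⟩
    · exact ⟨none, hyr⟩
  obtain ⟨t, ht⟩ := glue G V hV hcov σ (by
    rintro (_ | j) (_ | k)
    · rfl
    · exact (eq_zero hi G hG inf_le_left _).trans (eq_zero hi G hG inf_le_left _).symm
    · exact (eq_zero hi G hG inf_le_right _).trans (eq_zero hi G hG inf_le_right _).symm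
    · have hle : V (some j) ⊓ V (some k) ≤ Umax hi (W j ⊓ W k) := fun y hy =>
        (mem_Umax hi).2 fun z hz => ⟨(mem_Umax hi).1 hy.1 z hz, (mem_Umax hi).1 hy.2 z hz⟩
      have h := congrArg (rs G hle) (hsf j k)
      exact (rs_rs G (Umax_mono hi inf_le_left) hle (sf j)).symm.trans
        (h.trans (rs_rs G (Umax_mono hi inf_le_right) hle (sf k))))
  refine ⟨t, fun j => ht (some j), fun t' ht' => ?_⟩
  refine ext_cover (G := G) fun y hy => ?_
  obtain ⟨j, hj⟩ := hcov y hy
  refine ⟨V j, hV j, hj, ?_⟩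
  rcases j with _ | j
  · exact (eq_zero hi G hG le_rfl _).trans (eq_zero hi G hG le_rfl _).symm
  · exact (ht' j).trans (ht (some j)).symm

/-- The module on the source. -/
noncomputable def img : ModSite.Mod O_Z where
  val := imgPre hi hc G hG
  isSheaf := img_isSheaf hi G hG

include hi in
lemma le_Umax_pre (U : Opens X) : U ≤ Umax hi ((Opens.map i).obj U) := le_Umax hi le_rfl

/-- A section of the direct image of `img` as a section over the largest open. -/
abbrev ofImg (U : (Opens X)ᵒᵖ) (t : (pre ((P i c).obj (img hi hc G hG))).obj U) :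
    (pre G).obj (op (Umax hi ((Opens.map i).obj U.unop))) := t

/-- Restriction from the largest open, on sections. -/
noncomputable def cmpMap (U : (Opens X)ᵒᵖ) :
    (pre ((P i c).obj (img hi hc G hG))).obj U →ₗ[O_X.obj.obj U] (pre G).obj U where
  toFun t := rs G (le_Umax_pre hi U.unop) (ofImg hi hc G hG U t)
  map_add' _ _ := res_add _ _ _ _
  map_smul' b t := act_spec hi hc G hG (cr i c U.unop b) (ofImg hi hc G hG U t) U.unop
    (le_Umax_pre hi U.unop) b (congr($(O_Z.obj.map_id (op ((Opens.map i).obj U.unop))) (cr i c U.unop b))).symm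

/-- Restriction from the largest open is bijective. -/
noncomputable def cmpEquiv (U : (Opens X)ᵒᵖ) :
    (pre ((P i c).obj (img hi hc G hG))).obj U ≃ₗ[O_X.obj.obj U] (pre G).obj U :=
  LinearEquiv.ofBijective (cmpMap hi hc G hG U)
    ⟨fun _ _ e => res_injective hi G hG _ (pre_Umax_le hi _) e,
      fun s => res_surjective hi G hG _ (pre_Umax_le hi _) s⟩

/-- The module is the direct image of the one constructed. -/
noncomputable def pushImgIso : (P i c).obj (img hi hc G hG) ≅ G :=
  (SheafOfModules.fullyFaithfulForget _).preimageIso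
    (PresheafOfModules.isoMk (fun U => (cmpEquiv hi hc G hG U).toModuleIso)
      (fun U V g => ModuleCat.hom_ext (LinearMap.ext fun t => by
        exact (rs_rs G (Umax_mono hi (map_le i (leOfHom g.unop))) (le_Umax_pre hi V.unop) (ofImg hi hc G hG U t)).trans
          (rs_rs G (le_Umax_pre hi U.unop) (leOfHom g.unop) (ofImg hi hc G hG U t)).symm)))

end Groth.Agent.Mod48.ClosedImm
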