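import Mathlib.CategoryTheory.Abelian.RightDerived
import Mathlib.CategoryTheory.Abelian.Exact
import Mathlib.Algebra.Homology.HomologySequenceLemmas
import Mathlib.Algebra.Homology.HomologicalComplexAbelian

/-!
A functorial left exact sequence of functors which is short exact on injectives, and the derived functors.
-/

universe v u

open CategoryTheory CategoryTheory.Limits

set_option backward.isDefEq.respectTransparency false

namespace Groth.Agent.Mod48

variable {A : Type u} [Category.{v} A] [Abelian A] [HasInjectiveResolutions A]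
  {F₁ F₃ : A ⥤ A} [F₁.Additive] [F₃.Additive] (ι : F₁ ⟶ 𝟭 A) (η : 𝟭 A ⟶ F₃)
  (w : ∀ X, ι.app X ≫ η.app X = 0)

/-- The short complex of complexes attached to a resolution. -/
noncomputable def sesCx {X : A} (R : InjectiveResolution X) :
    ShortComplex (CochainComplex A ℕ) :=
  ShortComplex.mk ((NatTrans.mapHomologicalComplex ι (ComplexShape.up ℕ)).app R.cocomplex)
    ((NatTrans.mapHomologicalComplex η (ComplexShape.up ℕ)).app R.cocomplex)
    (HomologicalComplex.hom_ext _ _ fun n => w _)

/-- The morphism attached to a map of resolutions. -/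
noncomputable def sesCxMap {X Y : A} {R : InjectiveResolution X} {R' : InjectiveResolution Y}
    (φ : R.cocomplex ⟶ R'.cocomplex) : sesCx ι η w R ⟶ sesCx ι η w R' where
  τ₁ := (F₁.mapHomologicalComplex _).map φ
  τ₂ := ((𝟭 A).mapHomologicalComplex _).map φ
  τ₃ := (F₃.mapHomologicalComplex _).map φ
  comm₁₂ := (NatTrans.mapHomologicalComplex ι (ComplexShape.up ℕ)).naturality φ
  comm₂₃ := (NatTrans.mapHomologicalComplex η (ComplexShape.up ℕ)).naturality φ

variable (hSE : ∀ I : A, Injective I → (ShortComplex.mk (ι.app I) (η.app I) (w I)).ShortExact)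

include hSE in
lemma sesCx_shortExact {X : A} (R : InjectiveResolution X) : (sesCx ι η w R).ShortExact :=
  HomologicalComplex.shortExact_of_degreewise_shortExact _ fun n => hSE _ (R.injective n)

lemma isZero_homology_id {X : A} (R : InjectiveResolution X) (n : ℕ) :
    IsZero ((sesCx ι η w R).X₂.homology (n + 1)) :=
  ((HomologicalComplex.exactAt_iff_isZero_homology _ _).1 ((R.cocomplex_exactAt_succ n).map (𝟭 A)))

/-- The connecting morphism at an object. -/
noncomputable def sesδObj {X : A} (R : InjectiveResolution X) (n : ℕ) :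
    (F₃.rightDerived n).obj X ⟶ (F₁.rightDerived (n + 1)).obj X :=
  (R.isoRightDerivedObj F₃ n).hom ≫ (sesCx_shortExact ι η w hSE R).δ n (n + 1) rfl ≫
    (R.isoRightDerivedObj F₁ (n + 1)).inv

/-- The connecting morphism. -/
noncomputable def sesδ (n : ℕ) : F₃.rightDerived n ⟶ F₁.rightDerived (n + 1) where
  app X := sesδObj ι η w hSE (injectiveResolution X) n
  naturality X Y f := by
    let φ := InjectiveResolution.desc f (injectiveResolution Y) (injectiveResolution X)
    have comm : (injectiveResolution X).ι.f 0 ≫ φ.f 0 = f ≫ (injectiveResolution Y).ι.f 0 :=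
      InjectiveResolution.desc_commutes_zero f _ _
    simp only [sesδObj, Category.assoc]
    rw [InjectiveResolution.isoRightDerivedObj_hom_naturality_assoc f (injectiveResolution X)
      (injectiveResolution Y) φ comm]
    refine whisker_eq _ ?_
    have h := HomologicalComplex.HomologySequence.δ_naturality (sesCxMap ι η w φ)
      (sesCx_shortExact ι η w hSE (injectiveResolution X))
      (sesCx_shortExact ι η w hSE (injectiveResolution Y)) n (n + 1) rfl
    refine ((reassoc_of% h) _).symm.trans ?_
    refine whisker_eq _ ?_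
    exact (InjectiveResolution.isoRightDerivedObj_inv_naturality f (injectiveResolution X)
      (injectiveResolution Y) φ comm F₁ (n + 1)).symm

include hSE in
lemma isIso_sesδ (n : ℕ) : IsIso (sesδ ι η w hSE (n + 1)) := by
  rw [NatTrans.isIso_iff_isIso_app]
  intro X
  let R := injectiveResolution X
  have h : IsIso ((sesCx_shortExact ι η w hSE R).δ (n + 1) (n + 1 + 1) rfl) :=
    (sesCx_shortExact ι η w hSE R).isIso_δ _ _ _ (isZero_homology_id ι η w R n) (isZero_homology_id ι η w R (n + 1))
  change IsIso ((R.isoRightDerivedObj F₃ (n + 1)).hom ≫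
    (sesCx_shortExact ι η w hSE R).δ (n + 1) (n + 1 + 1) rfl ≫ (R.isoRightDerivedObj F₁ (n + 1 + 1)).inv)
  infer_instance

/-- Degree zero cohomology of a resolution after a functor, from the object. -/
noncomputable def zeroAug (F : A ⥤ A) [F.Additive] {X : A} (R : InjectiveResolution X) :
    F.obj X ⟶ ((F.mapHomologicalComplex (ComplexShape.up ℕ)).obj R.cocomplex).homology 0 :=
  F.toRightDerivedZero.app X ≫ (R.isoRightDerivedObj F 0).hom

lemma zeroAug_eq (F : A ⥤ A) [F.Additive] {X : A} (R : InjectiveResolution X) :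
    zeroAug F R = R.toRightDerivedZero' F ≫
      HomologicalComplex.homologyπ ((F.mapHomologicalComplex (ComplexShape.up ℕ)).obj R.cocomplex) 0 := by
  rw [zeroAug, R.toRightDerivedZero_eq F]
  simp

lemma zeroAug_comp {X : A} (R : InjectiveResolution X) :
    zeroAug (𝟭 A) R ≫ HomologicalComplex.homologyMap (sesCx ι η w R).g 0 = η.app X ≫ zeroAug F₃ R := by
  rw [zeroAug_eq, zeroAug_eq]
  have h : R.toRightDerivedZero' (𝟭 A) ≫ HomologicalComplex.cyclesMap (sesCx ι η w R).g 0 =
      η.app X ≫ R.toRightDerivedZero' F₃ := by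
    rw [← cancel_mono (HomologicalComplex.iCycles _ 0), Category.assoc, HomologicalComplex.cyclesMap_i,
      Category.assoc]
    erw [InjectiveResolution.toRightDerivedZero'_comp_iCycles_assoc]
    refine Eq.trans ?_ (whisker_eq (η.app X) (R.toRightDerivedZero'_comp_iCycles F₃)).symm
    exact η.naturality (R.ι.f 0)
  refine (Category.assoc _ _ _).trans ?_
  refine (whisker_eq _ (HomologicalComplex.homologyπ_naturality (sesCx ι η w R).g 0)).trans ?_
  rw [reassoc_of% h]
  rfl

variable [PreservesFiniteLimits F₃]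

/-- The map onto the first derived functor. -/
noncomputable def sesδ₀ : F₃ ⟶ F₁.rightDerived 1 :=
  F₃.toRightDerivedZero ≫ sesδ ι η w hSE 0

lemma sesδ₀_app (X : A) :
    (sesδ₀ ι η w hSE).app X = zeroAug F₃ (injectiveResolution X) ≫
      (sesCx_shortExact ι η w hSE (injectiveResolution X)).δ 0 1 rfl ≫
        ((injectiveResolution X).isoRightDerivedObj F₁ 1).inv := by
  change F₃.toRightDerivedZero.app X ≫ sesδObj ι η w hSE (injectiveResolution X) 0 = _
  simp only [sesδObj, zeroAug, Category.assoc]
  rfl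

lemma comp_sesδ₀ : η ≫ sesδ₀ ι η w hSE = 0 := by
  ext X
  rw [NatTrans.comp_app, sesδ₀_app, ← Category.assoc, ← zeroAug_comp ι η w, Category.assoc,
    (sesCx_shortExact ι η w hSE _).comp_δ_assoc]
  simp

lemma exact_sesδ₀_app (X : A) :
    (ShortComplex.mk (η.app X) ((sesδ₀ ι η w hSE).app X)
      (congr_app (comp_sesδ₀ ι η w hSE) X)).Exact ∧ Epi ((sesδ₀ ι η w hSE).app X) := by
  let R := injectiveResolution X
  have hS := sesCx_shortExact ι η w hSE R
  have : IsIso (zeroAug (𝟭 A) R) := by unfold zeroAug; infer_instance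
  have : IsIso (zeroAug F₃ R) := by unfold zeroAug; infer_instance
  have hepi : Epi (hS.δ 0 1 rfl) := hS.epi_δ 0 1 rfl (isZero_homology_id ι η w R 0)
  refine ⟨ShortComplex.exact_of_iso ?_ (hS.homology_exact₃ 0 1 rfl), ?_⟩
  · refine ShortComplex.isoMk (asIso (zeroAug (𝟭 A) R)).symm (asIso (zeroAug F₃ R)).symm
      (R.isoRightDerivedObj F₁ 1).symm ?_ ?_
    · rw [Iso.symm_hom, Iso.symm_hom, asIso_inv, asIso_inv, IsIso.inv_comp_eq, ← Category.assoc,
        IsIso.eq_comp_inv]
      exact (zeroAug_comp ι η w R).symm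
    · rw [Iso.symm_hom, Iso.symm_hom, asIso_inv]
      refine ((IsIso.inv_comp_eq _).2 ?_)
      exact sesδ₀_app ι η w hSE X
  · rw [sesδ₀_app]
    exact @epi_comp _ _ _ _ _ _ _ _ (@epi_comp _ _ _ _ _ _ hepi _ _)

/-- The first derived functor is the cokernel of `η`. -/
noncomputable def sesCokernelIso : F₁.rightDerived 1 ≅ cokernel η :=
  have hepi : Epi (sesδ₀ ι η w hSE) := by
    have : ∀ X, Epi ((sesδ₀ ι η w hSE).app X) := fun X => (exact_sesδ₀_app ι η w hSE X).2
    exact NatTrans.epi_of_epi_app _
  have hlim : IsColimit (CokernelCofork.ofπ (sesδ₀ ι η w hSE) (comp_sesδ₀ ι η w hSE)) :=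
    CokernelCofork.IsColimit.ofπ' _ _ fun {T} k hk =>
      have : ∀ X, Epi ((sesδ₀ ι η w hSE).app X) := fun X => (exact_sesδ₀_app ι η w hSE X).2
      have hfac : ∀ X, (sesδ₀ ι η w hSE).app X ≫
          (exact_sesδ₀_app ι η w hSE X).1.desc (k.app X) (congr_app hk X) = k.app X :=
        fun X => (exact_sesδ₀_app ι η w hSE X).1.g_desc (k.app X) (congr_app hk X)
      ⟨{ app := fun X => (exact_sesδ₀_app ι η w hSE X).1.desc (k.app X) (congr_app hk X)
         naturality := fun X Y f => by
           rw [← cancel_epi ((sesδ₀ ι η w hSE).app X), reassoc_of% (hfac X)]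
           rw [← (sesδ₀ ι η w hSE).naturality_assoc f, hfac Y, k.naturality] },
        by ext X; exact hfac X⟩
  (hlim.coconePointUniqueUpToIso (colimit.isColimit _) :)

end Groth.Agent.Mod48
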