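import Groth.Agent.Mod48.LocalCohIso
import Groth.Agent.Mod48.DerivedSES
import Groth.Agent.SiteMod.ExtZero

/-!
Local cohomology for a subterminal object.
-/

universe u

open CategoryTheory CategoryTheory.Limits Opposite

attribute [local instance] HasDerivedCategory.standard

namespace Groth.Agent.Mod48

variable {C : Type u} [SmallCategory C] {J : GrothendieckTopology C} {O : Sheaf J CommRingCat.{u}}

open SGA45.ExtByZero in
/-- The counit of extension by zero is a monomorphism when `U` is subterminal. -/
lemma mono_extZero_counit (U : C) (hU : ∀ V : C, Subsingleton (V ⟶ U)) (F : ModSite.Mod O) :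
    Mono ((ModSite.extZeroAdj O U).counit.app F) := by
  let R := (ModSite.ringSh O).obj
  let A := ModSite.ringSh O
  let sA := shAdj (X := U) A
  let adj₀ := SGA45.ExtByZero.adj (X := U) (R := R)
  let sh := PresheafOfModules.sheafification.{u} (R₀ := R) (𝟙 R)
  let shA := PresheafOfModules.sheafificationAdjunction.{u} (R₀ := R) (𝟙 R)
  let c₀ : (ext U R).obj ((SGA45.ExtByZero.res U R).obj F.val) ⟶ F.val :=
    adj₀.counit.app F.val
  have hc₀ : ∀ W, Function.Injective (c₀.app W) := by
    intro W
    classical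
    refine (injective_iff_map_eq_zero (c₀.app W).hom).2 fun z hz => ?_
    let z' : DirectSum (W.unop ⟶ U) (fun f => fib ((SGA45.ExtByZero.res U R).obj F.val) W f) := z
    have := hU W.unop
    rcases isEmpty_or_nonempty (W.unop ⟶ U) with h | ⟨⟨f⟩⟩
    · exact DFinsupp.ext fun i => h.elim i
    · have hz' : z' = ins _ W f (z' f) := by
        refine DFinsupp.ext fun i => ?_
        obtain rfl : f = i := Subsingleton.elim f i
        simp only [ins, DirectSum.lof_eq_of]
        convert (DirectSum.of_eq_same (β := fun f => fib ((SGA45.ExtByZero.res U R).obj F.val) W f) f (z' f)).symm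
      have h2 : extDesc (𝟙 ((SGA45.ExtByZero.res U R).obj F.val)) W z' = 0 := Eq.trans (by rfl) hz
      rw [hz', extDesc_ins] at h2
      change z' = 0
      rw [hz', show z' f = 0 from h2, map_zero]
  have hm₀ : Mono c₀ := PresheafOfModules.mono_of_injective fun {W} => hc₀ W
  have hsh : sh.PreservesMonomorphisms := preservesMonomorphisms_of_preservesLimitsOfShape _
  have hshA : IsIso shA.counit := inferInstance
  have hm : Mono (sA.counit.app F) := by
    have h := (adj₀.comp shA).map_restrictFullyFaithful_counit_app (L := shLeft (X := U) A)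
      (R := SheafOfModules.overFunctor.{u} A U)
      (SheafOfModules.fullyFaithfulForget (A.over U)) (Functor.FullyFaithful.id _) (Iso.refl _) (Iso.refl _) F
    simp at h
    have hi : IsIso (shA.counit.app F) := (NatTrans.isIso_iff_isIso_app _).1 hshA F
    have h1 : Mono (sh.map c₀ ≫ shA.counit.app F) :=
      @mono_comp _ _ _ _ _ _ (sh.map_mono c₀) _ (@IsIso.mono_of_iso _ _ _ _ _ hi)
    have h2 : ∀ {X Y : PresheafOfModules.{u} R} (t : X ⟶ Y), IsIso t → Mono (sh.map t) := fun t ht =>
      @IsIso.mono_of_iso _ _ _ _ _ (Functor.map_isIso sh t)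
    refine cast (congrArg Mono h.symm) ?_
    refine @mono_comp _ _ _ _ _ _ (@IsIso.mono_of_iso _ _ _ _ _ (IsIso.id _)) _ ?_
    exact @mono_comp _ _ _ _ _ _ (h2 _ (@Functor.map_isIso _ _ _ _ _ _ _ _ (IsIso.id _))) _ h1
  let i := (sA.leftAdjointUniq (ModSite.extZeroAdj O U)).hom.app ((SheafOfModules.overFunctor.{u} A U).obj F)
  have e : i ≫ (ModSite.extZeroAdj O U).counit.app F = sA.counit.app F :=
    Adjunction.leftAdjointUniq_hom_app_counit sA (ModSite.extZeroAdj O U) F
  have hm' : Mono (i ≫ (ModSite.extZeroAdj O U).counit.app F) := by rw [e]; exact hm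
  have h3 : Mono (inv i ≫ i ≫ (ModSite.extZeroAdj O U).counit.app F) :=
    @mono_comp _ _ _ _ _ _ inferInstance _ hm'
  rwa [IsIso.inv_hom_id_assoc] at h3

/-- On injective modules the unit of direct image along a subterminal object is an epimorphism. -/
lemma epi_unit_pushOver (U : C) (hU : ∀ V : C, Subsingleton (V ⟶ U)) [ModSite.HasPushOver O U]
    (I : ModSite.Mod O) [Injective I] : Epi ((ModSite.restrPushOverAdj O U).unit.app I) := by
  let adj := ModSite.restrPushOverAdj O U
  let aZ := ModSite.extZeroAdj O U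
  let X := (ModSite.pushOver O U).obj ((ModSite.restr O U).obj I)
  let ε : (ModSite.restr O U).obj X ⟶ (ModSite.restr O U).obj I := (adj.homEquiv _ _).symm (𝟙 X)
  have := mono_extZero_counit U hU X
  let l : X ⟶ I := Injective.factorThru ((aZ.homEquiv _ I).symm ε) (aZ.counit.app X)
  have hl : aZ.counit.app X ≫ l = (aZ.homEquiv _ I).symm ε := Injective.comp_factorThru _ _
  have hr : (ModSite.restr O U).map l = ε := by
    have := congrArg (aZ.homEquiv _ I) hl
    rw [Equiv.apply_symm_apply, Adjunction.homEquiv_unit, Functor.map_comp,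
      aZ.right_triangle_components_assoc] at this
    exact this
  have hs : l ≫ adj.unit.app I = 𝟙 X := by
    have e := adj.unit.naturality l
    simp only [Functor.id_map, Functor.comp_map] at e
    rw [e, hr]
    exact (adj.homEquiv_unit _ _ ε).symm.trans (Equiv.apply_symm_apply _ _)
  exact @IsSplitEpi.epi _ _ _ _ _ (IsSplitEpi.mk' ⟨l, hs⟩)

/-- Local cohomology sheaves for a subterminal object. -/
theorem nonempty_HZsh_subterminal (U : C) (hU : ∀ V : C, Subsingleton (V ⟶ U)) [ModSite.HasPushOver O U]
    [(ModSite.pushOver O U).Additive]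
    [HasInjectiveResolutions (ModSite.Mod O)] [HasInjectiveResolutions (ModSite.Mod (O.over U))] :
    Nonempty (ModSite.HZsh O U 1 ≅ cokernel (ModSite.restrPushOverAdj O U).unit) ∧
      ∀ q : ℕ, 1 ≤ q →
        Nonempty (ModSite.HZsh O U (q + 1) ≅ ModSite.restr O U ⋙ (ModSite.pushOver O U).rightDerived q) := by
  obtain ⟨_, _⟩ := restr_exact (O := O) U
  let F₃ := ModSite.restr O U ⋙ ModSite.pushOver O U
  have : PreservesFiniteLimits (ModSite.pushOver O U) :=
    ⟨fun I _ _ => (ModSite.restrPushOverAdj O U).rightAdjoint_preservesLimits.preservesLimitsOfShape⟩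
  have : PreservesFiniteLimits F₃ := comp_preservesFiniteLimits _ _
  let η : 𝟭 (ModSite.Mod O) ⟶ F₃ := (ModSite.restrPushOverAdj O U).unit
  let ι := ModSite.sectOnι O U
  have w : ∀ X, ι.app X ≫ η.app X = 0 := fun X => kernel.condition (η.app X)
  have hSE : ∀ I : ModSite.Mod O, Injective I →
      (ShortComplex.mk (ι.app I) (η.app I) (w I)).ShortExact := fun I hI =>
    { exact := ShortComplex.exact_of_f_is_kernel _ (kernelIsKernel (η.app I))
      mono_f := inferInstanceAs (Mono (kernel.ι (η.app I)))
      epi_g := @epi_unit_pushOver _ _ _ _ U hU _ I hI }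
  refine ⟨⟨sesCokernelIso ι η w hSE⟩, fun q hq => ?_⟩
  obtain ⟨n, rfl⟩ : ∃ n, q = n + 1 := ⟨q - 1, by omega⟩
  have := isIso_sesδ ι η w hSE n
  exact ⟨(asIso (sesδ ι η w hSE (n + 1))).symm ≪≫
    rightDerivedPrecompIso (ModSite.restr O U) (fun I hI => @restr_injective _ _ _ _ U I hI)
      (ModSite.pushOver O U) (n + 1)⟩

end Groth.Agent.Mod48
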