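import Groth.Agent.Mod48.ProperStalk
import Groth.Agent.ProEt91.Cont

/-!
Pullback to the big fppf site commutes with direct image along proper morphisms.
-/

universe u

open CategoryTheory CategoryTheory.Limits AlgebraicGeometry Opposite

namespace Groth.Agent.Mod48

set_option backward.isDefEq.respectTransparency.types false

open Unr55 (EtSh.germ EtSh.Pt EtSh.exists_germ_eq EtSh.pushMapAt)

variable {X Y : Scheme.{u}} (f : X ⟶ Y) [IsProper f] [EtFppf.ACont X] [EtFppf.ACont Y] (E : EtCoh.Ab X)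

lemma bcMapF_injective_proper (W : Over Y) : Function.Injective ((bcMapF f E).hom.app (op W)) := by
  refine (injective_iff_map_eq_zero _).2 fun t ht => ?_
  refine (fppfGSite Y).eq_zero_of_val _ t fun η v => pushMapAt_injective_proper f E η _ fun ξ hξ => ?_
  rw [← val_bcMapF, ht]
  exact map_zero _

lemma bcMapF_surjective_proper [ProEtS.EpsCont X] (W : Over Y) :
    Function.Surjective ((bcMapF f E).hom.app (op W)) := by
  intro t
  let P := (EtFppf.aPull Y).obj ((EtCoh.push f).obj E)
  let Q := (EtFppf.pushBig f).obj ((EtFppf.aPull X).obj E)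
  let R : Sieve W :=
    { arrows := fun W' g => ∃ σ : P.obj.obj (op W'), (bcMapF f E).hom.app (op W') σ = Q.obj.map g.op t
      downward_closed := fun {W' W'' g} ⟨σ, hσ⟩ k => ⟨P.obj.map k.op σ, by
        rw [op_comp, Functor.map_comp, ConcreteCategory.comp_apply, ← hσ]
        exact NatTrans.naturality_apply (bcMapF f E).hom k.op σ⟩ }
  have hR : R ∈ EtFppf.J Y W := mem_J_of_etale R fun x => by
    obtain ⟨η, v, hv⟩ := exists_gpt ((fppfGSite Y).U.obj W) x
    obtain ⟨a, ha⟩ := exists_stalk_rep f E η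
      (((EtFppf.aPull X).obj E).obj.map ((Over.pullback f).map (v : Over.mk η.hom ⟶ W)).op t)
    have hcomp : ∀ ξ hξ, EtSh.pushMapAt f hξ E a =
        (fppfGSite X).val E ⟨η.k, ξ⟩ (ptLift f v ξ hξ) t := fun ξ hξ => by
      refine (ha ξ hξ).trans (((fppfGSite X).val_map E _ ⟨η.k, ξ⟩ _ t).trans ?_)
      refine congrArg (fun w => (fppfGSite X).val E ⟨η.k, ξ⟩ w t) ?_
      exact (ptLift_map f (v : Over.mk η.hom ⟶ W) (𝟙 _) ξ hξ).trans
        (congrArg (fun w => ptLift f (X := Y) (η := η) w ξ hξ) (Category.id_comp _))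
    obtain ⟨U₀, u₀, s, hs⟩ := EtSh.exists_germ_eq η.hom ((EtCoh.push f).obj E) a
    have : Etale U₀.hom := U₀.prop
    let vl : Spec (CommRingCat.of η.k) ⟶ W.left := v.left
    let ul : Spec (CommRingCat.of η.k) ⟶ U₀.left := u₀.left
    have hvu : vl ≫ W.hom = ul ≫ U₀.hom := (Over.w v).trans (Over.w u₀).symm
    let W₁ : Over Y := Over.mk (pullback.fst W.hom U₀.hom ≫ W.hom)
    let q : W₁ ⟶ W := Over.homMk (pullback.fst W.hom U₀.hom) rfl
    let π : W₁ ⟶ (EtFppf.a Y).obj U₀ := Over.homMk (pullback.snd W.hom U₀.hom) pullback.condition.symm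
    let v₁ : (fppfGSite Y).Pts η W₁ := Over.homMk (pullback.lift vl ul hvu) (by
      show pullback.lift vl ul hvu ≫ pullback.fst W.hom U₀.hom ≫ W.hom = η.hom
      rw [pullback.lift_fst_assoc]
      exact Over.w v)
    have hq : v₁ ≫ (fppfGSite Y).U.map q = v := Over.OverMorphism.ext (pullback.lift_fst _ _ _)
    have hπ : (v₁ ≫ (fppfGSite Y).unE π : EtSh.Pt η.hom U₀) = u₀ := by
      apply Over.OverMorphism.ext
      show pullback.lift vl ul hvu ≫ pullback.snd W.hom U₀.hom ≫ 𝟙 _ = ul
      rw [Category.comp_id, pullback.lift_snd]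
    let σ : P.obj.obj (op W₁) :=
      P.obj.map π.op (GSite.etaSect (EtFppf.J Y) (EtFppf.a Y) ((EtCoh.push f).obj E) s)
    let d : ((EtFppf.aPull X).obj E).obj.obj (op ((Over.pullback f).obj W₁)) :=
      (bcMapF f E).hom.app (op W₁) σ - Q.obj.map q.op t
    let B : Set (pullback W₁.hom f : Scheme.{u}) := ((fppfGSite X).locusSet E d)ᶜ
    have : IsProper (pullback.fst W₁.hom f) := MorphismProperty.pullback_fst _ _ inferInstance
    have hBc : IsClosed B := ((fppfGSite X).isOpen_locusSet E d).isClosed_compl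
    have hB : IsClosed (pullback.fst W₁.hom f '' B) := (pullback.fst W₁.hom f).isClosedMap _ hBc
    let O : W₁.left.Opens := ⟨(pullback.fst W₁.hom f '' B)ᶜ, hB.isOpen_compl⟩
    let xp : W₁.left := img (η := η) (Y := (fppfGSite Y).U.obj W₁) v₁
    have hx : xp ∈ O := by
      rintro ⟨z, hz, hzx⟩
      let vl₁ : Spec (CommRingCat.of η.k) ⟶ W₁.left := v₁.left
      obtain ⟨c, hc, hcB⟩ := exists_lift_in_closed (pullback.fst W₁.hom f) vl₁ hBc z hz
        (hzx.trans (congrArg vl₁ (Subsingleton.elim _ _)))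
      have hξ : (c ≫ pullback.snd W₁.hom f) ≫ f = η.hom := by
        rw [Category.assoc, ← pullback.condition, reassoc_of% hc]
        exact Over.w v₁
      refine hcB ?_
      have hw : (ptLift f v₁ _ hξ).left = c :=
        pullback.hom_ext ((pullback.lift_fst _ _ _).trans hc.symm) (pullback.lift_snd _ _ _)
      have : img (ptLift f v₁ _ hξ) = c default := by
        show (ptLift f v₁ _ hξ).left _ = c _
        rw [hw]
        exact congrArg c (Subsingleton.elim _ _)
      rw [← this]
      refine ((fppfGSite X).mem_locusSet_iff E d _ _).2 ?_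
      refine (map_sub _ _ _).trans (sub_eq_zero.2 ?_)
      rw [val_bcMapF]
      refine Eq.trans (congrArg _ ?_) ((hcomp _ hξ).trans ?_)
      · rw [GSite.val_rep, hπ]
        exact hs
      · refine (congrArg (fun w => (fppfGSite X).val E _ (ptLift f w _ hξ) t) hq).symm.trans ?_
        show (fppfGSite X).val E _ (ptLift f (v₁ ≫ (fppfGSite Y).U.map q) _ hξ) t = _
        rw [← ptLift_map, ← GSite.val_map]
        rfl
    let W₂ : Over Y := Over.mk (O.ι ≫ W₁.hom)
    let o : W₂ ⟶ W₁ := Over.homMk O.ι rfl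
    have hz : ((EtFppf.aPull X).obj E).obj.map ((Over.pullback f).map o).op d = 0 := by
      refine (fppfGSite X).eq_zero_of_val E _ fun ζ u => ?_
      rw [GSite.val_map, ← GSite.mem_locusSet_iff]
      by_contra hn
      let p : (pullback W₂.hom f : Scheme.{u}) := img u
      have e2 : pullback.fst W₁.hom f (((Over.pullback f).map o).left p) = O.ι (pullback.fst W₂.hom f p) := by
        have e3 : ((Over.pullback f).map o).left ≫ pullback.fst W₁.hom f = pullback.fst W₂.hom f ≫ O.ι :=
          pullback.lift_fst _ _ _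
        rw [← Scheme.Hom.comp_apply, ← Scheme.Hom.comp_apply]
        exact congrArg (fun r : pullback W₂.hom f ⟶ W₁.left => r p) e3
      exact (pullback.fst W₂.hom f p : O.toScheme).2 ⟨_, hn, e2⟩
    refine ⟨W₂, o ≫ q, (⟨xp, hx⟩ : O.toScheme), ⟨P.obj.map o.op σ, ?_⟩, ?_, ?_⟩
    · rw [op_comp, Functor.map_comp, ConcreteCategory.comp_apply]
      exact (NatTrans.naturality_apply (bcMapF f E).hom o.op σ).trans
        (sub_eq_zero.1 ((map_sub _ _ _).symm.trans hz))
    · show Etale (O.ι ≫ pullback.fst W.hom U₀.hom)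
      infer_instance
    · exact (congrArg (fun r : (fppfGSite Y).Pts η W => img r) hq).trans hv
  choose σ hσ using fun W' (g : W' ⟶ W) (hg : R g) => hg
  have hP := fun (K : EtFppf.AbF Y) => (isSheaf_iff_isSheaf_of_type _ _).1
    (Presheaf.isSheaf_comp_of_isSheaf (EtFppf.J Y) K.obj (forget AddCommGrpCat.{u + 1}) K.property)
  have hcomp : Presieve.FamilyOfElements.Compatible
      (P := P.obj ⋙ forget AddCommGrpCat.{u + 1}) (R := R.arrows) σ := by
    intro W₁ W₂ W' g₁ g₂ f₁ f₂ h₁ h₂ w
    refine bcMapF_injective_proper f E W' ?_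
    show (bcMapF f E).hom.app (op W') (P.obj.map g₁.op (σ W₁ f₁ h₁)) =
      (bcMapF f E).hom.app (op W') (P.obj.map g₂.op (σ W₂ f₂ h₂))
    rw [NatTrans.naturality_apply, NatTrans.naturality_apply, hσ, hσ, ← ConcreteCategory.comp_apply,
      ← ConcreteCategory.comp_apply, ← Functor.map_comp, ← Functor.map_comp, ← op_comp, ← op_comp, w]
  obtain ⟨s, hs, -⟩ := hP P R hR σ hcomp
  refine ⟨s, (hP Q R hR).isSeparatedFor.ext fun W' g hg => ?_⟩
  show Q.obj.map g.op ((bcMapF f E).hom.app (op W) s) = Q.obj.map g.op t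
  rw [← hσ W' g hg]
  exact (NatTrans.naturality_apply (bcMapF f E).hom g.op s).symm.trans (congrArg _ (hs g hg))

/-- Pullback to the big fppf site commutes with direct image along a proper morphism. -/
theorem isIso_bcMapF_proper : IsIso (bcMapF f E) := by
  have : ProEtS.EpsCont X := ProEt91.epsCont X
  have : ∀ W, IsIso ((bcMapF f E).hom.app W) := fun W =>
    (ConcreteCategory.isIso_iff_bijective _).2
      ⟨bcMapF_injective_proper f E W.unop, bcMapF_surjective_proper f E W.unop⟩
  have : IsIso (bcMapF f E).hom := NatIso.isIso_of_isIso_app _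
  exact (isIso_iff_of_reflects_iso (bcMapF f E) (sheafToPresheaf _ AddCommGrpCat.{u + 1})).1 this

end Groth.Agent.Mod48
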