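import Groth.Agent.SiteCoh.PseudoFiltered
import Mathlib.CategoryTheory.Functor.KanExtension.Adjunction
import Mathlib.CategoryTheory.Sites.Pullback
import Mathlib.CategoryTheory.Limits.Preserves.Shapes.Equalizers
import Mathlib.CategoryTheory.Limits.Shapes.Pullback.IsPullback.Basic
import Mathlib.CategoryTheory.Limits.Final
import Mathlib.CategoryTheory.Preadditive.Injective.Basic

/-!
Inverse images of abelian sheaves between large sites preserve monomorphisms.
-/

universe v

open CategoryTheory CategoryTheory.Limits Opposite

namespace Groth.Agent.Mod48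

section Colim

variable {I : Type (v + 1)} [Category.{v} I]

/-- Colimits of abelian groups over a category with completable spans and pairs preserve monomorphisms. -/
theorem colim_preservesMono_of_pseudoFiltered
    (hspan : ∀ {a b c : I} (f : a ⟶ b) (g : a ⟶ c), ∃ (d : I) (h : b ⟶ d) (k : c ⟶ d), f ≫ h = g ≫ k)
    (hpar : ∀ {a b : I} (f g : a ⟶ b), ∃ (c : I) (h : b ⟶ c), f ≫ h = g ≫ h) :
    (colim : (I ⥤ AddCommGrpCat.{v + 1}) ⥤ AddCommGrpCat.{v + 1}).PreservesMonomorphisms := by
  let S := AsSmall.{v + 1} I
  let e : I ≌ S := AsSmall.equiv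
  have : SiteCoh.IsPseudoFiltered S :=
    { span := fun {a b c} f g => by
        obtain ⟨d, h, k, hk⟩ := hspan (AsSmall.down.map f) (AsSmall.down.map g)
        exact ⟨AsSmall.up.obj d, AsSmall.up.map h, AsSmall.up.map k, e.inverse.map_injective hk⟩
      parallel := fun {a b} f g => by
        obtain ⟨c, h, hh⟩ := hpar (AsSmall.down.map f) (AsSmall.down.map g)
        exact ⟨AsSmall.up.obj c, AsSmall.up.map h, e.inverse.map_injective hh⟩ }
  have : e.inverse.Final := inferInstance
  have : ((Functor.whiskeringLeft S I AddCommGrpCat.{v + 1}).obj e.inverse).PreservesMonomorphisms :=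
    ⟨fun {F G} α _ => by
      have := fun i => (NatTrans.mono_iff_mono_app α).1 inferInstance (e.inverse.obj i)
      exact @NatTrans.mono_of_mono_app _ _ _ _ _ _ _ this⟩
  have : ((Functor.whiskeringLeft S I AddCommGrpCat.{v + 1}).obj e.inverse ⋙ colim).PreservesMonomorphisms :=
    Functor.preservesMonomorphisms_comp _ _
  exact Functor.PreservesMonomorphisms.of_iso (Functor.Final.colimIso e.inverse)

end Colim

variable {C D : Type (v + 1)} [Category.{v} C] [Category.{v} D] (u : C ⥤ D)
  [HasPullbacks C] [HasEqualizers C]
  [PreservesLimitsOfShape WalkingCospan u] [PreservesLimitsOfShape WalkingParallelPair u]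

lemma colim_comma_preservesMono (V : Dᵒᵖ) :
    (colim : (CostructuredArrow u.op V ⥤ AddCommGrpCat.{v + 1}) ⥤ _).PreservesMonomorphisms := by
  refine colim_preservesMono_of_pseudoFiltered (fun {a b c} f g => ?_) (fun {a b} f g => ?_)
  · have ef : a.hom.unop = b.hom.unop ≫ u.map f.left.unop :=
      (congrArg Quiver.Hom.unop (CostructuredArrow.w f)).symm
    have eg : a.hom.unop = c.hom.unop ≫ u.map g.left.unop :=
      (congrArg Quiver.Hom.unop (CostructuredArrow.w g)).symm
    have hP := (IsPullback.of_hasPullback f.left.unop g.left.unop).map u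
    let t := hP.lift b.hom.unop c.hom.unop (ef.symm.trans eg)
    refine ⟨CostructuredArrow.mk (Y := op (pullback f.left.unop g.left.unop))
      (t.op : u.op.obj (op (pullback f.left.unop g.left.unop)) ⟶ V),
      CostructuredArrow.homMk (pullback.fst _ _).op (Quiver.Hom.unop_inj ?_),
      CostructuredArrow.homMk (pullback.snd _ _).op (Quiver.Hom.unop_inj ?_), ?_⟩
    · exact hP.lift_fst _ _ _
    · exact hP.lift_snd _ _ _
    · apply CostructuredArrow.hom_ext
      exact congrArg Quiver.Hom.op pullback.condition
  · have ef : a.hom.unop = b.hom.unop ≫ u.map f.left.unop :=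
      (congrArg Quiver.Hom.unop (CostructuredArrow.w f)).symm
    have eg : a.hom.unop = b.hom.unop ≫ u.map g.left.unop :=
      (congrArg Quiver.Hom.unop (CostructuredArrow.w g)).symm
    have hE := isLimitForkMapOfIsLimit u _ (equalizerIsEqualizer f.left.unop g.left.unop)
    let t := Fork.IsLimit.lift hE b.hom.unop (ef.symm.trans eg)
    refine ⟨CostructuredArrow.mk (Y := op (equalizer f.left.unop g.left.unop))
      (t.op : u.op.obj (op (equalizer f.left.unop g.left.unop)) ⟶ V),
      CostructuredArrow.homMk (equalizer.ι _ _).op (Quiver.Hom.unop_inj ?_), ?_⟩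
    · exact Fork.IsLimit.lift_ι hE
    · apply CostructuredArrow.hom_ext
      exact congrArg Quiver.Hom.op (equalizer.condition _ _)

lemma lan_preservesMono :
    (u.op.lan : (Cᵒᵖ ⥤ AddCommGrpCat.{v + 1}) ⥤ _).PreservesMonomorphisms where
  preserves {P Q} α _ := by
    have : ∀ V, Mono ((u.op.lan.map α).app V) := fun V => by
      have := colim_comma_preservesMono u V
      have e : (u.op.leftKanExtensionObjIsoColimit P V).inv ≫ (u.op.lan.map α).app V =
          colimMap (Functor.whiskerLeft (CostructuredArrow.proj u.op V) α) ≫
            (u.op.leftKanExtensionObjIsoColimit Q V).inv := by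
        refine colimit.hom_ext fun f => ?_
        have hn := (u.op.lan.map α).naturality f.hom
        have hu := NatTrans.congr_app (u.op.lanUnit.naturality α) f.left
        refine (Category.assoc _ _ _).symm.trans ?_
        refine ((Functor.ι_leftKanExtensionObjIsoColimit_inv u.op P V f) =≫
          (u.op.lan.map α).app V).trans ?_
        refine Eq.trans ?_ (Category.assoc _ _ _)
        refine Eq.trans ?_ ((ι_colimMap (Functor.whiskerLeft (CostructuredArrow.proj u.op V) α) f) =≫
          (u.op.leftKanExtensionObjIsoColimit Q V).inv).symm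
        refine Eq.trans ?_ ((α.app f.left ≫= Functor.ι_leftKanExtensionObjIsoColimit_inv u.op Q V f).symm.trans
          (Category.assoc _ _ _).symm)
        refine (Category.assoc _ _ _).trans ?_
        exact (_ ≫= hn).trans ((Category.assoc _ _ _).symm.trans
          ((hu.symm =≫ _).trans (Category.assoc _ _ _)))
      have : Mono (Functor.whiskerLeft (CostructuredArrow.proj u.op V) α) := by
        have := fun i => (NatTrans.mono_iff_mono_app α).1 inferInstance
          ((CostructuredArrow.proj u.op V).obj i)
        exact @NatTrans.mono_of_mono_app _ _ _ _ _ _ _ this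
      have h2 : Mono (colimMap (Functor.whiskerLeft (CostructuredArrow.proj u.op V) α)) :=
        inferInstanceAs (Mono ((colim :
          (CostructuredArrow u.op V ⥤ AddCommGrpCat.{v + 1}) ⥤ _).map _))
      rw [← cancel_epi (u.op.leftKanExtensionObjIsoColimit P V).hom, Iso.hom_inv_id_assoc] at e
      rw [e]
      exact @mono_comp _ _ _ _ _ _ inferInstance _ (@mono_comp _ _ _ _ _ _ h2 _ inferInstance)
    exact @NatTrans.mono_of_mono_app _ _ _ _ _ _ _ this

variable (J : GrothendieckTopology C) (K : GrothendieckTopology D) [u.IsContinuous J K]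
  [HasSheafify K AddCommGrpCat.{v + 1}] [HasWeakSheafify J AddCommGrpCat.{v + 1}]

/-- The direct image along a functor commuting with connected finite limits preserves injectives. -/
theorem pushforward_injective (I : Sheaf K AddCommGrpCat.{v + 1}) [Injective I] :
    Injective ((u.sheafPushforwardContinuous AddCommGrpCat.{v + 1} J K).obj I) := by
  let adj := Functor.sheafPullbackConstruction.sheafAdjunctionContinuous u AddCommGrpCat.{v + 1} J K
  have h0 := lan_preservesMono u
  have h1 : (presheafToSheaf K AddCommGrpCat.{v + 1}).PreservesMonomorphisms :=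
    preservesMonomorphisms_of_preservesLimitsOfShape _
  have h2 : (u.op.lan ⋙ presheafToSheaf K AddCommGrpCat.{v + 1}).PreservesMonomorphisms :=
    Functor.preservesMonomorphisms_comp _ _
  have h3 : (sheafToPresheaf J AddCommGrpCat.{v + 1}).PreservesMonomorphisms :=
    preservesMonomorphisms_of_preservesLimitsOfShape _
  have : (Functor.sheafPullbackConstruction.sheafPullback u AddCommGrpCat.{v + 1} J K).PreservesMonomorphisms :=
    Functor.preservesMonomorphisms_comp (sheafToPresheaf J AddCommGrpCat.{v + 1})
      (u.op.lan ⋙ presheafToSheaf K AddCommGrpCat.{v + 1})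
  exact Injective.injective_of_adjoint adj I

end Groth.Agent.Mod48
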