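import Mathlib.Algebra.Category.Grp.Adjunctions
import Mathlib.Algebra.Category.Grp.EpiMono
import Mathlib.Algebra.Category.Grp.Colimits
import Mathlib.CategoryTheory.Sites.Abelian
import Mathlib.CategoryTheory.Sites.EpiMono
import Mathlib.CategoryTheory.Sites.Pullback
import Mathlib.Algebra.Homology.DerivedCategory.Ext.EnoughInjectives
import Mathlib.CategoryTheory.Abelian.Injective.Ext
import Mathlib.Algebra.Homology.DerivedCategory.Ext.ExactSequences
import Mathlib.CategoryTheory.Abelian.RightDerived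
import Mathlib.CategoryTheory.Abelian.GrothendieckCategory.HasExt
import Mathlib.CategoryTheory.Abelian.GrothendieckAxioms.Sheaf

/-!
Cohomology of abelian sheaves on large sites (objects one universe up) in terms of classes in `Ext` groups out of
free sheaves: local effaceability, finite decompositions, and vanishing of higher direct images.
-/

universe u

open CategoryTheory CategoryTheory.Limits Opposite CategoryTheory.Abelian

namespace Groth.Agent.Mod48

set_option backward.isDefEq.respectTransparency.types false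

variable {C : Type (u + 1)} [Category.{u} C] {J : GrothendieckTopology C}
  [HasSheafify J AddCommGrpCat.{u + 1}]

variable (J) in
/-- The free abelian sheaf on an object. -/
noncomputable abbrev lFree (U : C) : Sheaf J AddCommGrpCat.{u + 1} :=
  (presheafToSheaf J AddCommGrpCat.{u + 1}).obj (uliftYoneda.{u + 1}.obj U ⋙ AddCommGrpCat.free.{u + 1})

variable (J) in
/-- Functoriality of the free abelian sheaf. -/
noncomputable abbrev lMap {U V : C} (f : V ⟶ U) : lFree J V ⟶ lFree J U :=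
  (presheafToSheaf J AddCommGrpCat.{u + 1}).map (Functor.whiskerRight (uliftYoneda.{u + 1}.map f) AddCommGrpCat.free.{u + 1})

variable (J) in
/-- The tautological section. -/
noncomputable def lSec (U : C) : (lFree J U).obj.obj (op U) :=
  (toSheafify J (uliftYoneda.{u + 1}.obj U ⋙ AddCommGrpCat.free.{u + 1})).app (op U)
    (FreeAbelianGroup.of (ULift.up (𝟙 U)))

/-- Morphisms out of the free sheaf are sections. -/
noncomputable def lEquiv (U : C) (F : Sheaf J AddCommGrpCat.{u + 1}) :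
    (lFree J U ⟶ F) ≃+ F.obj.obj (op U) where
  toEquiv := ((sheafificationAdjunction J AddCommGrpCat.{u + 1}).homEquiv _ F).trans
    (((AddCommGrpCat.adj.whiskerRight Cᵒᵖ).homEquiv (uliftYoneda.{u + 1}.obj U) F.obj).trans uliftYonedaEquiv)
  map_add' _ _ := rfl

lemma lEquiv_apply (U : C) (F : Sheaf J AddCommGrpCat.{u + 1}) (φ : lFree J U ⟶ F) :
    lEquiv U F φ = φ.hom.app (op U) (lSec J U) :=
  rfl

lemma lEquiv_comp {U : C} {F G : Sheaf J AddCommGrpCat.{u + 1}} (φ : lFree J U ⟶ F) (g : F ⟶ G) :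
    lEquiv U G (φ ≫ g) = g.hom.app (op U) (lEquiv U F φ) :=
  rfl

lemma lEquiv_symm_comp {U : C} {F G : Sheaf J AddCommGrpCat.{u + 1}} (s : F.obj.obj (op U)) (g : F ⟶ G) :
    (lEquiv U F).symm s ≫ g = (lEquiv U G).symm (g.hom.app (op U) s) := by
  apply (lEquiv U G).injective
  simp [lEquiv_comp]

lemma lMap_lSec {U V : C} (f : V ⟶ U) :
    (lMap J f).hom.app (op V) (lSec J V) = (lFree J U).obj.map f.op (lSec J U) := by
  have h1 := ConcreteCategory.congr_hom
    (NatTrans.congr_app (toSheafify_naturality J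
      (Functor.whiskerRight (uliftYoneda.{u + 1}.map f) AddCommGrpCat.free.{u + 1})) (op V))
    (FreeAbelianGroup.of (ULift.up (𝟙 V)))
  have h2 := ConcreteCategory.congr_hom
    ((toSheafify J (uliftYoneda.{u + 1}.obj U ⋙ AddCommGrpCat.free.{u + 1})).naturality f.op)
    (FreeAbelianGroup.of (ULift.up (𝟙 U)))
  have h3 : (Functor.whiskerRight (uliftYoneda.{u + 1}.map f) AddCommGrpCat.free.{u + 1}).app (op V)
      (FreeAbelianGroup.of (ULift.up (𝟙 V))) =
      (uliftYoneda.{u + 1}.obj U ⋙ AddCommGrpCat.free.{u + 1}).map f.op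
        (FreeAbelianGroup.of (ULift.up (𝟙 U))) := by
    show FreeAbelianGroup.map _ (FreeAbelianGroup.of _) = FreeAbelianGroup.map _ (FreeAbelianGroup.of _)
    simp
  refine h1.symm.trans ?_
  refine Eq.trans ?_ h2
  exact congrArg ((toSheafify J (uliftYoneda.{u + 1}.obj U ⋙ AddCommGrpCat.free.{u + 1})).app (op V)) h3

lemma lEquiv_lMap_comp {U V : C} (f : V ⟶ U) {F : Sheaf J AddCommGrpCat.{u + 1}} (φ : lFree J U ⟶ F) :
    lEquiv V F (lMap J f ≫ φ) = F.obj.map f.op (lEquiv U F φ) := by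
  show φ.hom.app (op V) ((lMap J f).hom.app (op V) (lSec J V)) = _
  rw [lMap_lSec]
  exact ConcreteCategory.congr_hom (φ.hom.naturality f.op) (lSec J U)

lemma lMap_comp_symm {U V : C} (f : V ⟶ U) {F : Sheaf J AddCommGrpCat.{u + 1}} (s : F.obj.obj (op U)) :
    lMap J f ≫ (lEquiv U F).symm s = (lEquiv V F).symm (F.obj.map f.op s) := by
  apply (lEquiv V F).injective
  simp [lEquiv_lMap_comp]

lemma lMap_comp {U V W : C} (f : V ⟶ U) (g : W ⟶ V) : lMap J (g ≫ f) = lMap J g ≫ lMap J f := by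
  simp [lMap]

variable [J.WEqualsLocallyBijective AddCommGrpCat.{u + 1}]
  [IsGrothendieckAbelian.{u + 1} (Sheaf J AddCommGrpCat.{u + 1})]

/-- Restriction of classes. -/
noncomputable abbrev resX {U V : C} (f : V ⟶ U) {F : Sheaf J AddCommGrpCat.{u + 1}} {n : ℕ}
    (ξ : Ext.{u + 1} (lFree J U) F n) : Ext.{u + 1} (lFree J V) F n :=
  (Ext.mk₀ (lMap J f)).comp ξ (zero_add n)

lemma resX_comp {U V W : C} (f : V ⟶ U) (g : W ⟶ V) {F : Sheaf J AddCommGrpCat.{u + 1}} {n : ℕ}
    (ξ : Ext.{u + 1} (lFree J U) F n) : resX (g ≫ f) ξ = resX g (resX f ξ) := by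
  simp [resX, lMap_comp]

lemma resX_zero {U V : C} (f : V ⟶ U) {F : Sheaf J AddCommGrpCat.{u + 1}} {n : ℕ} :
    resX f (0 : Ext.{u + 1} (lFree J U) F n) = 0 :=
  Ext.comp_zero (Ext.mk₀ (lMap J f)) F n n (zero_add n)

lemma resX_comp_ext {U V : C} (f : V ⟶ U) {F G : Sheaf J AddCommGrpCat.{u + 1}} {n a m : ℕ}
    (ξ : Ext.{u + 1} (lFree J U) F n) (γ : Ext.{u + 1} F G a) (h : n + a = m) :
    resX f (ξ.comp γ h) = (resX f ξ).comp γ h :=
  (Ext.comp_assoc _ _ _ (zero_add n) h (by omega)).symm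

lemma resX_mk₀ {U V : C} (f : V ⟶ U) {F : Sheaf J AddCommGrpCat.{u + 1}} (s : F.obj.obj (op U)) :
    resX f (Ext.mk₀ ((lEquiv U F).symm s)) = Ext.mk₀ ((lEquiv V F).symm (F.obj.map f.op s)) := by
  rw [resX, Ext.mk₀_comp_mk₀, lMap_comp_symm]

/-- A class in positive degree dies on some covering. -/
theorem exists_cover_resX_eq_zero (n : ℕ) :
    ∀ (F : Sheaf J AddCommGrpCat.{u + 1}) (U : C) (ξ : Ext.{u + 1} (lFree J U) F (n + 1)),
      ∃ S ∈ J U, ∀ (V : C) (g : V ⟶ U), S.arrows g → resX g ξ = 0 := by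
  have hS : ∀ F : Sheaf J AddCommGrpCat.{u + 1},
      (ShortComplex.mk (Injective.ι F) (cokernel.π (Injective.ι F)) (cokernel.condition _)).ShortExact :=
    fun F =>
      { exact := ShortComplex.exact_of_g_is_cokernel _ (cokernelIsCokernel (Injective.ι F))
        mono_f := inferInstanceAs (Mono (Injective.ι F))
        epi_g := inferInstanceAs (Epi (cokernel.π _)) }
  induction n with
  | zero =>
    intro F U ξ
    obtain ⟨s, rfl⟩ := Ext.covariant_sequence_exact₁ _ (hS F) ξ
      ((Ext.subsingleton_of_injective (lFree J U) (Injective.under F) 0).elim _ _) rfl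
    obtain ⟨φ, rfl⟩ := Ext.addEquiv₀.symm.surjective s
    obtain ⟨t, rfl⟩ := (lEquiv U _).symm.surjective φ
    have : Sheaf.IsLocallySurjective (cokernel.π (Injective.ι F)) :=
      (Sheaf.isLocallySurjective_iff_epi' AddCommGrpCat.{u + 1} _).2 inferInstance
    refine ⟨_, Presheaf.imageSieve_mem J (cokernel.π (Injective.ι F)).hom t, fun V g hg => ?_⟩
    obtain ⟨w, hw⟩ := hg
    show resX g (Ext.comp (Ext.mk₀ _) _ _) = 0
    rw [resX_comp_ext, resX_mk₀, ← hw, ← lEquiv_symm_comp, ← Ext.mk₀_comp_mk₀,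
      Ext.comp_assoc _ _ _ (add_zero 0) (zero_add 1) (by omega), (hS F).comp_extClass, Ext.comp_zero]
  | succ n ih =>
    intro F U ξ
    obtain ⟨s, rfl⟩ := Ext.covariant_sequence_exact₁ _ (hS F) ξ
      ((Ext.subsingleton_of_injective (lFree J U) (Injective.under F) (n + 1)).elim _ _) rfl
    obtain ⟨S, hSm, hSl⟩ := ih _ U s
    exact ⟨S, hSm, fun V g hg => by rw [resX_comp_ext, hSl V g hg, Ext.zero_comp]⟩

/-- A class vanishing on each piece of a finite decomposition of sections vanishes. -/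
theorem eq_zero_of_decomposition {ι : Type} [Fintype ι] {U : C} (P : ι → C) (g : ∀ i, P i ⟶ U)
    (hdec : ∀ G : Sheaf J AddCommGrpCat.{u + 1},
      Function.Bijective fun (s : G.obj.obj (op U)) (i : ι) => G.obj.map (g i).op s)
    {F : Sheaf J AddCommGrpCat.{u + 1}} {n : ℕ} (ξ : Ext.{u + 1} (lFree J U) F n)
    (h : ∀ i, resX (g i) ξ = 0) : ξ = 0 := by
  classical
  have : HasFiniteBiproducts (Sheaf J AddCommGrpCat.{u + 1}) := HasFiniteBiproducts.of_hasFiniteProducts
  let d := biproduct.desc fun i => lMap J (g i)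
  obtain ⟨s, hs⟩ := (hdec (⨁ fun i => lFree J (P i))).2
    fun i => lEquiv (P i) _ (biproduct.ι (fun i => lFree J (P i)) i)
  let r := (lEquiv U _).symm s
  have hr : ∀ i, lMap J (g i) ≫ r = biproduct.ι (fun i => lFree J (P i)) i := fun i => by
    have e : (⨁ fun i => lFree J (P i)).obj.map (g i).op s =
        lEquiv (P i) _ (biproduct.ι (fun i => lFree J (P i)) i) := congrFun hs i
    rw [lMap_comp_symm, e, AddEquiv.symm_apply_apply]
  have hd : r ≫ d = 𝟙 (lFree J U) := by
    refine (lEquiv U _).injective ((hdec _).1 (funext fun i => ?_))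
    show (lFree J U).obj.map (g i).op _ = (lFree J U).obj.map (g i).op _
    rw [← lEquiv_lMap_comp, ← lEquiv_lMap_comp, Category.comp_id, ← Category.assoc, hr,
      biproduct.ι_desc]
  have h1 : (Ext.mk₀ d).comp ξ (zero_add n) = 0 := by
    rw [show d = ∑ i, biproduct.π (fun i => lFree J (P i)) i ≫ lMap J (g i) from
        biproduct.desc_eq, Ext.mk₀_sum, Ext.sum_comp]
    exact Finset.sum_eq_zero fun i _ => by
      rw [← Ext.mk₀_comp_mk₀, Ext.comp_assoc _ _ _ (zero_add 0) (zero_add n) (by omega),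
        show (Ext.mk₀ (lMap J (g i))).comp ξ (zero_add n) = 0 from h i, Ext.comp_zero]
  calc ξ = (Ext.mk₀ (r ≫ d)).comp ξ (zero_add n) := by rw [hd, Ext.mk₀_id_comp]
    _ = 0 := by
      rw [← Ext.mk₀_comp_mk₀, Ext.comp_assoc _ _ _ (zero_add 0) (zero_add n) (by omega), h1,
        Ext.comp_zero]

section RightDerived

variable {D : Type (u + 1)} [Category.{u} D] {K : GrothendieckTopology D}
  [HasSheafify K AddCommGrpCat.{u + 1}] [K.WEqualsLocallyBijective AddCommGrpCat.{u + 1}]
  (v : D ⥤ C) [v.IsContinuous K J]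

/-- A higher direct image vanishes as soon as classes die locally on the target. -/
theorem isZero_rightDerived_of_kill
    [(v.sheafPushforwardContinuous AddCommGrpCat.{u + 1} K J).Additive]
    (F : Sheaf J AddCommGrpCat.{u + 1}) (n : ℕ)
    (hk : ∀ (V : D) (ξ : Ext.{u + 1} (lFree J (v.obj V)) F (n + 1)),
      ∃ S ∈ K V, ∀ (W : D) (g : W ⟶ V), S.arrows g → resX (v.map g) ξ = 0) :
    IsZero (((v.sheafPushforwardContinuous AddCommGrpCat.{u + 1} K J).rightDerived (n + 1)).obj F) := by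
  let Φ := v.sheafPushforwardContinuous AddCommGrpCat.{u + 1} K J
  let R := InjectiveResolution.of F
  refine IsZero.of_iso ?_ (R.isoRightDerivedObj Φ (n + 1))
  apply HomologicalComplex.ExactAt.isZero_homology
  rw [HomologicalComplex.exactAt_iff' _ n (n + 1) (n + 2) (by simp) (by simp)]
  rw [ShortComplex.exact_iff_epi_kernel_lift]
  let S := ((Φ.mapHomologicalComplex _).obj R.cocomplex).sc' n (n + 1) (n + 2)
  let l := kernel.lift S.g S.f S.zero
  have : Sheaf.IsLocallySurjective l := by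
    refine ⟨fun {V} κ => ?_⟩
    let z : R.cocomplex.X (n + 1) |>.obj.obj (op (v.obj V)) := (kernel.ι S.g).hom.app (op V) κ
    have hz : (R.cocomplex.d (n + 1) (n + 2)).hom.app (op (v.obj V)) z = 0 :=
      congrArg (fun φ : _ ⟶ S.X₃ => φ.hom.app (op V) κ) (kernel.condition S.g)
    have hf : (lEquiv (v.obj V) _).symm z ≫ R.cocomplex.d (n + 1) (n + 2) = 0 := by
      rw [lEquiv_symm_comp, hz, map_zero]
    obtain ⟨T, hT, hT'⟩ := hk V (R.extMk ((lEquiv (v.obj V) _).symm z) (n + 2) rfl hf)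
    refine K.superset_covering (fun W g hg => ?_) hT
    have h0 := hT' W g hg
    rw [resX, R.mk₀_comp_extMk, R.extMk_eq_zero_iff _ _ _ _ n rfl] at h0
    obtain ⟨y, hy⟩ := h0
    refine ⟨lEquiv (v.obj W) _ y, ?_⟩
    have hinj : Function.Injective ((kernel.ι S.g).hom.app (op W)) :=
      (AddCommGrpCat.mono_iff_injective _).1
        ((NatTrans.mono_iff_mono_app (kernel.ι S.g).hom).1
          ((sheafToPresheaf K AddCommGrpCat.{u + 1}).map_mono (kernel.ι S.g)) (op W))
    apply hinj
    have e1 : (kernel.ι S.g).hom.app (op W) (l.hom.app (op W) (lEquiv (v.obj W) _ y)) =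
        S.f.hom.app (op W) (lEquiv (v.obj W) _ y) :=
      congrArg (fun φ : S.X₁ ⟶ S.X₂ => φ.hom.app (op W) (lEquiv (v.obj W) _ y)) (kernel.lift_ι S.g S.f S.zero)
    refine e1.trans ?_
    show (R.cocomplex.d n (n + 1)).hom.app (op (v.obj W)) (lEquiv (v.obj W) _ y) = _
    rw [← lEquiv_comp, hy, lEquiv_lMap_comp, AddEquiv.apply_symm_apply]
    exact (NatTrans.naturality_apply (kernel.ι S.g).hom g.op κ).symm
  exact (Sheaf.isLocallySurjective_iff_epi' AddCommGrpCat.{u + 1} l).1 this

end RightDerived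

end Groth.Agent.Mod48
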