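import Groth.Agent.Mod48.GermEtale
import Groth.Agent.Mod48.LargeFree
import Groth.Agent.Mod48.BigLanMono
import Groth.Agent.SiteCoh.ExtCompare
import Mathlib.CategoryTheory.Limits.Connected
import Mathlib.CategoryTheory.Limits.Constructions.Over.Connected
import Mathlib.CategoryTheory.Limits.Preserves.Finite

/-!
Restriction of abelian sheaves on big fppf sites along a morphism of bases, and its effect on classes.
-/

universe u

open CategoryTheory CategoryTheory.Limits AlgebraicGeometry Opposite CategoryTheory.Abelian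

namespace Groth.Agent.Mod48

set_option backward.isDefEq.respectTransparency.types false

variable {S T : Scheme.{u}} (f : T ⟶ S)

/-- Restriction to the big site of `T`. -/
noncomputable abbrev fRes : EtFppf.AbF S ⥤ EtFppf.AbF T :=
  (Over.map f).sheafPushforwardContinuous AddCommGrpCat.{u + 1} (EtFppf.J T) (EtFppf.J S)

/-- Restriction is left adjoint to direct image. -/
noncomputable def fResAdj : fRes f ⊣ EtFppf.pushBig f :=
  (Over.mapPullbackAdj f).sheafPushforwardContinuous (EtFppf.J T) (EtFppf.J S)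

instance : (fRes f).Additive where

instance fRes_preservesFiniteColimits : PreservesFiniteColimits (fRes f) :=
  have : PreservesColimitsOfSize.{0, 0} (fRes f) := (fResAdj f).leftAdjoint_preservesColimits
  PreservesColimitsOfSize.preservesFiniteColimits _

instance fRes_preservesFiniteLimits : PreservesFiniteLimits (fRes f) := by
  have : PreservesLimitsOfSize.{0, 0} (fRes f) := (Adjunction.ofIsRightAdjoint (fRes f)).rightAdjoint_preservesLimits
  exact PreservesLimitsOfSize.preservesFiniteLimits _

theorem fRes_injective (I : EtFppf.AbF S) [Injective I] : Injective ((fRes f).obj I) := by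
  have h : ∀ (K : Type) [SmallCategory K] [IsConnected K], PreservesLimitsOfShape K (Over.map f) :=
    fun K _ _ => by
      have : PreservesLimitsOfShape K (Over.map f ⋙ Over.forget S) :=
        inferInstanceAs (PreservesLimitsOfShape K (Over.forget T))
      exact preservesLimitsOfShape_of_reflects_of_preserves (Over.map f) (Over.forget S)
  have := h WalkingCospan
  have := h WalkingParallelPair
  exact pushforward_injective (Over.map f) (EtFppf.J T) (EtFppf.J S) I

/-- Restriction commutes with pullback from the small etale sites. -/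
noncomputable def fResPullIso [EtFppf.ACont S] [EtFppf.ACont T] :
    EtFppf.aPull S ⋙ fRes f ≅ EtCoh.pull f ⋙ EtFppf.aPull T :=
  let ε : EtFppf.a S ⋙ Over.pullback f ≅ EtCoh.bc f ⋙ EtFppf.a T :=
    NatIso.ofComponents (fun V => Over.isoMk (Iso.refl _) (by exact Category.id_comp _))
      (fun g => by apply Over.OverMorphism.ext; exact (Category.comp_id _).trans (Category.id_comp _).symm)
  haveI : (EtCoh.bc f ⋙ EtFppf.a T).IsContinuous S.smallEtaleTopology (EtFppf.J T) :=
    Functor.isContinuous_comp _ _ _ T.smallEtaleTopology _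
  let e : EtFppf.aPush T ⋙ EtCoh.push f ≅ EtFppf.pushBig f ⋙ EtFppf.aPush S :=
    Functor.sheafPushforwardContinuousComp' (Iso.refl (EtCoh.bc f ⋙ EtFppf.a T))
        AddCommGrpCat.{u + 1} S.smallEtaleTopology T.smallEtaleTopology (EtFppf.J T) ≪≫
      (Functor.sheafPushforwardContinuousComp' ε
        AddCommGrpCat.{u + 1} S.smallEtaleTopology (EtFppf.J S) (EtFppf.J T)).symm
  (((EtFppf.aAdj S).comp (fResAdj f)).leftAdjointUniq
    (((EtCoh.pullPushAdj f).comp (EtFppf.aAdj T)).ofNatIsoRight e))

/-- The section giving the comparison of free sheaves. -/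
noncomputable def fFree {V : Over T} {W : Over S} (π : (Over.map f).obj V ⟶ W) :
    lFree (EtFppf.J T) V ⟶ (fRes f).obj (lFree (EtFppf.J S) W) :=
  (lEquiv V _).symm ((lFree (EtFppf.J S) W).obj.map π.op (lSec (EtFppf.J S) W))

lemma lEquiv_fFree_comp {V : Over T} {W : Over S} (π : (Over.map f).obj V ⟶ W) {G : EtFppf.AbF S}
    (φ : lFree (EtFppf.J S) W ⟶ G) :
    lEquiv V _ (fFree f π ≫ (fRes f).map φ) = G.obj.map π.op (lEquiv W G φ) := by
  rw [lEquiv_comp, fFree, AddEquiv.apply_symm_apply]
  exact NatTrans.naturality_apply φ.hom π.op _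

/-- Restriction of classes to `T`. -/
noncomputable abbrev fExt {V : Over T} {W : Over S} (π : (Over.map f).obj V ⟶ W) (G : EtFppf.AbF S) (n : ℕ) :
    Ext.{u + 1} (lFree (EtFppf.J S) W) G n →+ Ext.{u + 1} (lFree (EtFppf.J T) V) ((fRes f).obj G) n :=
  SiteCoh.extTransfer (fRes f) (fFree f π) G n

lemma fExt_bijective (V : Over T) (G : EtFppf.AbF S) (n : ℕ) :
    Function.Bijective (fExt f (V := V) (𝟙 _) G n) := by
  refine SiteCoh.extTransfer_bijective _ _ (fun H => ?_) (fun I hI k => ?_) n G
  · have e : (fun φ : lFree (EtFppf.J S) ((Over.map f).obj V) ⟶ H => fFree f (𝟙 _) ≫ (fRes f).map φ) =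
        (lEquiv V ((fRes f).obj H)).symm ∘ lEquiv ((Over.map f).obj V) H := by
      funext φ
      apply (lEquiv V ((fRes f).obj H)).injective
      rw [lEquiv_fFree_comp, Function.comp_apply, AddEquiv.apply_symm_apply, op_id,
        CategoryTheory.Functor.map_id]
      rfl
    rw [e]
    exact (lEquiv V _).symm.bijective.comp (lEquiv _ _).bijective
  · have := fRes_injective f I
    exact Ext.subsingleton_of_injective _ _ k

lemma fExt_resX {V : Over T} {W W' : Over S} (π : (Over.map f).obj V ⟶ W') (g : W' ⟶ W)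
    {G : EtFppf.AbF S} {n : ℕ} (ξ : Ext.{u + 1} (lFree (EtFppf.J S) W) G n) :
    fExt f π G n (resX g ξ) = fExt f (π ≫ g) G n ξ := by
  have e : fFree f π ≫ (fRes f).map (lMap (EtFppf.J S) g) = fFree f (π ≫ g) := by
    apply (lEquiv V _).injective
    rw [lEquiv_fFree_comp, fFree, AddEquiv.apply_symm_apply, lEquiv_apply, lMap_lSec,
      ← ConcreteCategory.comp_apply, ← Functor.map_comp, ← op_comp]
  rw [SiteCoh.extTransfer_apply, SiteCoh.extTransfer_apply, Ext.mapExactFunctor_comp,
    Ext.mapExactFunctor_mk₀, ← Ext.comp_assoc _ _ _ (zero_add 0) (zero_add n) (by omega),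
    Ext.mk₀_comp_mk₀, e]

lemma resX_fExt {V V' : Over T} {W : Over S} (π : (Over.map f).obj V ⟶ W) (g : V' ⟶ V)
    {G : EtFppf.AbF S} {n : ℕ} (ξ : Ext.{u + 1} (lFree (EtFppf.J S) W) G n) :
    resX g (fExt f π G n ξ) = fExt f ((Over.map f).map g ≫ π) G n ξ := by
  have e : lMap (EtFppf.J T) g ≫ fFree f π = fFree f ((Over.map f).map g ≫ π) := by
    rw [fFree, lMap_comp_symm]
    apply (lEquiv V' _).injective
    rw [AddEquiv.apply_symm_apply, fFree, AddEquiv.apply_symm_apply]
    show (lFree (EtFppf.J S) W).obj.map ((Over.map f).map g).op _ = _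
    rw [← ConcreteCategory.comp_apply, ← Functor.map_comp, ← op_comp]
  rw [SiteCoh.extTransfer_apply, SiteCoh.extTransfer_apply, resX,
    ← Ext.comp_assoc _ _ _ (zero_add 0) (zero_add n) (by omega), Ext.mk₀_comp_mk₀, e]

lemma fExt_comp {V : Over T} {W : Over S} (π : (Over.map f).obj V ⟶ W) {G H : EtFppf.AbF S} {n : ℕ}
    (ξ : Ext.{u + 1} (lFree (EtFppf.J S) W) G n) (φ : G ⟶ H) :
    fExt f π H n (ξ.comp (Ext.mk₀ φ) (add_zero n)) =
      (fExt f π G n ξ).comp (Ext.mk₀ ((fRes f).map φ)) (add_zero n) :=
  SiteCoh.extTransfer_naturality _ _ ξ φ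

end Groth.Agent.Mod48
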