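import Groth.Agent.Mod48.TcAssoc

/-!
Invertible modules: tensoring is an equivalence iff there is a tensor inverse.
-/

universe u

open CategoryTheory CategoryTheory.Limits Opposite MonoidalCategory

namespace Groth.Agent.Mod48

variable {C : Type u} [SmallCategory C] {J : GrothendieckTopology C} {O : Sheaf J CommRingCat.{u}}

/-- Tensoring with a tensor product is the composite. -/
noncomputable def tensorCompIso (L N : ModSite.Mod O) : tL (tens L N) ≅ tL N ⋙ tL L :=
  NatIso.ofComponents (fun X => assocApp L N X) (fun {X Y} f => assocApp_nat₃ L N f)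

/-- A module with a tensor inverse is invertible. -/
theorem isEquivalence_of_inverse {L N : ModSite.Mod O} (e : tens L N ≅ ModSite.unit O) :
    ((ModSite.tensorBi O).obj L).IsEquivalence := by
  have a : tL N ⋙ tL L ≅ 𝟭 _ :=
    (tensorCompIso L N).symm ≪≫ (ModSite.tensorBi O).mapIso e ≪≫ tensUnit
  have b : tL L ⋙ tL N ≅ 𝟭 _ :=
    (tensorCompIso N L).symm ≪≫ (ModSite.tensorBi O).mapIso (((tensSymm N).app L) ≪≫ e) ≪≫ tensUnit
  exact (CategoryTheory.Equivalence.mk (tL L) (tL N) b.symm a).isEquivalence_functor

/-- An invertible module has a tensor inverse. -/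
theorem exists_inverse {L : ModSite.Mod O} (hL : ((ModSite.tensorBi O).obj L).IsEquivalence) :
    ∃ N : ModSite.Mod O, Nonempty (tens L N ≅ ModSite.unit O) :=
  ⟨_, ⟨((ModSite.tensorBi O).obj L).objObjPreimageIso (ModSite.unit O)⟩⟩

/-- The tensor product of invertible modules is invertible. -/
theorem isEquivalence_tens {L N : ModSite.Mod O} (hL : ((ModSite.tensorBi O).obj L).IsEquivalence)
    (hN : ((ModSite.tensorBi O).obj N).IsEquivalence) :
    ((ModSite.tensorBi O).obj (tens L N)).IsEquivalence := by
  have : (tL N ⋙ tL L).IsEquivalence := @Functor.isEquivalence_trans _ _ _ _ _ _ (tL N) (tL L) hN hL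
  exact Functor.isEquivalence_of_iso (tensorCompIso L N).symm

/-- The dual of an invertible module is an inverse. -/
theorem isEquivalence_dual {L : ModSite.Mod O} [ModSite.HasSheafHom L]
    (hL : ((ModSite.tensorBi O).obj L).IsEquivalence) :
    ((ModSite.tensorBi O).obj ((ModSite.sheafHom L).obj (ModSite.unit O))).IsEquivalence ∧
      IsIso ((ModSite.sheafHomAdj L).counit.app (ModSite.unit O)) := by
  have hR : ((ModSite.tensorBi O).flip.obj L).IsEquivalence :=
    have : (tL L).IsEquivalence := hL
    Functor.isEquivalence_of_iso (tensSymm L ≪≫ (tRIso L).symm)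
  have : (ModSite.sheafHom L).IsEquivalence := (ModSite.sheafHomAdj L).isEquivalence_right_of_isEquivalence_left
  have hc' : IsIso (ModSite.sheafHomAdj L).counit := inferInstance
  have hc : IsIso ((ModSite.sheafHomAdj L).counit.app (ModSite.unit O)) :=
    NatIso.isIso_app_of_isIso (ModSite.sheafHomAdj L).counit _
  refine ⟨?_, hc⟩
  let D := (ModSite.sheafHom L).obj (ModSite.unit O)
  let e : tens D L ≅ ModSite.unit O := @asIso _ _ _ _ ((ModSite.sheafHomAdj L).counit.app (ModSite.unit O)) hc
  exact isEquivalence_of_inverse e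

end Groth.Agent.Mod48
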