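import Groth.Agent.Mod48.Devissage
import Groth.Agent.Mod48.CohInPlus

/-!
Full faithfulness and essential image on bounded objects with cohomology in a weak Serre subcategory.
-/

universe w w' v v' u u'

open CategoryTheory CategoryTheory.Limits CategoryTheory.Pretriangulated
open scoped ZeroObject

set_option backward.isDefEq.respectTransparency false

namespace Groth.Agent.Mod48

section Triangulated

variable {A : Type u} [Category.{v} A] [HasZeroObject A] [HasShift A ℤ] [Preadditive A]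
  [∀ n : ℤ, (shiftFunctor A n).Additive] [Pretriangulated A]
  {B : Type u'} [Category.{v'} B] [HasZeroObject B] [HasShift B ℤ] [Preadditive B]
  [∀ n : ℤ, (shiftFunctor B n).Additive] [Pretriangulated B]
  (F : A ⥤ B) [F.CommShift ℤ] [F.IsTriangulated]

/-- `F` is bijective on morphisms from `X` to `Y`. -/
def MapBij (X Y : A) : Prop := Function.Bijective (fun φ : (X ⟶ Y) => F.map φ)

variable {F}

lemma MapBij.of_iso_right {X Y Y' : A} (h : MapBij F X Y) (e : Y ≅ Y') : MapBij F X Y' := by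
  refine ⟨fun φ ψ hφ => ?_, fun g => ?_⟩
  · have hφ' : F.map φ = F.map ψ := hφ
    have h' : F.map (φ ≫ e.inv) = F.map (ψ ≫ e.inv) := by rw [F.map_comp, F.map_comp, hφ']
    exact (cancel_mono e.inv).1 (h.1 h')
  · obtain ⟨φ, hφ⟩ := h.2 (g ≫ F.map e.inv)
    have hφ' : F.map φ = g ≫ F.map e.inv := hφ
    refine ⟨φ ≫ e.hom, ?_⟩
    show F.map (φ ≫ e.hom) = g
    rw [F.map_comp, hφ', Category.assoc, ← F.map_comp, e.inv_hom_id, F.map_id, Category.comp_id]

lemma MapBij.of_iso_left {X X' Y : A} (h : MapBij F X Y) (e : X ≅ X') : MapBij F X' Y := by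
  refine ⟨fun φ ψ hφ => ?_, fun g => ?_⟩
  · have hφ' : F.map φ = F.map ψ := hφ
    have h' : F.map (e.hom ≫ φ) = F.map (e.hom ≫ ψ) := by rw [F.map_comp, F.map_comp, hφ']
    exact (cancel_epi e.hom).1 (h.1 h')
  · obtain ⟨φ, hφ⟩ := h.2 (F.map e.hom ≫ g)
    have hφ' : F.map φ = F.map e.hom ≫ g := hφ
    refine ⟨e.inv ≫ φ, ?_⟩
    show F.map (e.inv ≫ φ) = g
    rw [F.map_comp, hφ', ← Category.assoc, ← F.map_comp, e.inv_hom_id, F.map_id, Category.id_comp]

omit [∀ n : ℤ, (shiftFunctor A n).Additive] [Pretriangulated A] [∀ n : ℤ, (shiftFunctor B n).Additive]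
  [Pretriangulated B] in
lemma MapBij.shift [∀ n : ℤ, (shiftFunctor A n).Additive] [∀ n : ℤ, (shiftFunctor B n).Additive]
    {X Y : A} (h : MapBij F X Y) (k : ℤ) : MapBij F (X⟦k⟧) (Y⟦k⟧) := by
  let e := F.commShiftIso k
  have key : ∀ φ : X ⟶ Y, F.map (φ⟦k⟧') = e.hom.app X ≫ (F.map φ)⟦k⟧' ≫ e.inv.app Y := fun φ => by
    have := e.hom.naturality φ
    simp only [Functor.comp_map] at this
    rw [← reassoc_of% this]
    simp
  refine ⟨fun a b hab => ?_, fun g => ?_⟩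
  · obtain ⟨φ, rfl⟩ := (shiftFunctor A k).map_surjective a
    obtain ⟨ψ, rfl⟩ := (shiftFunctor A k).map_surjective b
    have hab' : F.map (φ⟦k⟧') = F.map (ψ⟦k⟧') := hab
    rw [key, key, cancel_epi, cancel_mono] at hab'
    exact congrArg _ (h.1 ((shiftFunctor B k).map_injective hab'))
  · obtain ⟨g', hg'⟩ := (shiftFunctor B k).map_surjective (e.inv.app X ≫ g ≫ e.hom.app Y)
    obtain ⟨φ, hφ⟩ := h.2 g'
    refine ⟨φ⟦k⟧', ?_⟩
    show F.map (φ⟦k⟧') = g
    rw [key, show F.map φ = g' from hφ, hg']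
    simp

lemma MapBij.of_isZero_right {X Y : A} (hY : IsZero Y) : MapBij F X Y :=
  ⟨fun _ _ _ => hY.eq_of_tgt _ _, fun _ => ⟨0, (F.map_isZero hY).eq_of_tgt _ _⟩⟩

lemma MapBij.of_isZero_left {X Y : A} (hX : IsZero X) : MapBij F X Y :=
  ⟨fun _ _ _ => hX.eq_of_src _ _, fun _ => ⟨0, (F.map_isZero hX).eq_of_src _ _⟩⟩

/-- The five lemma in the target. -/
lemma MapBij.of_triangle_right {X : A} (T : Triangle A) (hT : T ∈ distTriang A)
    (h₀ : MapBij F X (T.obj₃⟦(-1 : ℤ)⟧)) (h₁ : MapBij F X T.obj₁) (h₃ : MapBij F X T.obj₃)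
    (h₄ : MapBij F X (T.obj₁⟦(1 : ℤ)⟧)) : MapBij F X T.obj₂ := by
  have : F.Additive := inferInstance
  have hFT := F.map_distinguished T hT
  have hI := inv_rot_of_distTriang _ hT
  have hFI := F.map_distinguished _ hI
  constructor
  · intro a b hab
    have hab' : F.map (a - b) = 0 := by rw [F.map_sub]; exact sub_eq_zero.2 hab
    refine sub_eq_zero.1 ?_
    generalize a - b = φ at hab'
    have e : φ ≫ T.mor₂ = 0 := h₃.1 (by show F.map _ = F.map 0; rw [F.map_comp, hab', zero_comp, F.map_zero])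
    obtain ⟨ψ, rfl⟩ := Triangle.coyoneda_exact₂ T hT φ e
    rw [F.map_comp] at hab'
    obtain ⟨χ, hχ⟩ := Triangle.coyoneda_exact₂ _ hFI (F.map ψ) hab'
    obtain ⟨χ', rfl⟩ := h₀.2 χ
    have e2 : ψ = χ' ≫ T.invRotate.mor₁ :=
      h₁.1 (hχ.trans (F.map_comp χ' T.invRotate.mor₁).symm)
    rw [e2, Category.assoc]
    exact (whisker_eq χ' (comp_distTriang_mor_zero₁₂ _ hI)).trans comp_zero
  · intro g
    obtain ⟨h, hh⟩ := h₃.2 (g ≫ F.map T.mor₂)
    have hh' : F.map h = g ≫ F.map T.mor₂ := hh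
    have e : h ≫ T.mor₃ = 0 := h₄.1 (by
      show F.map _ = F.map 0
      rw [F.map_comp, hh', Category.assoc, ← F.map_comp, comp_distTriang_mor_zero₂₃ _ hT, F.map_zero, F.map_zero, comp_zero])
    obtain ⟨φ₀, rfl⟩ := Triangle.coyoneda_exact₃ T hT h e
    have e2 : (g - F.map φ₀) ≫ F.map T.mor₂ = 0 := by
      rw [Preadditive.sub_comp, ← F.map_comp, ← hh', sub_self]
    obtain ⟨χ, hχ⟩ := Triangle.coyoneda_exact₂ _ hFT _ e2
    obtain ⟨χ', rfl⟩ := h₁.2 χ
    refine ⟨φ₀ + χ' ≫ T.mor₁, ?_⟩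
    show F.map _ = g
    rw [F.map_add, F.map_comp]
    exact eq_add_of_sub_eq' hχ |>.symm

/-- The five lemma in the source. -/
lemma MapBij.of_triangle_left {Y : A} (T : Triangle A) (hT : T ∈ distTriang A)
    (h₀ : MapBij F (T.obj₃⟦(-1 : ℤ)⟧) Y) (h₁ : MapBij F T.obj₁ Y) (h₃ : MapBij F T.obj₃ Y)
    (h₄ : MapBij F (T.obj₁⟦(1 : ℤ)⟧) Y) : MapBij F T.obj₂ Y := by
  have : F.Additive := inferInstance
  have hFT := F.map_distinguished T hT
  have hI := inv_rot_of_distTriang _ hT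
  have hR := rot_of_distTriang _ hT
  have hFR := F.map_distinguished _ hR
  constructor
  · intro a b hab
    have hab' : F.map (a - b) = 0 := by rw [F.map_sub]; exact sub_eq_zero.2 hab
    refine sub_eq_zero.1 ?_
    generalize a - b = φ at hab'
    have e : T.mor₁ ≫ φ = 0 := h₁.1 (by show F.map _ = F.map 0; rw [F.map_comp, hab', comp_zero, F.map_zero])
    obtain ⟨ψ, rfl⟩ := Triangle.yoneda_exact₂ T hT φ e
    rw [F.map_comp] at hab'
    obtain ⟨χ, hχ⟩ := Triangle.yoneda_exact₂ _ hFR (F.map ψ) hab'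
    obtain ⟨χ', rfl⟩ := h₄.2 χ
    have e2 : ψ = T.mor₃ ≫ χ' := h₃.1 (hχ.trans (F.map_comp T.mor₃ χ').symm)
    rw [e2, ← Category.assoc, comp_distTriang_mor_zero₂₃ _ hT, zero_comp]
  · intro g
    obtain ⟨h, hh⟩ := h₁.2 (F.map T.mor₁ ≫ g)
    have hh' : F.map h = F.map T.mor₁ ≫ g := hh
    have e : T.invRotate.mor₁ ≫ h = 0 := h₀.1 (by
      show F.map (T.invRotate.mor₁ ≫ h) = F.map 0
      rw [F.map_comp, hh', ← Category.assoc, ← F.map_comp]
      erw [comp_distTriang_mor_zero₁₂ _ hI]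
      rw [F.map_zero, F.map_zero, zero_comp])
    obtain ⟨φ₀, rfl⟩ := Triangle.yoneda_exact₂ _ hI h e
    change T.obj₂ ⟶ Y at φ₀
    have e2 : F.map T.mor₁ ≫ (g - F.map φ₀) = 0 := by
      rw [Preadditive.comp_sub, ← F.map_comp, ← hh']
      exact sub_self _
    obtain ⟨χ, hχ⟩ := Triangle.yoneda_exact₂ _ hFT _ e2
    obtain ⟨χ', rfl⟩ := h₃.2 χ
    refine ⟨φ₀ + T.mor₂ ≫ χ', ?_⟩
    show F.map _ = g
    rw [F.map_add, F.map_comp]
    exact eq_add_of_sub_eq' hχ |>.symm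

variable (F) in
/-- `F` is bijective on morphisms from `X` to all shifts of `Y`. -/
def MapBijAll (X Y : A) : Prop := ∀ n : ℤ, MapBij F X (Y⟦n⟧)

lemma MapBijAll.of_triangle_right {X : A} (T : Triangle A) (hT : T ∈ distTriang A)
    (h₁ : MapBijAll F X T.obj₁) (h₃ : MapBijAll F X T.obj₃) : MapBijAll F X T.obj₂ := by
  intro n
  refine MapBij.of_triangle_right _ (Triangle.shift_distinguished T hT n) ?_ (h₁ n) (h₃ n) ?_
  · exact (h₃ (n + (-1))).of_iso_right ((shiftFunctorAdd A n (-1)).app T.obj₃)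
  · exact (h₁ (n + 1)).of_iso_right ((shiftFunctorAdd A n 1).app T.obj₁)

lemma MapBijAll.shift_left {X Y : A} (h : MapBijAll F X Y) (k : ℤ) : MapBijAll F (X⟦k⟧) Y := fun n =>
  ((h (n + -k)).shift k).of_iso_right ((shiftFunctorAdd' A (n + -k) k n (by omega)).app Y).symm

lemma MapBijAll.of_triangle_left {Y : A} (T : Triangle A) (hT : T ∈ distTriang A)
    (h₁ : MapBijAll F T.obj₁ Y) (h₃ : MapBijAll F T.obj₃ Y) : MapBijAll F T.obj₂ Y :=
  fun n => MapBij.of_triangle_left T hT (h₃.shift_left (-1) n) (h₁ n) (h₃ n) (h₁.shift_left 1 n)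

lemma MapBijAll.shift_right {X Y : A} (h : MapBijAll F X Y) (k : ℤ) : MapBijAll F X (Y⟦k⟧) := fun n =>
  (h (k + n)).of_iso_right ((shiftFunctorAdd A k n).app Y)

lemma MapBijAll.of_iso_right {X Y Y' : A} (h : MapBijAll F X Y) (e : Y ≅ Y') : MapBijAll F X Y' :=
  fun n => (h n).of_iso_right ((shiftFunctor A n).mapIso e)

lemma MapBijAll.of_iso_left {X X' Y : A} (h : MapBijAll F X Y) (e : X ≅ X') : MapBijAll F X' Y :=
  fun n => (h n).of_iso_left e

lemma MapBijAll.mapBij {X Y : A} (h : MapBijAll F X Y) : MapBij F X Y :=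
  (h 0).of_iso_right ((shiftFunctorZero A ℤ).app Y)

end Triangulated

section Derived

open DerivedCategory

variable {A : Type u} [Category.{v} A] [Abelian A] [HasDerivedCategory.{w} A]
  {B : Type u'} [Category.{v'} B] [Abelian B] [HasDerivedCategory.{w'} B]
  (L : A ⥤ B) [L.Additive] [PreservesFiniteLimits L] [PreservesFiniteColimits L]
  (P : ObjectProperty A) [WSerre.IsWeakSerre P] (Q : ObjectProperty B) [WSerre.IsWeakSerre Q]

lemma prop_of_isZero (X : A) (hX : IsZero X) : P X := by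
  obtain ⟨Z₀, hZ₀, hP⟩ := P.exists_prop_of_containsZero
  exact P.prop_of_iso (hZ₀.iso hX) hP

lemma cohInBdd_zero (X : DerivedCategory A) (hX : IsZero X) : WSerre.cohInBdd P X :=
  ⟨fun i => prop_of_isZero P _ ((homologyFunctor A i).map_isZero hX),
    ⟨⟨0, TStructure.t.isGE_of_isZero hX 0⟩, ⟨0, TStructure.t.isLE_of_isZero hX 0⟩⟩⟩

lemma cohInBdd_single (F : A) (hF : P F) (q : ℤ) : WSerre.cohInBdd P ((singleFunctor A q).obj F) := by
  refine ⟨fun j => ?_, ⟨q, inferInstance⟩, ⟨q, inferInstance⟩⟩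
  by_cases h : j = q
  · subst h
    exact P.prop_of_iso ((singleFunctorCompHomologyFunctorIso A j).app F).symm hF
  · rcases lt_or_gt_of_ne h with h' | h'
    · exact prop_of_isZero P _ (DerivedCategory.isZero_of_isGE _ q j h')
    · exact prop_of_isZero P _ (DerivedCategory.isZero_of_isLE _ q j h')

lemma cohInBdd_shift {X : DerivedCategory A} (hX : WSerre.cohInBdd P X) (k : ℤ) :
    WSerre.cohInBdd P (X⟦k⟧) := by
  refine ⟨fun i => P.prop_of_iso (((homologyFunctor A 0).shiftIso k i (k + i) rfl).app X).symm (hX.1 _), ?_⟩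
  exact TStructure.t.bounded.le_shift k _ hX.2

lemma cohInBdd_obj₂ (T : Triangle (DerivedCategory A)) (hT : T ∈ distTriang (DerivedCategory A))
    (h₁ : WSerre.cohInBdd P T.obj₁) (h₃ : WSerre.cohInBdd P T.obj₃) : WSerre.cohInBdd P T.obj₂ := by
  refine ⟨fun i => prop_homology_obj₂ P T hT h₁.1 h₃.1 i, ?_⟩
  obtain ⟨⟨a, ha⟩, ⟨b, hb⟩⟩ := h₁.2
  obtain ⟨⟨a', ha'⟩, ⟨b', hb'⟩⟩ := h₃.2
  exact ⟨⟨min a a', TStructure.t.isGE₂ T hT _ (TStructure.t.isGE_of_ge _ _ _ (min_le_left a a'))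
      (TStructure.t.isGE_of_ge _ _ _ (min_le_right a a'))⟩,
    ⟨max b b', TStructure.t.isLE₂ T hT _ (TStructure.t.isLE_of_le _ _ _ (le_max_left b b'))
      (TStructure.t.isLE_of_le _ _ _ (le_max_right b b'))⟩⟩

lemma bounded_induction' (R : ObjectProperty (DerivedCategory A)) [R.IsClosedUnderIsomorphisms]
    (hzero : ∀ Z, IsZero Z → R Z)
    (hext : ∀ T ∈ distinguishedTriangles, R (Triangle.obj₁ T) → R (Triangle.obj₃ T) → R (Triangle.obj₂ T))
    (X : DerivedCategory A) (hX : WSerre.cohInBdd P X)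
    (hs : ∀ (q : ℤ) (F : A), P F → R ((singleFunctor A q).obj F)) : R X := by
  obtain ⟨hc, ⟨a, ha⟩, ⟨b, hb⟩⟩ := hX
  exact bounded_induction R hzero hext (b - a + 1).toNat a X ha
    (TStructure.t.isLE_of_le X b _ (by omega)) fun q => hs q _ (hc q)

variable {P}

/-- Full faithfulness on bounded objects from full faithfulness on objects in degree zero. -/
theorem mapBij_cohInBdd
    (h2 : ∀ (F F' : A), P F → P F' → MapBijAll L.mapDerivedCategory ((singleFunctor A 0).obj F)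
      ((singleFunctor A 0).obj F'))
    (K M : DerivedCategory A) (hK : WSerre.cohInBdd P K) (hM : WSerre.cohInBdd P M) :
    MapBijAll L.mapDerivedCategory K M := by
  have hs : ∀ (q : ℤ) (F : A), ((singleFunctor A 0).obj F)⟦-q⟧ ≅ (singleFunctor A q).obj F := fun q F =>
    (SingleFunctors.shiftIso (singleFunctors A) (-q) q 0 (by lia)).app F
  let S : ObjectProperty (DerivedCategory A) := fun Y => ∀ F, P F →
    MapBijAll L.mapDerivedCategory ((singleFunctor A 0).obj F) Y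
  have : S.IsClosedUnderIsomorphisms := ⟨fun e h F hF => (h F hF).of_iso_right e⟩
  have h1 : S M := by
    refine bounded_induction' P S (fun Z hZ F _ n => ?_) (fun T hT a c F hF => ?_) M hM ?_
    · exact MapBij.of_isZero_right ((shiftFunctor _ n).map_isZero hZ)
    · exact MapBijAll.of_triangle_right T hT (a F hF) (c F hF)
    · exact fun q F' hF' F hF => ((h2 F F' hF hF').shift_right (-q)).of_iso_right (hs q F')
  let R : ObjectProperty (DerivedCategory A) := fun X => MapBijAll L.mapDerivedCategory X M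
  have : R.IsClosedUnderIsomorphisms := ⟨fun e h => MapBijAll.of_iso_left h e⟩
  refine bounded_induction' P R (fun Z hZ n => MapBij.of_isZero_left hZ)
    (fun T hT a c => MapBijAll.of_triangle_left T hT a c) K hK fun q F hF => ?_
  exact ((h1 F hF).shift_left (-q)).of_iso_left (hs q F)

variable {Q}

lemma cohInBdd_map (h1 : ∀ F, P F → Q (L.obj F)) (K : DerivedCategory A) (hK : WSerre.cohInBdd P K) :
    WSerre.cohInBdd Q (L.mapDerivedCategory.obj K) := by
  obtain ⟨hc, ⟨a, ha⟩, ⟨b, hb⟩⟩ := hK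
  exact ⟨fun i => Q.prop_of_iso (nonempty_homology_mapDerivedCategory L K i).some.symm (h1 _ (hc i)),
    ⟨a, isGE_mapDerivedCategory L K a ha⟩, ⟨b, isLE_mapDerivedCategory L K b hb⟩⟩

/-- Essential surjectivity on bounded objects. -/
theorem exists_preimage_cohInBdd
    (h2 : ∀ (F F' : A), P F → P F' → MapBijAll L.mapDerivedCategory ((singleFunctor A 0).obj F)
      ((singleFunctor A 0).obj F'))
    (hes : ∀ G : B, Q G → ∃ F, P F ∧ Nonempty (L.obj F ≅ G))
    (M : DerivedCategory B) (hM : WSerre.cohInBdd Q M) :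
    ∃ K, WSerre.cohInBdd P K ∧ Nonempty (L.mapDerivedCategory.obj K ≅ M) := by
  let R : ObjectProperty (DerivedCategory B) := fun M =>
    ∃ K, WSerre.cohInBdd P K ∧ Nonempty (L.mapDerivedCategory.obj K ≅ M)
  have : R.IsClosedUnderIsomorphisms := ⟨fun e ⟨K, hK, ⟨a⟩⟩ => ⟨K, hK, ⟨a ≪≫ e⟩⟩⟩
  refine bounded_induction' Q R (fun Z hZ => ?_) (fun T hT => ?_) M hM (fun q G hG => ?_)
  · refine ⟨(singleFunctor A 0).obj 0, cohInBdd_zero P _ ((singleFunctor A 0).map_isZero (isZero_zero A)), ⟨?_⟩⟩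
    exact (L.mapDerivedCategory.map_isZero ((singleFunctor A 0).map_isZero (isZero_zero A))).iso hZ
  · rintro ⟨K₁, hK₁, ⟨e₁⟩⟩ ⟨K₃, hK₃, ⟨e₃⟩⟩
    let Φ := L.mapDerivedCategory
    obtain ⟨c, hc⟩ := (mapBij_cohInBdd L h2 K₃ (K₁⟦(1 : ℤ)⟧) hK₃ (cohInBdd_shift P hK₁ 1)).mapBij.2
      (e₃.hom ≫ T.mor₃ ≫ e₁.inv⟦(1 : ℤ)⟧' ≫ (Φ.commShiftIso (1 : ℤ)).inv.app K₁)
    have hc' : Φ.map c = e₃.hom ≫ T.mor₃ ≫ e₁.inv⟦(1 : ℤ)⟧' ≫ (Φ.commShiftIso (1 : ℤ)).inv.app K₁ := hc
    obtain ⟨K₂, a, b, hK⟩ := distinguished_cocone_triangle₂ c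
    refine ⟨K₂, cohInBdd_obj₂ P _ hK hK₁ hK₃, ⟨?_⟩⟩
    refine Triangle.π₂.mapIso (isoTriangleOfIso₁₃ (Φ.mapTriangle.obj (Triangle.mk a b c)) T
      (Φ.map_distinguished _ hK) hT e₁ e₃ ?_)
    change (Φ.map c ≫ (Φ.commShiftIso (1 : ℤ)).hom.app K₁) ≫ e₁.hom⟦(1 : ℤ)⟧' = e₃.hom ≫ T.mor₃
    rw [hc']
    simp only [Category.assoc, Iso.inv_hom_id_app_assoc, ← Functor.map_comp, Iso.inv_hom_id]
    simp
  · obtain ⟨F, hF, ⟨e⟩⟩ := hes G hG
    exact ⟨_, cohInBdd_single P F hF q,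
      ⟨(L.mapDerivedCategorySingleFunctor q).app F ≪≫ (singleFunctor B q).mapIso e⟩⟩

end Derived

end Groth.Agent.Mod48
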