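import Groth.Agent.Mod48.FreeOn
import Groth.Agent.SiteMod.RestrTensor
import Groth.Agent.SiteMod.Basics

/-!
Maps out of the restriction of a free module on an object, and restriction preserves colimits.
-/

universe u

open CategoryTheory CategoryTheory.Limits Opposite

namespace Groth.Agent.Mod48

open SiteMod

variable {C : Type u} [SmallCategory C] {J : GrothendieckTopology C} {O : Sheaf J CommRingCat.{u}}
  (U Y : C) (G : ModSite.Mod (O.over U))

/-- Compatible families of sections indexed by arrows to `Y`. -/
def Fam : Type u :=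
  { t : ∀ W : Over U, (W.left ⟶ Y) → (pre G).obj (op W) //
    ∀ ⦃W W' : Over U⦄ (g : W' ⟶ W) (b : W.left ⟶ Y), res (pre G) g.op (t W b) = t W' (g.left ≫ b) }

/-- The tautological section. -/
noncomputable def genY : (pre (ModSite.freeOn O Y)).obj (op Y) := freeOnEquiv Y _ (𝟙 _)

/-- The presheaf model of the restriction. -/
noncomputable abbrev preFree : PreM (O.over U) := (preR U).obj (freeY (O := O) Y)

/-- The family of a map. -/
noncomputable def famOfPre (α : preFree U Y ⟶ pre G) : Fam U Y G :=
  ⟨fun W b => α.app (op W) (ModuleCat.freeMk b), fun W W' g b => by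
    refine (app_res α g.op (ModuleCat.freeMk b)).symm.trans ?_
    refine congrArg (α.app (op W')) ?_
    change res (freeY (O := O) Y) g.left.op (ModuleCat.freeMk b) = ModuleCat.freeMk (g.left ≫ b)
    exact ModuleCat.freeDesc_apply _ b⟩

/-- The map of a family. -/
noncomputable def preOfFam (t : Fam U Y G) : preFree U Y ⟶ pre G where
  app W := ModuleCat.freeDesc (↾fun b => t.1 W.unop b)
  naturality {W W'} g := by
    refine ModuleCat.free_hom_ext fun b => ?_
    change ModuleCat.freeDesc (↾fun b => t.1 W'.unop b)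
        (res (freeY (O := O) Y) g.unop.left.op (ModuleCat.freeMk b)) =
      res (pre G) g.unop.op (ModuleCat.freeDesc (↾fun b => t.1 W.unop b) (ModuleCat.freeMk b))
    rw [show res (freeY (O := O) Y) g.unop.left.op (ModuleCat.freeMk b) = ModuleCat.freeMk (g.unop.left ≫ b)
      from ModuleCat.freeDesc_apply _ b]
    refine (ModuleCat.freeDesc_apply _ _).trans (Eq.trans ?_
      (congrArg (res (pre G) g.unop.op) (ModuleCat.freeDesc_apply _ b)).symm)
    exact (t.2 g.unop b).symm

/-- Maps out of the presheaf model are families. -/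
noncomputable def preFamEquiv : (preFree U Y ⟶ pre G) ≃ Fam U Y G where
  toFun := famOfPre U Y G
  invFun := preOfFam U Y G
  left_inv α := by
    refine PresheafOfModules.hom_ext fun W => ModuleCat.free_hom_ext fun b => ?_
    exact ModuleCat.freeDesc_apply _ b
  right_inv t := by
    refine Subtype.ext (funext fun W => funext fun b => ?_)
    exact ModuleCat.freeDesc_apply _ b

/-- The comparison of the model with the restriction. -/
noncomputable def kappa : preFree U Y ⟶ pre ((ModSite.restr O U).obj (ModSite.freeOn O Y)) :=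
  (preR U).map (shfU (freeY (O := O) Y) ≫ fgt.map (freeOnIso Y).inv)

lemma isLocalIso_kappa : IsIso (shf.map (kappa (O := O) U Y)) := by
  refine (isIso_shf_map_iff_isLocalIso _).2 (isLocalIso_preR U _ ((isIso_shf_map_iff_isLocalIso _).1 ?_))
  rw [Functor.map_comp]
  exact @IsIso.comp_isIso _ _ _ _ _ _ _ inferInstance (Functor.map_isIso shf (fgt.map (freeOnIso (O := O) Y).inv))

lemma kappa_app (W : Over U) (b : W.left ⟶ Y) :
    (kappa (O := O) U Y).app (op W) (ModuleCat.freeMk b) = res (pre (ModSite.freeOn O Y)) b.op (genY Y) := by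
  let α : freeY (O := O) Y ⟶ pre (ModSite.freeOn O Y) := shfU (freeY Y) ≫ fgt.map (freeOnIso Y).inv
  have h1 : α.app (op Y) (ModuleCat.freeMk (𝟙 Y)) = genY Y := by
    have h : shfFreeYEquiv Y _ (freeOnIso (O := O) Y).inv = genY Y :=
      (shfFreeYEquiv Y (ModSite.freeOn O Y)).apply_symm_apply _
    exact h
  change α.app (op W.left) (ModuleCat.freeMk b) = _
  rw [← h1, ← app_res]
  refine congrArg (α.app (op W.left)) ?_
  change _ = res (freeY (O := O) Y) b.op (ModuleCat.freeMk (𝟙 Y))
  have h2 : res (freeY (O := O) Y) b.op (ModuleCat.freeMk (𝟙 Y)) = ModuleCat.freeMk (b ≫ 𝟙 Y) :=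
    ModuleCat.freeDesc_apply _ (𝟙 Y)
  rw [h2, Category.comp_id]

/-- A map out of the restriction, precomposed with the comparison. -/
lemma bijective_kappa_comp :
    Function.Bijective fun φ : (ModSite.restr O U).obj (ModSite.freeOn O Y) ⟶ G => kappa U Y ≫ fgt.map φ := by
  have := isLocalIso_kappa (O := O) U Y
  let M := (ModSite.restr O U).obj (ModSite.freeOn O Y)
  let e : ((M ⟶ G)) ≃ (preFree U Y ⟶ pre G) :=
    ((asIso (shf.map (kappa U Y)) ≪≫ shfCounitIso.app M).homFromEquiv.symm).trans
      (shfHomEquiv (preFree U Y) G)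
  have : (fun φ : M ⟶ G => kappa U Y ≫ fgt.map φ) = e := by
    funext φ
    refine ((shfHomEquiv (preFree U Y) G).apply_symm_apply _).symm.trans (congrArg _ ?_)
    change (shfHomEquiv (preFree U Y) G).symm (kappa U Y ≫ fgt.map φ) = (shf.map (kappa U Y) ≫ shfCounitIso.hom.app M) ≫ φ
    rw [shfHomEquiv, Adjunction.homEquiv_symm_apply, Functor.map_comp, Category.assoc, Category.assoc]
    exact congrArg (shf.map (kappa U Y) ≫ ·) (shfCounitIso.hom.naturality φ)
  rw [this]
  exact e.bijective

/-- Maps out of the restriction of a free module are families. -/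
noncomputable def restrFreeEquiv :
    ((ModSite.restr O U).obj (ModSite.freeOn O Y) ⟶ G) ≃ Fam U Y G :=
  (Equiv.ofBijective _ (bijective_kappa_comp U Y G)).trans (preFamEquiv U Y G)

lemma restrFreeEquiv_apply (φ : (ModSite.restr O U).obj (ModSite.freeOn O Y) ⟶ G) (W : Over U)
    (b : W.left ⟶ Y) :
    (restrFreeEquiv U Y G φ).1 W b =
      (fgt.map φ).app (op W) (res (pre (ModSite.freeOn O Y)) b.op (genY Y)) :=
  congrArg ((fgt.map φ).app (op W)) (kappa_app U Y W b)

/-- Restriction preserves colimits. -/
theorem preservesColimits_restr : PreservesColimitsOfSize.{u, u} (ModSite.restr O U) := by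
  have h1 := SiteMod.toSheaf_preservesColimits' (ModSite.ringSh O)
  have h2 := SiteMod.toSheaf_preservesColimits' (ModSite.ringSh (O.over U))
  have : ReflectsColimitsOfSize.{u, u} (SheafOfModules.toSheaf.{u} (ModSite.ringSh (O.over U))) :=
    reflectsColimits_of_reflectsIsomorphisms
  have h3 : PreservesColimitsOfSize.{u, u}
      ((Over.forget U).sheafPushforwardContinuous AddCommGrpCat.{u} (J.over U) J) :=
    ((Over.forget U).sheafAdjunctionCocontinuous AddCommGrpCat.{u} (J.over U) J).leftAdjoint_preservesColimits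
  have h4 : PreservesColimitsOfSize.{u, u} (SheafOfModules.toSheaf.{u} (ModSite.ringSh O) ⋙
      (Over.forget U).sheafPushforwardContinuous AddCommGrpCat.{u} (J.over U) J) := inferInstance
  have h5 : PreservesColimitsOfSize.{u, u}
      (ModSite.restr O U ⋙ SheafOfModules.toSheaf.{u} (ModSite.ringSh (O.over U))) := h4
  exact preservesColimits_of_reflects_of_preserves _ (SheafOfModules.toSheaf.{u} (ModSite.ringSh (O.over U)))

end Groth.Agent.Mod48
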