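import Groth.Agent.SiteMod.LocSurj
import Groth.Agent.Mod48.RestrFree
import Mathlib.Algebra.Category.ModuleCat.Descent
import Mathlib.Algebra.Category.ModuleCat.Presheaf.Colimits
import Mathlib.Algebra.Category.ModuleCat.Sheaf.Quasicoherent
import Mathlib.Algebra.Homology.ShortComplex.ShortExact

/-!
Quasi-coherent modules for a topology with only trivial coverings.
-/

universe u

open CategoryTheory CategoryTheory.Limits Opposite

namespace Groth.Agent.Mod48

open SiteMod

variable {C : Type u} [SmallCategory C] {J : GrothendieckTopology C} {O : Sheaf J CommRingCat.{u}}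

/-- Only maximal sieves cover. -/
def Chaotic (J : GrothendieckTopology C) : Prop := ∀ (X : C) (S : Sieve X), S ∈ J X → S = ⊤

lemma chaotic_bot : Chaotic (⊥ : GrothendieckTopology C) :=
  fun _ _ hS => GrothendieckTopology.bot_covering.1 hS

lemma Chaotic.over (hJ : Chaotic J) (V : C) : Chaotic (J.over V) := by
  intro W S hS
  have h : Sieve.overEquiv W S = ⊤ := hJ _ _ hS
  have h' : Sieve.overEquiv W S = Sieve.overEquiv W ⊤ := by
    rw [h]
    exact (Sieve.overEquiv_top _).symm
  exact (Sieve.overEquiv W).injective h'

lemma Chaotic.isSheaf (hJ : Chaotic J) {A : Type*} [Category A] (P : Cᵒᵖ ⥤ A) : Presheaf.IsSheaf J P :=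
  fun E X S hS => by
    rw [hJ X S hS]
    exact Presieve.isSheafFor_top_sieve _

lemma Chaotic.isEquivalence_fgt (hJ : Chaotic J) : (fgt : ModSite.Mod O ⥤ PreM O).IsEquivalence :=
  { faithful := inferInstance
    full := (SheafOfModules.fullyFaithfulForget (ModSite.ringSh O)).full
    essSurj := ⟨fun P => ⟨⟨P, hJ.isSheaf _⟩, ⟨Iso.refl _⟩⟩⟩ }

lemma Chaotic.preservesColimits_sectF (hJ : Chaotic J) (W : C) (K : Type u) [Category.{u} K] :
    PreservesColimitsOfShape K (sectF (O := O) W) := by
  have := hJ.isEquivalence_fgt (O := O)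
  have : PreservesColimitsOfShape K (fgt : ModSite.Mod O ⥤ PreM O) := inferInstance
  have : PreservesColimitsOfShape K
      (PresheafOfModules.evaluation (O.obj ⋙ forget₂ CommRingCat.{u} RingCat.{u}) (op W)) := inferInstance
  exact comp_preservesColimitsOfShape _ _

lemma Chaotic.preservesColimits_sectF₀ (hJ : Chaotic J) (W : C) :
    PreservesColimitsOfShape WalkingParallelPair (sectF (O := O) W) := by
  have : PreservesColimitsOfSize.{u, u} (sectF (O := O) W) :=
    ⟨fun {K} _ => hJ.preservesColimits_sectF W K⟩
  have : PreservesColimitsOfSize.{0, 0} (sectF (O := O) W) := preservesColimitsOfSize_shrink.{0, u, 0, u} _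
  infer_instance

lemma preservesFiniteLimits_sectF (W : C) : PreservesFiniteLimits (sectF (O := O) W) := by
  have : PreservesFiniteLimits (PresheafOfModules.evaluation
      (O.obj ⋙ forget₂ CommRingCat.{u} RingCat.{u}) (op W)) :=
    PresheafOfModules.evaluation_preservesFiniteLimits _ (op W)
  exact comp_preservesFiniteLimits _ _

/-! ### The base change maps -/

section Base

variable {o T : C} (e : o ⟶ T)

/-- Extension of scalars of the sections over `T`. -/
noncomputable abbrev extT : ModSite.Mod O ⥤ ModuleCat.{u} (O.obj.obj (op o)) :=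
  sectF T ⋙ ModuleCat.extendScalars (O.obj.map e.op).hom

/-- Restriction of sections. -/
noncomputable def restrSect : sectF (O := O) T ⟶ sectF o ⋙ ModuleCat.restrictScalars (O.obj.map e.op).hom where
  app M := M.val.map e.op
  naturality M N φ := ModuleCat.hom_ext (LinearMap.ext fun x =>
    (PresheafOfModules.naturality_apply φ.val e.op x).symm)

/-- The base change map of a module along an arrow. -/
noncomputable def baseMap : extT (O := O) e ⟶ sectF o where
  app M := ((ModuleCat.extendRestrictScalarsAdj (O.obj.map e.op).hom).homEquiv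
    ((sectF (O := O) T).obj M) ((sectF (O := O) o).obj M)).symm ((restrSect (O := O) e).app M)
  naturality M N φ :=
    ((ModuleCat.extendRestrictScalarsAdj (O.obj.map e.op).hom).homEquiv_naturality_left_symm
        ((sectF (O := O) T).map φ) ((restrSect (O := O) e).app N)).symm.trans
      ((congrArg _ ((restrSect (O := O) e).naturality φ)).trans
        ((ModuleCat.extendRestrictScalarsAdj (O.obj.map e.op).hom).homEquiv_naturality_right_symm
          ((restrSect (O := O) e).app M) ((sectF (O := O) o).map φ)))

lemma isIso_baseMap_unit : IsIso ((baseMap (O := O) e).app (SheafOfModules.unit (ModSite.ringSh O))) := by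
  rw [isIso_iff_coyoneda_map_bijective]
  intro N
  let R := O.obj.obj (op o)
  let adj := ModuleCat.extendRestrictScalarsAdj (O.obj.map e.op).hom
  let M : ModSite.Mod O := SheafOfModules.unit (ModSite.ringSh O)
  refine (Function.Bijective.of_comp_iff' (adj.homEquiv (M.val.obj (op T) : ModuleCat.{u} (O.obj.obj (op T))) N).bijective _).1 ?_
  have h : ∀ ψ : (M.val.obj (op o) : ModuleCat.{u} R) ⟶ N,
      adj.homEquiv _ N ((baseMap (O := O) e).app M ≫ ψ) =
        (M.val.map e.op) ≫ (ModuleCat.restrictScalars (O.obj.map e.op).hom).map ψ := fun ψ => by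
    rw [Adjunction.homEquiv_naturality_right]
    exact congrArg (· ≫ _) (Equiv.apply_symm_apply _ _)
  have h1 : (O.obj.map e.op).hom (1 : O.obj.obj (op T)) = (1 : R) := map_one _
  refine ⟨fun (ψ ψ' : (M.val.obj (op o) : ModuleCat.{u} R) ⟶ N) hψ => ?_, fun θ => ?_⟩
  · have hψ' := ((h ψ).symm.trans hψ).trans (h ψ')
    refine ModuleCat.hom_ext (LinearMap.ext_ring (R := R) ?_)
    have hh := ConcreteCategory.congr_hom hψ' (1 : O.obj.obj (op T))
    change ψ.hom ((O.obj.map e.op).hom 1) = ψ'.hom ((O.obj.map e.op).hom 1) at hh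
    rwa [h1] at hh
  · let ψ : (M.val.obj (op o) : ModuleCat.{u} R) ⟶ N :=
      (show ModuleCat.of R R ⟶ N from ModuleCat.ofHom (LinearMap.toSpanSingleton R N (θ.hom (1 : O.obj.obj (op T)))))
    refine ⟨ψ, (h ψ).trans (ModuleCat.hom_ext (LinearMap.ext fun (r : O.obj.obj (op T)) => ?_))⟩
    have hl := (congrArg θ.hom (mul_one r).symm).trans (θ.hom.map_smul r (1 : O.obj.obj (op T)))
    exact hl.symm

/-- A map of functors is invertible on a colimit preserved by both, if it is on the diagram. -/
lemma isIso_app_colimit {D : Type*} [Category D] {E : Type*} [Category E] {A B : D ⥤ E} (β : A ⟶ B)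
    {K : Type*} [Category K] {G : K ⥤ D} {c : Cocone G} (hc : IsColimit c) [PreservesColimit G A]
    [PreservesColimit G B] (h : ∀ k, IsIso (β.app (G.obj k))) : IsIso (β.app c.pt) := by
  have : IsIso (Functor.whiskerLeft G β) := by
    rw [NatTrans.isIso_iff_isIso_app]
    exact h
  let hA := isColimitOfPreserves A hc
  let hB := isColimitOfPreserves B hc
  let i := hA.coconePointsIsoOfNatIso hB (asIso (Functor.whiskerLeft G β))
  have : β.app c.pt = i.hom := hA.hom_ext fun k => by
    rw [IsColimit.comp_coconePointsIsoOfNatIso_hom]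
    exact β.naturality (c.ι.app k)
  rw [this]
  infer_instance

/-- A map of functors is invertible on a limit preserved by both, if it is on the diagram. -/
lemma isIso_app_limit {D : Type*} [Category D] {E : Type*} [Category E] {A B : D ⥤ E} (β : A ⟶ B)
    {K : Type*} [Category K] {G : K ⥤ D} {c : Cone G} (hc : IsLimit c) [PreservesLimit G A]
    [PreservesLimit G B] (h : ∀ k, IsIso (β.app (G.obj k))) : IsIso (β.app c.pt) := by
  have : IsIso (Functor.whiskerLeft G β) := by
    rw [NatTrans.isIso_iff_isIso_app]
    exact h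
  let hA := isLimitOfPreserves A hc
  let hB := isLimitOfPreserves B hc
  let i := hA.conePointsIsoOfNatIso hB (asIso (Functor.whiskerLeft G β))
  have : β.app c.pt = i.hom := hB.hom_ext fun k => by
    rw [IsLimit.conePointsIsoOfNatIso_hom_comp]
    exact (β.naturality (c.π.app k)).symm
  rw [this]
  infer_instance

variable (hJ : Chaotic J)

include hJ

lemma isIso_baseMap_free (I : Type u) : IsIso ((baseMap (O := O) e).app (SheafOfModules.free I)) := by
  have := hJ.preservesColimits_sectF (O := O) T (Discrete I)
  have := hJ.preservesColimits_sectF (O := O) o (Discrete I)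
  exact isIso_app_colimit (baseMap e) (SheafOfModules.isColimitFreeCofan (R := ModSite.ringSh O) I)
    fun _ => isIso_baseMap_unit e

lemma isIso_baseMap_coker {X Y : ModSite.Mod O} (f : X ⟶ Y) {c : CokernelCofork f} (hc : IsColimit c)
    (hX : IsIso ((baseMap (O := O) e).app X)) (hY : IsIso ((baseMap (O := O) e).app Y)) :
    IsIso ((baseMap (O := O) e).app c.pt) := by
  have := hJ.preservesColimits_sectF₀ (O := O) T
  have := hJ.preservesColimits_sectF₀ (O := O) o
  refine isIso_app_colimit (baseMap e) hc ?_
  rintro (_ | _) <;> assumption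

lemma isIso_baseMap_presentation {M : ModSite.Mod O} (σ : M.Presentation) :
    IsIso ((baseMap (O := O) e).app M) := by
  let f : SheafOfModules.free (R := ModSite.ringSh O) σ.relations.I ⟶ SheafOfModules.free σ.generators.I :=
    (SheafOfModules.freeHomEquiv _).symm σ.relations.s ≫ kernel.ι σ.generators.π
  have hf : f ≫ σ.generators.π = 0 := by simp [f]
  let c : CokernelCofork f := CokernelCofork.ofπ σ.generators.π hf
  have hx := σ.isColimit
  have hc : IsColimit c := hx
  have h := isIso_baseMap_coker e hJ f hc (isIso_baseMap_free e hJ _) (isIso_baseMap_free e hJ _)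
  exact h

omit hJ in
lemma isIso_baseMap_kernel (hflat : (O.obj.map e.op).hom.Flat) {X Y : ModSite.Mod O} (f : X ⟶ Y)
    (hX : IsIso ((baseMap (O := O) e).app X)) (hY : IsIso ((baseMap (O := O) e).app Y)) :
    IsIso ((baseMap (O := O) e).app (kernel f)) := by
  have := preservesFiniteLimits_sectF (O := O) T
  have := preservesFiniteLimits_sectF (O := O) o
  have := ModuleCat.preservesFiniteLimits_extendScalars_of_flat hflat
  refine isIso_app_limit (baseMap e) (limit.isLimit (parallelPair f 0)) ?_
  rintro (_ | _) <;> assumption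

lemma isIso_baseMap_ext (hflat : (O.obj.map e.op).hom.Flat) (S : ShortComplex (ModSite.Mod O))
    (hS : S.ShortExact) (h₁ : IsIso ((baseMap (O := O) e).app S.X₁))
    (h₃ : IsIso ((baseMap (O := O) e).app S.X₃)) : IsIso ((baseMap (O := O) e).app S.X₂) := by
  have := hJ.preservesColimits_sectF₀ (O := O) T
  have := hJ.preservesColimits_sectF₀ (O := O) o
  have := preservesFiniteLimits_sectF (O := O) T
  have := preservesFiniteLimits_sectF (O := O) o
  have := ModuleCat.preservesFiniteLimits_extendScalars_of_flat hflat
  have hexact : ∀ (G : ModSite.Mod O ⥤ ModuleCat.{u} (O.obj.obj (op o))) [G.PreservesZeroMorphisms]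
      [PreservesFiniteLimits G] [PreservesColimitsOfShape WalkingParallelPair G], (S.map G).ShortExact := by
    intro G _ _ _
    have := hS.mono_f
    have := hS.epi_g
    have hg := CokernelCofork.mapIsColimit _ hS.exact.gIsCokernel G
    have : Mono (G.map S.f) := inferInstance
    have : Mono (S.map G).f := this
    have : Epi (G.map S.g) := Cofork.IsColimit.epi hg
    have : Epi (S.map G).g := this
    have : Epi (G.map S.g) := Cofork.IsColimit.epi hg
    exact { exact := ShortComplex.exact_of_g_is_cokernel (S.map G) hg }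
  have : (sectF (O := O) T).Additive := ⟨rfl⟩
  have : (sectF (O := O) o).Additive := ⟨rfl⟩
  let φ := S.mapNatTrans (baseMap (O := O) e)
  have : IsIso φ.τ₁ := h₁
  have : IsIso φ.τ₃ := h₃
  exact ShortComplex.isIso₂_of_shortExact_of_isIso₁₃ φ (hexact (extT e)) (hexact (sectF o))

end Base

/-! ### Presentations -/

section Pres

variable (hJ : Chaotic J) {T : C} (hT : IsTerminal T)

/-- The global section of a section over a final object. -/
noncomputable def globalSec (M : ModSite.Mod O) (x : (pre M).obj (op T)) : M.sections :=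
  PresheafOfModules.sectionsMk (fun W => res (pre M) (hT.from W.unop).op x) (fun W W' f => by
    refine (res_res (pre M) _ f x).trans ?_
    rw [← Quiver.Hom.op_unop f, ← op_comp, hT.hom_ext (_ ≫ _) (hT.from W'.unop)])

/-- The map from the free module on the sections over a final object. -/
noncomputable def genTop (M : ModSite.Mod O) : SheafOfModules.free ((pre M).obj (op T)) ⟶ M :=
  M.freeHomEquiv.symm (globalSec hT M)

lemma genTop_surjective (M : ModSite.Mod O) (x : (pre M).obj (op T)) :
    ∃ y, ap (genTop hT M) (W := T) y = x := by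
  refine ⟨(SheafOfModules.freeSection x).val (op T), ?_⟩
  have h := congrArg (fun s : M.sections => s.val (op T))
    (SheafOfModules.sectionsMap_freeHomEquiv_symm_freeSection (globalSec hT M) x)
  refine h.trans ?_
  change res (pre M) (hT.from T).op x = x
  rw [hT.hom_ext (hT.from T) (𝟙 T)]
  exact congr($((pre M).map_id (op T)) x)

include hJ in
/-- Base change maps invertible gives a presentation. -/
theorem nonempty_presentation (M : ModSite.Mod O)
    (h : ∀ o : C, IsIso ((baseMap (O := O) (hT.from o)).app M)) : Nonempty M.Presentation := by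
  let π := genTop hT M
  let f := genTop hT (kernel π) ≫ kernel.ι π
  have hf : f ≫ π = 0 := by simp [f]
  let φ : cokernel f ⟶ M := cokernel.desc f π hf
  have hT' := hJ.preservesColimits_sectF₀ (O := O) T
  have : (sectF (O := O) T).Additive := ⟨rfl⟩
  have hcok : Epi ((sectF (O := O) T).map (cokernel.π f)) := by
    have hg := CokernelCofork.mapIsColimit _ (cokernelIsCokernel f) (sectF (O := O) T)
    exact Cofork.IsColimit.epi hg
  have hφT : IsIso ((sectF (O := O) T).map φ) := by
    rw [ConcreteCategory.isIso_iff_bijective]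
    refine ⟨(injective_iff_map_eq_zero _).2 fun z hz => ?_, fun x => ?_⟩
    · obtain ⟨p, rfl⟩ := (ModuleCat.epi_iff_surjective _).1 hcok z
      have hp : ap π (W := T) p = 0 := by
        rw [← cokernel.π_desc f π hf, ap_comp]
        exact hz
      obtain ⟨k, hk⟩ := exists_of_ap_kernel π hp
      obtain ⟨j, hj⟩ := genTop_surjective hT (kernel π) k
      change ap (cokernel.π f) p = 0
      rw [← hk, ← hj, ← ap_comp, ← ap_comp, ← Category.assoc, cokernel.condition]
      rfl
    · obtain ⟨y, hy⟩ := genTop_surjective hT M x
      exact ⟨ap (cokernel.π f) y, by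
        change ap φ (ap (cokernel.π f) y) = x
        rw [← ap_comp, cokernel.π_desc]; exact hy⟩
  have hφ : ∀ o : C, IsIso ((sectF (O := O) o).map φ) := fun o => by
    have h1 : IsIso ((baseMap (O := O) (hT.from o)).app (cokernel f)) :=
      isIso_baseMap_coker _ hJ f (c := CokernelCofork.ofπ (cokernel.π f) (cokernel.condition f)) (cokernelIsCokernel f) (isIso_baseMap_free _ hJ _) (isIso_baseMap_free _ hJ _)
    have := h o
    have e := (baseMap (O := O) (hT.from o)).naturality φ
    have h2 : IsIso ((baseMap (O := O) (hT.from o)).app (cokernel f) ≫ (sectF (O := O) o).map φ) := by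
      rw [← e]
      have : IsIso ((extT (O := O) (hT.from o)).map φ) :=
        inferInstanceAs (IsIso ((ModuleCat.extendScalars _).map ((sectF (O := O) T).map φ)))
      infer_instance
    exact IsIso.of_isIso_comp_left ((baseMap (O := O) (hT.from o)).app (cokernel f)) _
  have : IsIso φ := by
    have hb := fun o => (ConcreteCategory.isIso_iff_bijective _).1 (hφ o)
    have : Epi φ := (epi_iff_locSurj φ).2 fun W x => by
      refine ⟨⊤, J.top_mem W, fun V v _ => ?_⟩
      exact (hb V).2 _
    have : Mono φ := Preadditive.mono_of_cancel_zero _ fun {A} g hg => by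
      apply fgt.map_injective
      refine PresheafOfModules.hom_ext fun W => ModuleCat.hom_ext (LinearMap.ext fun z => ?_)
      refine (hb W.unop).1 ?_
      exact (congrArg (fun a : A ⟶ M => ap a (W := W.unop) z) hg).trans (map_zero _).symm
    exact isIso_of_mono_of_epi φ
  exact ⟨(SheafOfModules.presentationOfIsCokernelFree f (cokernel.π f) (cokernel.condition f)
    (cokernelIsCokernel f)).ofIsIso φ⟩

end Pres

variable (hJ : Chaotic J)

include hJ

/-- Quasi-coherence is invertibility of all base change maps. -/
theorem isQuasicoherent_iff_baseMap (F : ModSite.Mod O) :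
    SheafOfModules.IsQuasicoherent (R := ModSite.ringSh O) F ↔
      ∀ ⦃U V : C⦄ (g : U ⟶ V), IsIso ((baseMap (O := O) g).app F) := by
  constructor
  · intro hF U V g
    obtain ⟨q⟩ := hF.nonempty_quasicoherentData
    obtain ⟨i, ⟨h⟩⟩ := (Sieve.mem_ofObjects_iff ..).mp
      (show (Sieve.ofObjects q.X V) (𝟙 V) by rw [hJ _ _ (q.coversTop V)]; trivial)
    have hσ := q.presentation i
    have h1 := @isIso_baseMap_presentation (Over (q.X i)) _ (J.over (q.X i)) (O.over (q.X i))
      (Over.mk (g ≫ h)) (Over.mk h) (Over.homMk g) (hJ.over _) ((ModSite.restr O (q.X i)).obj F) hσ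
    exact h1
  · intro h
    have hp : ∀ X : C, Nonempty ((ModSite.restr O X).obj F).Presentation := fun X =>
      nonempty_presentation (hJ.over X) (Over.mkIdTerminal (X := X)) _
        fun o => h (Over.mkIdTerminal.from o).left
    have hc : J.CoversTop fun X : C => X := fun X => J.superset_covering
      (fun Y f _ => (Sieve.mem_ofObjects_iff ..).mpr ⟨Y, ⟨𝟙 Y⟩⟩) (J.top_mem X)
    have q : Nonempty (SheafOfModules.QuasicoherentData.{u, u, u, u} (R := ModSite.ringSh O) F) :=
      ⟨@SheafOfModules.QuasicoherentData.mk.{u, u, u, u} C _ J (ModSite.ringSh O) _ _ F C (fun X => X) hc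
        fun X => (hp X).some⟩
    obtain ⟨q⟩ := q
    exact @SheafOfModules.QuasicoherentData.isQuasicoherent.{u, u, u, u} C _ J (ModSite.ringSh O) _ _ F q

/-- For flat restriction maps quasi-coherent modules are closed under kernels, cokernels and extensions. -/
theorem isQuasicoherent_weakSerre (hO : ∀ ⦃U V : C⦄ (g : U ⟶ V), (O.obj.map g.op).hom.Flat) :
    (∀ (F G : ModSite.Mod O) (α : F ⟶ G), SheafOfModules.IsQuasicoherent (R := ModSite.ringSh O) F →
      SheafOfModules.IsQuasicoherent (R := ModSite.ringSh O) G →
        SheafOfModules.IsQuasicoherent (R := ModSite.ringSh O) (kernel α) ∧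
          SheafOfModules.IsQuasicoherent (R := ModSite.ringSh O) (cokernel α)) ∧
    (∀ (S : ShortComplex (ModSite.Mod O)), S.ShortExact →
      SheafOfModules.IsQuasicoherent (R := ModSite.ringSh O) S.X₁ →
      SheafOfModules.IsQuasicoherent (R := ModSite.ringSh O) S.X₃ →
        SheafOfModules.IsQuasicoherent (R := ModSite.ringSh O) S.X₂) := by
  simp only [isQuasicoherent_iff_baseMap hJ]
  exact ⟨fun F G α hF hG =>
    ⟨fun U V g => isIso_baseMap_kernel g (hO g) α (hF g) (hG g),
      fun U V g => isIso_baseMap_coker g hJ α (c := CokernelCofork.ofπ (cokernel.π α) (cokernel.condition α)) (cokernelIsCokernel α) (hF g) (hG g)⟩,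
    fun S hS h₁ h₃ U V g => isIso_baseMap_ext g hJ (hO g) S hS (h₁ g) (h₃ g)⟩

end Groth.Agent.Mod48
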