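import Groth.Agent.Mod48.RingPullback
import Groth.Agent.SiteMod.LocCharts
import Mathlib.CategoryTheory.Sites.Subsheaf
import Mathlib.CategoryTheory.Sites.LocallySurjective
import Mathlib.CategoryTheory.Limits.Preserves.Shapes.Equalizers

/-!
Sections of an exact inverse image of sheaves are locally pulled back along charts, and two such
agree only if they agree on a finer chart.
-/

universe u

open CategoryTheory CategoryTheory.Limits Opposite

namespace Groth.Agent.Mod48.ChartRep

open SiteCoh.TypeExact (adjT homEquiv_app congr_app_apply hom_ext_app)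
open SiteMod (ysh arrMap pullShMap functorPushforward_mem_of_isContinuous)

variable {C D : Type u} [SmallCategory C] [SmallCategory D] (J : GrothendieckTopology C)
  (K : GrothendieckTopology D) (u : D ⥤ C) [u.IsContinuous K J]

/-- The inverse image of sheaves of sets. -/
noncomputable abbrev L : Sheaf K (Type u) ⥤ Sheaf J (Type u) := u.sheafPullback (Type u) K J

variable {J K u} {G : Sheaf K (Type u)}

/-- The pullback of a section along a chart. -/
noncomputable def rep {X : D} {V : C} (g : V ⟶ u.obj X) (s : G.obj.obj (op X)) :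
    ((L J K u).obj G).obj.obj (op V) :=
  ((L J K u).obj G).obj.map g.op (((adjT (J := J) (K := K) (u := u)).unit.app G).hom.app (op X) s)

lemma map_rep {X : D} {V W : C} (g : V ⟶ u.obj X) (w : W ⟶ V) (s : G.obj.obj (op X)) :
    ((L J K u).obj G).obj.map w.op (rep g s) = rep (J := J) (w ≫ g) s := by
  exact (Functor.map_comp_apply ((L J K u).obj G).obj g.op w.op _).symm

lemma rep_map {X X' : D} {V : C} (g : V ⟶ u.obj X) (k : X ⟶ X') (s : G.obj.obj (op X')) :
    rep (J := J) g (G.obj.map k.op s) = rep (g ≫ u.map k) s := by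
  refine Eq.trans ?_ (Functor.map_comp_apply ((L J K u).obj G).obj (u.map k).op g.op _).symm
  exact congrArg (((L J K u).obj G).obj.map g.op)
    (ConcreteCategory.congr_hom (((adjT (J := J) (K := K) (u := u)).unit.app G).hom.naturality k.op) s)

lemma map_app_rep {G' : Sheaf K (Type u)} (φ : G ⟶ G') {X : D} {V : C} (g : V ⟶ u.obj X)
    (s : G.obj.obj (op X)) :
    ((L J K u).map φ).hom.app (op V) (rep g s) = rep g (φ.hom.app (op X) s) := by
  rw [rep, rep]
  refine (ConcreteCategory.congr_hom (((L J K u).map φ).hom.naturality g.op) _).trans ?_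
  exact congrArg (((L J K u).obj G').obj.map g.op)
    (congr_app_apply ((adjT (J := J) (K := K) (u := u)).unit.naturality φ).symm (op X) s)

variable (J u G) in
/-- The sections pulled back along some chart. -/
noncomputable def repSub : Subfunctor ((L J K u).obj G).obj where
  obj U := {x | ∃ (X : D) (g : U.unop ⟶ u.obj X) (s : G.obj.obj (op X)), x = rep g s}
  map {U W} r x hx := by
    obtain ⟨X, g, s, rfl⟩ := hx
    exact ⟨X, r.unop ≫ g, s, map_rep g r.unop s⟩

/-- Every section is locally pulled back along a chart. -/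
theorem exists_rep {V : C} (x : ((L J K u).obj G).obj.obj (op V)) :
    ∃ S ∈ J V, ∀ ⦃W : C⦄ (w : W ⟶ V), S w → ∃ (X : D) (g : W ⟶ u.obj X) (s : G.obj.obj (op X)),
      ((L J K u).obj G).obj.map w.op x = rep g s := by
  have hF := (isSheaf_iff_isSheaf_of_type J _).1 ((L J K u).obj G).property
  let T : Sheaf J (Type u) := ⟨((repSub J u G).sheafify J).toFunctor,
    (isSheaf_iff_isSheaf_of_type J _).2 (Subfunctor.sheafify_isSheaf _ hF)⟩
  let ι : T ⟶ (L J K u).obj G := ⟨((repSub J u G).sheafify J).ι⟩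
  let β : G ⟶ (u.sheafPushforwardContinuous (Type u) K J).obj T :=
    ⟨{ app := fun X => ↾fun s =>
        ⟨((adjT (J := J) (K := K) (u := u)).unit.app G).hom.app X s,
          Subfunctor.le_sheafify J _ _ ⟨X.unop, 𝟙 _, s, by
            exact (Functor.map_id_apply ((L J K u).obj G).obj (X := op (u.obj X.unop)) _).symm⟩⟩
       naturality := fun X X' r => by
         ext s
         refine Subtype.ext ?_
         exact
           (ConcreteCategory.congr_hom (((adjT (J := J) (K := K) (u := u)).unit.app G).hom.naturality r) s) }⟩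
  have h : (adjT.homEquiv _ _).symm β ≫ ι = 𝟙 _ := by
    apply (adjT.homEquiv _ _).injective
    rw [Adjunction.homEquiv_naturality_right, Equiv.apply_symm_apply, Adjunction.homEquiv_unit,
      CategoryTheory.Functor.map_id]
    exact (Category.comp_id _).symm
  have hx : x ∈ ((repSub J u G).sheafify J).obj (op V) := by
    refine (congrArg (fun z => z ∈ ((repSub J u G).sheafify J).obj (op V))
      (congr_app_apply h (op V) x)).mp ?_
    exact (((adjT.homEquiv G T).symm β).hom.app (op V) x).2
  exact ⟨_, hx, fun W w hw => hw⟩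

/-- A section of a sheafified presheaf of arrows. -/
noncomputable abbrev ush {X : D} {Y : D} (h : Y ⟶ X) : (ysh K X).obj.obj (op Y) :=
  (toSheafify K (yoneda.obj X)).app (op Y) h

variable (J) in
/-- The comparison map sends the pulled back tautological section to the arrow. -/
lemma pullShMap_rep {X Y : D} {V : C} (g : V ⟶ u.obj Y) (h : Y ⟶ X) :
    (pullShMap J K u (arrMap u X)).hom.app (op V) (rep g (ush h)) =
      (toSheafify J (yoneda.obj (u.obj X))).app (op V) (g ≫ u.map h) := by
  rw [rep]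
  refine (ConcreteCategory.congr_hom ((pullShMap J K u (arrMap u X)).hom.naturality g.op) _).trans ?_
  have h1 : SiteMod.pullShEquiv J K u (yoneda.obj X) _ (pullShMap J K u (arrMap u X)) =
      arrMap u X ≫ Functor.whiskerLeft u.op (toSheafify J (yoneda.obj (u.obj X))) :=
    Equiv.apply_symm_apply _ _
  have h2 := ConcreteCategory.congr_hom (NatTrans.congr_app h1 (op Y)) h
  refine (congrArg (((presheafToSheaf J (Type u)).obj (yoneda.obj (u.obj X))).obj.map g.op) h2).trans ?_
  exact (ConcreteCategory.congr_hom ((toSheafify J (yoneda.obj (u.obj X))).naturality g.op) (u.map h)).symm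

/-- A section of a sheafified representable is locally an arrow, chartwise. -/
lemma exists_ush {X Y : D} {V : C} (g : V ⟶ u.obj Y) (t : (ysh K X).obj.obj (op Y)) :
    ∃ S ∈ J V, ∀ ⦃W : C⦄ (w : W ⟶ V), S w → ∃ (Y' : D) (g' : W ⟶ u.obj Y') (k₀ : Y' ⟶ Y) (k : Y' ⟶ X),
      w ≫ g = g' ≫ u.map k₀ ∧ ush (K := K) k = (ysh K X).obj.map k₀.op t := by
  refine ⟨((Presheaf.imageSieve (toSheafify K (yoneda.obj X)) (U := Y) t).functorPushforward u).pullback g,
    J.pullback_stable g (functorPushforward_mem_of_isContinuous J K u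
      (Presheaf.imageSieve_mem K (toSheafify K (yoneda.obj X)) (U := op Y) t)), ?_⟩
  rintro W w ⟨Y', k₀, g', ⟨k, hk⟩, hg'⟩
  exact ⟨Y', g', k₀, k, hg', hk⟩

variable (J K) in
/-- Arrows to an image with the same pulled back section agree locally. -/
lemma exists_arrow_eq {X Y Y' : D} {V : C} (g : V ⟶ u.obj Y) (g' : V ⟶ u.obj Y') (h : Y ⟶ X) (h' : Y' ⟶ X)
    (e : rep (J := J) g (ush (K := K) h) = rep g' (ush (K := K) h')) :
    ∃ S ∈ J V, ∀ ⦃W : C⦄ (w : W ⟶ V), S w → w ≫ g ≫ u.map h = w ≫ g' ≫ u.map h' := by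
  have e' := congrArg ((pullShMap J K u (arrMap u X)).hom.app (op V)) e
  rw [pullShMap_rep, pullShMap_rep] at e'
  exact ⟨_, Presheaf.equalizerSieve_mem J (toSheafify J (yoneda.obj (u.obj X))) _ _ e', fun W w hw => hw⟩

variable [PreservesFiniteLimits (u.sheafPullback (Type u) K J)]

/-- Two sections with the same pullback agree on a finer chart, locally. -/
theorem exists_eq_of_rep_eq {X : D} {V : C} (g : V ⟶ u.obj X) (r r' : G.obj.obj (op X))
    (h : rep (J := J) g r = rep g r') :
    ∃ S ∈ J V, ∀ ⦃W : C⦄ (w : W ⟶ V), S w → ∃ (X' : D) (g' : W ⟶ u.obj X') (k : X' ⟶ X),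
      w ≫ g = g' ≫ u.map k ∧ G.obj.map k.op r = G.obj.map k.op r' := by
  let hat : G.obj.obj (op X) → (ysh K X ⟶ G) := fun s =>
    ((sheafificationAdjunction K (Type u)).homEquiv _ _).symm (yonedaEquiv.symm s)
  have hat_ush : ∀ (s : G.obj.obj (op X)) (Y : D) (k : Y ⟶ X),
      (hat s).hom.app (op Y) (ush k) = G.obj.map k.op s := by
    intro s Y k
    have h1 := ((sheafificationAdjunction K (Type u)).homEquiv _ _).apply_symm_apply
      (yonedaEquiv.symm s)
    rw [Adjunction.homEquiv_unit] at h1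
    exact ConcreteCategory.congr_hom (NatTrans.congr_app h1 (op Y)) k
  let x : ((L J K u).obj (ysh K X)).obj.obj (op V) := rep g (ush (𝟙 X))
  have hx : ∀ s, ((L J K u).map (hat s)).hom.app (op V) x = rep g s := fun s => by
    refine (map_app_rep (hat s) g _).trans (congrArg (rep g) ((hat_ush s X (𝟙 X)).trans ?_))
    exact congrArg (fun e => e s) (G.obj.map_id (op X))
  let ι := equalizer.ι (hat r) (hat r')
  let F := L J K u ⋙ sheafToPresheaf J (Type u) ⋙ (evaluation Cᵒᵖ (Type u)).obj (op V)
  obtain ⟨l, hl⟩ := Fork.IsLimit.lift' (isLimitOfHasEqualizerOfPreservesLimit F (hat r) (hat r'))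
    (↾fun _ : PUnit.{u + 1} => x) (by ext _; exact (hx r).trans (h.trans (hx r').symm))
  have hl' : ((L J K u).map ι).hom.app (op V) (l PUnit.unit) = x :=
    ConcreteCategory.congr_hom hl PUnit.unit
  obtain ⟨S₁, hS₁, h₁⟩ := exists_rep (G := equalizer (hat r) (hat r')) (l PUnit.unit)
  choose X₁ g₁ e₁ he₁ using h₁
  choose S₂ hS₂ h₂ using fun (W : C) (w : W ⟶ V) (hw : S₁ w) =>
    exists_ush (J := J) (g₁ w hw) (ι.hom.app (op (X₁ w hw)) (e₁ w hw))
  choose Y g₂ k₀ k hg₂ hk using h₂
  have hrep : ∀ (W : C) (w : W ⟶ V) (hw : S₁ w) (W' : C) (v : W' ⟶ W) (hv : S₂ W w hw v),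
      rep (J := J) ((v ≫ w) ≫ g) (ush (K := K) (𝟙 X)) = rep (g₂ W w hw v hv) (ush (K := K) (k W w hw v hv)) := by
    intro W w hw W' v hv
    refine (map_rep g (v ≫ w) (ush (𝟙 X))).symm.trans ?_
    refine (congrArg (((L J K u).obj (ysh K X)).obj.map (v ≫ w).op) hl').symm.trans ?_
    refine ((ConcreteCategory.congr_hom (((L J K u).map ι).hom.naturality (v ≫ w).op) _).symm).trans ?_
    refine (congrArg (((L J K u).map ι).hom.app (op W')) ((Functor.map_comp_apply _ _ _ _).trans
      ((congrArg (((L J K u).obj (equalizer (hat r) (hat r'))).obj.map v.op) (he₁ w hw)).trans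
        (map_rep (g₁ w hw) v (e₁ w hw))))).trans ?_
    rw [map_app_rep, hg₂ W w hw v hv, ← rep_map, hk W w hw v hv]
  choose S₃ hS₃ h₃ using fun (W : C) (w : W ⟶ V) (hw : S₁ w) (W' : C) (v : W' ⟶ W) (hv : S₂ W w hw v) =>
    exists_arrow_eq J K ((v ≫ w) ≫ g) (g₂ W w hw v hv) (𝟙 X) (k W w hw v hv) (hrep W w hw W' v hv)
  refine ⟨Sieve.bind S₁.1 fun W w hw => Sieve.bind (S₂ W w hw).1 fun W' v hv => S₃ W w hw W' v hv,
    J.bind_covering hS₁ fun W w hw => J.bind_covering (hS₂ W w hw) fun W' v hv => hS₃ W w hw W' v hv, ?_⟩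
  rintro W₂ _ ⟨W, _, w, hw, ⟨W', z, v, hv, hz, rfl⟩, rfl⟩
  refine ⟨Y W w hw v hv, z ≫ g₂ W w hw v hv, k W w hw v hv, ?_, ?_⟩
  · have h4 := h₃ W w hw W' v hv z hz
    rw [u.map_id, Category.comp_id] at h4
    simpa only [Category.assoc] using h4
  · have h5 : ush (K := K) (k W w hw v hv) = ι.hom.app (op (Y W w hw v hv))
        ((equalizer (hat r) (hat r')).obj.map (k₀ W w hw v hv).op (e₁ w hw)) :=
      (hk W w hw v hv).trans (ConcreteCategory.congr_hom (ι.hom.naturality (k₀ W w hw v hv).op) (e₁ w hw)).symm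
    rw [← hat_ush r, ← hat_ush r', h5]
    exact congr_app_apply (equalizer.condition (hat r) (hat r')) _ _

end Groth.Agent.Mod48.ChartRep
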