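import Groth.Agent.Mod48.LocGen
import Groth.Agent.SiteCoh.Free
import Mathlib.CategoryTheory.Sites.CoverLifting

/-!
Abelian sheaves on a small site: free sheaves as a locally projective family; base change of free sheaves
along a cocontinuous and continuous functor with a universal element.
-/

universe u

open CategoryTheory CategoryTheory.Limits Opposite

namespace Groth.Agent.Mod48

variable {C : Type u} [SmallCategory C] {J : GrothendieckTopology C}

/-- A family of sheaves representing the sections is a locally projective family. -/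
noncomputable def abGenOf (P : C → Sheaf J AddCommGrpCat.{u}) (r : ∀ {V U : C}, (V ⟶ U) → (P V ⟶ P U))
    (e : ∀ (U : C) (X : Sheaf J AddCommGrpCat.{u}), (P U ⟶ X) ≃+ X.obj.obj (op U))
    (e_comp : ∀ {U : C} {X Y : Sheaf J AddCommGrpCat.{u}} (a : P U ⟶ X) (f : X ⟶ Y),
      e U Y (a ≫ f) = f.hom.app (op U) (e U X a))
    (e_r : ∀ {V U : C} (g : V ⟶ U) {X : Sheaf J AddCommGrpCat.{u}} (a : P U ⟶ X),
      e V X (r g ≫ a) = X.obj.map g.op (e U X a)) :
    LocGen J (Sheaf J AddCommGrpCat.{u}) where
  P := P
  r := r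
  r_comp {W V U} g h := by
    apply (e W _).injective
    have h1 := e_r (g ≫ h) (𝟙 (P U))
    have h2 := e_r h (𝟙 (P U))
    have h3 := e_r g (r h)
    rw [Category.comp_id] at h1 h2
    rw [h1, h3, h2, op_comp, Functor.map_comp]
    rfl
  sep {U X} a S hS h := by
    apply (e U X).injective
    rw [map_zero]
    refine Presheaf.IsSheaf.isSeparated X.property U S hS _ _ fun V g hg => ?_
    refine (e_r g a).symm.trans ?_
    rw [h g hg, map_zero]
    exact (map_zero (X.obj.map g.op).hom).symm
  lift {U X Y} p _ a := by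
    obtain ⟨S, hS⟩ := SiteCoh.exists_local_lift p (e U Y a)
    refine ⟨S.1, S.2, fun V g hg => ?_⟩
    obtain ⟨t, ht⟩ := hS ⟨V, g, hg⟩
    refine ⟨(e V X).symm t, (e V Y).injective ?_⟩
    rw [e_comp, AddEquiv.apply_symm_apply, e_r]
    exact ht
  detect {X} h := by
    rw [IsZero.iff_id_eq_zero]
    refine Sheaf.hom_ext ?_
    ext U x
    obtain ⟨U⟩ := U
    obtain ⟨a, rfl⟩ := (e U X).surjective x
    rw [h U a, map_zero, map_zero]
    exact (map_zero _).symm

variable (J) in
/-- The free abelian sheaves. -/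
noncomputable def abGen : LocGen J (Sheaf J AddCommGrpCat.{u}) :=
  abGenOf (fun U => CohCx.freeSheaf J U) (fun g => CohCx.freeSheafMap J g)
    SiteCoh.homAddEquivSec SiteCoh.homAddEquivSec_comp SiteCoh.homAddEquivSec_freeSheafMap_comp

/-- A section is zero if it is so on a covering. -/
lemma sec_eq_zero (X : Sheaf J AddCommGrpCat.{u}) {U : C} (S : Sieve U) (hS : S ∈ J U) (s : X.obj.obj (op U))
    (h : ∀ ⦃V : C⦄ (g : V ⟶ U), S g → X.obj.map g.op s = 0) : s = 0 :=
  Presheaf.IsSheaf.isSeparated X.property U S hS _ _ fun V g hg => (h g hg).trans (map_zero (X.obj.map g.op).hom).symm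

section BaseChange

variable {D : Type u} [SmallCategory D] {K : GrothendieckTopology D} (u : D ⥤ C) [u.IsContinuous K J]
  [u.IsCocontinuous K J] {U : C} {P : D} (π : u.obj P ⟶ U)
  (hπ : ∀ T : D, Function.Bijective fun a : T ⟶ P => u.map a ≫ π)

/-- The presheaf `T ↦ Hom(u T, U)` is represented by `P`. -/
noncomputable def yonedaBC : yoneda.obj P ≅ u.op ⋙ yoneda.obj U :=
  NatIso.ofComponents (fun T => (Equiv.ofBijective _ (hπ T.unop)).toIso)
    (fun {T T'} g => by
      ext (a : T.unop ⟶ P)
      change u.map (g.unop ≫ a) ≫ π = u.map g.unop ≫ u.map a ≫ π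
      rw [u.map_comp, Category.assoc])

/-- The restriction of a free sheaf is free. -/
noncomputable def freeBC :
    CohCx.freeSheaf K P ≅ (CohSite.push J K u).obj (CohCx.freeSheaf J U) :=
  (presheafToSheaf K AddCommGrpCat.{u}).mapIso
      (Functor.isoWhiskerRight (yonedaBC u π hπ) AddCommGrpCat.free.{u} ≪≫ Functor.associator _ _ _) ≪≫
    (u.pushforwardContinuousSheafificationCompatibility AddCommGrpCat.{u} K J).app
      (yoneda.obj U ⋙ AddCommGrpCat.free.{u})

lemma homAddEquivSec_freeBC :
    SiteCoh.homAddEquivSec (J := K) P ((CohSite.push J K u).obj (CohCx.freeSheaf J U)) (freeBC (J := J) (K := K) u π hπ).hom =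
      (CohCx.freeSheaf J U).obj.map π.op (SiteCoh.freeSec J U) := by
  rw [SiteCoh.homAddEquivSec_apply, SiteCoh.freeSec, SiteCoh.freeSec]
  let j := (Functor.isoWhiskerRight (yonedaBC u π hπ) AddCommGrpCat.free.{u} ≪≫
    Functor.associator u.op (yoneda.obj U) AddCommGrpCat.free.{u}).hom
  have h1 : toSheafify K (yoneda.obj P ⋙ AddCommGrpCat.free.{u}) ≫ (freeBC u π hπ).hom.hom =
      j ≫ Functor.whiskerLeft u.op (toSheafify J (yoneda.obj U ⋙ AddCommGrpCat.free.{u})) := by
    change toSheafify K _ ≫ (sheafifyMap K j ≫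
      ((u.pushforwardContinuousSheafificationCompatibility AddCommGrpCat.{u} K J).hom.app _).hom) = _
    rw [← Category.assoc, ← toSheafify_naturality, Category.assoc,
      u.toSheafify_pullbackSheafificationCompatibility]
    rfl
  have h2 := ConcreteCategory.congr_hom (NatTrans.congr_app h1 (op P)) (FreeAbelianGroup.of (𝟙 P))
  refine h2.trans ?_
  have h3 : j.app (op P) (FreeAbelianGroup.of (𝟙 P)) =
      FreeAbelianGroup.of (π : (yoneda.obj U).obj (op (u.obj P))) := by
    change FreeAbelianGroup.map _ (FreeAbelianGroup.of _) = _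
    refine (FreeAbelianGroup.map_of_apply _).trans ?_
    change FreeAbelianGroup.of (u.map (𝟙 P) ≫ π) = _
    simp
  refine (congrArg ((toSheafify J (yoneda.obj U ⋙ AddCommGrpCat.free.{u})).app (op (u.obj P))) h3).trans ?_
  have h4 := ConcreteCategory.congr_hom
    ((toSheafify J (yoneda.obj U ⋙ AddCommGrpCat.free.{u})).naturality π.op) (FreeAbelianGroup.of (𝟙 U))
  refine Eq.trans ?_ h4
  refine congrArg ((toSheafify J (yoneda.obj U ⋙ AddCommGrpCat.free.{u})).app (op (u.obj P))) ?_
  change FreeAbelianGroup.of π = FreeAbelianGroup.map _ (FreeAbelianGroup.of (𝟙 U))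
  refine Eq.trans ?_ (FreeAbelianGroup.map_of_apply _).symm
  exact congrArg FreeAbelianGroup.of (Category.comp_id π).symm

include hπ in
/-- The map of free sheaves given by the universal section is invertible. -/
lemma isIso_bcMap :
    IsIso ((SiteCoh.homAddEquivSec (J := K) P ((CohSite.push J K u).obj (CohCx.freeSheaf J U))).symm
      ((CohCx.freeSheaf J U).obj.map π.op (SiteCoh.freeSec J U))) := by
  rw [← homAddEquivSec_freeBC (J := J) (K := K) u π hπ]
  exact ((SiteCoh.homAddEquivSec (J := K) P _).symm_apply_apply (freeBC (J := J) (K := K) u π hπ).hom).symm ▸ inferInstance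

end BaseChange

end Groth.Agent.Mod48
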