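import Groth.Prelude.Def_SiteCmp
import Groth.Agent.Mod48.CmpGen
import Groth.Agent.Mod48.CmpAdj
import Groth.Agent.SiteCoh.LanExact

/-!
The comparison of two topologies on abelian sheaves: `ε_*` is fully faithful, `ε^{-1}` is exact; higher
direct images of `ε_*` are locally zero for the finer topology.
-/

universe u

open CategoryTheory CategoryTheory.Limits Opposite DerivedCategory
attribute [local instance] HasDerivedCategory.standard

namespace Groth.Agent.Mod48

variable {C : Type u} [SmallCategory C] {J J' : GrothendieckTopology C} (h : J' ≤ J)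

/-- `ε_*` on abelian sheaves. -/
abbrev epsAb : Sheaf J AddCommGrpCat.{u} ⥤ Sheaf J' AddCommGrpCat.{u} := SiteCmp.epsSh h AddCommGrpCat.{u}

/-- `ε^{-1}` on abelian sheaves. -/
noncomputable abbrev epsAbInv : Sheaf J' AddCommGrpCat.{u} ⥤ Sheaf J AddCommGrpCat.{u} :=
  SiteCmp.epsShInv h AddCommGrpCat.{u}

/-- `ε^{-1} ⊣ ε_*`. -/
noncomputable abbrev epsAbAdj : epsAbInv h ⊣ epsAb h := SiteCmp.epsShAdj h AddCommGrpCat.{u}

/-- `ε_*` is fully faithful. -/
def epsFullyFaithful : (epsAb h).FullyFaithful where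
  preimage φ := ⟨{ app := fun U => φ.hom.app U, naturality := fun _ _ g => φ.hom.naturality g }⟩

instance : (epsAb h).Full := (epsFullyFaithful h).full
instance : (epsAb h).Faithful := (epsFullyFaithful h).faithful

instance : SiteCoh.HasPseudoFilteredComma (𝟭 C) where
  pseudoFiltered V :=
    { span := fun {a b c} f g => ⟨CostructuredArrow.mk (Y := V) (𝟙 V),
        CostructuredArrow.homMk b.hom (Category.comp_id _), CostructuredArrow.homMk c.hom (Category.comp_id _),
        CostructuredArrow.hom_ext _ _ ((CostructuredArrow.w f).trans (CostructuredArrow.w g).symm)⟩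
      parallel := fun {a b} f g => ⟨CostructuredArrow.mk (Y := V) (𝟙 V),
        CostructuredArrow.homMk b.hom (Category.comp_id _),
        CostructuredArrow.hom_ext _ _ ((CostructuredArrow.w f).trans (CostructuredArrow.w g).symm)⟩ }

instance : PreservesFiniteLimits (epsAbInv h) :=
  haveI := SiteCmp.idContinuous h
  SiteCoh.sheafPullback_preservesFiniteLimits (𝟭 C) J' J

instance : PreservesFiniteColimits (epsAbInv h) :=
  ⟨fun _ _ _ => ((epsAbAdj h).leftAdjoint_preservesColimits :
    PreservesColimitsOfSize.{0, 0} (epsAbInv h)).preservesColimitsOfShape⟩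

instance : (epsAb h).Additive where
instance : (epsAbInv h).Additive := (epsAbAdj h).left_adjoint_additive

/-- A sheaf for the coarse topology which is one for the fine topology is in the image of `ε_*`. -/
def isoOfIsSheaf (M : Sheaf J' AddCommGrpCat.{u}) (hM : Presheaf.IsSheaf J M.obj) :
    M ≅ (epsAb h).obj ⟨M.obj, hM⟩ :=
  (fullyFaithfulSheafToPresheaf J' AddCommGrpCat.{u}).preimageIso (NatIso.ofComponents (fun _ => Iso.refl _))

/-- `Rε_*`. -/
noncomputable abbrev epsD : DerivedCategory (Sheaf J AddCommGrpCat.{u}) ⥤ DerivedCategory (Sheaf J' AddCommGrpCat.{u}) :=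
  rd (epsAb h)

/-- `H^q(Rε_* X) ⟶ ε_* H^q(X)`. -/
noncomputable abbrev etaE (q : ℤ) (X : DerivedCategory (Sheaf J AddCommGrpCat.{u})) :=
  eta (epsAbAdj h) q X

lemma isIso_etaE_of_isSheaf (q : ℤ) (X : DerivedCategory (Sheaf J AddCommGrpCat.{u}))
    (hX : Presheaf.IsSheaf J ((homologyFunctor _ q).obj ((epsD h).obj X)).obj) : IsIso (etaE h q X) :=
  isIso_eta_of_iso (epsAbAdj h) q X (isoOfIsSheaf h _ hX)

/-- Free sheaves for the coarse topology, pulled back. -/
noncomputable def epsGen : LocGen J (Sheaf J AddCommGrpCat.{u}) :=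
  abGenOf (fun U => (epsAbInv h).obj (CohCx.freeSheaf J' U))
    (fun g => (epsAbInv h).map (CohCx.freeSheafMap J' g))
    (fun U X => ((epsAbAdj h).homAddEquiv _ _).trans (SiteCoh.homAddEquivSec U ((epsAb h).obj X)))
    (fun {U X Y} a f => by
      simp only [AddEquiv.trans_apply, Adjunction.homAddEquiv_apply, Adjunction.homEquiv_naturality_right]
      rfl)
    (fun {V U} g X a => by
      simp only [AddEquiv.trans_apply, Adjunction.homAddEquiv_apply, Adjunction.homEquiv_naturality_left]
      exact SiteCoh.homAddEquivSec_freeSheafMap_comp g _)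

/-- Sections of higher direct images of `ε_*` are locally zero for the fine topology. -/
lemma locally_zero_homology_epsD (F : Sheaf J AddCommGrpCat.{u}) (m : ℤ) (hm : m ≠ 0) {U : C}
    (a : CohCx.freeSheaf J' U ⟶ (homologyFunctor _ m).obj ((epsD h).obj (LocGen.Pd F 0))) :
    ∃ S ∈ J U, ∀ ⦃V : C⦄ (g : V ⟶ U), S g → CohCx.freeSheafMap J' g ≫ a = 0 := by
  let S : Sieve U :=
    { arrows := fun V g => CohCx.freeSheafMap J' g ≫ a = 0
      downward_closed := fun {V W g} hg f => by
        rw [SiteCoh.freeSheafMap_comp, Category.assoc, hg, comp_zero] }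
  refine ⟨S, ?_, fun V g hg => hg⟩
  obtain ⟨S₁, hS₁, hx⟩ := (abGen J').ev_locally_surjective a
  refine J.transitive (h _ hS₁) _ fun V g hg => ?_
  obtain ⟨x, hx⟩ := hx g hg
  let sI : ∀ W, (epsAbInv h).mapDerivedCategory.obj (LocGen.Pd (CohCx.freeSheaf J' W) m) ≅
      LocGen.Pd ((epsAbInv h).obj (CohCx.freeSheaf J' W)) m :=
    fun W => ((epsAbInv h).mapDerivedCategorySingleFunctor m).app _
  let z : LocGen.Pd ((epsGen h).P V) m ⟶ LocGen.Pd F 0 :=
    (sI V).inv ≫ ((rdAdj (epsAbAdj h)).homEquiv _ _).symm x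
  have hz : LocGen.ev z = 0 :=
    (IsZero.of_iso (HomologicalComplex.isZero_single_obj_homology (ComplexShape.up ℤ) 0 F m hm)
      ((homologyFunctorFactors _ m).app _)).eq_of_tgt _ _
  obtain ⟨S₂, hS₂, h2⟩ := (epsGen h).ev_locally_injective z hz
  refine J.superset_covering (fun W k hk => ?_) hS₂
  change CohCx.freeSheafMap J' (k ≫ g) ≫ a = 0
  have h3 : LocGen.Pm ((abGen J').r k) m ≫ x = 0 := by
    apply ((rdAdj (epsAbAdj h)).homEquiv _ _).symm.injective
    rw [Adjunction.homEquiv_naturality_left_symm]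
    have h0 : ((rdAdj (epsAbAdj h)).homEquiv (LocGen.Pd ((abGen J').P W) m) (LocGen.Pd F 0)).symm 0 = 0 := by
      rw [Adjunction.homEquiv_counit, Functor.map_zero, zero_comp]
    refine Eq.trans ?_ h0.symm
    have hn := ((epsAbInv h).mapDerivedCategorySingleFunctor m).hom.naturality ((abGen J').r k)
    have h4 : (sI W).hom ≫ LocGen.Pm ((epsAbInv h).map ((abGen J').r k)) m ≫ z = 0 := by
      exact (congrArg ((sI W).hom ≫ ·) (h2 k hk)).trans comp_zero
    refine Eq.trans ?_ h4
    change _ = (sI W).hom ≫ LocGen.Pm _ m ≫ (sI V).inv ≫ _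
    rw [← Category.assoc (sI W).hom]
    refine Eq.trans ?_ (congrArg (· ≫ _) hn)
    exact ((Category.assoc _ _ _).trans (congrArg (_ ≫ ·) (Iso.hom_inv_id_assoc (sI V) _))).symm
  rw [SiteCoh.freeSheafMap_comp, Category.assoc]
  change (abGen J').r k ≫ (abGen J').r g ≫ a = 0
  rw [← hx, ← LocGen.ev_precomp, h3]
  unfold LocGen.ev
  rw [Functor.map_zero]
  exact comp_zero

end Groth.Agent.Mod48
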