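import Groth.Agent.Mod48.CmpMain

/-!
Cohomology of `τ'`-sheaves in `A'` is that of their `τ`-sheafification.
-/

universe u

open CategoryTheory CategoryTheory.Limits Opposite DerivedCategory CategoryTheory.Abelian
attribute [local instance] HasDerivedCategory.standard

namespace Groth.Agent.Mod48

section

variable {A : Type*} [Category* A] [Preadditive A]

/-- Transport of morphism groups along isomorphisms. -/
def homAddCongr {X X' Y Y' : A} (e : X ≅ X') (e' : Y ≅ Y') : (X ⟶ Y) ≃+ (X' ⟶ Y') :=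
  AddEquiv.mk' (Iso.homCongr e e') fun f g => by simp [Iso.homCongr, Preadditive.add_comp]

end

variable {C : Type u} [SmallCategory C] {J J' : GrothendieckTopology C}

/-- Objects representing the same sections are isomorphic. -/
noncomputable def isoOfSections {P₁ P₂ : Sheaf J AddCommGrpCat.{u}} {U : C}
    (e₁ : ∀ X : Sheaf J AddCommGrpCat.{u}, (P₁ ⟶ X) ≃+ X.obj.obj (op U))
    (e₂ : ∀ X : Sheaf J AddCommGrpCat.{u}, (P₂ ⟶ X) ≃+ X.obj.obj (op U))
    (c₁ : ∀ {X Y : Sheaf J AddCommGrpCat.{u}} (a : P₁ ⟶ X) (f : X ⟶ Y), e₁ Y (a ≫ f) = f.hom.app (op U) (e₁ X a))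
    (c₂ : ∀ {X Y : Sheaf J AddCommGrpCat.{u}} (a : P₂ ⟶ X) (f : X ⟶ Y), e₂ Y (a ≫ f) = f.hom.app (op U) (e₂ X a)) :
    P₁ ≅ P₂ where
  hom := (e₁ P₂).symm (e₂ P₂ (𝟙 P₂))
  inv := (e₂ P₁).symm (e₁ P₁ (𝟙 P₁))
  hom_inv_id := by
    apply (e₁ P₁).injective
    rw [c₁, AddEquiv.apply_symm_apply, ← c₂, Category.id_comp, AddEquiv.apply_symm_apply]
  inv_hom_id := by
    apply (e₂ P₂).injective
    rw [c₂, AddEquiv.apply_symm_apply, ← c₁, Category.id_comp, AddEquiv.apply_symm_apply]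

/-- `ε^{-1}` of a free sheaf is free. -/
noncomputable def epsInvFree (h : J' ≤ J) (U : C) :
    (epsAbInv h).obj (CohCx.freeSheaf J' U) ≅ CohCx.freeSheaf J U :=
  isoOfSections (U := U)
    (fun X => ((epsAbAdj h).homAddEquiv _ _).trans (SiteCoh.homAddEquivSec U ((epsAb h).obj X)))
    (fun X => SiteCoh.homAddEquivSec U X)
    (fun {X Y} a f => by
      simp only [AddEquiv.trans_apply, Adjunction.homAddEquiv_apply, Adjunction.homEquiv_naturality_right]
      rfl)
    (fun a f => SiteCoh.homAddEquivSec_comp a f)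

namespace CmpHyp

variable {h : J' ≤ J} {P : MorphismProperty C}
  {A' : ∀ X : C, ObjectProperty (Sheaf (J'.over X) AddCommGrpCat.{u})} [∀ X : C, WSerre.IsWeakSerre (A' X)]
  (H : CmpHyp h P A')

include H in
/-- `H^n_{τ'}(X, F') = H^n_τ(X, ε^{-1} F')`. -/
theorem nonempty_hu_addEquiv (X : C) (F' : Sheaf (J'.over X) AddCommGrpCat.{u}) (hF' : A' X F') (n : ℕ) :
    Nonempty (CohSite.HU F' n (Over.mk (𝟙 X)) ≃+
      CohSite.HU ((SiteCmp.epsShInv (SiteCmp.over_le h X) AddCommGrpCat.{u}).obj F') n (Over.mk (𝟙 X))) := by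
  let hX := SiteCmp.over_le h X
  let F : Sheaf (J.over X) AddCommGrpCat.{u} := ⟨F'.obj, H.h3 X F' hF'⟩
  let e : F' ≅ (epsAb hX).obj F := isoOfIsSheaf hX F' (H.h3 X F' hF')
  have hF : A' X ((epsAb hX).obj F) := (A' X).prop_of_iso e hF'
  let Z := (epsD hX).obj ((singleFunctor _ 0).obj F)
  have hge : TStructure.t.IsGE Z 0 := isGE_rightAdjoint (rdAdj (epsAbAdj hX)) _ _ inferInstance
  have hle : TStructure.t.IsLE Z 0 := by
    refine (DerivedCategory.isLE_iff _ _).2 fun i hi => ?_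
    lift i to ℕ using hi.le
    obtain ⟨a⟩ := nonempty_homology_rd_single_iso (R := epsAb hX) F i
    exact (H.vn i X F hF i (by omega) le_rfl).of_iso a
  obtain ⟨N, ⟨eZ⟩⟩ := exists_iso_singleFunctor_obj_of_isGE_of_isLE Z 0
  obtain ⟨b0⟩ := nonempty_homology_rd_single_iso (R := epsAb hX) F 0
  have : PreservesFiniteLimits (epsAb hX) :=
    ⟨fun _ _ _ => ((epsAbAdj hX).rightAdjoint_preservesLimits :
      PreservesLimitsOfSize.{0, 0} (epsAb hX)).preservesLimitsOfShape⟩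
  let eN : N ≅ F' :=
    ((singleFunctorCompHomologyFunctorIso _ 0).app N).symm ≪≫ (homologyFunctor _ 0).mapIso eZ.symm ≪≫ b0 ≪≫
      (epsAb hX).rightDerivedZeroIsoSelf.app F ≪≫ e.symm
  let j : (singleFunctor _ 0).obj F' ≅ Z := (singleFunctor _ 0).mapIso eN.symm ≪≫ eZ.symm
  let T := Over.mk (𝟙 X)
  let := (rdAdj (epsAbAdj hX)).rightAdjointCommShift ℤ
  have := (rdAdj (epsAbAdj hX)).right_adjoint_additive
  let P' := CohCx.freeSheaf (J'.over X) T
  let eF : (epsAbInv hX).obj F' ≅ F :=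
    (epsAbInv hX).mapIso e ≪≫ asIso ((epsAbAdj hX).counit.app F)
  have t : ShiftedHom ((singleFunctor _ 0).obj P') ((singleFunctor _ 0).obj F') (n : ℤ) ≃+
      ShiftedHom ((singleFunctor _ 0).obj (CohCx.freeSheaf (J.over X) T))
        ((singleFunctor _ 0).obj ((epsAbInv hX).obj F')) (n : ℤ) :=
    (homAddCongr (Iso.refl _) ((shiftFunctor _ (n : ℤ)).mapIso j ≪≫
        (((epsD hX).commShiftIso (n : ℤ)).app ((singleFunctor _ 0).obj F)).symm)).trans
      (((rdAdj (epsAbAdj hX)).homAddEquiv _ _).symm.trans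
        (homAddCongr (((epsAbInv hX).mapDerivedCategorySingleFunctor 0).app P' ≪≫
            (singleFunctor _ 0).mapIso (epsInvFree hX T))
          ((shiftFunctor _ (n : ℤ)).mapIso ((singleFunctor _ 0).mapIso eF.symm))))
  exact ⟨(Ext.homAddEquiv.trans t).trans Ext.homAddEquiv.symm⟩

end CmpHyp

end Groth.Agent.Mod48
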