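import Groth.Agent.Mod48.CmpMain
import Groth.Agent.SiteCoh.ExtCompare

/-!
Killing an equalised cohomology class along a covering.
-/

universe u

open CategoryTheory CategoryTheory.Limits Opposite DerivedCategory CategoryTheory.Abelian
attribute [local instance] HasDerivedCategory.standard

namespace Groth.Agent.Mod48

variable {C : Type u} [SmallCategory C] {K : GrothendieckTopology C} {X Y : C} {f : X ⟶ Y}

/-- The map of free sheaves given by `π`. -/
noncomputable def bcMap (K : GrothendieckTopology C) {U : Over Y} {P : Over X} (π : (Over.map f).obj P ⟶ U) :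
    CohCx.freeSheaf (K.over X) P ⟶ (restr K f).obj (CohCx.freeSheaf (K.over Y) U) :=
  (SiteCoh.homAddEquivSec (J := K.over X) P ((restr K f).obj (CohCx.freeSheaf (K.over Y) U))).symm
    ((CohCx.freeSheaf (K.over Y) U).obj.map π.op (SiteCoh.freeSec (K.over Y) U))

lemma homAddEquivSec_bcMap_comp {U : Over Y} {P : Over X} (π : (Over.map f).obj P ⟶ U)
    {G : Sheaf (K.over Y) AddCommGrpCat.{u}} (a : CohCx.freeSheaf (K.over Y) U ⟶ G) :
    SiteCoh.homAddEquivSec P _ (bcMap K π ≫ (restr K f).map a) = G.obj.map π.op (SiteCoh.homAddEquivSec U G a) := by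
  rw [SiteCoh.homAddEquivSec_comp, bcMap, AddEquiv.apply_symm_apply]
  exact ConcreteCategory.congr_hom (a.hom.naturality π.op) (SiteCoh.freeSec (K.over Y) U)

lemma bcMap_comp {U U' : Over Y} {P : Over X} (π : (Over.map f).obj P ⟶ U) (a : U ⟶ U') :
    bcMap K π ≫ (restr K f).map (CohCx.freeSheafMap (K.over Y) a) = bcMap K (π ≫ a) := by
  apply (SiteCoh.homAddEquivSec _ _).injective
  rw [homAddEquivSec_bcMap_comp, bcMap, AddEquiv.apply_symm_apply, SiteCoh.homAddEquivSec_apply,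
    SiteCoh.freeSheafMap_freeSec, op_comp, Functor.map_comp]
  rfl

lemma freeSheafMap_bcMap {U : Over Y} {P P' : Over X} (g : P' ⟶ P) (π : (Over.map f).obj P ⟶ U) :
    CohCx.freeSheafMap (K.over X) g ≫ bcMap K π = bcMap K ((Over.map f).map g ≫ π) := by
  apply (SiteCoh.homAddEquivSec _ _).injective
  rw [SiteCoh.homAddEquivSec_freeSheafMap_comp, bcMap, bcMap, AddEquiv.apply_symm_apply,
    AddEquiv.apply_symm_apply, op_comp, Functor.map_comp]
  rfl

/-- `Ext^n(ℤ[U], F) → Ext^n(ℤ[P], F|_X)`. -/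
noncomputable abbrev bcExt {U : Over Y} {P : Over X} (π : (Over.map f).obj P ⟶ U)
    (F : Sheaf (K.over Y) AddCommGrpCat.{u}) (m : ℕ) :
    Ext.{u} (CohCx.freeSheaf (K.over Y) U) F m →+ Ext.{u} (CohCx.freeSheaf (K.over X) P) ((restr K f).obj F) m :=
  SiteCoh.extTransfer (restr K f) (bcMap K π) F m

lemma bcExt_precomp {U U' : Over Y} {P : Over X} (π : (Over.map f).obj P ⟶ U) (a : U ⟶ U')
    {F : Sheaf (K.over Y) AddCommGrpCat.{u}} {m : ℕ} (ξ : Ext.{u} (CohCx.freeSheaf (K.over Y) U') F m) :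
    bcExt π F m ((Ext.mk₀ (CohCx.freeSheafMap (K.over Y) a)).comp ξ (zero_add m)) = bcExt (π ≫ a) F m ξ := by
  rw [SiteCoh.extTransfer_apply, SiteCoh.extTransfer_apply, Ext.mapExactFunctor_comp, Ext.mapExactFunctor_mk₀,
    Ext.mk₀_comp_mk₀_assoc, bcMap_comp]

lemma freeSheafMap_bcExt {U : Over Y} {P P' : Over X} (g : P' ⟶ P) (π : (Over.map f).obj P ⟶ U)
    {F : Sheaf (K.over Y) AddCommGrpCat.{u}} {m : ℕ} (ξ : Ext.{u} (CohCx.freeSheaf (K.over Y) U) F m) :
    (Ext.mk₀ (CohCx.freeSheafMap (K.over X) g)).comp (bcExt π F m ξ) (zero_add m) =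
      bcExt ((Over.map f).map g ≫ π) F m ξ := by
  rw [SiteCoh.extTransfer_apply, SiteCoh.extTransfer_apply, Ext.mk₀_comp_mk₀_assoc, freeSheafMap_bcMap]

lemma bcExt_id_bijective (P : Over X) (F : Sheaf (K.over Y) AddCommGrpCat.{u}) (m : ℕ) :
    Function.Bijective (bcExt (𝟙 ((Over.map f).obj P)) F m) := by
  refine SiteCoh.extTransfer_bijective _ _ (fun G => ?_) (fun I _ k => Ext.subsingleton_of_injective _ _ k) m F
  have e : (fun φ : CohCx.freeSheaf (K.over Y) ((Over.map f).obj P) ⟶ G =>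
      bcMap K (𝟙 ((Over.map f).obj P)) ≫ (restr K f).map φ) =
      (SiteCoh.homAddEquivSec P ((restr K f).obj G)).symm ∘ (SiteCoh.homAddEquivSec ((Over.map f).obj P) G) := by
    funext φ
    apply (SiteCoh.homAddEquivSec _ _).injective
    rw [homAddEquivSec_bcMap_comp, Function.comp_apply, AddEquiv.apply_symm_apply, op_id, G.obj.map_id]
    rfl
  rw [e]
  exact (SiteCoh.homAddEquivSec P _).symm.bijective.comp (SiteCoh.homAddEquivSec ((Over.map f).obj P) G).bijective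

lemma mk₀_comp_injective {A : Type*} [Category* A] [Abelian A] [HasExt.{u} A] {P Q F : A} (e : P ⟶ Q) [IsIso e]
    {m : ℕ} {a b : Ext.{u} Q F m} (h : (Ext.mk₀ e).comp a (zero_add m) = (Ext.mk₀ e).comp b (zero_add m)) :
    a = b := by
  have h' := congrArg (fun c => (Ext.mk₀ (inv e)).comp c (zero_add m)) h
  simpa [Ext.mk₀_comp_mk₀_assoc] using h'

lemma mk₀_comp_hom {A : Type*} [Category* A] [Abelian A] [HasExt.{u} A] [HasDerivedCategory A] {P Q F : A}
    (e : P ⟶ Q) {m : ℕ} (a : Ext.{u} Q F m) :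
    ((Ext.mk₀ e).comp a (zero_add m)).hom = (singleFunctor A 0).map e ≫ a.hom := by
  rw [Ext.comp_hom, Ext.mk₀_hom, ShiftedHom.mk₀_comp]

variable {J J' : GrothendieckTopology C} {h : J' ≤ J} {P : MorphismProperty C}
  {A' : ∀ X : C, ObjectProperty (Sheaf (J'.over X) AddCommGrpCat.{u})} [∀ X : C, WSerre.IsWeakSerre (A' X)]

/-- A class on `Y` coming from `X` whose transfer is given by a class on `X` killed on `X` is locally killed. -/
lemma CmpHyp.exists_sieve_kill (H : CmpHyp h P A') (hf : P f)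
    (hcov : Sieve.ofArrows (fun _ : PUnit.{u + 1} => X) (fun _ => f) ∈ J Y)
    (F' : Sheaf (J'.over Y) AddCommGrpCat.{u}) (hF' : A' Y F') (m : ℕ)
    (hm : ∀ θ' : Ext.{u} (CohCx.freeSheaf (J'.over Y) (Over.mk (f ≫ 𝟙 Y))) F' m,
      LocGen.ev (m := 0) θ'.hom = 0)
    (x₁ : Ext.{u} ((restr J' f).obj (CohCx.freeSheaf (J'.over Y) (Over.mk (𝟙 Y)))) ((restr J' f).obj F') m)
    (θ : Ext.{u} (CohCx.freeSheaf (J'.over Y) (Over.mk (f ≫ 𝟙 Y))) F' m)
    (hx : (Ext.mk₀ ((restr J' f).map (CohCx.freeSheafMap (J'.over Y)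
        (Over.homMk f rfl : Over.mk (f ≫ 𝟙 Y) ⟶ Over.mk (𝟙 Y))))).comp x₁ (zero_add m) =
      θ.mapExactFunctor (restr J' f)) :
    ∃ S ∈ (J'.over Y) (Over.mk (𝟙 Y)), ∀ ⦃V : Over Y⦄ (g : V ⟶ Over.mk (𝟙 Y)), S g →
      (Ext.mk₀ ((restr J' f).map (CohCx.freeSheafMap (J'.over Y) g))).comp x₁ (zero_add m) = 0 := by
  let sI := fun Q => ((restr J' f).mapDerivedCategorySingleFunctor 0).app Q
  let Z' := ((singleFunctor _ 0).obj ((restr J' f).obj F'))⟦(m : ℤ)⟧
  let y : LocGen.Pd ((abGen (J'.over Y)).P (Over.mk (𝟙 Y))) 0 ⟶ (relocD J' f).obj Z' :=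
    (relocDAdj J' f).homEquiv _ _ ((sI _).hom ≫ x₁.hom)
  have key : ∀ ⦃V : Over Y⦄ (g : V ⟶ Over.mk (𝟙 Y)),
      LocGen.Pm ((abGen (J'.over Y)).r g) 0 ≫ y = (relocDAdj J' f).homEquiv _ _ ((sI _).hom ≫
        ((Ext.mk₀ ((restr J' f).map (CohCx.freeSheafMap (J'.over Y) g))).comp x₁ (zero_add m)).hom) := fun V g => by
    refine ((relocDAdj J' f).homEquiv_naturality_left _ _).symm.trans (congrArg ((relocDAdj J' f).homEquiv _ _) ?_)
    rw [mk₀_comp_hom]
    have hn := ((restr J' f).mapDerivedCategorySingleFunctor 0).hom.naturality ((abGen (J'.over Y)).r g)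
    exact (Category.assoc _ _ _).symm.trans ((congrArg (· ≫ x₁.hom) hn).trans (Category.assoc _ _ _))
  have hσ : LocGen.ev y = 0 := by
    obtain ⟨a⟩ := LocGen.nonempty_homology_push_shift_iso (rd (reloc J' f)) (rdUnit (reloc J' f))
      (isIso_rdUnit (reloc J' f)) enoughKInj ((singleFunctor _ 0).obj ((restr J' f).obj F')) (m : ℤ) 0 (m : ℤ)
      (by omega)
    obtain ⟨b⟩ := nonempty_homology_rd_single_iso (R := reloc J' f) ((restr J' f).obj F') m
    have hmem : A' Y ((homologyFunctor _ 0).obj ((relocD J' f).obj Z')) :=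
      (A' Y).prop_of_iso (a ≪≫ b).symm (H.h4 f hf _ (H.h2 f F' hF') m)
    refine (SiteCoh.homAddEquivSec _ _).injective (Eq.trans ?_ (map_zero _).symm)
    refine sec_eq_zero_of_cover (J := J) (⟨_, H.h3 Y _ hmem⟩ : Sheaf (J.over Y) AddCommGrpCat.{u})
      (fun _ : PUnit.{u + 1} => X) (fun _ => f) hcov _ fun _ => ?_
    refine (SiteCoh.homAddEquivSec_freeSheafMap_comp
      (Over.homMk f rfl : Over.mk (f ≫ 𝟙 Y) ⟶ Over.mk (𝟙 Y)) (LocGen.ev y)).symm.trans ?_
    refine (congrArg (SiteCoh.homAddEquivSec _ _) ?_).trans (map_zero _)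
    refine (LocGen.ev_precomp _ y).symm.trans ((congrArg LocGen.ev (key _)).trans ?_)
    rw [hx, Ext.mapExactFunctor_hom]
    let k := (((restr J' f).mapDerivedCategory.commShiftIso (m : ℤ)).hom.app ((singleFunctor _ 0).obj F')) ≫
      (shiftFunctor _ (m : ℤ)).map (sI F').hom
    have e : (sI (CohCx.freeSheaf (J'.over Y) (Over.mk (f ≫ 𝟙 Y)))).hom ≫
        ((restr J' f).mapDerivedCategorySingleFunctor 0).inv.app _ ≫ θ.hom.map (restr J' f).mapDerivedCategory ≫
          (shiftFunctor _ (m : ℤ)).map (sI F').hom = (restr J' f).mapDerivedCategory.map θ.hom ≫ k := by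
      refine ((sI (CohCx.freeSheaf (J'.over Y) (Over.mk (f ≫ 𝟙 Y)))).hom_inv_id_assoc _).trans ?_
      exact Category.assoc _ _ _
    refine (congrArg (fun t => LocGen.ev ((relocDAdj J' f).homEquiv _ _ t)) e).trans ?_
    refine (congrArg LocGen.ev ((relocDAdj J' f).homEquiv_naturality_left θ.hom k)).trans ?_
    exact (LocGen.ev_comp θ.hom ((relocDAdj J' f).homEquiv _ _ k)).trans
      ((congrArg (· ≫ _) (hm θ)).trans zero_comp)
  obtain ⟨S, hS, hS'⟩ := (abGen (J'.over Y)).ev_locally_injective y hσ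
  refine ⟨S, hS, fun V g hg => ?_⟩
  refine Ext.ext ?_
  rw [Ext.zero_hom]
  have h0 := (key g).symm.trans (hS' g hg)
  have : (relocDAdj J' f).homEquiv _ _ ((sI (CohCx.freeSheaf (J'.over Y) V)).hom ≫
      ((Ext.mk₀ ((restr J' f).map (CohCx.freeSheafMap (J'.over Y) g))).comp x₁ (zero_add m)).hom) =
      (relocDAdj J' f).homEquiv _ _ 0 := h0.trans (by
        have := (relocDAdj J' f).right_adjoint_additive
        rw [Adjunction.homEquiv_unit, Functor.map_zero, comp_zero]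
        rfl)
  exact (cancel_epi _).1 (((relocDAdj J' f).homEquiv _ _).injective this |>.trans comp_zero.symm)

/-- An equalised class is killed on a covering. -/
theorem CmpHyp.exists_cover_kill (H : CmpHyp h P A') {X Y : C} (f : X ⟶ Y) (hf : P f)
    (hcov : Sieve.ofArrows (fun _ : PUnit.{u + 1} => X) (fun _ => f) ∈ J Y)
    (F' : Sheaf (J'.over Y) AddCommGrpCat.{u}) (hF' : A' Y F') (n : ℕ)
    (θ : CohSite.HU F' (n + 1) (Over.mk f))
    (hθ : ∀ (W : C) (p q : W ⟶ X) (hW : IsPullback p q f f),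
      CohSite.res F' (n + 1) (Over.homMk p rfl : Over.mk (p ≫ f) ⟶ Over.mk f) θ =
        CohSite.res F' (n + 1) (Over.homMk q hW.w.symm : Over.mk (p ≫ f) ⟶ Over.mk f) θ) :
    ∃ (ι : Type u) (Z : ι → C) (g : ∀ i, Z i ⟶ Y), Sieve.ofArrows Z g ∈ J' Y ∧
      ∀ (i : ι) (W : C) (p : W ⟶ Z i) (q : W ⟶ X), IsPullback p q (g i) f →
        CohSite.res F' (n + 1) (Over.homMk q rfl : Over.mk (q ≫ f) ⟶ Over.mk f) θ = 0 := by
  let θ₀ : Ext.{u} (CohCx.freeSheaf (J'.over Y) (Over.mk f)) F' (n + 1) := θ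
  let i₀ : Over.mk (f ≫ 𝟙 Y) ⟶ Over.mk f := Over.homMk (𝟙 X) (by simp)
  let θ₁ := (Ext.mk₀ (CohCx.freeSheafMap (J'.over Y) i₀)).comp θ₀ (zero_add _)
  let π₀ : (Over.map f).obj (Over.mk (𝟙 X)) ⟶ Over.mk f := Over.homMk (𝟙 X) (by simp)
  let π₁ : (Over.map f).obj (Over.mk (𝟙 X)) ⟶ Over.mk (𝟙 Y) := Over.homMk f (by simp)
  have : IsIso (bcMap J' π₁) := by
    refine isIso_bcMap (Over.map f) π₁ fun T => ⟨fun a b _ => ?_, fun b => ⟨Over.homMk T.hom, ?_⟩⟩
    · ext
      exact ((Category.comp_id _).symm.trans (Over.w a)).trans ((Category.comp_id _).symm.trans (Over.w b)).symm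
    · ext
      exact ((Category.comp_id _).symm.trans (Over.w b)).symm
  let x := bcExt π₀ F' (n + 1) θ₀
  let x₁ := (Ext.mk₀ (inv (bcMap J' π₁))).comp x (zero_add _)
  have hx₁ : (Ext.mk₀ (bcMap J' π₁)).comp x₁ (zero_add _) = x := by simp [x₁]
  obtain ⟨W, p, q, hW, -⟩ := H.h1 f hf f
  let πq : (Over.map f).obj (Over.mk p) ⟶ Over.mk (f ≫ 𝟙 Y) := Over.homMk q (by
    change q ≫ f ≫ 𝟙 Y = p ≫ f
    rw [Category.comp_id, hW.w])
  have : IsIso (bcMap J' πq) := by
    refine isIso_bcMap (Over.map f) πq fun T => ⟨fun a b hab => ?_, fun b => ?_⟩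
    · ext
      exact hW.hom_ext ((Over.w a).trans (Over.w b).symm) (congrArg CommaMorphism.left hab)
    · have hb : T.hom ≫ f = b.left ≫ f := by
        have := Over.w b
        change b.left ≫ f ≫ 𝟙 Y = T.hom ≫ f at this
        exact this.symm.trans (congrArg (b.left ≫ ·) (Category.comp_id f))
      refine ⟨Over.homMk (hW.lift T.hom b.left hb) (hW.lift_fst _ _ _), ?_⟩
      ext
      exact hW.lift_snd _ _ _
  let gp : Over.mk p ⟶ Over.mk (𝟙 X) := Over.homMk p (by simp)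
  have hx : (Ext.mk₀ ((restr J' f).map (CohCx.freeSheafMap (J'.over Y)
        (Over.homMk f rfl : Over.mk (f ≫ 𝟙 Y) ⟶ Over.mk (𝟙 Y))))).comp x₁ (zero_add _) =
      θ₁.mapExactFunctor (restr J' f) := by
    apply mk₀_comp_injective (bcMap J' πq)
    have h1 : bcMap J' πq ≫ (restr J' f).map (CohCx.freeSheafMap (J'.over Y)
        (Over.homMk f rfl : Over.mk (f ≫ 𝟙 Y) ⟶ Over.mk (𝟙 Y))) =
        CohCx.freeSheafMap (J'.over X) gp ≫ bcMap J' π₁ := by
      rw [bcMap_comp, freeSheafMap_bcMap]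
      congr 1
      ext
      exact hW.w.symm
    rw [Ext.mk₀_comp_mk₀_assoc, h1, ← Ext.mk₀_comp_mk₀_assoc, hx₁, freeSheafMap_bcExt]
    have h2 := congrArg (bcExt (𝟙 ((Over.map f).obj (Over.mk p))) F' (n + 1)) (hθ W p q hW)
    refine Eq.trans ?_ ((h2.trans ?_) : bcExt (𝟙 ((Over.map f).obj (Over.mk p))) F' (n + 1)
      ((Ext.mk₀ (CohCx.freeSheafMap (J'.over Y) (Over.homMk p rfl : (Over.map f).obj (Over.mk p) ⟶ Over.mk f))).comp θ₀
        (zero_add _)) = _)
    · refine Eq.trans ?_ (bcExt_precomp _ _ θ₀).symm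
      congr 2
      ext
      exact (Category.comp_id _).trans (Category.id_comp _).symm
    · refine (bcExt_precomp _ _ θ₀).trans ?_
      refine Eq.trans ?_ (bcExt_precomp πq i₀ θ₀).symm
      congr 2
      ext
      exact (Category.id_comp _).trans (Category.comp_id _).symm
  obtain ⟨S, hS, hS'⟩ := H.exists_sieve_kill hf hcov F' hF' (n + 1) (fun θ' => by
    refine IsZero.eq_of_tgt ?_ _ _
    exact IsZero.of_iso (DerivedCategory.isZero_of_isLE ((singleFunctor _ 0).obj F') 0 ((n + 1 : ℕ) : ℤ) (by omega))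
      (((homologyFunctor _ 0).shiftIso ((n + 1 : ℕ) : ℤ) 0 ((n + 1 : ℕ) : ℤ) (by omega)).app _)) x₁ θ₁ hx
  refine ⟨{ a : Σ V : Over Y, V ⟶ Over.mk (𝟙 Y) // S a.2 }, fun a => a.1.1.left, fun a => a.1.1.hom, ?_, ?_⟩
  · rw [GrothendieckTopology.mem_over_iff] at hS
    refine J'.superset_covering (fun T g hg => ?_) hS
    rw [Sieve.overEquiv_iff] at hg
    refine (Sieve.mem_ofArrows_iff (Y := fun a : { a : Σ V : Over Y, V ⟶ Over.mk (𝟙 Y) // S a.2 } => a.1.1.left)
      (f := fun a => a.1.1.hom) g).2 ⟨⟨⟨_, _⟩, hg⟩, 𝟙 T, ?_⟩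
    exact ((Category.id_comp _).trans (Category.comp_id g)).symm
  · rintro ⟨⟨V, a⟩, ha⟩ W' p' q' hW'
    let π : (Over.map f).obj (Over.mk q') ⟶ V := Over.homMk p' hW'.w
    let gq : Over.mk q' ⟶ Over.mk (𝟙 X) := Over.homMk q' (by simp)
    have h1 : bcMap J' π ≫ (restr J' f).map (CohCx.freeSheafMap (J'.over Y) a) =
        CohCx.freeSheafMap (J'.over X) gq ≫ bcMap J' π₁ := by
      rw [bcMap_comp, freeSheafMap_bcMap]
      congr 1
      ext
      exact (congrArg (p' ≫ ·) ((Category.comp_id _).symm.trans (Over.w a))).trans hW'.w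
    have h2 := congrArg (fun c => (Ext.mk₀ (bcMap J' π)).comp c (zero_add _)) (hS' a ha)
    rw [Ext.mk₀_comp_mk₀_assoc, h1, ← Ext.mk₀_comp_mk₀_assoc, hx₁, freeSheafMap_bcExt, Ext.comp_zero] at h2
    refine (bcExt_id_bijective (Over.mk q') F' (n + 1)).1 ?_
    refine Eq.trans ?_ (h2.trans (map_zero (bcExt (𝟙 ((Over.map f).obj (Over.mk q'))) F' (n + 1))).symm)
    refine (bcExt_precomp _ _ θ₀).trans ?_
    congr 2
    ext
    exact (Category.id_comp _).trans (Category.comp_id _).symm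

end Groth.Agent.Mod48
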