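import Groth.Agent.Mod48.CmpEps
import Mathlib.CategoryTheory.Sites.Over
import Mathlib.CategoryTheory.Limits.Shapes.Pullback.IsPullback.Basic

/-!
Restriction and relocalisation of abelian sheaves along a morphism of the site, and their commutation with the
comparison of topologies.
-/

universe u

open CategoryTheory CategoryTheory.Limits Opposite DerivedCategory
attribute [local instance] HasDerivedCategory.standard

namespace Groth.Agent.Mod48

variable {C : Type u} [SmallCategory C]

instance hasPseudoFilteredComma_over_map {X Y : C} (φ : X ⟶ Y) : SiteCoh.HasPseudoFilteredComma (Over.map φ) where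
  pseudoFiltered V :=
    { span := fun {a b c} f g => by
        have ef : a.hom.unop.left = b.hom.unop.left ≫ f.left.unop.left :=
          congrArg CommaMorphism.left (congrArg Quiver.Hom.unop (CostructuredArrow.w f)).symm
        have eg : a.hom.unop.left = c.hom.unop.left ≫ g.left.unop.left :=
          congrArg CommaMorphism.left (congrArg Quiver.Hom.unop (CostructuredArrow.w g)).symm
        let W : Over X := Over.mk (a.hom.unop.left ≫ a.left.unop.hom)
        let v : V.unop ⟶ (Over.map φ).obj W := Over.homMk (𝟙 V.unop.left)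
          ((Category.id_comp _).trans ((Category.assoc _ _ _).trans (Over.w a.hom.unop)))
        refine ⟨CostructuredArrow.mk (Y := op W) v.op,
          CostructuredArrow.homMk (Over.homMk b.hom.unop.left ?_ : W ⟶ b.left.unop).op ?_,
          CostructuredArrow.homMk (Over.homMk c.hom.unop.left ?_ : W ⟶ c.left.unop).op ?_, ?_⟩
        · change b.hom.unop.left ≫ b.left.unop.hom = a.hom.unop.left ≫ a.left.unop.hom
          rw [ef, Category.assoc, Over.w f.left.unop]
        · apply Quiver.Hom.unop_inj
          ext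
          exact Category.id_comp _
        · change c.hom.unop.left ≫ c.left.unop.hom = a.hom.unop.left ≫ a.left.unop.hom
          rw [eg, Category.assoc, Over.w g.left.unop]
        · apply Quiver.Hom.unop_inj
          ext
          exact Category.id_comp _
        · apply CostructuredArrow.hom_ext
          apply Quiver.Hom.unop_inj
          ext
          exact ef.symm.trans eg
      parallel := fun {a b} f g => by
        have ef : a.hom.unop.left = b.hom.unop.left ≫ f.left.unop.left :=
          congrArg CommaMorphism.left (congrArg Quiver.Hom.unop (CostructuredArrow.w f)).symm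
        have eg : a.hom.unop.left = b.hom.unop.left ≫ g.left.unop.left :=
          congrArg CommaMorphism.left (congrArg Quiver.Hom.unop (CostructuredArrow.w g)).symm
        let W : Over X := Over.mk (b.hom.unop.left ≫ b.left.unop.hom)
        let v : V.unop ⟶ (Over.map φ).obj W := Over.homMk (𝟙 V.unop.left)
          ((Category.id_comp _).trans ((Category.assoc _ _ _).trans (Over.w b.hom.unop)))
        refine ⟨CostructuredArrow.mk (Y := op W) v.op,
          CostructuredArrow.homMk (Over.homMk b.hom.unop.left rfl : W ⟶ b.left.unop).op ?_, ?_⟩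
        · apply Quiver.Hom.unop_inj
          ext
          exact Category.id_comp _
        · apply CostructuredArrow.hom_ext
          apply Quiver.Hom.unop_inj
          ext
          exact ef.symm.trans eg }

variable (J : GrothendieckTopology C) {X Y : C} (φ : X ⟶ Y)

/-- Restriction `Sh(C/Y) ⥤ Sh(C/X)`. -/
noncomputable abbrev restr : Sheaf (J.over Y) AddCommGrpCat.{u} ⥤ Sheaf (J.over X) AddCommGrpCat.{u} :=
  CohSite.push (J.over Y) (J.over X) (Over.map φ)

/-- Extension by zero, the left adjoint of restriction. -/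
noncomputable abbrev extZero : Sheaf (J.over X) AddCommGrpCat.{u} ⥤ Sheaf (J.over Y) AddCommGrpCat.{u} :=
  (Over.map φ).sheafPullback AddCommGrpCat.{u} (J.over X) (J.over Y)

/-- `j_! ⊣ j^{-1}`. -/
noncomputable abbrev extZeroAdj : extZero J φ ⊣ restr J φ :=
  (Over.map φ).sheafAdjunctionContinuous AddCommGrpCat.{u} (J.over X) (J.over Y)

/-- The relocalisation pushforward, the right adjoint of restriction. -/
noncomputable abbrev reloc : Sheaf (J.over X) AddCommGrpCat.{u} ⥤ Sheaf (J.over Y) AddCommGrpCat.{u} :=
  (Over.map φ).sheafPushforwardCocontinuous AddCommGrpCat.{u} (J.over X) (J.over Y)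

/-- `j^{-1} ⊣ f_*`. -/
noncomputable abbrev relocAdj : restr J φ ⊣ reloc J φ :=
  (Over.map φ).sheafAdjunctionCocontinuous AddCommGrpCat.{u} (J.over X) (J.over Y)

instance : PreservesFiniteLimits (extZero J φ) :=
  SiteCoh.sheafPullback_preservesFiniteLimits (Over.map φ) (J.over X) (J.over Y)

instance : PreservesFiniteColimits (extZero J φ) :=
  ⟨fun _ _ _ => ((extZeroAdj J φ).leftAdjoint_preservesColimits :
    PreservesColimitsOfSize.{0, 0} (extZero J φ)).preservesColimitsOfShape⟩

instance : (extZero J φ).Additive := (extZeroAdj J φ).left_adjoint_additive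

instance : PreservesFiniteLimits (restr J φ) :=
  ⟨fun _ _ _ => ((extZeroAdj J φ).rightAdjoint_preservesLimits :
    PreservesLimitsOfSize.{0, 0} (restr J φ)).preservesLimitsOfShape⟩

instance : PreservesFiniteColimits (restr J φ) :=
  ⟨fun _ _ _ => ((relocAdj J φ).leftAdjoint_preservesColimits :
    PreservesColimitsOfSize.{0, 0} (restr J φ)).preservesColimitsOfShape⟩

instance reloc_additive : (reloc J φ).Additive := (relocAdj J φ).right_adjoint_additive

/-- The derived adjunction `j_! ⊣ j^{-1}`. -/
noncomputable def extZeroDAdj : (extZero J φ).mapDerivedCategory ⊣ (restr J φ).mapDerivedCategory :=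
  haveI : ((restr J φ).mapDerivedCategory).IsRightDerivedFunctor (restr J φ).mapDerivedCategoryFactorsh.inv
      (HomotopyCategory.quasiIso (Sheaf (J.over Y) AddCommGrpCat.{u}) (ComplexShape.up ℤ)) :=
    Functor.isRightDerivedFunctor_of_inverts _ (restr J φ).mapDerivedCategory (restr J φ).mapDerivedCategoryFactorsh
  derivedAdj (extZeroAdj J φ) enoughKInj (restr J φ).mapDerivedCategory (restr J φ).mapDerivedCategoryFactorsh.inv

/-- `Rf_*` for the relocalisation. -/
noncomputable abbrev relocD : DerivedCategory (Sheaf (J.over X) AddCommGrpCat.{u}) ⥤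
    DerivedCategory (Sheaf (J.over Y) AddCommGrpCat.{u}) :=
  rd (reloc J φ)

/-- The derived adjunction `j^{-1} ⊣ Rf_*`. -/
noncomputable abbrev relocDAdj : (restr J φ).mapDerivedCategory ⊣ relocD J φ := rdAdj (relocAdj J φ)

/-- A covering of the base in the localised site from one of the site. -/
lemma mem_over_of_cover {U : Over Y} {ι : Type*} (V : ι → C) (v : ∀ i, V i ⟶ U.left)
    (hv : Sieve.ofArrows V v ∈ J U.left) :
    Sieve.ofArrows (fun i => Over.mk (v i ≫ U.hom))
      (fun i => (Over.homMk (v i) rfl : Over.mk (v i ≫ U.hom) ⟶ U)) ∈ J.over Y U := by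
  rw [GrothendieckTopology.mem_over_iff, Sieve.overEquiv_ofArrows]
  exact hv

variable {J φ}

/-- A section on `C/Y` is zero if it is zero on all objects over a covering of the base. -/
lemma sec_eq_zero_of_cover (G : Sheaf (J.over Y) AddCommGrpCat.{u}) {U : Over Y} {ι : Type*} (V : ι → C)
    (v : ∀ i, V i ⟶ U.left) (hv : Sieve.ofArrows V v ∈ J U.left) (s : G.obj.obj (op U))
    (h : ∀ i, G.obj.map (Over.homMk (v i) rfl : Over.mk (v i ≫ U.hom) ⟶ U).op s = 0) : s = 0 := by
  refine sec_eq_zero G _ (mem_over_of_cover J V v hv) s fun W g hg => ?_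
  obtain ⟨i, b, rfl⟩ := (Sieve.mem_ofArrows_iff (Y := fun i => Over.mk (v i ≫ U.hom))
    (f := fun i => (Over.homMk (v i) rfl : Over.mk (v i ≫ U.hom) ⟶ U)) g).1 hg
  rw [op_comp, G.obj.map_comp, ConcreteCategory.comp_apply, h i]
  exact map_zero (G.obj.map b.op).hom

/-- A map is zero if its restriction along a covering map is. -/
lemma restr_faithful (hφ : Sieve.ofArrows (fun _ : PUnit.{u + 1} => X) (fun _ => φ) ∈ J Y) :
    (restr J φ).Faithful := by
  refine ⟨fun {G H} a b hab => ?_⟩
  refine Sheaf.hom_ext ?_
  ext U s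
  obtain ⟨U⟩ := U
  rw [← sub_eq_zero]
  have hp : Sieve.pullback U.hom (Sieve.ofArrows (fun _ : PUnit.{u + 1} => X) (fun _ => φ)) ∈ J U.left :=
    J.pullback_stable U.hom hφ
  refine sec_eq_zero H _ (show (Sieve.overEquiv U).symm _ ∈ J.over Y U from
    J.overEquiv_symm_mem_over U _ hp) _ fun T g hg => ?_
  have hg' : (Sieve.ofArrows (fun _ : PUnit.{u + 1} => X) (fun _ => φ)) (g.left ≫ U.hom) := hg
  obtain ⟨-, t, ht⟩ := (Sieve.mem_ofArrows_iff (Y := fun _ : PUnit.{u + 1} => X) (f := fun _ => φ) _).1 hg'
  let W : Over X := Over.mk t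
  let g' : (Over.map φ).obj W ⟶ U := Over.homMk g.left ht
  let i : T ⟶ (Over.map φ).obj W := Over.homMk (𝟙 T.left) (by
    change 𝟙 T.left ≫ t ≫ φ = T.hom
    rw [Category.id_comp, ← ht, Over.w g])
  have hgi : g = i ≫ g' := by ext; exact (Category.id_comp _).symm
  have e1 := ConcreteCategory.congr_hom (a.hom.naturality g'.op) s
  have e2 := ConcreteCategory.congr_hom (b.hom.naturality g'.op) s
  have e3 : a.hom.app (op ((Over.map φ).obj W)) = b.hom.app (op ((Over.map φ).obj W)) :=
    congrArg (fun k : (restr J φ).obj G ⟶ (restr J φ).obj H => k.hom.app (op W)) hab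
  simp only [ConcreteCategory.comp_apply] at e1 e2
  have key : H.obj.map g'.op (a.hom.app (op U) s - b.hom.app (op U) s) = 0 := by
    rw [map_sub, ← e1, ← e2, e3, sub_self]
  rw [hgi, op_comp, H.obj.map_comp, ConcreteCategory.comp_apply, key]
  exact map_zero (H.obj.map i.op).hom

section Eps

variable {J' : GrothendieckTopology C} (h : J' ≤ J)

/-- Restriction commutes with `ε_*`. -/
noncomputable def restrEps :
    restr J φ ⋙ epsAb (SiteCmp.over_le h X) ≅ epsAb (SiteCmp.over_le h Y) ⋙ restr J' φ :=
  NatIso.ofComponents (fun _ => Iso.refl _) (fun _ => by ext; rfl)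

/-- Relocalisation commutes with `ε_*`. -/
noncomputable def relocEps :
    reloc J φ ⋙ epsAb (SiteCmp.over_le h Y) ≅ epsAb (SiteCmp.over_le h X) ⋙ reloc J' φ :=
  NatIso.ofComponents (fun _ => Iso.refl _) (fun _ => by ext; rfl)

variable (φ)

/-- Derived restriction commutes with `Rε_*`. -/
noncomputable def restrEpsD :
    (restr J φ).mapDerivedCategory ⋙ epsD (SiteCmp.over_le h X) ≅
      epsD (SiteCmp.over_le h Y) ⋙ (restr J' φ).mapDerivedCategory :=
  rightSquare (epsAbAdj (SiteCmp.over_le h X)) (extZeroAdj J φ) (extZeroAdj J' φ) (epsAbAdj (SiteCmp.over_le h Y))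
    (restrEps h) (rdAdj (epsAbAdj (SiteCmp.over_le h X))) (extZeroDAdj J φ) (extZeroDAdj J' φ)
    (rdAdj (epsAbAdj (SiteCmp.over_le h Y)))

/-- Derived relocalisation commutes with `Rε_*`. -/
noncomputable def relocEpsD :
    relocD J φ ⋙ epsD (SiteCmp.over_le h Y) ≅ epsD (SiteCmp.over_le h X) ⋙ relocD J' φ :=
  rightSquare (epsAbAdj (SiteCmp.over_le h Y)) (relocAdj J φ) (relocAdj J' φ) (epsAbAdj (SiteCmp.over_le h X))
    (relocEps h) (rdAdj (epsAbAdj (SiteCmp.over_le h Y))) (relocDAdj J φ) (relocDAdj J' φ)
    (rdAdj (epsAbAdj (SiteCmp.over_le h X)))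

end Eps

end Groth.Agent.Mod48
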