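import Groth.Prelude.Def_WeakSerre
import Groth.Agent.Mod48.CmpRestr

/-!
The compare situation of two topologies: higher direct images of `ε_*` vanish on `A_X`.
-/

universe u

open CategoryTheory CategoryTheory.Limits Opposite DerivedCategory CategoryTheory.Pretriangulated
attribute [local instance] HasDerivedCategory.standard

namespace Groth.Agent.Mod48

variable {C : Type u} [SmallCategory C] {J J' : GrothendieckTopology C}

/-- The hypotheses of the compare situation. -/
structure CmpHyp (h : J' ≤ J) (P : MorphismProperty C)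
    (A' : ∀ X : C, ObjectProperty (Sheaf (J'.over X) AddCommGrpCat.{u})) : Prop where
  h1 : ∀ ⦃X Y : C⦄ (f : X ⟶ Y), P f → ∀ ⦃Y' : C⦄ (g : Y' ⟶ Y),
    ∃ (W : C) (p : W ⟶ Y') (q : W ⟶ X), IsPullback p q g f ∧ P p
  h2 : ∀ ⦃X Y : C⦄ (f : X ⟶ Y) (F' : Sheaf (J'.over Y) AddCommGrpCat.{u}), A' Y F' →
    A' X ((CohSite.push (J'.over Y) (J'.over X) (Over.map f)).obj F')
  h3 : ∀ (X : C) (F' : Sheaf (J'.over X) AddCommGrpCat.{u}), A' X F' → Presheaf.IsSheaf (J.over X) F'.obj
  h4 : ∀ ⦃X Y : C⦄ (f : X ⟶ Y)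
    [((Over.map f).sheafPushforwardCocontinuous AddCommGrpCat.{u} (J'.over X) (J'.over Y)).Additive],
    P f → ∀ (F' : Sheaf (J'.over X) AddCommGrpCat.{u}), A' X F' → ∀ i : ℕ,
      A' Y ((((Over.map f).sheafPushforwardCocontinuous AddCommGrpCat.{u} (J'.over X) (J'.over Y)).rightDerived i).obj F')
  h5 : ∀ (U : C) (S : Sieve U), S ∈ J U → ∃ (ι : Type u) (V : ι → C) (v : ∀ j, V j ⟶ U),
    Sieve.ofArrows V v ∈ J' U ∧ ∀ j, ∃ (W : C) (w : W ⟶ V j), P w ∧
      Sieve.ofArrows (fun _ : PUnit.{u + 1} => W) (fun _ => w) ∈ J (V j) ∧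
      ∃ (κ : Type u) (Wk : κ → C) (wk : ∀ k, Wk k ⟶ W), Sieve.ofArrows Wk wk ∈ J' W ∧
        ∀ k, S.arrows (wk k ≫ w ≫ v j)

variable {h : J' ≤ J} {P : MorphismProperty C}
  {A' : ∀ X : C, ObjectProperty (Sheaf (J'.over X) AddCommGrpCat.{u})} [∀ X : C, WSerre.IsWeakSerre (A' X)]

/-- `(V_n)`. -/
def CmpVn (h : J' ≤ J) (A' : ∀ X : C, ObjectProperty (Sheaf (J'.over X) AddCommGrpCat.{u})) (n : ℕ) : Prop :=
  ∀ (Z : C) (G : Sheaf (J.over Z) AddCommGrpCat.{u}), A' Z ((epsAb (SiteCmp.over_le h Z)).obj G) →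
    ∀ i : ℕ, 1 ≤ i → i ≤ n → IsZero (((epsAb (SiteCmp.over_le h Z)).rightDerived i).obj G)

namespace CmpHyp

variable (H : CmpHyp h P A')

include H in
lemma restr_mem {X Y : C} (f : X ⟶ Y) {G : Sheaf (J.over Y) AddCommGrpCat.{u}}
    (hG : A' Y ((epsAb (SiteCmp.over_le h Y)).obj G)) :
    A' X ((epsAb (SiteCmp.over_le h X)).obj ((restr J f).obj G)) :=
  (A' X).prop_of_iso ((restrEps h).app G).symm (H.h2 f _ hG)

include H in
/-- Under `(V_n)`, `H^q(Rε RR G)` is `R^q` of the coarse relocalisation of `εG`, for `q ≤ n`, and in `A'`. -/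
lemma homology_push {n : ℕ} (hV : CmpVn h A' n) {X Y : C} (f : X ⟶ Y) (hf : P f)
    (G : Sheaf (J.over X) AddCommGrpCat.{u}) (hG : A' X ((epsAb (SiteCmp.over_le h X)).obj G)) (q : ℕ) (hq : q ≤ n) :
    A' Y ((homologyFunctor _ (q : ℤ)).obj ((epsD (SiteCmp.over_le h Y)).obj ((relocD J f).obj ((singleFunctor _ 0).obj G)))) ∧
      Nonempty ((homologyFunctor _ (q : ℤ)).obj ((epsD (SiteCmp.over_le h Y)).obj ((relocD J f).obj ((singleFunctor _ 0).obj G))) ≅
        ((reloc J' f).rightDerived q).obj ((epsAb (SiteCmp.over_le h X)).obj G)) := by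
  let hX := SiteCmp.over_le h X
  let Z := (epsD hX).obj ((singleFunctor _ 0).obj G)
  let := (relocDAdj J' f).rightAdjointCommShift ℤ
  have := (relocDAdj J' f).commShift_of_leftAdjoint ℤ
  have := (relocDAdj J' f).isTriangulated_rightAdjoint
  have hZ : TStructure.t.IsGE Z 0 := isGE_rightAdjoint (rdAdj (epsAbAdj hX)) _ _ inferInstance
  have hZ' : ∀ i : ℕ, 1 ≤ i → i ≤ n → IsZero ((homologyFunctor _ (i : ℤ)).obj Z) := fun i h1 h2 => by
    obtain ⟨a⟩ := nonempty_homology_rd_single_iso (R := epsAb hX) G i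
    exact (hV X G hG i h1 h2).of_iso a
  have hT : TStructure.t.IsGE ((TStructure.t.truncGE 1).obj Z) ((n : ℤ) + 1) := by
    refine (DerivedCategory.isGE_iff _ _).2 fun i hi => ?_
    by_cases h1 : i < 1
    · exact DerivedCategory.isZero_of_isGE _ 1 i h1
    · lift i to ℕ using (by omega)
      have := isIso_homology_truncGEπ Z 1 (i : ℤ) (by omega)
      exact (hZ' i (by omega) (by omega)).of_iso (asIso ((homologyFunctor _ (i : ℤ)).map ((TStructure.t.truncGEπ 1).app Z))).symm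
  have h2 := isIso_homology_mor₁_of_isGE _ ((relocD J' f).map_distinguished _ (TStructure.t.triangleLTGE_distinguished 1 Z))
    ((n : ℤ) + 1) (q : ℤ) (isGE_rightAdjoint (relocDAdj J' f) _ _ hT) (by omega)
  change IsIso ((homologyFunctor _ (q : ℤ)).map ((relocD J' f).map ((TStructure.t.truncLTι 1).app Z))) at h2
  have hle : TStructure.t.IsLE ((TStructure.t.truncLT (0 + 1)).obj Z) 0 := inferInstance
  rw [zero_add] at hle
  obtain ⟨M, ⟨e⟩⟩ := exists_iso_singleFunctor_obj_of_isGE_of_isLE ((TStructure.t.truncLT 1).obj Z) 0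
  have := isIso_homology_truncLTι Z 1 0 (by omega)
  obtain ⟨a0⟩ := nonempty_homology_rd_single_iso (R := epsAb hX) G 0
  have : PreservesFiniteLimits (epsAb hX) :=
    ⟨fun _ _ _ => ((epsAbAdj hX).rightAdjoint_preservesLimits :
      PreservesLimitsOfSize.{0, 0} (epsAb hX)).preservesLimitsOfShape⟩
  let eM : M ≅ (epsAb hX).obj G :=
    ((singleFunctorCompHomologyFunctorIso _ 0).app M).symm ≪≫ (homologyFunctor _ 0).mapIso e.symm ≪≫
      asIso ((homologyFunctor _ 0).map ((TStructure.t.truncLTι 1).app Z)) ≪≫ a0 ≪≫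
      (epsAb hX).rightDerivedZeroIsoSelf.app G
  obtain ⟨a⟩ := nonempty_homology_rd_single_iso (R := reloc J' f) ((epsAb hX).obj G) q
  let r : (homologyFunctor _ (q : ℤ)).obj ((epsD (SiteCmp.over_le h Y)).obj ((relocD J f).obj ((singleFunctor _ 0).obj G))) ≅
      ((reloc J' f).rightDerived q).obj ((epsAb hX).obj G) :=
    (homologyFunctor _ (q : ℤ)).mapIso ((relocEpsD f h).app ((singleFunctor _ 0).obj G)) ≪≫
      (asIso ((homologyFunctor _ (q : ℤ)).map ((relocD J' f).map ((TStructure.t.truncLTι 1).app Z)))).symm ≪≫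
      (homologyFunctor _ (q : ℤ)).mapIso ((relocD J' f).mapIso (e ≪≫ (singleFunctor _ 0).mapIso eM)) ≪≫ a
  exact ⟨(A' Y).prop_of_iso r.symm (H.h4 f hf _ hG q), ⟨r⟩⟩

include H in
/-- The cokernel in `τ'`-sheaves of a map between objects of `A_X` is the image of the one in `τ`-sheaves. -/
lemma cokernel_mem {X : C} {G₁ G₂ G₃ : Sheaf (J.over X) AddCommGrpCat.{u}} (φ : G₁ ⟶ G₂) (q : G₂ ⟶ G₃)
    (w : φ ≫ q = 0) (hq : IsColimit (CokernelCofork.ofπ q w))
    (h₁ : A' X ((epsAb (SiteCmp.over_le h X)).obj G₁)) (h₂ : A' X ((epsAb (SiteCmp.over_le h X)).obj G₂)) :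
    A' X ((epsAb (SiteCmp.over_le h X)).obj G₃) ∧ Epi ((epsAb (SiteCmp.over_le h X)).map q) := by
  have hc := (A' X).prop_cokernel ((epsAb (SiteCmp.over_le h X)).map φ) h₁ h₂
  obtain ⟨hepi, ⟨e⟩⟩ := epi_map_of_iso φ q w hq (isoOfIsSheaf (SiteCmp.over_le h X) _ (H.h3 X _ hc))
  exact ⟨(A' X).prop_of_iso e hc, hepi⟩

include H in
/-- The inductive step at the base of the localised site. -/
lemma eq_zero_of_restr {n : ℕ} (hV : CmpVn h A' n) {X W : C} (w : W ⟶ X) (hw : P w)
    (hcov : Sieve.ofArrows (fun _ : PUnit.{u + 1} => W) (fun _ => w) ∈ J X)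
    (F : Sheaf (J.over X) AddCommGrpCat.{u}) (hF : A' X ((epsAb (SiteCmp.over_le h X)).obj F))
    (s : ((homologyFunctor _ ((n + 1 : ℕ) : ℤ)).obj ((epsD (SiteCmp.over_le h X)).obj
      ((singleFunctor _ 0).obj F))).obj.obj (op (Over.mk (𝟙 X))))
    (hs : ((homologyFunctor _ ((n + 1 : ℕ) : ℤ)).obj ((epsD (SiteCmp.over_le h X)).obj
      ((singleFunctor _ 0).obj F))).obj.map
        (Over.homMk w (by simp) : Over.mk (𝟙 W ≫ w) ⟶ Over.mk (𝟙 X)).op s = 0) : s = 0 := by
  let hX := SiteCmp.over_le h X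
  let hW := SiteCmp.over_le h W
  let F₀ := (singleFunctor (Sheaf (J.over X) AddCommGrpCat.{u}) 0).obj F
  let G := (restr J w).obj F
  let sI := ((restr J w).mapDerivedCategorySingleFunctor 0).app F
  have hG := H.restr_mem w hF
  let := (rdAdj (epsAbAdj hX)).rightAdjointCommShift ℤ
  have := (rdAdj (epsAbAdj hX)).commShift_of_leftAdjoint ℤ
  have := (rdAdj (epsAbAdj hX)).isTriangulated_rightAdjoint
  let := (relocDAdj J' w).rightAdjointCommShift ℤ
  have := (relocDAdj J' w).commShift_of_leftAdjoint ℤ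
  have := (relocDAdj J' w).isTriangulated_rightAdjoint
  let M := (relocD J w).obj ((restr J w).mapDerivedCategory.obj F₀)
  let m : F₀ ⟶ M := (relocDAdj J w).unit.app F₀
  obtain ⟨R, g, δ, hT⟩ := distinguished_cocone_triangle m
  have hρ : TStructure.t.IsGE ((restr J w).mapDerivedCategory.obj F₀) 0 :=
    isGE_mapDerivedCategory _ _ _ (inferInstance : TStructure.t.IsGE ((singleFunctor _ 0).obj F) 0)
  have hM : TStructure.t.IsGE M 0 := isGE_rightAdjoint (relocDAdj J w) _ _ hρ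
  have hFz : ∀ i : ℤ, i ≠ 0 → IsZero ((homologyFunctor _ i).obj F₀) := fun i hi => by
    rcases lt_or_gt_of_ne hi with hi' | hi'
    · exact DerivedCategory.isZero_of_isGE ((singleFunctor _ 0).obj F) 0 i hi'
    · exact DerivedCategory.isZero_of_isLE ((singleFunctor _ 0).obj F) 0 i hi'
  have hMA : ∀ q : ℕ, q ≤ n → A' X ((epsAb hX).obj ((homologyFunctor _ (q : ℤ)).obj M)) ∧
      IsIso (etaE hX (q : ℤ) M) := fun q hq => by
    obtain ⟨hmem, -⟩ := H.homology_push hV w hw G hG q hq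
    have hmem' : A' X ((homologyFunctor _ (q : ℤ)).obj ((epsD hX).obj M)) :=
      (A' X).prop_of_iso ((homologyFunctor _ (q : ℤ)).mapIso ((epsD hX).mapIso ((relocD J w).mapIso sI))).symm hmem
    have := isIso_etaE_of_isSheaf hX (q : ℤ) M (H.h3 X _ hmem')
    exact ⟨(A' X).prop_of_iso (asIso (etaE hX (q : ℤ) M)) hmem', this⟩
  -- `m` is injective on cohomology sheaves in degree zero
  have hm0 : Mono ((homologyFunctor _ 0).map m) := by
    refine (abGen (J.over X)).mono_of_sep _ fun U a ha => ?_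
    obtain ⟨S, hS, hx⟩ := (abGen (J.over X)).ev_locally_surjective a
    refine (abGen (J.over X)).sep a S hS fun V k hk => ?_
    obtain ⟨x, hx⟩ := hx k hk
    obtain ⟨b, rfl⟩ : ∃ b : (abGen (J.over X)).P V ⟶ F, (singleFunctor _ 0).map b = x :=
      (singleFunctor _ 0).map_surjective x
    have h0 : (singleFunctor _ 0).map b ≫ m = 0 := eq_zero_of_ev_eq_zero hM ((singleFunctor _ 0).map b ≫ m)
      ((LocGen.ev_comp _ m).trans (by rw [hx, Category.assoc, ha, comp_zero]))
    have := (relocDAdj J w).right_adjoint_additive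
    have h1 : (restr J w).mapDerivedCategory.map ((singleFunctor _ 0).map b) = 0 := by
      have h2 := ((relocDAdj J w).homEquiv_unit _ _ ((restr J w).mapDerivedCategory.map ((singleFunctor _ 0).map b))).trans
        (((relocDAdj J w).unit.naturality ((singleFunctor _ 0).map b)).symm.trans h0)
      refine ((relocDAdj J w).homEquiv _ _).injective (h2.trans ?_)
      rw [Adjunction.homEquiv_unit, Functor.map_zero, comp_zero]
    have h3 : (restr J w).map b = 0 := by
      refine (singleFunctor _ 0).map_injective ?_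
      have hn := ((restr J w).mapDerivedCategorySingleFunctor 0).hom.naturality b
      simp only [Functor.comp_map] at hn
      rw [h1, zero_comp] at hn
      rw [Functor.map_zero]
      exact (cancel_epi (((restr J w).mapDerivedCategorySingleFunctor 0).hom.app _)).1 (hn.symm.trans comp_zero.symm)
    have := restr_faithful hcov
    have hb : b = 0 := (restr J w).map_injective (h3.trans ((restr J w).map_zero _ _).symm)
    rw [← hx, hb]
    unfold LocGen.ev
    rw [Functor.map_zero]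
    exact (congrArg (_ ≫ ·) ((homologyFunctor _ 0).map_zero _ _)).trans comp_zero
  have hR : TStructure.t.IsGE R 0 := (DerivedCategory.isGE_iff _ _).2 fun i hi => by
    refine (HomologySequence.exact₃ _ hT i (i + 1) rfl).isZero_of_both_zeros
      ((DerivedCategory.isZero_of_isGE M 0 i hi).eq_of_src _ _) ?_
    have hmono : Mono ((homologyFunctor _ (i + 1)).map m) := by
      by_cases hi' : i + 1 = 0
      · rw [hi']; exact hm0
      · exact ⟨fun _ _ _ => (hFz _ hi').eq_of_tgt _ _⟩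
    exact (HomologySequence.mono_homologyMap_mor₁_iff _ hT i (i + 1) rfl).1 hmono
  have hgpos : ∀ q : ℕ, 1 ≤ q → IsIso ((homologyFunctor _ (q : ℤ)).map g) := fun q hq => by
    have : Mono ((homologyFunctor _ (q : ℤ)).map g) :=
      (HomologySequence.mono_homologyMap_mor₂_iff _ hT (q : ℤ)).2 ((hFz _ (by omega)).eq_of_src _ _)
    have : Epi ((homologyFunctor _ (q : ℤ)).map g) :=
      (HomologySequence.epi_homologyMap_mor₂_iff _ hT (q : ℤ) ((q : ℤ) + 1) rfl).2 ((hFz _ (by omega)).eq_of_tgt _ _)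
    exact isIso_of_mono_of_epi _
  have hg0epi : Epi ((homologyFunctor _ 0).map g) :=
    (HomologySequence.epi_homologyMap_mor₂_iff _ hT 0 1 rfl).2 ((hFz 1 (by omega)).eq_of_tgt _ _)
  obtain ⟨hR0, hg0⟩ : A' X ((epsAb hX).obj ((homologyFunctor _ 0).obj R)) ∧
      Epi ((epsAb hX).map ((homologyFunctor _ 0).map g)) := by
    have hex := HomologySequence.exact₂ _ hT 0
    have hF0 : A' X ((epsAb hX).obj ((homologyFunctor _ 0).obj F₀)) :=
      (A' X).prop_of_iso ((epsAb hX).mapIso ((singleFunctorCompHomologyFunctorIso _ 0).app F)).symm hF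
    exact H.cokernel_mem _ _ _ (@ShortComplex.Exact.gIsCokernel _ _ _ _ _ hex hg0epi) hF0 (hMA 0 (by omega)).1
  have hRA : ∀ q : ℕ, q ≤ n → A' X ((epsAb hX).obj ((homologyFunctor _ (q : ℤ)).obj R)) := fun q hq => by
    by_cases hq0 : q = 0
    · subst hq0; exact hR0
    · have := hgpos q (by omega)
      exact (A' X).prop_of_iso ((epsAb hX).mapIso (asIso ((homologyFunctor _ (q : ℤ)).map g))) (hMA q hq).1
  have hepig : Epi ((epsAb hX).map ((homologyFunctor _ (n : ℤ)).map g)) := by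
    by_cases hn0 : n = 0
    · subst hn0; exact hg0
    · have := hgpos n (by omega)
      infer_instance
  have hmonoR : Mono (etaE hX (n : ℤ) R) :=
    mono_eta (epsAbAdj hX) n R hR fun q hq i h1 h2 => hV X _ (hRA q hq.le) i h1 h2
  have hTeps := (epsD hX).map_distinguished _ hT
  have hsurj : Epi ((homologyFunctor _ (n : ℤ)).map ((epsD hX).map g)) := by
    have := (hMA n le_rfl).2
    have hfac : (homologyFunctor _ (n : ℤ)).map ((epsD hX).map g) ≫ etaE hX (n : ℤ) R =
        etaE hX (n : ℤ) M ≫ (epsAb hX).map ((homologyFunctor _ (n : ℤ)).map g) :=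
      eta_naturality (epsAbAdj hX) (n : ℤ) g
    have : Epi (etaE hX (n : ℤ) R) := epi_of_epi_fac hfac
    have : IsIso (etaE hX (n : ℤ) R) := isIso_of_mono_of_epi _
    rw [← IsIso.eq_comp_inv] at hfac
    rw [hfac]
    infer_instance
  have hmono : Mono ((homologyFunctor _ ((n + 1 : ℕ) : ℤ)).map ((epsD hX).map m)) :=
    (HomologySequence.mono_homologyMap_mor₁_iff _ hTeps (n : ℤ) ((n + 1 : ℕ) : ℤ) (by omega)).2
      (by
        have h0 := HomologySequence.comp_δ _ hTeps (n : ℤ) ((n + 1 : ℕ) : ℤ) (by omega)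
        have := hsurj
        exact (cancel_epi ((homologyFunctor _ (n : ℤ)).map ((epsD hX).map g))).1 (h0.trans comp_zero.symm))
  -- the test morphism
  let a : CohCx.freeSheaf (J'.over X) (Over.mk (𝟙 X)) ⟶
      (homologyFunctor _ ((n + 1 : ℕ) : ℤ)).obj ((epsD hX).obj F₀) := (SiteCoh.homAddEquivSec _ _).symm s
  let Z := (epsD hW).obj ((restr J w).mapDerivedCategory.obj F₀)
  let θ : (epsD hX).obj M ≅ (relocD J' w).obj Z := (relocEpsD w h).app _
  let π := (TStructure.t.truncGEπ 1).app Z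
  let π₁ : Over.mk (𝟙 W ≫ w) ⟶ Over.mk (𝟙 X) := Over.homMk w (by simp)
  have hres : (restr J' w).map a = 0 := by
    have := isIso_bcMap (J := J'.over X) (K := J'.over W) (Over.map w) (P := Over.mk (𝟙 W)) π₁ fun T => by
      refine ⟨fun b c _ => ?_, fun b => ⟨Over.homMk T.hom, ?_⟩⟩
      · ext
        exact ((Category.comp_id _).symm.trans (Over.w b)).trans ((Category.comp_id _).symm.trans (Over.w c)).symm
      · ext
        exact ((Category.comp_id _).symm.trans (Over.w b)).symm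
    rw [← cancel_epi ((SiteCoh.homAddEquivSec (J := J'.over W) (Over.mk (𝟙 W))
      ((restr J' w).obj (CohCx.freeSheaf (J'.over X) (Over.mk (𝟙 X))))).symm
        ((CohCx.freeSheaf (J'.over X) (Over.mk (𝟙 X))).obj.map π₁.op (SiteCoh.freeSec _ _))), comp_zero]
    apply (SiteCoh.homAddEquivSec _ _).injective
    rw [map_zero, SiteCoh.homAddEquivSec_comp, AddEquiv.apply_symm_apply]
    refine (ConcreteCategory.congr_hom (a.hom.naturality π₁.op) (SiteCoh.freeSec _ _)).trans ?_
    refine (congrArg _ ((SiteCoh.homAddEquivSec_apply _ _ a).symm.trans (AddEquiv.apply_symm_apply _ s))).trans ?_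
    exact hs
  have hκ : a ≫ (homologyFunctor _ ((n + 1 : ℕ) : ℤ)).map ((epsD hX).map m ≫ θ.hom ≫ (relocD J' w).map π) = 0 := by
    obtain ⟨S, hS, hy⟩ := (abGen (J'.over X)).ev_locally_surjective a
    refine (abGen (J'.over X)).sep _ S hS fun V k hk => ?_
    obtain ⟨y, hy⟩ := hy k hk
    refine ((Category.assoc _ _ _).symm.trans (congrArg (· ≫ _) hy.symm)).trans ?_
    rw [← LocGen.ev_comp]
    suffices y ≫ (epsD hX).map m ≫ θ.hom ≫ (relocD J' w).map π = 0 by
      rw [this]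
      unfold LocGen.ev
      rw [Functor.map_zero]
      exact comp_zero
    apply ((relocDAdj J' w).homEquiv _ _).symm.injective
    rw [Adjunction.homEquiv_naturality_left_symm]
    refine Eq.trans ?_ (by rw [Adjunction.homEquiv_counit, Functor.map_zero, zero_comp] :
      ((relocDAdj J' w).homEquiv _ _).symm (0 : LocGen.Pd ((abGen (J'.over X)).P V) _ ⟶ _) = 0).symm
    let c := ((restr J' w).mapDerivedCategorySingleFunctor ((n + 1 : ℕ) : ℤ)).app ((abGen (J'.over X)).P V)
    refine (cancel_epi c.inv).1 (Eq.trans ?_ comp_zero.symm)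
    refine eq_zero_of_ev_eq_zero (m := ((n + 1 : ℕ) : ℤ)) ?_ _ ?_
    · refine (DerivedCategory.isGE_iff _ _).2 fun i hi => ?_
      by_cases h1 : i < 1
      · exact DerivedCategory.isZero_of_isGE _ 1 i h1
      · lift i to ℕ using (by omega)
        have := isIso_homology_truncGEπ Z 1 (i : ℤ) (by omega)
        obtain ⟨b⟩ := nonempty_homology_rd_single_iso (R := epsAb hW) G i
        exact ((hV W G hG i (by omega) (by omega)).of_iso b).of_iso
          ((asIso ((homologyFunctor _ (i : ℤ)).map π)).symm ≪≫ (homologyFunctor _ (i : ℤ)).mapIso ((epsD hW).mapIso sI))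
    · refine (congrArg LocGen.ev (Category.assoc _ _ _).symm).trans ((LocGen.ev_comp _ _).trans ?_)
      have h1 : (restr J' w).map ((homologyFunctor _ ((n + 1 : ℕ) : ℤ)).map y) = 0 := by
        have h2 : (restr J' w).map (LocGen.ev y) = 0 := by
          rw [hy]
          exact ((restr J' w).map_comp _ _).trans ((congrArg (_ ≫ ·) hres).trans comp_zero)
        unfold LocGen.ev at h2
        rw [Functor.map_comp] at h2
        have : IsIso ((HomologicalComplex.singleObjHomologySelfIso (ComplexShape.up ℤ) ((n + 1 : ℕ) : ℤ)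
            ((abGen (J'.over X)).P V)).inv ≫ (homologyFunctorFactors (Sheaf (J'.over X) AddCommGrpCat.{u})
              ((n + 1 : ℕ) : ℤ)).inv.app ((HomologicalComplex.single _ (ComplexShape.up ℤ) ((n + 1 : ℕ) : ℤ)).obj
                ((abGen (J'.over X)).P V))) :=
          IsIso.comp_isIso' inferInstance
            (((homologyFunctorFactors (Sheaf (J'.over X) AddCommGrpCat.{u}) ((n + 1 : ℕ) : ℤ)).app _).symm.isIso_hom)
        exact (cancel_epi ((restr J' w).map
          ((HomologicalComplex.singleObjHomologySelfIso (ComplexShape.up ℤ) ((n + 1 : ℕ) : ℤ) _).inv ≫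
            (homologyFunctorFactors _ ((n + 1 : ℕ) : ℤ)).inv.app _))).1 (h2.trans comp_zero.symm)
      have h3 := (homologyMapDerivedIso (restr J' w) ((n + 1 : ℕ) : ℤ)).hom.naturality y
      simp only [Functor.comp_map] at h3
      rw [h1, comp_zero] at h3
      have h4 : (homologyFunctor _ ((n + 1 : ℕ) : ℤ)).map ((restr J' w).mapDerivedCategory.map y) = 0 :=
        (cancel_mono ((homologyMapDerivedIso (restr J' w) ((n + 1 : ℕ) : ℤ)).hom.app _)).1 (h3.trans zero_comp.symm)
      exact (congrArg (· ≫ _) ((LocGen.ev_comp c.inv _).trans ((congrArg (_ ≫ ·) h4).trans comp_zero))).trans zero_comp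
  -- `s` comes from the lowest piece, which is in `A'`
  have hTW := (relocD J' w).map_distinguished _ (TStructure.t.triangleLTGE_distinguished 1 Z)
  have hex := HomologySequence.exact₂ _ hTW ((n + 1 : ℕ) : ℤ)
  have hTgt : TStructure.t.IsGE ((TStructure.t.truncGE 1).obj Z) ((n : ℤ) + 1) := by
    refine (DerivedCategory.isGE_iff _ _).2 fun i hi => ?_
    by_cases h1 : i < 1
    · exact DerivedCategory.isZero_of_isGE _ 1 i h1
    · lift i to ℕ using (by omega)
      have := isIso_homology_truncGEπ Z 1 (i : ℤ) (by omega)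
      obtain ⟨b⟩ := nonempty_homology_rd_single_iso (R := epsAb hW) G i
      exact ((hV W G hG i (by omega) (by omega)).of_iso b).of_iso
        ((asIso ((homologyFunctor _ (i : ℤ)).map π)).symm ≪≫ (homologyFunctor _ (i : ℤ)).mapIso ((epsD hW).mapIso sI))
  have hmonoι : Mono ((homologyFunctor _ ((n + 1 : ℕ) : ℤ)).map ((relocD J' w).map ((TStructure.t.truncLTι 1).app Z))) :=
    (HomologySequence.mono_homologyMap_mor₁_iff _ hTW (n : ℤ) ((n + 1 : ℕ) : ℤ) (by omega)).2
      ((DerivedCategory.isZero_of_isGE ((relocD J' w).obj ((TStructure.t.truncGE 1).obj Z)) ((n : ℤ) + 1) (n : ℤ)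
        (by omega) (hX := isGE_rightAdjoint (relocDAdj J' w) _ _ hTgt)).eq_of_src _ _)
  have hZ0 : TStructure.t.IsGE Z 0 := isGE_rightAdjoint (rdAdj (epsAbAdj hW)) _ _ hρ
  have hle : TStructure.t.IsLE ((TStructure.t.truncLT (0 + 1)).obj Z) 0 := inferInstance
  rw [zero_add] at hle
  obtain ⟨N, ⟨e⟩⟩ := exists_iso_singleFunctor_obj_of_isGE_of_isLE ((TStructure.t.truncLT 1).obj Z) 0
  have := isIso_homology_truncLTι Z 1 0 (by omega)
  obtain ⟨b0⟩ := nonempty_homology_rd_single_iso (R := epsAb hW) G 0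
  have : PreservesFiniteLimits (epsAb hW) :=
    ⟨fun _ _ _ => ((epsAbAdj hW).rightAdjoint_preservesLimits :
      PreservesLimitsOfSize.{0, 0} (epsAb hW)).preservesLimitsOfShape⟩
  let eN : N ≅ (epsAb hW).obj G :=
    ((singleFunctorCompHomologyFunctorIso _ 0).app N).symm ≪≫ (homologyFunctor _ 0).mapIso e.symm ≪≫
      asIso ((homologyFunctor _ 0).map ((TStructure.t.truncLTι 1).app Z)) ≪≫
      (homologyFunctor _ 0).mapIso ((epsD hW).mapIso sI) ≪≫ b0 ≪≫ (epsAb hW).rightDerivedZeroIsoSelf.app G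
  obtain ⟨bK⟩ := nonempty_homology_rd_single_iso (R := reloc J' w) ((epsAb hW).obj G) (n + 1)
  let K := (homologyFunctor _ ((n + 1 : ℕ) : ℤ)).obj ((relocD J' w).obj ((TStructure.t.truncLT 1).obj Z))
  have hK : A' X K :=
    (A' X).prop_of_iso ((homologyFunctor _ ((n + 1 : ℕ) : ℤ)).mapIso ((relocD J' w).mapIso
      (e ≪≫ (singleFunctor _ 0).mapIso eN)) ≪≫ bK).symm (H.h4 w hw _ hG (n + 1))
  let ι' : (homologyFunctor _ ((n + 1 : ℕ) : ℤ)).obj ((epsD hX).obj F₀) ⟶
      (homologyFunctor _ ((n + 1 : ℕ) : ℤ)).obj ((relocD J' w).obj Z) :=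
    (homologyFunctor _ ((n + 1 : ℕ) : ℤ)).map ((epsD hX).map m ≫ θ.hom)
  have hι' : Mono ι' := by
    change Mono ((homologyFunctor _ ((n + 1 : ℕ) : ℤ)).map ((epsD hX).map m ≫ θ.hom))
    rw [Functor.map_comp]
    have := hmono
    exact mono_comp _ _
  have hlift : (a ≫ ι') ≫ (homologyFunctor _ ((n + 1 : ℕ) : ℤ)).map ((relocD J' w).map π) = 0 := by
    rw [Category.assoc, ← Functor.map_comp, Category.assoc]
    exact hκ
  have := hmonoι
  obtain ⟨b, hb⟩ : ∃ b : CohCx.freeSheaf (J'.over X) (Over.mk (𝟙 X)) ⟶ K,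
      b ≫ (homologyFunctor _ ((n + 1 : ℕ) : ℤ)).map ((relocD J' w).map ((TStructure.t.truncLTι 1).app Z)) = a ≫ ι' :=
    ⟨_, (KernelFork.IsLimit.lift' (@ShortComplex.Exact.fIsKernel _ _ _ _ _ hex hmonoι) (a ≫ ι') hlift).2⟩
  have hrb : CohCx.freeSheafMap (J'.over X) π₁ ≫ b = 0 := by
    rw [← cancel_mono ((homologyFunctor _ ((n + 1 : ℕ) : ℤ)).map ((relocD J' w).map ((TStructure.t.truncLTι 1).app Z))),
      zero_comp, Category.assoc, hb, ← Category.assoc, SiteCoh.freeSheafMap_comp_symm, hs, map_zero, zero_comp]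
  have hb0 : SiteCoh.homAddEquivSec _ _ b = 0 := by
    refine sec_eq_zero_of_cover (J := J) (⟨K.obj, H.h3 X K hK⟩ : Sheaf (J.over X) AddCommGrpCat.{u})
      (U := Over.mk (𝟙 X)) (fun _ : PUnit.{u + 1} => W) (fun _ => w) hcov _ fun _ => ?_
    let i : Over.mk (w ≫ 𝟙 X) ⟶ Over.mk (𝟙 W ≫ w) := Over.homMk (𝟙 W) (by simp)
    have hi : (Over.homMk w rfl : Over.mk (w ≫ 𝟙 X) ⟶ Over.mk (𝟙 X)) = i ≫ π₁ := by
      ext; exact (Category.id_comp _).symm
    have h1 : K.obj.map π₁.op (SiteCoh.homAddEquivSec _ _ b) = 0 := by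
      rw [← SiteCoh.homAddEquivSec_freeSheafMap_comp, hrb, map_zero]
    refine (congrArg (fun k : Over.mk (w ≫ 𝟙 X) ⟶ Over.mk (𝟙 X) =>
      K.obj.map k.op (SiteCoh.homAddEquivSec _ _ b)) hi).trans ?_
    rw [op_comp, K.obj.map_comp, ConcreteCategory.comp_apply, h1]
    exact map_zero (K.obj.map i.op).hom
  have hb1 : b = 0 := (SiteCoh.homAddEquivSec _ _).injective (hb0.trans (map_zero _).symm)
  have ha : a = 0 := by
    rw [← cancel_mono ι', zero_comp, ← hb, hb1, zero_comp]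
  exact (SiteCoh.homAddEquivSec _ _).symm.injective (ha.trans (map_zero _).symm)

include H in
/-- `R^iε_* F = 0` for `i ≥ 1` and `F` in `A_X`. -/
theorem vn (n : ℕ) : CmpVn h A' n := by
  induction n with
  | zero => intro Z G hG i h1 h2; omega
  | succ n ih =>
    intro X F hF i h1 h2
    rcases Nat.lt_or_eq_of_le h2 with h2' | rfl
    · exact ih X F hF i h1 (by omega)
    obtain ⟨e⟩ := nonempty_homology_rd_single_iso (R := epsAb (SiteCmp.over_le h X)) F (n + 1)
    refine IsZero.of_iso ((abGen (J'.over X)).detect fun U a => ?_) e.symm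
    obtain ⟨S, hS, ha⟩ := locally_zero_homology_epsD (SiteCmp.over_le h X) F ((n + 1 : ℕ) : ℤ) (by omega) a
    rw [GrothendieckTopology.mem_over_iff] at hS
    obtain ⟨ι, V, v, hv, hW⟩ := H.h5 U.left _ hS
    refine (SiteCoh.homAddEquivSec _ _).injective ((sec_eq_zero_of_cover (J := J') _ V v hv _ fun j => ?_).trans
      (map_zero _).symm)
    obtain ⟨W, w, hwP, hwJ, κ, Wk, wk, hwk, hS'⟩ := hW j
    let H₀ := (homologyFunctor (Sheaf (J'.over X) AddCommGrpCat.{u}) ((n + 1 : ℕ) : ℤ)).obj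
      ((epsD (SiteCmp.over_le h X)).obj ((singleFunctor _ 0).obj F))
    let φ := v j ≫ U.hom
    let s₀ : H₀.obj.obj (op (Over.mk φ)) :=
      H₀.obj.map (Over.homMk (v j) rfl : Over.mk φ ⟶ U).op (SiteCoh.homAddEquivSec _ _ a)
    change s₀ = 0
    -- vanishing over `W`
    have hW0 : H₀.obj.map (Over.homMk w rfl : Over.mk (w ≫ φ) ⟶ Over.mk φ).op s₀ = 0 := by
      refine sec_eq_zero_of_cover (J := J') H₀ (U := Over.mk (w ≫ φ)) Wk wk hwk _ fun k => ?_
      obtain ⟨Wk', g, hg, hg'⟩ : ∃ (T : Over X) (g : T ⟶ U) (_ : S g),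
          T = Over.mk (wk k ≫ w ≫ φ) ∧ g.left ≍ (wk k ≫ w ≫ v j) := by
        refine ⟨_, (Over.homMk (wk k ≫ w ≫ v j) (by simp [φ]) : Over.mk (wk k ≫ w ≫ φ) ⟶ U), ?_, rfl, HEq.rfl⟩
        have := hS' k
        rw [Sieve.overEquiv_iff] at this
        convert this using 2 <;> simp [φ]
      obtain ⟨rfl, hg'⟩ := hg'
      have h3 := congrArg (SiteCoh.homAddEquivSec _ _) (ha g hg)
      rw [SiteCoh.homAddEquivSec_freeSheafMap_comp, map_zero] at h3
      refine Eq.trans ?_ h3
      have hgeq : g = (Over.homMk (wk k) rfl : Over.mk (wk k ≫ w ≫ φ) ⟶ Over.mk (w ≫ φ)) ≫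
          (Over.homMk w rfl : Over.mk (w ≫ φ) ⟶ Over.mk φ) ≫ (Over.homMk (v j) rfl : Over.mk φ ⟶ U) := by
        ext
        exact eq_of_heq hg'
      rw [hgeq]
      exact ((ConcreteCategory.congr_hom (H₀.obj.map_comp _ _) _).trans
        (congrArg (H₀.obj.map (Over.homMk (wk k) rfl : Over.mk (wk k ≫ w ≫ φ) ⟶ Over.mk (w ≫ φ)).op)
          (ConcreteCategory.congr_hom (H₀.obj.map_comp _ _) _))).symm
    -- transport to the slice over `V j`
    let hX := SiteCmp.over_le h X
    let hVj := SiteCmp.over_le h (V j)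
    let F' := (restr J φ).obj F
    let E : (restr J' φ).obj H₀ ≅ (homologyFunctor _ ((n + 1 : ℕ) : ℤ)).obj ((epsD hVj).obj ((singleFunctor _ 0).obj F')) :=
      ((homologyMapDerivedIso (restr J' φ) ((n + 1 : ℕ) : ℤ)).app _).symm ≪≫
        (homologyFunctor _ ((n + 1 : ℕ) : ℤ)).mapIso (((restrEpsD φ h).app _).symm ≪≫
          (epsD hVj).mapIso (((restr J φ).mapDerivedCategorySingleFunctor 0).app F))
    let i₀ : Over.mk (𝟙 (V j) ≫ φ) ⟶ Over.mk φ := Over.homMk (𝟙 _) rfl
    let i₁ : Over.mk φ ⟶ Over.mk (𝟙 (V j) ≫ φ) := Over.homMk (𝟙 _) (by simp)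
    let t := E.hom.hom.app (op (Over.mk (𝟙 (V j)))) (H₀.obj.map i₀.op s₀)
    have ht : t = 0 := by
      refine H.eq_zero_of_restr ih w hwP hwJ F' (H.restr_mem φ hF) t ?_
      let π₂ : Over.mk (𝟙 W ≫ w) ⟶ Over.mk (𝟙 (V j)) := Over.homMk w (by simp)
      have hn := ConcreteCategory.congr_hom (E.hom.hom.naturality π₂.op) (H₀.obj.map i₀.op s₀)
      refine hn.symm.trans ?_
      refine (congrArg (E.hom.hom.app (op (Over.mk (𝟙 W ≫ w)))) ?_).trans (map_zero (E.hom.hom.app _).hom)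
      change H₀.obj.map ((Over.map φ).map π₂).op (H₀.obj.map i₀.op s₀) = 0
      let i₂ : (Over.map φ).obj (Over.mk (𝟙 W ≫ w)) ⟶ Over.mk (w ≫ φ) := Over.homMk (𝟙 W) (by simp)
      have hc : (Over.map φ).map π₂ ≫ i₀ = i₂ ≫ (Over.homMk w rfl : Over.mk (w ≫ φ) ⟶ Over.mk φ) := by
        ext
        exact (Category.comp_id _).trans (Category.id_comp _).symm
      refine (ConcreteCategory.congr_hom (H₀.obj.map_comp i₀.op ((Over.map φ).map π₂).op) s₀).symm.trans ?_
      refine (congrArg (fun k : (Over.map φ).obj (Over.mk (𝟙 W ≫ w)) ⟶ Over.mk φ => H₀.obj.map k.op s₀) hc).trans ?_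
      rw [op_comp, H₀.obj.map_comp, ConcreteCategory.comp_apply, hW0]
      exact map_zero (H₀.obj.map i₂.op).hom
    have h0 : H₀.obj.map i₀.op s₀ = 0 := by
      have := congrArg (E.inv.hom.app (op (Over.mk (𝟙 (V j))))) ht
      refine Eq.trans ?_ (this.trans (map_zero (E.inv.hom.app _).hom))
      exact (ConcreteCategory.congr_hom (NatTrans.congr_app (congrArg InducedCategory.Hom.hom E.hom_inv_id)
        (op (Over.mk (𝟙 (V j))))) _).symm
    have hi : i₁ ≫ i₀ = 𝟙 _ := by ext; exact Category.id_comp _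
    have := congrArg (fun k : Over.mk φ ⟶ Over.mk φ => H₀.obj.map k.op s₀) hi
    dsimp only at this
    rw [op_id, H₀.obj.map_id, ConcreteCategory.id_apply, op_comp, H₀.obj.map_comp, ConcreteCategory.comp_apply,
      h0, map_zero] at this
    exact this.symm

end CmpHyp

end Groth.Agent.Mod48
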