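import Groth.Agent.CohDer42.CompactBdd
import Groth.Agent.DR39.Hom

/-!
Projective objects with `Hom` commuting with direct sums are compact in the derived category.
-/

universe v u

open CategoryTheory Category Limits Opposite DerivedCategory

set_option backward.isDefEq.respectTransparency false

namespace Groth.Agent.Mod48

open CohDer42 CohDer42.CompactBdd

variable {A : Type u} [Category.{v} A] [Abelian A] [IsGrothendieckAbelian.{v} A] [HasDerivedCategory.{v} A]
  [HasCoproducts.{v} (DerivedCategory A)]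

/-- A projective object whose `Hom` commutes with direct sums is compact in the derived category. -/
theorem isCompactObject_single_of_projective (P : A) [Projective P]
    (hP : ∀ κ : Type v, PreservesColimitsOfShape (Discrete κ) (preadditiveCoyoneda.obj (op P))) :
    CohDer.IsCompactObject ((DerivedCategory.singleFunctor A 0).obj P) := by
  classical
  intro κ E
  have := DR39.isKProjective_single P 0
  let S := (HomologicalComplex.single A (ComplexShape.up ℤ) 0).obj P
  let K : DerivedCategory A := Q.obj S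
  change Function.Bijective (CohDer.homSumToHomCoprod K E)
  constructor
  · rw [injective_iff_map_eq_zero]
    intro s hs
    refine DFinsupp.ext fun k => ?_
    have h : CohDer.homSumToHomCoprod K E s ≫ CompactBdd.pr E k = s k := by
      clear hs
      induction s using DirectSum.induction_on with
      | zero => exact (by rw [map_zero, zero_comp]; rfl)
      | of i x =>
        rw [homSum_of, assoc]
        by_cases hik : i = k
        · subst hik
          rw [ι_pr, comp_id, DirectSum.of_eq_same]
        · rw [ι_pr_ne E hik, comp_zero, DirectSum.of_eq_of_ne _ _ _ (Ne.symm hik)]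
      | add a b ha hb => rw [map_add, Preadditive.add_comp, ha, hb]; rfl
    rw [← h, hs, zero_comp]
    rfl
  · intro ψ
    let X : κ → CochainComplex A ℤ := fun i => Q.objPreimage (E i)
    let e : ∀ i, Q.obj (X i) ≅ E i := fun i => Q.objObjPreimageIso (E i)
    obtain ⟨J, f, hJ, hf, -⟩ := CohDer42.exists_kinjective_resolution (Q.objPreimage (∐ E))
    let eJ : Q.obj J ≅ ∐ E := (asIso (Q.map f)).symm ≪≫ Q.objObjPreimageIso (∐ E)
    choose a ha using fun i => Q_map_surjective_of_isKInjective ((e i).hom ≫ Sigma.ι E i ≫ eJ.inv)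
    let c : Q.obj (∐ X) ⟶ ∐ E := Q.map (Sigma.desc a) ≫ eJ.hom
    let c' : ∐ E ⟶ Q.obj (∐ X) := Sigma.desc fun i => (e i).inv ≫ Q.map (Sigma.ι X i)
    have hc : ∀ i, Q.map (Sigma.ι X i) ≫ c = (e i).hom ≫ Sigma.ι E i := fun i => by
      simp only [c]
      rw [← Functor.map_comp_assoc, Sigma.ι_desc, ha, assoc, assoc, eJ.inv_hom_id, comp_id]
    have hcc : c' ≫ c = 𝟙 _ := Sigma.hom_ext _ _ fun i => by
      simp only [c', Sigma.ι_desc_assoc, assoc, hc, Iso.inv_hom_id_assoc, comp_id]
    obtain ⟨m, hm⟩ := DR39.Q_map_surjective S (∐ X) (show Q.obj S ⟶ Q.obj (∐ X) from ψ ≫ c')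
    let F : CochainComplex A ℤ ⥤ A := HomologicalComplex.eval _ _ 0
    let iz : P ⟶ F.obj S := (HomologicalComplex.singleObjXSelf (ComplexShape.up ℤ) 0 P).inv
    let σ : ∐ (fun k => F.obj (X k)) ≅ F.obj (∐ X) := (PreservesCoproduct.iso F X).symm
    have := hP κ
    obtain ⟨T, hT⟩ := exists_finite_of_preserves P (fun k => F.obj (X k)) (iz ≫ m.f 0 ≫ σ.inv)
    have hpr : ∀ k, σ.inv ≫ CompactBdd.pr (fun k => F.obj (X k)) k = (CompactBdd.pr X k).f 0 := fun k => by
      rw [Iso.inv_comp_eq]
      refine Sigma.hom_ext _ _ fun j => ?_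
      have hj : Sigma.ι (fun k => F.obj (X k)) j ≫ σ.hom = (Sigma.ι X j).f 0 := by
        simp [σ, F, PreservesCoproduct.inv_hom]
      rw [reassoc_of% hj, ← HomologicalComplex.comp_f]
      by_cases h : j = k
      · subst h; rw [ι_pr, ι_pr]; rfl
      · rw [ι_pr_ne _ h, ι_pr_ne _ h]; rfl
    have hm' : m = ∑ k ∈ T, (m ≫ CompactBdd.pr X k) ≫ Sigma.ι X k := by
      refine HomologicalComplex.from_single_hom_ext ?_
      rw [← cancel_epi iz, ← cancel_mono σ.inv, assoc, hT]
      let φ : (S ⟶ ∐ X) →+ (P ⟶ ∐ fun k => F.obj (X k)) :=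
        AddMonoidHom.mk' (fun g => (iz ≫ g.f 0) ≫ σ.inv) (fun g g' => by simp [Preadditive.add_comp, Preadditive.comp_add])
      refine Eq.trans ?_ (map_sum φ _ _).symm
      refine Finset.sum_congr rfl fun k _ => ?_
      have hk : (Sigma.ι X k).f 0 ≫ σ.inv = Sigma.ι (fun k => F.obj (X k)) k := by
        rw [← cancel_mono σ.hom, assoc, σ.inv_hom_id]
        refine (comp_id _).trans ?_
        simp [σ, F, PreservesCoproduct.inv_hom]
      change (_ ≫ _) ≫ _ = (iz ≫ ((m ≫ CompactBdd.pr X k) ≫ Sigma.ι X k).f 0) ≫ σ.inv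
      simp only [HomologicalComplex.comp_f, assoc, hk]
      rw [← hpr k]
      simp only [assoc]
    refine ⟨∑ k ∈ T, DirectSum.of (fun i => K ⟶ E i) k (Q.map (m ≫ CompactBdd.pr X k) ≫ (e k).hom), ?_⟩
    rw [map_sum]
    simp only [homSum_of, assoc, ← hc, ← Functor.map_comp_assoc]
    rw [← Preadditive.sum_comp, ← Functor.map_sum]
    have hs : ∑ k ∈ T, m ≫ CompactBdd.pr X k ≫ Sigma.ι X k = m := by
      simp only [← assoc]; exact hm'.symm
    rw [hs, hm, assoc, hcc, comp_id]

end Groth.Agent.Mod48
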