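import Groth.Agent.Mod48.EtConsGen
import Groth.Agent.SpecSp50.Basic

/-!
Constructible sheaves of modules are generated by finitely many `j_! Λ`, compatibly with a given epimorphism.
-/

set_option autoImplicit false
set_option backward.isDefEq.respectTransparency.types false
universe u

open CategoryTheory CategoryTheory.Limits AlgebraicGeometry Topology Opposite
open Groth.Agent.Unr55.EtSh (Pt hom mkPt ptUp ptDown ptUp_ptDown ptDown_ptUp point_over openSub openSubι ptOpen map_ptOpen)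
open Groth.Agent.LocConst45 (exists_pt_over)
open Groth.Agent.LocConst45.Mod
open Groth.Agent.FlatMor66 (isClopen_constructibleTopology_of_isConstructible)

namespace Groth.Agent.Mod48.EtCons

variable {Λ : Type (u + 1)} [CommRing Λ] {X : Scheme.{u}}

/-- Equal germs agree on a common refinement. -/
theorem exists_agree {Ω : Type u} [Field Ω] [IsSepClosed Ω] (η : Spec (CommRingCat.of Ω) ⟶ X)
    (F : EtModW.Mod Λ X) {A B : X.Etale} (q : Pt η A) (r : Pt η B) (a : EtModW.sect Λ F A)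
    (b : EtModW.sect Λ F B) (h : germ η F q a = germ η F r b) :
    ∃ (C : X.Etale) (c : C ⟶ A) (d : C ⟶ B) (z : Pt η C), (Scheme.pointSmallEtale η).fiber.map c z = q ∧
      F.obj.map c.op a = F.obj.map d.op b := by
  obtain ⟨⟨C₀, z₀⟩, c₀, d₀, -⟩ := IsCofiltered.toIsCofilteredOrEmpty.cone_objs
    (C := (Scheme.pointSmallEtale η).fiber.Elements) ⟨A, q⟩ ⟨B, r⟩
  have h0 : germ η F z₀ (F.obj.map c₀.val.op a - F.obj.map d₀.val.op b) = 0 := by
    rw [map_sub, sub_eq_zero]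
    exact (germ_map η F c₀.val z₀ a).trans ((congrArg (fun p => germ η F p a) c₀.property).trans (h.trans
      ((congrArg (fun p => germ η F p b) d₀.property).symm.trans (germ_map η F d₀.val z₀ b).symm)))
  obtain ⟨C, g, z, hz, hzero⟩ := (germ_eq_zero_iff η F z₀ _).1 h0
  rw [map_sub, sub_eq_zero] at hzero
  refine ⟨C, g ≫ c₀.val, g ≫ d₀.val, z, ?_, ?_⟩
  · rw [Functor.map_comp, ConcreteCategory.comp_apply, hz]
    exact c₀.property
  · rw [map_comp', map_comp']
    exact hzero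

/-- The sections `s` of `F` generate its stalks at all points of `E`, in a weak sense. -/
def GenOn (F : EtModW.Mod Λ X) {ι : Type*} (W : ι → X.Etale) (s : ∀ k, EtModW.sect Λ F (W k)) (E : Set X) : Prop :=
  ∀ (A : X.Etale) (a : EtModW.sect Λ F A) (x : A.left), A.hom x ∈ E →
    ∃ (Ω : Type u) (_ : Field Ω) (_ : IsSepClosed Ω) (η : Spec (CommRingCat.of Ω) ⟶ X) (t : Pt η A),
      hom η t default = x ∧ germ η F t a ∈
        Submodule.span Λ {g | ∃ (k : ι) (q : Pt η (W k)), g = germ η F q (s k)}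

theorem epi_of_genOn {P F : EtModW.Mod Λ X} (φ : P ⟶ F) {ι : Type*} (W : ι → X.Etale)
    (p : ∀ k, EtModW.sect Λ P (W k))
    (h : GenOn F W (fun k => φ.hom.app (op (W k)) (p k)) Set.univ) : Epi φ := by
  refine (Sheaf.isLocallySurjective_iff_epi' (ModuleCat.{u + 1} Λ) φ).1 ⟨fun {A} a => ?_⟩
  refine Unr55.EtSh.mem_topology fun x => ?_
  obtain ⟨Ω, _, _, η, t, ht, hmem⟩ := h A a x trivial
  have hle : Submodule.span Λ {g | ∃ (k : ι) (q : Pt η (W k)), g = germ η F q (φ.hom.app (op (W k)) (p k))} ≤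
      LinearMap.range ((EtModW.stalk Λ η).map φ).hom := by
    refine Submodule.span_le.2 ?_
    rintro _ ⟨k, q, rfl⟩
    exact ⟨germ η P q (p k), stalk_map_germ η φ q (p k)⟩
  obtain ⟨b, hb⟩ := hle hmem
  obtain ⟨B, r, β, rfl⟩ := exists_germ_eq η P b
  obtain ⟨C, c, d, z, hz, he⟩ := exists_agree η F t r a (φ.hom.app (op B) β)
    (hb.symm.trans (stalk_map_germ η φ r β))
  refine ⟨C, c, hom η z default, ⟨P.obj.map d.op β, ?_⟩, ?_⟩
  · exact (NatTrans.naturality_apply φ.hom d.op β).trans he.symm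
  · rw [← ht, ← hz]
    rfl

theorem GenOn.mono {F : EtModW.Mod Λ X} {ι κ : Type*} {W : ι → X.Etale} {s : ∀ k, EtModW.sect Λ F (W k)}
    {W' : κ → X.Etale} {s' : ∀ k, EtModW.sect Λ F (W' k)} {E E' : Set X} (h : GenOn F W s E) (f : ι → κ)
    (hf : ∀ k, ∃ e : W' (f k) = W k, e ▸ s' (f k) = s k) (hE : E' ⊆ E) : GenOn F W' s' E' := by
  intro A a x hx
  obtain ⟨Ω, i₁, i₂, η, t, ht, hmem⟩ := h A a x (hE hx)
  refine ⟨Ω, i₁, i₂, η, t, ht, Submodule.span_mono ?_ hmem⟩
  rintro g ⟨k, q, rfl⟩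
  obtain ⟨e, he⟩ := hf k
  refine ⟨f k, e ▸ q, ?_⟩
  rw [← he]
  clear he
  generalize s' (f k) = σ
  revert q σ
  generalize W k = Z at e
  subst e
  intros
  rfl

variable {A F : EtModW.Mod Λ X} (v : A ⟶ F) [Epi v]

theorem exists_local_gen (hF : EtModW.IsConstructible Λ F) [CompactSpace X] [QuasiSeparatedSpace X] (x : X) :
    ∃ (r : ℕ) (W : Fin r → X.Etale) (_ : ∀ k, IsAffine (W k).left) (s : ∀ k, EtModW.sect Λ A (W k))
      (E : Set X), Topology.IsConstructible E ∧ x ∈ E ∧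
      GenOn F W (fun k => v.hom.app (op (W k)) (s k)) E := by
  classical
  have : QuasiSeparatedSpace (Set.univ : Set X) :=
    (IsOpen.isOpenEmbedding_subtypeVal isOpen_univ).quasiSeparatedSpace
  obtain ⟨ι, hι, Es, -, hEc, hcov, hflc⟩ :=
    ModCons93.strataCover_of_nhds (F := F) isOpen_univ isCompact_univ fun y _ => by
      obtain ⟨V, -, hyV, -, hV⟩ := exists_strataCover hF isOpen_univ (x := y) trivial
      exact ⟨V, V.2, hyV, hV⟩
  obtain ⟨i, hi⟩ := Set.mem_iUnion.1 (hcov (Set.mem_univ x))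
  obtain ⟨T, g, hg, hgr, hT⟩ := hflc i
  obtain ⟨t₀, ht₀⟩ : x ∈ Set.range g := hgr.symm ▸ hi
  obtain ⟨U, u₀, M, _, _, hM, σ, hu₀, hσ⟩ := (ftLocConst_iff _).1 hT t₀
  obtain ⟨K, _, _, η₀, q₀, hq₀⟩ := point_over U u₀
  obtain ⟨r, f, hf⟩ := Module.Finite.exists_fin' Λ M
  let m : Fin r → M := fun k => f (Pi.single k 1)
  let PF := (EtModW.pull Λ g).obj F
  let un : ∀ B : X.Etale, EtModW.sect Λ F B → EtModW.sect Λ PF ((EtCoh.bc g).obj B) :=
    fun B b => ((modAdj Λ g).unit.app F).hom.app (op B) b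
  have hstep : ∀ k, ∃ (W : X.Etale) (_ : IsAffine W.left) (s : EtModW.sect Λ A W) (C : T.Etale) (c : C ⟶ U)
      (d : C ⟶ (EtCoh.bc g).obj W) (z : Pt η₀ C), (Scheme.pointSmallEtale η₀).fiber.map c z = q₀ ∧
      PF.obj.map c.op (σ (m k)) = PF.obj.map d.op (un W (v.hom.app (op W) s)) := by
    intro k
    obtain ⟨α, hα⟩ := (theta_bijective g η₀ F).2 (germ η₀ PF q₀ (σ (m k)))
    obtain ⟨Z, tz, τ, rfl⟩ := exists_germ_eq (η₀ ≫ g) F α
    obtain ⟨V', c', w', s', hw', hs'⟩ := exists_local_preimage_of_epi v τ (hom (η₀ ≫ g) tz default)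
    obtain ⟨tz', htz'⟩ := exists_pt_over c' tz w' hw'
    obtain ⟨O, hO, hzO, -⟩ := exists_isAffineOpen_mem_and_subset (X := V'.left)
      (x := hom (η₀ ≫ g) tz' default) (U := ⊤) trivial
    have e : germ (η₀ ≫ g) F (ptOpen O tz' hzO) (v.hom.app (op (openSub V' O)) (A.obj.map (openSubι V' O).op s')) =
        germ (η₀ ≫ g) F tz τ := by
      refine (congrArg (germ (η₀ ≫ g) F (ptOpen O tz' hzO))
        (NatTrans.naturality_apply v.hom (openSubι V' O).op s')).trans ?_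
      rw [hs']
      refine (germ_map _ F _ _ _).trans ((congrArg (fun p => germ (η₀ ≫ g) F p _) (map_ptOpen O tz' hzO)).trans ?_)
      exact (germ_map _ F c' tz' τ).trans (congrArg (fun p => germ (η₀ ≫ g) F p τ) htz')
    obtain ⟨C, c, d, z, hz, he⟩ := exists_agree η₀ PF q₀ (ptUp g η₀ (ptOpen O tz' hzO)) (σ (m k))
      (un (openSub V' O) (v.hom.app (op (openSub V' O)) (A.obj.map (openSubι V' O).op s')))
      (hα.symm.trans ((congrArg (theta g η₀ F) e.symm).trans (theta_germ g η₀ F _ _)))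
    exact ⟨openSub V' O, hO, _, C, c, d, z, hz, he⟩
  choose W hW s C c d z hz he using hstep
  let OU : Set U.left := ⋂ k, Set.range (c k).left
  have hOU : IsOpen OU := isOpen_iInter_of_finite fun k => Unr55.EtSh.isOpen_range_left (c k)
  have hu₀OU : u₀ ∈ OU := Set.mem_iInter.2 fun k => ⟨hom η₀ (z k) default, by rw [← hq₀, ← hz k]; rfl⟩
  have : Etale U.hom := U.prop
  have hOT : IsOpen (U.hom '' OU) := U.hom.isOpenMap _ hOU
  obtain ⟨G, hG, hGT⟩ := g.isEmbedding.isInducing.isOpen_iff.1 hOT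
  have hxG : x ∈ G := by
    rw [← ht₀]
    exact hGT.ge ⟨u₀, hu₀OU, hu₀⟩
  obtain ⟨_, ⟨Q, hQ, rfl⟩, hxQ, hQG⟩ := X.isBasis_affineOpens.exists_subset_of_mem_open hxG hG
  have hEi : Topology.IsConstructible (Es i) :=
    (isConstructible_preimage_iff_of_isOpenEmbedding isOpen_univ.isOpenEmbedding_subtypeVal
      (by simp) (by simp)).1 (hEc i)
  refine ⟨r, W, hW, s, (Q : Set X) ∩ Es i, (hQ.isCompact.isConstructible Q.2).inter hEi, ⟨hxQ, hi⟩, ?_⟩
  rintro B b y ⟨hyQ, hyE⟩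
  obtain ⟨t, ht⟩ : B.hom y ∈ Set.range g := hgr.symm ▸ hyE
  obtain ⟨u₁, hu₁, hu₁t⟩ : t ∈ U.hom '' OU := hGT.le (show g t ∈ G by rw [ht]; exact hQG hyQ)
  obtain ⟨z₁, hz₁, hz₁'⟩ := Scheme.Pullback.exists_preimage_pullback (f := B.hom) (g := g) y t ht.symm
  obtain ⟨P, a₁, b₁, w, ha, hb⟩ := Unr55.LC.exists_overlap (U := U) (U' := (EtCoh.bc g).obj B)
    (p := u₁) (q := z₁) (hu₁t.trans hz₁'.symm)
  obtain ⟨Ω, _, _, η, t₁, ht₁⟩ := point_over P w
  let q := (Scheme.pointSmallEtale η).fiber.map a₁ t₁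
  let tu := (Scheme.pointSmallEtale η).fiber.map b₁ t₁
  refine ⟨Ω, inferInstance, inferInstance, η ≫ g, ptDown g η tu, ?_, ?_⟩
  · rw [← hz₁, ← hb, ← ht₁]
    rfl
  let S : Set ((EtModW.stalk Λ (η ≫ g)).obj F : ModuleCat.{u + 1} Λ) :=
    {e | ∃ (k : Fin r) (p : Pt (η ≫ g) (W k)), e = germ (η ≫ g) F p (v.hom.app (op (W k)) (s k))}
  change germ (η ≫ g) F (ptDown g η tu) b ∈ Submodule.span Λ S
  suffices h : theta g η F (germ (η ≫ g) F (ptDown g η tu) b) ∈
      (Submodule.span Λ S).map (theta g η F).hom by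
    obtain ⟨e, he', hee⟩ := h
    rwa [← (theta_bijective g η F).1 hee]
  rw [theta_germ, ptUp_ptDown]
  obtain ⟨V, gv, v', n, hv', hn⟩ := hσ.surj P a₁ (PF.obj.map b₁.op (un B b)) w
  obtain ⟨t₂, ht₂⟩ := exists_pt_over gv t₁ v' (hv'.trans ht₁.symm)
  have hq : germ η PF tu (un B b) = germ η PF q (σ n) := by
    have h1 := congrArg (germ η PF t₂) hn
    rw [germ_map, germ_map, ht₂, map_comp', germ_map, ht₂, germ_map] at h1
    exact h1
  change germ η PF tu (un B b) ∈ _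
  rw [hq]
  obtain ⟨cf, rfl⟩ := hf n
  rw [pi_eq_sum_univ' cf, map_sum, map_sum, map_sum]
  refine Submodule.sum_mem _ fun k _ => ?_
  rw [map_smul, map_smul, map_smul]
  refine Submodule.smul_mem _ _ ?_
  obtain ⟨ck, hck⟩ := Set.mem_iInter.1 hu₁ k
  obtain ⟨zk, hzk⟩ := exists_pt_over (c k) q ck (by
    rw [hck, ← ha, ← ht₁]
    rfl)
  let dz := (Scheme.pointSmallEtale η).fiber.map (d k) zk
  refine ⟨germ (η ≫ g) F (ptDown g η dz) (v.hom.app (op (W k)) (s k)),
    Submodule.subset_span ⟨k, _, rfl⟩, ?_⟩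
  refine (theta_germ g η F _ _).trans ?_
  rw [ptUp_ptDown]
  refine ((germ_map η PF (d k) zk _).symm.trans ((congrArg (germ η PF zk) (he k)).symm.trans
    ((germ_map η PF (c k) zk _).trans (congrArg (fun p => germ η PF p (σ (m k))) hzk)))).trans ?_
  simp only [m]

/-- A constructible quotient is generated by finitely many sections of affine etale objects. -/
theorem exists_gen_sections (hF : EtModW.IsConstructible Λ F) [CompactSpace X] [QuasiSeparatedSpace X] :
    ∃ (m : ℕ) (W : Fin m → X.Etale) (_ : ∀ k, IsAffine (W k).left) (s : ∀ k, EtModW.sect Λ A (W k)),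
      GenOn F W (fun k => v.hom.app (op (W k)) (s k)) Set.univ := by
  classical
  have : SpectralSpace X := { }
  choose r W hW s E hEc hxE hgen using exists_local_gen v hF
  obtain ⟨L, hL⟩ := (isCompact_univ (X := WithConstructibleTopology X)).elim_finite_subcover
    (fun x : X => WithTopology.ofTopology ⁻¹' E x)
    (fun x => WithConstructibleTopology.isOpen_iff.mpr
      (isClopen_constructibleTopology_of_isConstructible (hEc x)).1)
    (fun z _ => Set.mem_iUnion.2 ⟨_, hxE (WithTopology.ofTopology z)⟩)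
  obtain ⟨n, ⟨e⟩⟩ := Finite.exists_equiv_fin (Σ x : L, Fin (r x.1))
  refine ⟨n, fun k => W (e.symm k).1.1 (e.symm k).2, fun k => hW _ _,
    fun k => s (e.symm k).1.1 (e.symm k).2, fun B b y _ => ?_⟩
  obtain ⟨x, hx, hyx⟩ := Set.mem_iUnion₂.1 (hL (Set.mem_univ (WithTopology.toTopology _ (B.hom y))))
  refine GenOn.mono (hgen x) (fun k => e ⟨⟨x, hx⟩, k⟩) (fun k => ?_) subset_rfl B b y hyx
  suffices H : ∀ p : (Σ x : L, Fin (r x.1)), p = ⟨⟨x, hx⟩, k⟩ →
      ∃ e' : W p.1.1 p.2 = W x k, e' ▸ v.hom.app (op (W p.1.1 p.2)) (s p.1.1 p.2) =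
        v.hom.app (op (W x k)) (s x k) from H _ (e.symm_apply_apply _)
  rintro p rfl
  exact ⟨rfl, rfl⟩

/-- Finitely many `j_! Λ` map to `A` jointly surjecting onto the constructible quotient `F`. -/
theorem exists_gen_epi (hF : EtModW.IsConstructible Λ F) [CompactSpace X] [QuasiSeparatedSpace X] :
    ∃ (m : ℕ) (U : Fin m → Scheme.{u}) (j : ∀ k, U k ⟶ X) (_ : ∀ k, Etale (j k)) (_ : ∀ k, IsAffine (U k)),
      ∀ [∀ k, EtShriek.JCont (j k)], ∃ p : (∐ fun k => gen Λ (j k)) ⟶ A, Epi (p ≫ v) := by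
  obtain ⟨m, W, hW, s, hs⟩ := exists_gen_sections v hF
  have hE : ∀ k, Etale (W k).hom := fun k => (W k).prop
  refine ⟨m, fun k => (W k).left, fun k => (W k).hom, hE, hW, fun {_} => ?_⟩
  choose e he using fun k => exists_coRep_genObj (Λ := Λ) (W k)
  choose φ hφ using fun k => (he k A).2 (s k)
  refine ⟨Limits.Sigma.desc φ, epi_of_genOn (Limits.Sigma.desc φ ≫ v) W
    (fun k => (Limits.Sigma.ι (fun k => gen Λ (W k).hom) k).hom.app (op (W k)) (e k)) ?_⟩
  have hk : (fun k => (Limits.Sigma.desc φ ≫ v).hom.app (op (W k))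
      ((Limits.Sigma.ι (fun k => gen Λ (W k).hom) k).hom.app (op (W k)) (e k))) =
      fun k => v.hom.app (op (W k)) (s k) := funext fun k => by
    rw [← hφ k]
    have h1 : Limits.Sigma.ι (fun k => gen Λ (W k).hom) k ≫ Limits.Sigma.desc φ ≫ v = φ k ≫ v :=
      Limits.Sigma.ι_desc_assoc _ _ _
    exact (congrArg (fun (q : (gen Λ (W k).hom : EtModW.Mod Λ X) ⟶ F) =>
      (q.hom.app (op (W k))) (e k)) h1 :)
  rw [hk]
  exact hs

end Groth.Agent.Mod48.EtCons
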