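import Groth.Agent.DR39.SemiFree
import Groth.Agent.DR39.TensorDual
import Mathlib.Algebra.Homology.Functor

/-!
The semi-free resolution is functorial; resolution of complexes of presheaves of modules.
-/

set_option autoImplicit false
set_option linter.unusedSimpArgs false

universe u

open CategoryTheory CategoryTheory.Limits

namespace Groth.Agent.Mod48.ResFun

open Groth.Agent.DR39.SF

variable {A : Type u} [CommRing A] {K K' K'' : CochainComplex (ModuleCat.{u} A) ℤ}

/-- The image of a formal generator. -/
noncomputable def preMap (f : K ⟶ K') : {i : ℤ} → Pre K i → Pre K' i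
  | i, .mk y n c g => .mk ((f.f i).hom y) n c fun k => preMap f (g k)

theorem tgt_preMap (f : K ⟶ K') {i : ℤ} (p : Pre K i) : (preMap f p).tgt = (f.f i).hom p.tgt := by
  cases p with
  | mk y n c g => simp [preMap, Pre.tgt]

theorem dd_preMap (f : K ⟶ K') {i : ℤ} (p : Pre K i) :
    (preMap f p).dd = Finsupp.mapDomain (preMap f) p.dd := by
  cases p with
  | mk y n c g => simp [preMap, Pre.dd, Finsupp.mapDomain_finsetSum, Finsupp.mapDomain_single]

theorem valid_preMap (f : K ⟶ K') : ∀ {i : ℤ} (p : Pre K i), p.Valid → (preMap f p).Valid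
  | i, .mk y n c g, h => by
    rw [preMap]
    refine ⟨fun k => valid_preMap f (g k) (h.1 k), ?_, ?_⟩
    · have := congrArg (Finsupp.mapDomain (preMap f)) h.2.1
      simpa [Finsupp.mapDomain_finsetSum, Finsupp.mapDomain_smul, dd_preMap] using this
    · have hd : (f.f (i + 1)).hom ((K.d i (i + 1)).hom y) = (K'.d i (i + 1)).hom ((f.f i).hom y) :=
        (DFunLike.congr_fun (congrArg ModuleCat.Hom.hom (f.comm i (i + 1))) y).symm
      rw [← hd, ← h.2.2, map_sum]
      simp [tgt_preMap]

theorem preMap_id : ∀ {i : ℤ} (p : Pre K i), preMap (𝟙 K) p = p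
  | _, .mk y n c g => by
    rw [preMap]
    simp [preMap_id]

theorem preMap_comp (f : K ⟶ K') (g : K' ⟶ K'') : ∀ {i : ℤ} (p : Pre K i),
    preMap (f ≫ g) p = preMap g (preMap f p)
  | _, .mk y n c h => by
    rw [preMap, preMap, preMap]
    simp [preMap_comp f g]

/-- The image of a generator. -/
noncomputable def genMap (f : K ⟶ K') {i : ℤ} (p : Gen K i) : Gen K' i := ⟨preMap f p.1, valid_preMap f p.1 p.2⟩

theorem dgen_genMap (f : K ⟶ K') {i : ℤ} (p : Gen K i) :
    dgen (genMap f p) = Finsupp.mapDomain (genMap f) (dgen p) := by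
  apply Finsupp.mapDomain_injective Subtype.val_injective
  rw [val_dgen, ← Finsupp.mapDomain_comp,
    show (Subtype.val ∘ genMap f : Gen K (i + 1) → Pre K' (i + 1)) = preMap f ∘ Subtype.val from rfl,
    Finsupp.mapDomain_comp, val_dgen]
  exact dd_preMap f p.1

/-- Functoriality of the semi-free resolution. -/
noncomputable def resMap (f : K ⟶ K') : res K ⟶ res K' where
  f i := ModuleCat.ofHom (Finsupp.lmapDomain A A (genMap f (i := i)))
  comm' i j hij := by
    obtain rfl : i + 1 = j := hij
    apply ModuleCat.hom_ext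
    apply Finsupp.lhom_ext'
    intro p
    apply LinearMap.ext_ring
    show ((res K').d i (i + 1)).hom (Finsupp.mapDomain (genMap f) (Finsupp.single p (1 : A))) =
      Finsupp.mapDomain (genMap f) (((res K).d i (i + 1)).hom (Finsupp.single p 1 : Gen K i →₀ A))
    rw [res_d, res_d, Finsupp.mapDomain_single]
    erw [Finsupp.linearCombination_single, Finsupp.linearCombination_single]
    rw [one_smul, one_smul, dgen_genMap]

theorem resMap_id : resMap (𝟙 K) = 𝟙 (res K) := by
  ext i : 1
  apply ModuleCat.hom_ext
  change Finsupp.lmapDomain A A (genMap (𝟙 K)) = LinearMap.id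
  rw [show genMap (𝟙 K) (i := i) = id from funext fun p => Subtype.ext (preMap_id p.1)]
  exact Finsupp.lmapDomain_id A A

theorem resMap_comp (f : K ⟶ K') (g : K' ⟶ K'') : resMap (f ≫ g) = resMap f ≫ resMap g := by
  ext i : 1
  apply ModuleCat.hom_ext
  change Finsupp.lmapDomain A A (genMap (f ≫ g)) = Finsupp.lmapDomain A A (genMap g) ∘ₗ Finsupp.lmapDomain A A (genMap f)
  rw [show genMap (f ≫ g) (i := i) = genMap g ∘ genMap f from funext fun p => Subtype.ext (preMap_comp f g p.1)]
  exact Finsupp.lmapDomain_comp A A _ _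

theorem resMap_aug (f : K ⟶ K') : resMap f ≫ aug K' = aug K ≫ f := by
  ext i : 1
  apply ModuleCat.hom_ext
  apply Finsupp.lhom_ext'
  intro p
  apply LinearMap.ext_ring
  show Finsupp.linearCombination A (fun q : Gen K' i => q.1.tgt) (Finsupp.mapDomain (genMap f) (Finsupp.single p (1 : A))) =
    (f.f i).hom (Finsupp.linearCombination A (fun q : Gen K i => q.1.tgt) (Finsupp.single p (1 : A)))
  rw [Finsupp.mapDomain_single, Finsupp.linearCombination_single, Finsupp.linearCombination_single, one_smul,
    one_smul]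
  exact tgt_preMap f p.1

section Pre

universe v w

variable {C : Type w} [Category.{v} C]

/-- The objectwise semi-free resolution of a complex of presheaves. -/
noncomputable def presheafRes (K : CochainComplex (Cᵒᵖ ⥤ ModuleCat.{u} A) ℤ) :
    CochainComplex (Cᵒᵖ ⥤ ModuleCat.{u} A) ℤ where
  X n :=
    { obj := fun V => (res (K.asFunctor.obj V)).X n
      map := fun g => (resMap (K.asFunctor.map g)).f n
      map_id := fun V => by rw [CategoryTheory.Functor.map_id, resMap_id]; rfl
      map_comp := fun g h => by rw [Functor.map_comp, resMap_comp]; rfl }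
  d i j :=
    { app := fun V => (res (K.asFunctor.obj V)).d i j
      naturality := fun _ _ g => (resMap (K.asFunctor.map g)).comm i j }
  shape i j h := by
    ext V : 2
    exact (res (K.asFunctor.obj V)).shape i j h
  d_comp_d' i j k _ _ := by
    ext V : 2
    exact (res (K.asFunctor.obj V)).d_comp_d i j k

/-- The augmentation. -/
noncomputable def presheafAug (K : CochainComplex (Cᵒᵖ ⥤ ModuleCat.{u} A) ℤ) : presheafRes K ⟶ K where
  f i :=
    { app := fun V => (aug (K.asFunctor.obj V)).f i
      naturality := fun _ _ g => congrArg (fun t : res _ ⟶ _ => t.f i) (resMap_aug (K.asFunctor.map g)) }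
  comm' i j _ := by
    ext V : 2
    exact (aug (K.asFunctor.obj V)).comm i j

instance quasiIso_presheafAug (K : CochainComplex (Cᵒᵖ ⥤ ModuleCat.{u} A) ℤ) : QuasiIso (presheafAug K) := by
  rw [HomologicalComplex.quasiIso_iff_evaluation]
  intro V
  exact quasiIso_aug (K.asFunctor.obj V)

theorem isKFlat_presheafRes (K : CochainComplex (Cᵒᵖ ⥤ ModuleCat.{u} A) ℤ) (V : Cᵒᵖ) :
    DRing.IsKFlat A ((presheafRes K).asFunctor.obj V) :=
  haveI : CochainComplex.IsKProjective (res (K.asFunctor.obj V)) := isKProjective_res _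
  (DR39.isKFlat_of_isKProjective (P := res (K.asFunctor.obj V)) :)

end Pre

end Groth.Agent.Mod48.ResFun
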