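import Groth.Agent.Mod48.EtConsStalk
import Groth.Agent.Mod48.EtConsResFun
import Groth.Agent.DR39.TensorSymm
import Groth.Prelude.Def_KFlatSite

/-!
Stalkwise K-flat complexes of sheaves of modules on small etale sites.
-/

set_option autoImplicit false
set_option backward.isDefEq.respectTransparency.types false
universe u

open CategoryTheory CategoryTheory.Limits AlgebraicGeometry Opposite MonoidalCategory HomologicalComplex

namespace Groth.Agent.Mod48

section Natural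

variable {A₁ A₂ B A₁' A₂' B' : Type*} [Category* A₁] [Category* A₂] [Category* B]
  [Category* A₁'] [Category* A₂'] [Category* B']
  [Preadditive A₁] [Preadditive A₂] [Preadditive B]
  [Preadditive A₁'] [Preadditive A₂'] [Preadditive B']
  (F : A₁ ⥤ A₂ ⥤ B) [F.PreservesZeroMorphisms] [∀ X, (F.obj X).PreservesZeroMorphisms]
  (F' : A₁' ⥤ A₂' ⥤ B') [F'.PreservesZeroMorphisms] [∀ X, (F'.obj X).PreservesZeroMorphisms]
  (H₁ : A₁ ⥤ A₁') (H₂ : A₂ ⥤ A₂') (G : B ⥤ B') [H₁.Additive] [H₂.Additive] [G.Additive]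
  (α : ∀ X Y, (F'.obj (H₁.obj X)).obj (H₂.obj Y) ≅ G.obj ((F.obj X).obj Y))
  (hα₁ : ∀ {X X' : A₁} (f : X ⟶ X') (Y : A₂),
    (F'.map (H₁.map f)).app (H₂.obj Y) ≫ (α X' Y).hom = (α X Y).hom ≫ G.map ((F.map f).app Y))
  (hα₂ : ∀ (X : A₁) {Y Y' : A₂} (g : Y ⟶ Y'),
    (F'.obj (H₁.obj X)).map (H₂.map g) ≫ (α X Y').hom = (α X Y).hom ≫ G.map ((F.obj X).map g))
  {K₁ L₁ : CochainComplex A₁ ℤ} {K₂ L₂ : CochainComplex A₂ ℤ} (f : K₁ ⟶ L₁) (g : K₂ ⟶ L₂)
  [HasMapBifunctor K₁ K₂ F (ComplexShape.up ℤ)] [HasMapBifunctor L₁ L₂ F (ComplexShape.up ℤ)]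
  [HasMapBifunctor ((H₁.mapHomologicalComplex (ComplexShape.up ℤ)).obj K₁)
    ((H₂.mapHomologicalComplex (ComplexShape.up ℤ)).obj K₂) F' (ComplexShape.up ℤ)]
  [HasMapBifunctor ((H₁.mapHomologicalComplex (ComplexShape.up ℤ)).obj L₁)
    ((H₂.mapHomologicalComplex (ComplexShape.up ℤ)).obj L₂) F' (ComplexShape.up ℤ)]

include hα₁ hα₂ in
set_option backward.isDefEq.respectTransparency false in
lemma mapTotApp_natural (n : ℤ) :
    (mapBifunctorMap ((H₁.mapHomologicalComplex (ComplexShape.up ℤ)).map f)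
        ((H₂.mapHomologicalComplex (ComplexShape.up ℤ)).map g) F' (ComplexShape.up ℤ)).f n ≫
      mapTotApp F F' H₁ H₂ G α L₁ L₂ n =
    mapTotApp F F' H₁ H₂ G α K₁ K₂ n ≫ G.map ((mapBifunctorMap f g F (ComplexShape.up ℤ)).f n) := by
  apply mapBifunctor.hom_ext
  intro i j h
  rw [ι_mapBifunctorMap_assoc]
  erw [ι_mapTotApp, reassoc_of% (ι_mapTotApp F F' H₁ H₂ G α K₁ K₂ i j n h)]
  change (F'.map (H₁.map (f.f i))).app (H₂.obj (K₂.X j)) ≫ (F'.obj (H₁.obj (L₁.X i))).map (H₂.map (g.f j)) ≫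
      (α (L₁.X i) (L₂.X j)).hom ≫ G.map (ιMapBifunctor L₁ L₂ F (ComplexShape.up ℤ) i j n h) =
    ((α (K₁.X i) (K₂.X j)).hom ≫ G.map (ιMapBifunctor K₁ K₂ F (ComplexShape.up ℤ) i j n h)) ≫
      G.map ((mapBifunctorMap f g F (ComplexShape.up ℤ)).f n)
  rw [reassoc_of% (hα₂ (L₁.X i) (g.f j)), reassoc_of% (hα₁ (f.f i) (K₂.X j)), Category.assoc,
    ← G.map_comp, ← G.map_comp, ← G.map_comp, ι_mapBifunctorMap]

variable (K₁ K₂) in
/-- `Tot F'(H₁ K₁, H₂ K₂) ≅ G (Tot F(K₁, K₂))`. -/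
noncomputable def mapTotIsoOf
    [∀ n : ℤ, PreservesColimit (Discrete.functor fun p :
      ((ComplexShape.π (ComplexShape.up ℤ) (ComplexShape.up ℤ) (ComplexShape.up ℤ)) ⁻¹' {n} : Set (ℤ × ℤ)) =>
        (F.obj (K₁.X p.1.1)).obj (K₂.X p.1.2)) G] :
    mapBifunctor ((H₁.mapHomologicalComplex (ComplexShape.up ℤ)).obj K₁)
      ((H₂.mapHomologicalComplex (ComplexShape.up ℤ)).obj K₂) F' (ComplexShape.up ℤ) ≅
      (G.mapHomologicalComplex (ComplexShape.up ℤ)).obj (mapBifunctor K₁ K₂ F (ComplexShape.up ℤ)) :=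
  HomologicalComplex.Hom.isoOfComponents
    (fun n => @asIso _ _ _ _ (mapTotApp F F' H₁ H₂ G α K₁ K₂ n) (isIso_mapTotApp F F' H₁ H₂ G α K₁ K₂ n))
    (fun n m hnm => by
      obtain rfl : n + 1 = m := hnm
      exact mapTotApp_comm F F' H₁ H₂ G α hα₁ hα₂ K₁ K₂ n)

include hα₁ hα₂ in
theorem quasiIso_map_mapBifunctorMap [CategoryWithHomology B']
    [∀ n : ℤ, PreservesColimit (Discrete.functor fun p :
      ((ComplexShape.π (ComplexShape.up ℤ) (ComplexShape.up ℤ) (ComplexShape.up ℤ)) ⁻¹' {n} : Set (ℤ × ℤ)) =>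
        (F.obj (K₁.X p.1.1)).obj (K₂.X p.1.2)) G]
    [∀ n : ℤ, PreservesColimit (Discrete.functor fun p :
      ((ComplexShape.π (ComplexShape.up ℤ) (ComplexShape.up ℤ) (ComplexShape.up ℤ)) ⁻¹' {n} : Set (ℤ × ℤ)) =>
        (F.obj (L₁.X p.1.1)).obj (L₂.X p.1.2)) G]
    (h : QuasiIso (mapBifunctorMap ((H₁.mapHomologicalComplex (ComplexShape.up ℤ)).map f)
        ((H₂.mapHomologicalComplex (ComplexShape.up ℤ)).map g) F' (ComplexShape.up ℤ))) :
    QuasiIso ((G.mapHomologicalComplex (ComplexShape.up ℤ)).map (mapBifunctorMap f g F (ComplexShape.up ℤ))) := by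
  let eK := mapTotIsoOf F F' H₁ H₂ G α hα₁ hα₂ K₁ K₂
  let eL := mapTotIsoOf F F' H₁ H₂ G α hα₁ hα₂ L₁ L₂
  refine (quasiIso_iff_of_arrow_mk_iso _ _ ?_).1 h
  refine Arrow.isoMk eK eL ?_
  ext n
  exact (mapTotApp_natural F F' H₁ H₂ G α hα₁ hα₂ f g n).symm

end Natural

namespace EtCons

variable {Λ : Type (u + 1)} [CommRing Λ] {X : Scheme.{u}}

/-- The stalk complex. -/
noncomputable abbrev stalkCx {Ω : Type u} [Field Ω] [IsSepClosed Ω] (ξ : Spec (CommRingCat.of Ω) ⟶ X) :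
    CochainComplex (EtModW.Mod Λ X) ℤ ⥤ CochainComplex (ModuleCat.{u + 1} Λ) ℤ :=
  (EtModW.stalk Λ ξ).mapHomologicalComplex (ComplexShape.up ℤ)

/-- Complexes all whose stalks are K-flat. -/
def StalkKFlat (K : CochainComplex (EtModW.Mod Λ X) ℤ) : Prop :=
  ∀ (Ω : Type u) [Field Ω] [IsSepClosed Ω] (ξ : Spec (CommRingCat.of Ω) ⟶ X),
    DRing.IsKFlat Λ ((stalkCx ξ).obj K)

/-- Quasi-isomorphisms are detected on stalks. -/
theorem quasiIso_of_stalks {K L : CochainComplex (EtModW.Mod Λ X) ℤ} (f : K ⟶ L)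
    (h : ∀ (Ω : Type u) [Field Ω] [IsSepClosed Ω] (ξ : Spec (CommRingCat.of Ω) ⟶ X),
      QuasiIso ((stalkCx (Λ := Λ) ξ).map f)) : QuasiIso f := by
  refine ⟨fun i => ?_⟩
  rw [quasiIsoAt_iff_isIso_homologyMap]
  refine isIso_of_stalks _ fun Ω _ _ ξ => ?_
  have := h Ω ξ
  have hi : IsIso (homologyMap ((stalkCx (Λ := Λ) ξ).map f) i) := inferInstance
  have hn := ShortComplex.mapHomologyIso_hom_naturality ((shortComplexFunctor _ _ i).map f) (EtModW.stalk Λ ξ)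
  refine (?_ : IsIso ((EtModW.stalk Λ ξ).map (ShortComplex.homologyMap ((shortComplexFunctor _ _ i).map f))))
  have e : (EtModW.stalk Λ ξ).map (ShortComplex.homologyMap ((shortComplexFunctor _ _ i).map f)) =
      ((K.sc i).mapHomologyIso (EtModW.stalk Λ ξ)).inv ≫ homologyMap ((stalkCx (Λ := Λ) ξ).map f) i ≫
        ((L.sc i).mapHomologyIso (EtModW.stalk Λ ξ)).hom :=
    ((Iso.inv_comp_eq _).2 hn).symm
  rw [e]
  refine @IsIso.comp_isIso _ _ _ _ _ _ _ ?_ (@IsIso.comp_isIso _ _ _ _ _ _ _ hi ?_) <;> infer_instance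

theorem isZero_of_stalks {H : EtModW.Mod Λ X}
    (h : ∀ (Ω : Type u) [Field Ω] [IsSepClosed Ω] (ξ : Spec (CommRingCat.of Ω) ⟶ X),
      IsZero ((EtModW.stalk Λ ξ).obj H)) : IsZero H := by
  have : IsIso (0 : H ⟶ H) := isIso_of_stalks _ fun Ω _ _ ξ =>
    ⟨0, (h Ω ξ).eq_of_src _ _, (h Ω ξ).eq_of_src _ _⟩
  exact (IsZero.iff_id_eq_zero _).2 ((cancel_epi (0 : H ⟶ H)).1 (by simp))

instance preservesColimitsOfSize_stalk {Ω : Type u} [Field Ω] [IsSepClosed Ω]
    (ξ : Spec (CommRingCat.of Ω) ⟶ X) : PreservesColimitsOfSize.{0, 0} (EtModW.stalk Λ ξ) :=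
  (Scheme.pointSmallEtale ξ).skyscraperSheafAdjunction.leftAdjoint_preservesColimits

/-- Tensor products of complexes are computed on stalks. -/
theorem quasiIso_tensorCx_map {K L M N : CochainComplex (EtModW.Mod Λ X) ℤ} (f : K ⟶ L) (g : M ⟶ N)
    (h : ∀ (Ω : Type u) [Field Ω] [IsSepClosed Ω] (ξ : Spec (CommRingCat.of Ω) ⟶ X),
      QuasiIso ((stalkCx (Λ := Λ) ξ).map f ⊗ₘ (stalkCx (Λ := Λ) ξ).map g)) :
    QuasiIso (mapBifunctorMap f g (EtModD.tensorBi Λ X) (ComplexShape.up ℤ)) :=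
  quasiIso_of_stalks _ fun Ω _ _ ξ =>
    quasiIso_map_mapBifunctorMap (EtModD.tensorBi Λ X) (curriedTensor (ModuleCat.{u + 1} Λ))
      (EtModW.stalk Λ ξ) (EtModW.stalk Λ ξ) (EtModW.stalk Λ ξ) (stalkTensorIso ξ)
      (fun f Y => stalkTensorIso_natural_left ξ f Y) (fun X _ _ g => stalkTensorIso_natural_right ξ X g) f g
      (h Ω ξ)

theorem quasiIso_tensorCx_left {P P' : CochainComplex (EtModW.Mod Λ X) ℤ} (hP : StalkKFlat P)
    (hP' : StalkKFlat P') (f : P ⟶ P') [QuasiIso f] (E : CochainComplex (EtModW.Mod Λ X) ℤ) :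
    QuasiIso (mapBifunctorMap f (𝟙 E) (EtModD.tensorBi Λ X) (ComplexShape.up ℤ)) := by
  refine quasiIso_tensorCx_map f (𝟙 E) fun Ω _ _ ξ => ?_
  have : QuasiIso ((stalkCx (Λ := Λ) ξ).map f) := inferInstance
  rw [CategoryTheory.Functor.map_id, MonoidalCategory.tensorHom_id]
  exact DR39.quasiIso_whiskerRight_of_kflat (hP Ω ξ) (hP' Ω ξ) _ _

theorem quasiIso_tensorCx_right {P : CochainComplex (EtModW.Mod Λ X) ℤ} (hP : StalkKFlat P)
    {E E' : CochainComplex (EtModW.Mod Λ X) ℤ} (g : E ⟶ E') [QuasiIso g] :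
    QuasiIso (mapBifunctorMap (𝟙 P) g (EtModD.tensorBi Λ X) (ComplexShape.up ℤ)) := by
  refine quasiIso_tensorCx_map (𝟙 P) g fun Ω _ _ ξ => ?_
  have : QuasiIso ((stalkCx (Λ := Λ) ξ).map g) := inferInstance
  rw [CategoryTheory.Functor.map_id, MonoidalCategory.id_tensorHom]
  let g' := (stalkCx (Λ := Λ) ξ).map g
  let P₀ := (stalkCx (Λ := Λ) ξ).obj P
  have := DR39.quasiIso_whiskerRight (hP Ω ξ) g'
  have : QuasiIso (DR39.symm' ((stalkCx (Λ := Λ) ξ).obj E) P₀ ≫ (P₀ ◁ g')) := by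
    rw [← DR39.symm'_naturality]
    infer_instance
  exact quasiIso_of_comp_left (DR39.symm' ((stalkCx (Λ := Λ) ξ).obj E) P₀) (P₀ ◁ g')

theorem isKFlat_of_iso {P Q : DRing.Cx Λ} (e : P ≅ Q) (h : DRing.IsKFlat Λ P) : DRing.IsKFlat Λ Q :=
  fun M hM i => (h M hM i).of_iso ((homologyFunctor _ _ i).mapIso (whiskerLeftIso M e)).symm

theorem StalkKFlat.of_iso {P Q : CochainComplex (EtModW.Mod Λ X) ℤ} (e : P ≅ Q) (h : StalkKFlat P) :
    StalkKFlat Q := fun Ω _ _ ξ => isKFlat_of_iso ((stalkCx ξ).mapIso e) (h Ω ξ)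

/-- Bounded above complexes with flat stalks. -/
theorem stalkKFlat_of_flat {P : CochainComplex (EtModW.Mod Λ X) ℤ} (b : ℤ) (hb : ∀ i, b < i → IsZero (P.X i))
    (hP : ∀ (i : ℤ) (Ω : Type u) [Field Ω] [IsSepClosed Ω] (ξ : Spec (CommRingCat.of Ω) ⟶ X),
      Module.Flat Λ ((EtModW.stalk Λ ξ).obj (P.X i) : ModuleCat.{u + 1} Λ)) : StalkKFlat P :=
  fun Ω _ _ ξ => DR39.isKFlat_of_flat b (fun i hi => (EtModW.stalk Λ ξ).map_isZero (hb i hi))
    fun i => hP i Ω ξ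

/-- `X ↦ (Y ↦ (V ↦ X ⊗ Y V))`. -/
noncomputable abbrev presTensor (Λ : Type (u + 1)) [CommRing Λ] (X : Scheme.{u}) :
    ModuleCat.{u + 1} Λ ⥤ (X.Etaleᵒᵖ ⥤ ModuleCat.{u + 1} Λ) ⥤ (X.Etaleᵒᵖ ⥤ ModuleCat.{u + 1} Λ) :=
  curriedTensor (ModuleCat.{u + 1} Λ) ⋙ Functor.whiskeringRight X.Etaleᵒᵖ _ _

instance presTensor_obj_preservesZero (M : ModuleCat.{u + 1} Λ) :
    ((presTensor Λ X).obj M).PreservesZeroMorphisms where
  map_zero A B := by
    ext V : 2
    exact ((curriedTensor (ModuleCat.{u + 1} Λ)).obj M).map_zero _ _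

instance presTensor_preservesZero : (presTensor Λ X).PreservesZeroMorphisms where
  map_zero A B := by
    ext P : 2
    ext V : 2
    exact congr_app ((curriedTensor (ModuleCat.{u + 1} Λ)).map_zero A B) (P.obj V)

theorem presTensor_natural (Φ : GrothendieckTopology.Point.{u} X.smallEtaleTopology) {M M' : ModuleCat.{u + 1} Λ} (m : M ⟶ M')
    (Y : X.Etaleᵒᵖ ⥤ ModuleCat.{u + 1} Λ) :
    ((curriedTensor (ModuleCat.{u + 1} Λ)).map m).app (Φ.presheafFiber.obj Y) ≫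
        ((Φ.presheafFiberCompIso (tensorLeft M')).app Y).symm.hom =
      ((Φ.presheafFiberCompIso (tensorLeft M)).app Y).symm.hom ≫
        Φ.presheafFiber.map (((presTensor Λ X).map m).app Y) := by
  refine (Iso.comp_inv_eq _).2 (((Category.assoc _ _ _).trans ((Iso.inv_comp_eq _).2 ?_)).symm)
  refine Φ.presheafFiber_hom_ext fun U x => ?_
  refine (Φ.toPresheafFiber_naturality_assoc (((presTensor Λ X).map m).app Y) U x _).trans ?_
  refine ((congrArg ((((presTensor Λ X).map m).app Y).app (op U) ≫ ·)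
    (Φ.toPresheafFiber_presheafFiberCompIso_hom_app (tensorLeft M') U x Y))).trans ?_
  refine Eq.trans ?_ ((Category.assoc _ _ _).symm.trans
    (congrArg (· ≫ _) (Φ.toPresheafFiber_presheafFiberCompIso_hom_app (tensorLeft M) U x Y))).symm
  exact (whisker_exchange m (Φ.toPresheafFiber U x Y)).symm

/-- The stalk of an objectwise K-flat complex of presheaves is K-flat. -/
theorem isKFlat_presheafFiber {R : CochainComplex (X.Etaleᵒᵖ ⥤ ModuleCat.{u + 1} Λ) ℤ}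
    (hR : ∀ V, DRing.IsKFlat Λ ((((evaluation _ _).obj V).mapHomologicalComplex _).obj R))
    {Ω : Type u} [Field Ω] [IsSepClosed Ω] (ξ : Spec (CommRingCat.of Ω) ⟶ X) :
    DRing.IsKFlat Λ (((Scheme.pointSmallEtale ξ).presheafFiber.mapHomologicalComplex _).obj R) := by
  intro M hM
  let Φ := Scheme.pointSmallEtale ξ
  let F := presTensor Λ X
  let T := mapBifunctor M R F (ComplexShape.up ℤ)
  have hT : ∀ i, IsZero (T.homology i) := fun i => by
    rw [Functor.isZero_iff]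
    intro V
    let G := (evaluation X.Etaleᵒᵖ (ModuleCat.{u + 1} Λ)).obj V
    obtain ⟨e⟩ := nonempty_mapTotIso F (curriedTensor (ModuleCat.{u + 1} Λ)) (𝟭 _) G G
      (fun _ _ => Iso.refl _) (fun _ _ => (Category.comp_id _).trans (Category.id_comp _).symm)
      (fun _ _ _ _ => (Category.comp_id _).trans (Category.id_comp _).symm) M R
    exact ((hR V M hM i).of_iso ((homologyFunctor _ _ i).mapIso e).symm).of_iso
      ((T.sc i).mapHomologyIso G).symm
  have : PreservesColimitsOfSize.{0, 0} (Φ.presheafFiber (A := ModuleCat.{u + 1} Λ)) :=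
    preservesColimitsOfSize_shrink.{0, u, 0, u} _
  obtain ⟨e⟩ := nonempty_mapTotIso F (curriedTensor (ModuleCat.{u + 1} Λ)) (𝟭 _) Φ.presheafFiber Φ.presheafFiber
    (fun M Y => ((Φ.presheafFiberCompIso (tensorLeft M)).app Y).symm)
    (fun {M M'} m Y => presTensor_natural Φ m Y)
    (fun M _ _ g => (Φ.presheafFiberCompIso (tensorLeft M)).inv.naturality g) M R
  exact fun i => ((Φ.presheafFiber.map_isZero (hT i)).of_iso ((T.sc i).mapHomologyIso Φ.presheafFiber)).of_iso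
    ((homologyFunctor _ _ i).mapIso e)

/-- Evaluation of the objectwise resolution. -/
noncomputable def presheafResEval (K : CochainComplex (X.Etaleᵒᵖ ⥤ ModuleCat.{u + 1} Λ) ℤ) (V : X.Etaleᵒᵖ) :
    (((evaluation _ _).obj V).mapHomologicalComplex (ComplexShape.up ℤ)).obj (ResFun.presheafRes K) ≅
      (ResFun.presheafRes K).asFunctor.obj V :=
  HomologicalComplex.Hom.isoOfComponents (fun _ => Iso.refl _)
    fun i j _ => (Category.id_comp _).trans (Category.comp_id _).symm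

/-- A reflective subcategory inherits resolutions. -/
theorem exists_reflected_resolution {A B : Type*} [Category* A] [Category* B] [Abelian A] [Abelian B]
    {a : B ⥤ A} {ι : A ⥤ B} (adj : a ⊣ ι) [ι.Full] [ι.Faithful] [a.Additive] [ι.Additive]
    [a.PreservesHomology] {R : CochainComplex B ℤ} (K : CochainComplex A ℤ)
    (r : R ⟶ (ι.mapHomologicalComplex (ComplexShape.up ℤ)).obj K) [QuasiIso r] :
    ∃ q : (a.mapHomologicalComplex (ComplexShape.up ℤ)).obj R ⟶ K, QuasiIso q := by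
  have := adj.counit_isIso_of_R_fully_faithful
  let ε : (a.mapHomologicalComplex (ComplexShape.up ℤ)).obj ((ι.mapHomologicalComplex (ComplexShape.up ℤ)).obj K) ≅
      K := HomologicalComplex.Hom.isoOfComponents (fun n => (asIso adj.counit).app (K.X n))
        fun i j _ => (adj.counit.naturality (K.d i j)).symm
  exact ⟨(a.mapHomologicalComplex _).map r ≫ ε.hom, inferInstance⟩

/-- Stalkwise K-flat resolutions. -/
theorem exists_stalkKFlat_resolution (K : CochainComplex (EtModW.Mod Λ X) ℤ) :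
    ∃ (P : CochainComplex (EtModW.Mod Λ X) ℤ) (q : P ⟶ K), StalkKFlat P ∧ QuasiIso q := by
  let a := presheafToSheaf X.smallEtaleTopology (ModuleCat.{u + 1} Λ)
  let K₀ := ((sheafToPresheaf X.smallEtaleTopology (ModuleCat.{u + 1} Λ)).mapHomologicalComplex
    (ComplexShape.up ℤ)).obj K
  obtain ⟨q, hq⟩ := exists_reflected_resolution
    (sheafificationAdjunction X.smallEtaleTopology (ModuleCat.{u + 1} Λ)) K (ResFun.presheafAug K₀)
  refine ⟨_, q, fun Ω _ _ ξ => ?_, hq⟩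
  let R := ResFun.presheafRes K₀
  have h1 : DRing.IsKFlat Λ (((Scheme.pointSmallEtale ξ).presheafFiber.mapHomologicalComplex _).obj R) :=
    isKFlat_presheafFiber (fun V => isKFlat_of_iso (presheafResEval K₀ V).symm (ResFun.isKFlat_presheafRes K₀ V)) ξ
  have e : ((Scheme.pointSmallEtale ξ).presheafFiber.mapHomologicalComplex (ComplexShape.up ℤ)).obj R ≅
      (stalkCx ξ).obj ((a.mapHomologicalComplex (ComplexShape.up ℤ)).obj R) :=
    HomologicalComplex.Hom.isoOfComponents (fun i => ((stalkShfIso (Λ := Λ) ξ).app (R.X i)).symm)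
      fun i j _ => ((stalkShfIso (Λ := Λ) ξ).inv.naturality (R.d i j)).symm
  exact isKFlat_of_iso e h1

end EtCons

end Groth.Agent.Mod48
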