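import Groth.Agent.CohDer42.ResOp
import Mathlib.CategoryTheory.Abelian.Exact
import Mathlib.CategoryTheory.Abelian.Opposite

/-!
Resolutions relative to a weak Serre class of objects: a complex with homology in the class is
quasi-isomorphic to a complex with terms in a subclass which is large enough for the class.
-/

universe v u

open CategoryTheory Category Limits HomologicalComplex
open CochainComplex (mappingCone)
open Groth.Agent.CohDer42 (coneD coneXIso)

set_option autoImplicit false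
set_option linter.unusedSectionVars false
set_option backward.isDefEq.respectTransparency false

namespace Groth.Agent.Mod48.RelRes

variable {A : Type u} [Category.{v} A] [Abelian A]

section Lemmas

variable {S P Q T : A}

theorem ses_coker_lift (a : S ⟶ P) (u : S ⟶ Q) :
    ∃ (f : cokernel (kernel.ι a ≫ u) ⟶ cokernel (biprod.lift a u))
      (g : cokernel (biprod.lift a u) ⟶ cokernel a) (w : f ≫ g = 0),
      cokernel.π (biprod.lift a u) ≫ g = biprod.fst ≫ cokernel.π a ∧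
      (ShortComplex.mk f g w).ShortExact := by
  let L := biprod.lift a u
  let f : cokernel (kernel.ι a ≫ u) ⟶ cokernel L := cokernel.desc _ (biprod.inr ≫ cokernel.π L) (by
    have : kernel.ι a ≫ L = (kernel.ι a ≫ u) ≫ biprod.inr := by
      apply biprod.hom_ext <;> simp [L]
    rw [← assoc, ← this, assoc, cokernel.condition, comp_zero])
  let g : cokernel L ⟶ cokernel a := cokernel.desc _ (biprod.fst ≫ cokernel.π a) (by simp [L])
  have w : f ≫ g = 0 := coequalizer.hom_ext (by simp [f, g])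
  have hg : cokernel.π L ≫ g = biprod.fst ≫ cokernel.π a := cokernel.π_desc _ _ _
  have : Epi g := epi_of_epi_fac hg
  have : Mono f := by
    refine Preadditive.mono_of_cancel_zero _ fun {R} x hx => ?_
    obtain ⟨R₁, π₁, hπ₁, q, hq⟩ := surjective_up_to_refinements_of_epi (cokernel.π (kernel.ι a ≫ u)) x
    have h0 : (q ≫ biprod.inr) ≫ cokernel.π L = 0 := by
      have := π₁ ≫= hx
      rw [← assoc, hq, assoc, cokernel.π_desc, comp_zero] at this
      rw [assoc]; exact this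
    obtain ⟨R₂, π₂, hπ₂, s, hs⟩ := (ShortComplex.exact_cokernel L).exact_up_to_refinements _ h0
    have h1 : s ≫ a = 0 := by
      have := hs =≫ biprod.fst
      simpa [L] using this.symm
    have h2 : π₂ ≫ q = kernel.lift a s h1 ≫ kernel.ι a ≫ u := by
      have := hs =≫ biprod.snd
      simpa [L] using this
    rw [← cancel_epi π₁, ← cancel_epi π₂, comp_zero, comp_zero, hq, ← assoc, h2, assoc, cokernel.condition, comp_zero]
  refine ⟨f, g, w, hg, { exact := ?_, mono_f := inferInstance, epi_g := inferInstance }⟩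
  rw [ShortComplex.exact_iff_exact_up_to_refinements]
  intro R x hx
  obtain ⟨R₁, π₁, hπ₁, z, hz⟩ := surjective_up_to_refinements_of_epi (cokernel.π L) x
  have h0 : (z ≫ biprod.fst) ≫ cokernel.π a = 0 := by
    have : π₁ ≫ x ≫ g = 0 := by rw [show x ≫ g = 0 from hx, comp_zero]
    rw [← assoc, hz, assoc, hg] at this
    rw [assoc]; exact this
  obtain ⟨R₂, π₂, hπ₂, s, hs⟩ := (ShortComplex.exact_cokernel a).exact_up_to_refinements _ h0
  refine ⟨R₂, π₂ ≫ π₁, inferInstance, (π₂ ≫ z ≫ biprod.snd - s ≫ u) ≫ cokernel.π _, ?_⟩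
  have : π₂ ≫ z = s ≫ L + (π₂ ≫ z ≫ biprod.snd - s ≫ u) ≫ biprod.inr := by
    apply biprod.hom_ext <;> simp [L, hs]
  simp only [assoc, hz, f, cokernel.π_desc]
  rw [← assoc π₂, this, Preadditive.add_comp, assoc, assoc, cokernel.condition, comp_zero, zero_add]

theorem ses_kernel_comp {M : ShortComplex A} (hM : M.ShortExact) (e : M.X₃ ⟶ T) :
    ∃ (f : M.X₁ ⟶ kernel (M.g ≫ e)) (g : kernel (M.g ≫ e) ⟶ kernel e) (w : f ≫ g = 0),
      (ShortComplex.mk f g w).ShortExact := by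
  have := hM.mono_f
  have := hM.epi_g
  let f : M.X₁ ⟶ kernel (M.g ≫ e) := kernel.lift _ M.f (by rw [M.zero_assoc, zero_comp])
  let g : kernel (M.g ≫ e) ⟶ kernel e := kernel.lift _ (kernel.ι _ ≫ M.g) (by simp)
  have w : f ≫ g = 0 := equalizer.hom_ext (by simp [f, g])
  have : Mono f := mono_of_mono_fac (kernel.lift_ι _ _ _)
  have : Epi g := by
    rw [epi_iff_surjective_up_to_refinements]
    intro R x
    obtain ⟨R₁, π, hπ, y, hy⟩ := surjective_up_to_refinements_of_epi M.g (x ≫ kernel.ι e)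
    refine ⟨R₁, π, hπ, kernel.lift _ y (by rw [← assoc, ← hy]; simp), ?_⟩
    rw [← cancel_mono (kernel.ι e)]
    simpa [g] using hy
  refine ⟨f, g, w, { exact := ?_, mono_f := inferInstance, epi_g := inferInstance }⟩
  rw [ShortComplex.exact_iff_exact_up_to_refinements]
  intro R x hx
  obtain ⟨R₁, π, hπ, y, hy⟩ := hM.exact.exact_up_to_refinements (x ≫ kernel.ι _) (by
    have := (show x ≫ g = 0 from hx) =≫ kernel.ι e
    simpa [g] using this)
  exact ⟨R₁, π, hπ, y, by rw [← cancel_mono (kernel.ι (M.g ≫ e))]; simpa [f] using hy⟩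

end Lemmas

section Resolution

variable (Good I : A → Prop)
  (hiso : ∀ {X Y : A}, (X ≅ Y) → Good X → Good Y)
  (hcok : ∀ {X Y : A} (f : X ⟶ Y), Good X → Good Y → Good (cokernel f))
  (hext : ∀ S : ShortComplex A, S.ShortExact → Good S.X₁ → Good S.X₃ → Good S.X₂)
  (hIG : ∀ Y, I Y → Good Y)
  (hI : ∀ {B M : A} (v : B ⟶ M) [Mono v], Good B → ∃ (Y : A) (q : M ⟶ Y), I Y ∧ Mono (v ≫ q))
  (K : CochainComplex A ℤ) (hK : ∀ n, Good (K.homology n))

/-- state of the construction -/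
structure RState (n : ℤ) where
  L : A
  hL : I L
  X : A
  δ : X ⟶ K.X (n + 1) ⊞ L
  comm : δ ≫ biprod.fst ≫ K.d (n + 1) (n + 1 + 1) = 0
  good : Good (kernel (cokernel.desc δ (-(biprod.fst ≫ K.d (n + 1) (n + 1 + 1)))
    (by rw [Preadditive.comp_neg, comm, neg_zero])))

/-- transition of states -/
def RNext (n : ℤ) (t : RState Good I K n) (t' : RState Good I K (n + 1)) : Prop :=
  ∃ (w : K.X (n + 1) ⊞ t.L ⟶ t'.L) (e : t'.X ≅ K.X (n + 1) ⊞ t.L) (h : t.δ ≫ w = 0),
    t'.δ = e.hom ≫ coneD K n w ∧ ∀ ⦃T : A⦄ (x : T ⟶ K.X (n + 1) ⊞ t.L), x ≫ coneD K n w = 0 →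
      ∃ (T' : A) (π : T' ⟶ T) (_ : Epi π) (y : T' ⟶ t.X), π ≫ x = y ≫ t.δ

/-- homology as a kernel on the cokernel of the previous differential -/
noncomputable def homologyKernelIso (n : ℤ) :
    kernel (cokernel.desc (K.d n (n + 1)) (K.d (n + 1) (n + 1 + 1)) (K.d_comp_d _ _ _)) ≅
      K.homology (n + 1) :=
  let S := K.sc' n (n + 1) (n + 1 + 1)
  (kernel.mapIso _ S.fromOpcycles S.opcyclesIsoCokernel.symm (Iso.refl _) (by
      apply coequalizer.hom_ext
      simp only [Iso.refl_hom, comp_id, Iso.symm_hom, ShortComplex.opcyclesIsoCokernel]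
      exact (cokernel.π_desc _ _ _).trans
        ((cokernel.π_desc_assoc _ _ _ _).trans S.p_fromOpcycles).symm) ≪≫
    (limit.isLimit _).conePointUniqueUpToIso S.homologyIsKernel) ≪≫
    (K.homologyIsoSc' n (n + 1) (n + 1 + 1) (by simp) (by simp)).symm

include hiso hK in
lemma good_start {Z : A} (hZ : IsZero Z) (n : ℤ) (hn : ∀ m, m ≤ n → IsZero (K.X m)) :
    Good (kernel (cokernel.desc (0 : Z ⟶ K.X (n + 1) ⊞ Z) (-(biprod.fst ≫ K.d (n + 1) (n + 1 + 1)))
      zero_comp)) := by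
  have : IsIso (biprod.fst : K.X (n + 1) ⊞ Z ⟶ K.X (n + 1)) :=
    ⟨biprod.inl, by apply biprod.hom_ext <;> first | exact hZ.eq_of_tgt _ _ | simp, by simp⟩
  have hd : K.d n (n + 1) = 0 := (hn n le_rfl).eq_of_src _ _
  refine hiso ((homologyKernelIso K n).symm ≪≫ kernel.mapIso _ _
    (cokernel.mapIso _ _ (hZ.iso (hn n le_rfl)).symm ((asIso biprod.fst).symm) (by simp [hd]))
    ⟨-𝟙 _, -𝟙 _, by simp, by simp⟩ ?_) (hK (n + 1))
  apply coequalizer.hom_ext
  simp

lemma exact_coneD_of_isZero (n : ℤ) {X L L' : A} (hz : IsZero (K.X (n + 1) ⊞ L))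
    (δ : X ⟶ K.X (n + 1) ⊞ L) (w : K.X (n + 1) ⊞ L ⟶ L') ⦃T : A⦄ (x : T ⟶ K.X (n + 1) ⊞ L)
    (_ : x ≫ coneD K n w = 0) :
    ∃ (T' : A) (π : T' ⟶ T) (_ : Epi π) (y : T' ⟶ X), π ≫ x = y ≫ δ :=
  ⟨T, 𝟙 _, inferInstance, 0, hz.eq_of_tgt _ _⟩

include hiso hcok hext hIG hI hK in
lemma exists_rnext (n : ℤ) (t : RState Good I K n) : ∃ t', RNext Good I K n t t' := by
  let π := cokernel.π t.δ
  let a : cokernel t.δ ⟶ K.X (n + 1 + 1) := cokernel.desc t.δ (-(biprod.fst ≫ K.d (n + 1) (n + 1 + 1)))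
    (by rw [Preadditive.comp_neg, t.comm, neg_zero])
  obtain ⟨Y, u, hY, hu⟩ := hI (kernel.ι a) t.good
  let w : K.X (n + 1) ⊞ t.L ⟶ Y := π ≫ u
  have h : t.δ ≫ w = 0 := by simp [w, π]
  have hD : coneD K n w = π ≫ biprod.lift a u := by
    apply biprod.hom_ext <;> simp [coneD, a, π, w]
  obtain ⟨f, g, z, hg, hS⟩ := ses_coker_lift a u
  let c : cokernel a ⟶ K.X (n + 1 + 1 + 1) :=
    cokernel.desc a (-K.d (n + 1 + 1) (n + 1 + 1 + 1)) (coequalizer.hom_ext (by simp [a]))
  obtain ⟨f', g', z', hS'⟩ := ses_kernel_comp hS c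
  let e : cokernel (K.d (n + 1) (n + 1 + 1)) ≅ cokernel a :=
    { hom := cokernel.desc _ (cokernel.π a) (by
        have hla : biprod.inl ≫ π ≫ a = -K.d (n + 1) (n + 1 + 1) := by simp [a, π]
        rw [← neg_neg (K.d (n + 1) (n + 1 + 1)), ← hla, Preadditive.neg_comp, assoc, assoc, cokernel.condition]
        simp)
      inv := cokernel.desc _ (cokernel.π _) (coequalizer.hom_ext (by simp [a]))
      hom_inv_id := coequalizer.hom_ext (by simp)
      inv_hom_id := coequalizer.hom_ext (by simp) }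
  have hgood : Good (kernel (g ≫ c)) := by
    refine hext _ hS' (hcok _ t.good (hIG _ hY)) (hiso ((homologyKernelIso K (n + 1)).symm ≪≫
      kernel.mapIso _ c e ⟨-𝟙 _, -𝟙 _, by simp, by simp⟩ ?_) (hK _))
    apply coequalizer.hom_ext
    simp [c, e]
  refine ⟨{ L := Y, hL := hY, X := K.X (n + 1) ⊞ t.L, δ := coneD K n w, comm := by simp [coneD],
            good := ?_ }, w, Iso.refl _, h, (id_comp _).symm, ?_⟩
  · refine hiso (kernel.mapIso (g ≫ c) _ ((cokernelEpiComp π _).symm ≪≫ cokernelIsoOfEq hD.symm)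
      (Iso.refl _) ?_) hgood
    apply coequalizer.hom_ext
    simp [reassoc_of% hg, c]
  · intro T x hx
    have h1 : (x ≫ π) ≫ a = 0 := by
      have := hx =≫ biprod.fst
      simpa [hD, a, π] using this
    have h2 : (x ≫ π) ≫ u = 0 := by
      have := hx =≫ biprod.snd
      simpa [hD] using this
    have h3 : kernel.lift a (x ≫ π) h1 = 0 := by
      rw [← cancel_mono (kernel.ι a ≫ u), zero_comp, ← assoc, kernel.lift_ι, h2]
    have h4 : x ≫ π = 0 := by rw [← kernel.lift_ι a _ h1, h3, zero_comp]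
    obtain ⟨T', p, hp, y, hy⟩ := (ShortComplex.exact_cokernel t.δ).exact_up_to_refinements x h4
    exact ⟨T', p, hp, y, hy⟩

include hiso hcok hext hIG hI hK in
lemma exists_resolution (hI0 : ∃ Z : A, IsZero Z ∧ I Z) (a : ℤ) [K.IsStrictlyGE a] :
    ∃ (L : CochainComplex A ℤ) (α : K ⟶ L), L.IsStrictlyGE a ∧ (∀ n, I (L.X n)) ∧ QuasiIso α := by
  obtain ⟨Z, hZ, hIZ⟩ := hI0
  have hK0 : ∀ m, m < a → IsZero (K.X m) := fun m hm => K.isZero_of_isStrictlyGE a m hm
  let zs : ∀ n, n ≤ a - 1 → RState Good I K n := fun n hn =>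
    { L := Z, hL := hIZ, X := Z, δ := 0, comm := zero_comp,
      good := good_start Good hiso K hK hZ n (fun m hm => hK0 m (by omega)) }
  obtain ⟨g, hg⟩ := Groth.Agent.FilD41.exists_chain_up
    (T := fun n => { t : RState Good I K n // n ≤ a - 1 → IsZero t.L })
    (fun n t t' => RNext Good I K n t.1 t'.1) (a - 1)
    (fun n hn => ⟨zs n hn, fun _ => hZ⟩)
    (fun n hn => by
      have hz : IsZero (K.X (n + 1) ⊞ Z) := (biprod_isZero_iff _ _).2 ⟨hK0 _ (by omega), hZ⟩
      exact ⟨0, hZ.iso hz, hZ.eq_of_src _ _, hZ.eq_of_src _ _, exact_coneD_of_isZero K n hz _ _⟩)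
    (fun n t => by
      obtain ⟨t', ht'⟩ := exists_rnext Good I hiso hcok hext hIG hI K hK n t.1
      by_cases hn : n + 1 ≤ a - 1
      · have hz : IsZero (K.X (n + 1) ⊞ t.1.L) :=
          (biprod_isZero_iff _ _).2 ⟨hK0 _ (by omega), t.2 (by omega)⟩
        exact ⟨⟨zs (n + 1) hn, fun _ => hZ⟩, hz.to_ Z, hZ.iso hz,
          by rw [hz.eq_of_tgt t.1.δ 0, zero_comp], hZ.eq_of_src _ _,
          exact_coneD_of_isZero K n hz _ _⟩
      · exact ⟨⟨t', fun h => absurd h hn⟩, ht'⟩)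
  choose w e h hδ hex using hg
  let L₀ : ℤ → A := fun n => (g n).1.L
  have hMM : ∀ n, coneD K n (w n) ≫ w (n + 1) = 0 := fun n => by
    have := h (n + 1)
    rw [hδ n, assoc] at this
    exact (cancel_epi (e n).hom).1 (this.trans comp_zero.symm)
  let dL : ∀ n, L₀ n ⟶ L₀ (n + 1) := fun n => biprod.inr ≫ w n
  have hw : ∀ n, (biprod.inl ≫ w n) ≫ dL (n + 1) =
      K.d (n + 1) (n + 1 + 1) ≫ biprod.inl ≫ w (n + 1) := fun n => by
    have := biprod.inl ≫= hMM n
    simp [coneD, biprod.lift_eq, Preadditive.comp_add, Preadditive.add_comp] at this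
    rw [neg_add_eq_zero] at this
    simpa [dL] using this.symm
  have hdd : ∀ n, dL n ≫ dL (n + 1) = 0 := fun n => by
    have := biprod.inr ≫= hMM n
    simp [coneD, biprod.lift_eq, Preadditive.comp_add, Preadditive.add_comp] at this
    simpa [dL] using this
  let L : CochainComplex A ℤ := CochainComplex.of L₀ dL hdd
  have hLd : ∀ n, L.d n (n + 1) = dL n := fun n => CochainComplex.of_d L₀ dL n
  let φf : ∀ n, K.X n ⟶ L.X n := fun n =>
    (K.XIsoOfEq (sub_add_cancel n 1)).inv ≫ biprod.inl ≫ w (n - 1) ≫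
      (L.XIsoOfEq (sub_add_cancel n 1)).hom
  have hφf : ∀ n, φf (n + 1) = biprod.inl ≫ w n := by
    suffices ∀ (n m : ℤ) (hm : m + 1 = n + 1),
        (K.XIsoOfEq hm).inv ≫ biprod.inl ≫ w m ≫ (L.XIsoOfEq hm).hom = biprod.inl ≫ w n from
      fun n => this n _ _
    intro n m hm
    obtain rfl : m = n := by omega
    simp
    exact congrArg (fun t => biprod.inl ≫ t) (comp_id (w m))
  let φ : K ⟶ L :=
    { f := φf
      comm' := fun i j (hij : i + 1 = j) => by
        subst hij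
        obtain ⟨n, rfl⟩ : ∃ n, i = n + 1 := ⟨i - 1, by omega⟩
        rw [hφf, hφf, hLd]
        exact hw n }
  refine ⟨L, φ, ?_, fun n => (g n).1.hL, ?_⟩
  · exact (CochainComplex.isStrictlyGE_iff _ a).2 (fun n hn => (g n).2 (by omega))
  · refine Groth.Agent.PCoh41.quasiIso_of_nqiso _ (fun _ i _ => ?_)
    obtain ⟨n, rfl⟩ : ∃ n, i = n + 1 := ⟨i - 1, by omega⟩
    refine (exactAt_iff_isZero_homology _ _).1 ?_
    rw [exactAt_iff' _ n (n + 1) (n + 1 + 1) (by simp) (by simp)]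
    have hc : ∀ m, (coneXIso K φ m).hom ≫ (mappingCone φ).d m (m + 1) =
        coneD K m (w m) ≫ (coneXIso K φ (m + 1)).hom := fun m => by
      have h1 : φ.f (m + 1) = biprod.inl ≫ w m := hφf m
      have h2 : L.d m (m + 1) = biprod.inr ≫ w m := hLd m
      apply biprod.hom_ext'
      · simp [coneXIso, coneD, h1, CochainComplex.mappingCone.inl_v_d φ (m + 1) m (m + 1 + 1)
          (by omega) (by omega), biprod.lift_desc, Preadditive.comp_add]
        erw [biprod.inl_fst_assoc]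
        abel
      · simp [coneXIso, coneD, h2, biprod.lift_desc, Preadditive.comp_add]
        erw [biprod.inr_fst_assoc]
        simp
        rfl
    have hz : (g (n + 1)).1.δ ≫ coneD K (n + 1) (w (n + 1)) = 0 := by
      apply biprod.hom_ext <;> simp [coneD, (g (n + 1)).1.comm, h (n + 1)]
    have hex' : (ShortComplex.mk _ _ hz).Exact := by
      rw [ShortComplex.exact_iff_exact_up_to_refinements]
      intro T x hx
      exact hex (n + 1) x hx
    refine ShortComplex.exact_of_iso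
      (ShortComplex.isoMk (S₂ := (mappingCone φ).sc' n (n + 1) (n + 1 + 1))
        (e n ≪≫ coneXIso K φ n) (coneXIso K φ (n + 1)) (coneXIso K φ (n + 1 + 1)) ?_
        (hc (n + 1))) hex'
    change ((e n).hom ≫ (coneXIso K φ n).hom) ≫ (mappingCone φ).d n (n + 1) =
        (g (n + 1)).1.δ ≫ (coneXIso K φ (n + 1)).hom
    rw [assoc, hc n, hδ n, assoc]

end Resolution

section Left

open Opposite Groth.Agent.CohDer42

variable (Good P : A → Prop)
  (hiso : ∀ {X Y : A}, (X ≅ Y) → Good X → Good Y)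
  (hker : ∀ {X Y : A} (f : X ⟶ Y), Good X → Good Y → Good (kernel f))
  (hext : ∀ S : ShortComplex A, S.ShortExact → Good S.X₁ → Good S.X₃ → Good S.X₂)
  (hP0 : ∃ Z : A, IsZero Z ∧ P Z) (hPG : ∀ Y, P Y → Good Y)
  (hP : ∀ {M B : A} (v : M ⟶ B) [Epi v], Good B → ∃ (Y : A) (p : Y ⟶ M), P Y ∧ Epi (p ≫ v))
  (K : CochainComplex A ℤ) (hK : ∀ n, Good (K.homology n))

/-- homology of the opposite complex -/
noncomputable def homologyNegOpIso (K : CochainComplex A ℤ) (n : ℤ) :
    (negOp K).homology n ≅ op (K.homology (-n)) :=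
  (negOp K).homologyIsoSc' (n - 1) n (n + 1) (by simp) (by simp) ≪≫
    (K.sc' (-(n + 1)) (-n) (-(n - 1))).homologyOpIso ≪≫
      (K.homologyIsoSc' (-(n + 1)) (-n) (-(n - 1)) (by grind [CochainComplex.prev])
        (by grind [CochainComplex.next])).op

include hiso hker hext hP0 hPG hP hK in
theorem exists_left_resolution (a : ℤ) [K.IsStrictlyLE a] :
    ∃ (Q : CochainComplex A ℤ) (α : Q ⟶ K), Q.IsStrictlyLE a ∧ (∀ n, P (Q.X n)) ∧ QuasiIso α := by
  obtain ⟨Z, hZ, hPZ⟩ := hP0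
  have : (negOp K).IsStrictlyGE (-a) := by
    rw [CochainComplex.isStrictlyGE_iff]
    intro i hi
    exact (K.isZero_of_isStrictlyLE a (-i) (by omega)).op
  obtain ⟨L, α, hL, hLP, hqis⟩ := exists_resolution (fun X : Aᵒᵖ => Good X.unop) (fun X : Aᵒᵖ => P X.unop)
    (fun e h => hiso e.unop.symm h)
    (fun f hX hY => hiso (kernelUnopOp f).unop.symm (hker f.unop hY hX))
    (fun S hS h₁ h₃ => hext S.unop hS.unop h₃ h₁)
    (fun Y h => hPG _ h)
    (fun {B M} v _ h => by
      obtain ⟨Y, p, hY, hp⟩ := hP v.unop h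
      exact ⟨op Y, p.op, hY, inferInstanceAs (Mono (p ≫ v.unop).op)⟩)
    (negOp K) (fun n => hiso (homologyNegOpIso K n).unop (hK (-n))) ⟨op Z, hZ.op, hPZ⟩ (-a)
  have := quasiIso_negUnopMap α
  refine ⟨negUnop L, negUnopMap α ≫ (negUnopNegOpIso K).hom, ?_, fun n => hLP (-n), inferInstance⟩
  rw [CochainComplex.isStrictlyLE_iff]
  intro i hi
  exact (L.isZero_of_isStrictlyGE (-a) (-i) (by omega)).unop

include hiso hker hext hP0 hPG hP hK in
theorem exists_left_resolution' (a : ℤ) (ha : ∀ n : ℤ, a < n → IsZero (K.homology n)) :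
    ∃ (Q : CochainComplex A ℤ) (α : Q ⟶ K), Q.IsStrictlyLE a ∧ (∀ n, P (Q.X n)) ∧ QuasiIso α := by
  have : K.IsLE a := by
    rw [CochainComplex.isLE_iff]
    intro i hi
    exact (exactAt_iff_isZero_homology K i).2 (ha i hi)
  have : QuasiIso (K.ιTruncLE a) := (K.quasiIso_ιTruncLE_iff a).2 inferInstance
  obtain ⟨Q, α, h₁, h₂, h₃⟩ := exists_left_resolution Good P hiso hker hext hP0 hPG hP (K.truncLE a)
    (fun n => hiso (asIso (homologyMap (K.ιTruncLE a) n)).symm (hK n)) a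
  exact ⟨Q, α ≫ K.ιTruncLE a, h₁, h₂, inferInstance⟩

end Left

end Groth.Agent.Mod48.RelRes
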