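import Groth.Agent.Mod48.EtConsEpi
import Groth.Agent.EtCore45.ExtZeroBC

/-!
Extension by zero along a qcqs etale morphism preserves constructible sheaves of modules.
-/

set_option autoImplicit false
set_option backward.isDefEq.respectTransparency.types false
universe u

open CategoryTheory CategoryTheory.Limits AlgebraicGeometry Opposite

namespace Groth.Agent.Mod48.EtCons

attribute [local instance] Abelian.hasFiniteBiproducts

variable {Λ : Type (u + 1)} [CommRing Λ]

section BC

variable {V' V Y X : Scheme.{u}} (j : V ⟶ X) [Etale j] (f : Y ⟶ X) (j' : V' ⟶ Y) [Etale j'] (f' : V' ⟶ V)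
  (h : IsPullback j' f' f j) [EtShriek.JCont j] [EtShriek.JCont j']

/-- Restriction commutes with direct image. -/
noncomputable def pushRestrModIso (Λ : Type (u + 1)) [CommRing Λ] (h : IsPullback j' f' f j) :
    EtModW.push Λ f ⋙ EtSix.restrMod Λ j ≅ EtSix.restrMod Λ j' ⋙ EtModW.push Λ f' :=
  haveI : (EtShriek.compEtale j ⋙ EtCoh.bc f).IsContinuous V.smallEtaleTopology Y.smallEtaleTopology :=
    Functor.isContinuous_comp _ _ V.smallEtaleTopology X.smallEtaleTopology Y.smallEtaleTopology
  Functor.sheafPushforwardContinuousComp' (F := EtShriek.compEtale j) (G := EtCoh.bc f)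
      (FG := EtShriek.compEtale j ⋙ EtCoh.bc f) (Iso.refl _) (ModuleCat.{u + 1} Λ)
      V.smallEtaleTopology X.smallEtaleTopology Y.smallEtaleTopology ≪≫
    (Functor.sheafPushforwardContinuousComp' (F := EtCoh.bc f') (G := EtShriek.compEtale j')
      (FG := EtShriek.compEtale j ⋙ EtCoh.bc f) (EtCore45.compBcIso j f j' f' h).symm (ModuleCat.{u + 1} Λ)
      V.smallEtaleTopology V'.smallEtaleTopology Y.smallEtaleTopology).symm

/-- Inverse image commutes with extension by zero. -/
noncomputable def pullExtZeroModIso (Λ : Type (u + 1)) [CommRing Λ] (h : IsPullback j' f' f j) :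
    EtModW.pull Λ f' ⋙ EtSix.extZeroMod Λ j' ≅ EtSix.extZeroMod Λ j ⋙ EtModW.pull Λ f :=
  Adjunction.leftAdjointUniq (((LocConst45.Mod.modAdj Λ f').comp (EtSix.extZeroModAdj Λ j')).ofNatIsoRight
    (pushRestrModIso j f j' f' Λ h).symm) ((EtSix.extZeroModAdj Λ j).comp (LocConst45.Mod.modAdj Λ f))

end BC

variable {U X W : Scheme.{u}}

theorem nonempty_extZero_gen (j : U ⟶ X) [Etale j] [EtShriek.JCont j] (k : W ⟶ U) [Etale k] [EtShriek.JCont k] :
    Nonempty ((EtSix.extZeroMod Λ j).obj (gen Λ k) ≅ gen Λ (k ≫ j)) := by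
  obtain ⟨e, he⟩ := exists_coRep_gen (Λ := Λ) k
  obtain ⟨d, hd⟩ := exists_coRep_gen (Λ := Λ) (k ≫ j)
  exact ((he.extZero j).congr (MorphismProperty.Over.isoMk (Iso.refl _) (Category.id_comp _) :
    Scheme.Etale.mk (k ≫ j) ≅ (EtShriek.compEtale j).obj (Scheme.Etale.mk k))).nonempty_iso hd

theorem isConstructible_extZeroMod_aux [IsNoetherianRing Λ] [CompactSpace X] [QuasiSeparatedSpace X]
    [CompactSpace U] [QuasiSeparatedSpace U] (j : U ⟶ X) [Etale j] [EtShriek.JCont j] {F : EtModW.Mod Λ U}
    (hF : EtModW.IsConstructible Λ F) : EtModW.IsConstructible Λ ((EtSix.extZeroMod Λ j).obj F) := by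
  let L := EtSix.extZeroMod Λ j
  have hsum : ∀ {m : ℕ} (T : Fin m → Scheme.{u}) (k : ∀ i, T i ⟶ U) [∀ i, Etale (k i)] [∀ i, IsAffine (T i)],
      EtModW.IsConstructible Λ (L.obj (∐ fun i => gen Λ (k i))) := by
    intro m T k _ _
    exact ModCons93.isConstructible_of_iso
      ((Sigma.mapIso fun i => (nonempty_extZero_gen (Λ := Λ) j (k i)).some.symm) ≪≫
        (PreservesCoproduct.iso L (fun i => gen Λ (k i))).symm)
      (isConstructible_coproduct_fin _ fun i => isConstructible_gen (k i ≫ j))
  obtain ⟨m, T, k, hk, hT, hp⟩ := exists_gen_epi (𝟙 F) hF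
  obtain ⟨p, hp⟩ := hp
  have hp' : Epi p := by simpa using hp
  have hker := (isConstructible_kernel_cokernel p
    (isConstructible_coproduct_fin _ fun i => isConstructible_gen (k i)) hF).1
  obtain ⟨m', T', k', hk', hT', hq⟩ := exists_gen_epi (𝟙 (kernel p)) hker
  obtain ⟨q, hq⟩ := hq
  have hq' : Epi q := by simpa using hq
  let e : cokernel (q ≫ kernel.ι p) ≅ F :=
    cokernelEpiComp q (kernel.ι p) ≪≫ (colimit.isColimit (parallelPair (kernel.ι p) 0)).coconePointUniqueUpToIso
      (Abelian.epiIsCokernelOfKernel (KernelFork.ofι (kernel.ι p) (kernel.condition p)) (kernelIsKernel p))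
  exact ModCons93.isConstructible_of_iso ((PreservesCokernel.iso L (q ≫ kernel.ι p)).symm ≪≫ L.mapIso e)
    (isConstructible_kernel_cokernel (L.map (q ≫ kernel.ι p)) (hsum T' k') (hsum T k)).2

/-- Extension by zero along a qcqs etale morphism preserves constructibility. -/
theorem isConstructible_extZeroMod [IsNoetherianRing Λ] (j : U ⟶ X) [Etale j] [QuasiCompact j]
    [QuasiSeparated j] [EtShriek.JCont j] {F : EtModW.Mod Λ U}
    (hF : EtModW.IsConstructible Λ F) : EtModW.IsConstructible Λ ((EtSix.extZeroMod Λ j).obj F) := by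
  refine isConstructible_of_open_cover _ (fun V : X.affineOpens => V.1) (iSup_affineOpens_eq_top X) fun V => ?_
  have : IsAffine V.1.toScheme := V.2
  let j' := pullback.fst V.1.ι j
  have : Etale j' := MorphismProperty.pullback_fst _ _ inferInstance
  have : QuasiCompact j' := inferInstance
  have : QuasiSeparated j' := inferInstance
  have : CompactSpace (pullback V.1.ι j : Scheme.{u}) := QuasiCompact.compactSpace_of_compactSpace j'
  have : QuasiSeparatedSpace (pullback V.1.ι j : Scheme.{u}) := quasiSeparatedSpace_of_quasiSeparated j'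
  exact ModCons93.isConstructible_of_iso
    ((pullExtZeroModIso j V.1.ι j' (pullback.snd V.1.ι j) Λ (IsPullback.of_hasPullback _ _)).app F)
    (isConstructible_extZeroMod_aux j' (ModCons93.isConstructible_pull _ hF))

end Groth.Agent.Mod48.EtCons
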