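import Groth.Agent.Mod48.EtConsEpi
import Groth.Agent.Mod48.MapTot
import Mathlib.CategoryTheory.Sites.Point.Monoidal
import Mathlib.AlgebraicGeometry.Sites.EtalePoint
import Mathlib.Algebra.Category.ModuleCat.AB
import Mathlib.RingTheory.Flat.Basic
import Mathlib.LinearAlgebra.TensorProduct.Basis
import Groth.Prelude.Def_EtModD2

/-!
Stalks of sheaves of modules on small etale sites: tensor products, `j_! Λ`, conservativity.
-/

set_option autoImplicit false
set_option backward.isDefEq.respectTransparency.types false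
universe u

open CategoryTheory CategoryTheory.Limits AlgebraicGeometry Opposite MonoidalCategory
open Groth.Agent.Unr55.EtSh (Pt)
open Groth.Agent.LocConst45.Mod (germ exists_germ_eq stalk_map_germ germ_map)

namespace Groth.Agent.Mod48.EtCons

variable {Λ : Type (u + 1)} [CommRing Λ] {X : Scheme.{u}} {Ω : Type u} [Field Ω] [IsSepClosed Ω]
  (ξ : Spec (CommRingCat.of Ω) ⟶ X)

instance ab5_moduleCat_small : AB5OfSize.{u, u} (ModuleCat.{u + 1} Λ) :=
  AB5OfSize_shrink.{u, u, u + 1, u + 1} _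

instance preservesFiniteLimits_stalk : PreservesFiniteLimits (EtModW.stalk Λ ξ) :=
  inferInstanceAs (PreservesFiniteLimits ((Scheme.pointSmallEtale ξ).sheafFiber (A := ModuleCat.{u + 1} Λ)))

instance preservesFiniteColimits_stalk : PreservesFiniteColimits (EtModW.stalk Λ ξ) :=
  inferInstanceAs (PreservesFiniteColimits ((Scheme.pointSmallEtale ξ).sheafFiber (A := ModuleCat.{u + 1} Λ)))

instance additive_stalk : (EtModW.stalk Λ ξ).Additive :=
  have := preservesBinaryBiproducts_of_preservesBinaryProducts (EtModW.stalk Λ ξ)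
  Functor.additive_of_preservesBinaryBiproducts _

instance additive_presheafFiber :
    ((Scheme.pointSmallEtale ξ).presheafFiber (A := ModuleCat.{u + 1} Λ)).Additive :=
  have := preservesBinaryBiproducts_of_preservesBinaryProducts
    ((Scheme.pointSmallEtale ξ).presheafFiber (A := ModuleCat.{u + 1} Λ))
  Functor.additive_of_preservesBinaryBiproducts _

/-- The stalk of a sheafification. -/
noncomputable def stalkShfIso :
    presheafToSheaf X.smallEtaleTopology (ModuleCat.{u + 1} Λ) ⋙ EtModW.stalk Λ ξ ≅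
      (Scheme.pointSmallEtale ξ).presheafFiber :=
  (Scheme.pointSmallEtale ξ).presheafToSheafCompSheafFiberIso (ModuleCat.{u + 1} Λ)

/-- The stalk of a tensor product is the tensor product of the stalks. -/
noncomputable def stalkTensorIso (A B : EtModW.Mod Λ X) :
    (EtModW.stalk Λ ξ).obj A ⊗ (EtModW.stalk Λ ξ).obj B ≅
      (EtModW.stalk Λ ξ).obj (((EtModD.tensorBi Λ X).obj A).obj B) :=
  Functor.Monoidal.μIso (Scheme.pointSmallEtale ξ).presheafFiber A.obj B.obj ≪≫
    ((stalkShfIso ξ).app (A.obj ⊗ B.obj)).symm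

theorem stalkTensorIso_natural_left {A A' : EtModW.Mod Λ X} (f : A ⟶ A') (B : EtModW.Mod Λ X) :
    ((curriedTensor (ModuleCat.{u + 1} Λ)).map ((EtModW.stalk Λ ξ).map f)).app ((EtModW.stalk Λ ξ).obj B) ≫
        (stalkTensorIso ξ A' B).hom =
      (stalkTensorIso ξ A B).hom ≫ (EtModW.stalk Λ ξ).map (((EtModD.tensorBi Λ X).map f).app B) := by
  have h1 := Functor.LaxMonoidal.μ_natural_left (Scheme.pointSmallEtale ξ).presheafFiber f.hom B.obj
  have h2 := (stalkShfIso (Λ := Λ) ξ).inv.naturality (f.hom ▷ B.obj)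
  refine (Category.assoc _ _ _).symm.trans ((congrArg (· ≫ (stalkShfIso (Λ := Λ) ξ).inv.app _) h1).trans ?_)
  exact (Category.assoc _ _ _).trans ((congrArg (_ ≫ ·) h2).trans (Category.assoc _ _ _).symm)

theorem stalkTensorIso_natural_right (A : EtModW.Mod Λ X) {B B' : EtModW.Mod Λ X} (g : B ⟶ B') :
    ((curriedTensor (ModuleCat.{u + 1} Λ)).obj ((EtModW.stalk Λ ξ).obj A)).map ((EtModW.stalk Λ ξ).map g) ≫
        (stalkTensorIso ξ A B').hom =
      (stalkTensorIso ξ A B).hom ≫ (EtModW.stalk Λ ξ).map (((EtModD.tensorBi Λ X).obj A).map g) := by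
  have h1 := Functor.LaxMonoidal.μ_natural_right (Scheme.pointSmallEtale ξ).presheafFiber A.obj g.hom
  have h2 := (stalkShfIso (Λ := Λ) ξ).inv.naturality (A.obj ◁ g.hom)
  refine (Category.assoc _ _ _).symm.trans ((congrArg (· ≫ (stalkShfIso (Λ := Λ) ξ).inv.app _) h1).trans ?_)
  exact (Category.assoc _ _ _).trans ((congrArg (_ ≫ ·) h2).trans (Category.assoc _ _ _).symm)

theorem sect_eq_zero_of_germs (F : EtModW.Mod Λ X) {W : X.Etale} (s : EtModW.sect Λ F W)
    (h : ∀ x : W.left, ∃ (K : Type u) (_ : Field K) (_ : IsSepClosed K) (η : Spec (CommRingCat.of K) ⟶ X)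
      (t : Pt η W), Unr55.EtSh.hom η t default = x ∧ germ η F t s = 0) : s = 0 := by
  let S : Sieve W :=
    { arrows := fun V g => F.obj.map g.op s = 0
      downward_closed := fun {V V'} g hg k => by
        rw [LocConst45.Mod.map_comp', hg, map_zero] }
  have hS : S ∈ X.smallEtaleTopology W := Unr55.EtSh.mem_topology fun x => by
    obtain ⟨K, _, _, η, t, ht, h0⟩ := h x
    obtain ⟨V, g, t', ht', hV⟩ := (LocConst45.Mod.germ_eq_zero_iff η F t s).1 h0
    refine ⟨V, g, Unr55.EtSh.hom η t' default, hV, ?_⟩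
    rw [← ht, ← ht']
    rfl
  exact ((isSheaf_iff_isSheaf_of_type _ _).1
    (Presheaf.isSheaf_comp_of_isSheaf X.smallEtaleTopology F.obj (forget _) F.property) S hS).isSeparatedFor.ext
      fun V g hg => Eq.trans hg (map_zero (F.obj.map g.op).hom).symm

/-- A map invertible on all stalks is invertible. -/
theorem isIso_of_stalks {A B : EtModW.Mod Λ X} (f : A ⟶ B)
    (h : ∀ (Ω : Type u) [Field Ω] [IsSepClosed Ω] (ξ : Spec (CommRingCat.of Ω) ⟶ X),
      IsIso ((EtModW.stalk Λ ξ).map f)) : IsIso f := by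
  have hm : Mono f := by
    rw [Preadditive.mono_iff_cancel_zero]
    intro Z z hz
    refine ObjectProperty.hom_ext _ (NatTrans.ext (funext fun ⟨W⟩ => ConcreteCategory.hom_ext _ _ fun s => ?_))
    refine (?_ : z.hom.app (op W) s = 0).trans (?_ : (0 : EtModW.sect Λ A W) = _)
    · refine sect_eq_zero_of_germs A _ fun x => ?_
      obtain ⟨K, _, _, η, t, ht⟩ := Unr55.EtSh.point_over W x
      refine ⟨K, inferInstance, inferInstance, η, t, ht, ?_⟩
      have := h K η
      have hbij := ConcreteCategory.bijective_of_isIso ((EtModW.stalk Λ η).map f)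
      refine hbij.1 ((stalk_map_germ η f t _).trans ?_)
      have h0 : f.hom.app (op W) (z.hom.app (op W) s) = 0 :=
        congrArg (fun k : Z ⟶ B => k.hom.app (op W) s) hz
      rw [h0, map_zero, map_zero]
    · rfl
  have he : Epi f := by
    refine (Sheaf.isLocallySurjective_iff_epi' (ModuleCat.{u + 1} Λ) f).1 ⟨fun {W} s => ?_⟩
    refine Unr55.EtSh.mem_topology fun x => ?_
    obtain ⟨K, _, _, η, t, ht⟩ := Unr55.EtSh.point_over W x
    have := h K η
    obtain ⟨a, ha⟩ := (ConcreteCategory.bijective_of_isIso ((EtModW.stalk Λ η).map f)).2 (germ η B t s)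
    obtain ⟨W', t', σ, rfl⟩ := exists_germ_eq η A a
    obtain ⟨C, c, d, z, hz, he⟩ := exists_agree η B t t' s (f.hom.app (op W') σ)
      (ha.symm.trans (stalk_map_germ η f t' σ))
    refine ⟨C, c, Unr55.EtSh.hom η z default, ⟨A.obj.map d.op σ, ?_⟩, ?_⟩
    · exact (NatTrans.naturality_apply f.hom d.op σ).trans he.symm
    · rw [← ht, ← hz]
      rfl
  exact isIso_of_mono_of_epi f

/-- The germs of the universal section form a basis of the stalk. -/
theorem CoRep.exists_basis {A : EtModW.Mod Λ X} {W : X.Etale} {e : EtModW.sect Λ A W} (h : CoRep A W e) :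
    ∃ b : Module.Basis (Pt ξ W) Λ ((EtModW.stalk Λ ξ).obj A : ModuleCat.{u + 1} Λ),
      ∀ t, b t = germ ξ A t e := by
  classical
  let Φ := Scheme.pointSmallEtale ξ
  let S := ((EtModW.stalk Λ ξ).obj A : ModuleCat.{u + 1} Λ)
  have key : ∀ (M : ModuleCat.{u + 1} Λ) (k : (EtModW.stalk Λ ξ).obj A ⟶ M) (t : Pt ξ W),
      Pi.π (fun _ : Pt ξ W => M) t (((Φ.skyscraperSheafAdjunction.homEquiv A M) k).hom.app (op W) e) =
        k (germ ξ A t e) := by
    intro M k t
    have h1 := Φ.skyscraperSheafAdjunction_homEquiv_apply_hom (F := A) (M := M) k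
    have h2 : ((Φ.skyscraperSheafAdjunction.homEquiv A M) k).hom.app (op W) ≫ Pi.π (fun _ : Pt ξ W => M) t =
        Φ.toPresheafFiber W t A.obj ≫ k :=
      (congrArg (fun (N : _ ⟶ Φ.skyscraperPresheaf M) => N.app (op W) ≫ Pi.π (fun _ : Pt ξ W => M) t) h1).trans
        (Φ.skyscraperPresheafHomEquiv_app_π k _ t)
    exact ConcreteCategory.congr_hom h2 e
  have hinj : ∀ (M : ModuleCat.{u + 1} Λ) (k k' : (EtModW.stalk Λ ξ).obj A ⟶ M),
      (∀ t, k (germ ξ A t e) = k' (germ ξ A t e)) → k = k' := by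
    intro M k k' hk
    apply (Φ.skyscraperSheafAdjunction.homEquiv A M).injective
    refine (h _).1 (Concrete.limit_ext (Discrete.functor fun _ : Pt ξ W => M) _ _ fun ⟨t⟩ => ?_)
    exact (key M k t).trans ((hk t).trans (key M k' t).symm)
  have hsurj : ∀ (M : ModuleCat.{u + 1} Λ) (g : Pt ξ W → M),
      ∃ k : (EtModW.stalk Λ ξ).obj A ⟶ M, ∀ t, k (germ ξ A t e) = g t := by
    intro M g
    let L : ModuleCat.of Λ Λ ⟶ ∏ᶜ fun _ : Pt ξ W => M :=
      Pi.lift fun t => ModuleCat.ofHom (LinearMap.toSpanSingleton Λ M (g t))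
    obtain ⟨ψ, hψ⟩ := (h (Φ.skyscraperSheaf M)).2 (L (1 : Λ))
    obtain ⟨k, rfl⟩ := (Φ.skyscraperSheafAdjunction.homEquiv A M).surjective ψ
    refine ⟨k, fun t => (key M k t).symm.trans ?_⟩
    refine (congrArg (Pi.π (fun _ : Pt ξ W => M) t) hψ).trans ?_
    have h3 : L ≫ Pi.π (fun _ : Pt ξ W => M) t = ModuleCat.ofHom (LinearMap.toSpanSingleton Λ M (g t)) :=
      Pi.lift_π _ t
    exact (ConcreteCategory.congr_hom h3 (1 : Λ)).trans (one_smul Λ (g t))
  obtain ⟨r, hr⟩ := hsurj (ModuleCat.of Λ (Pt ξ W →₀ Λ)) fun t => Finsupp.single t 1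
  let l : (Pt ξ W →₀ Λ) →ₗ[Λ] S := Finsupp.linearCombination Λ fun t => germ ξ A t e
  have hrl : r.hom.comp l = LinearMap.id := by
    refine Finsupp.lhom_ext' fun t => LinearMap.ext_ring ?_
    show r (l (Finsupp.single t 1)) = Finsupp.single t 1
    rw [Finsupp.linearCombination_single, one_smul, hr]
  have hlr : r ≫ ModuleCat.ofHom l = 𝟙 _ := hinj _ _ _ fun t => by
    show l (r (germ ξ A t e)) = germ ξ A t e
    rw [hr, Finsupp.linearCombination_single, one_smul]
  let eqv : S ≃ₗ[Λ] (Pt ξ W →₀ Λ) := LinearEquiv.ofLinearMap r.hom l hrl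
    (congrArg ModuleCat.Hom.hom hlr)
  refine ⟨Module.Basis.ofRepr eqv, fun t => ?_⟩
  show eqv.symm (Finsupp.single t 1) = _
  exact (Finsupp.linearCombination_single Λ _ _).trans (one_smul _ _)

theorem CoRep.flat_stalk {A : EtModW.Mod Λ X} {W : X.Etale} {e : EtModW.sect Λ A W} (h : CoRep A W e) :
    Module.Flat Λ ((EtModW.stalk Λ ξ).obj A : ModuleCat.{u + 1} Λ) := by
  obtain ⟨b, -⟩ := h.exists_basis ξ
  have := Module.Free.of_basis b
  infer_instance

theorem flat_stalk_gen {U : Scheme.{u}} (j : U ⟶ X) [Etale j] [EtShriek.JCont j] :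
    Module.Flat Λ ((EtModW.stalk Λ ξ).obj (gen Λ j) : ModuleCat.{u + 1} Λ) := by
  obtain ⟨e, he⟩ := exists_coRep_gen (Λ := Λ) j
  exact he.flat_stalk ξ

theorem germ_pure (A B : EtModW.Mod Λ X) {W : X.Etale} (t : Pt ξ W) (a : EtModW.sect Λ A W)
    (b : EtModW.sect Λ B W) :
    germ ξ (((EtModD.tensorBi Λ X).obj A).obj B) t
        ((toSheafify X.smallEtaleTopology (A.obj ⊗ B.obj)).app (op W) (a ⊗ₜ[Λ] b)) =
      (stalkTensorIso ξ A B).hom (germ ξ A t a ⊗ₜ[Λ] germ ξ B t b) := by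
  let Φ := Scheme.pointSmallEtale ξ
  have h1 := ConcreteCategory.congr_hom (Φ.tensorHom_comp_toPresheafFiber_μ W t A.obj B.obj) (a ⊗ₜ[Λ] b)
  have h2 := ConcreteCategory.congr_hom
    (Φ.toPresheafFiber_naturality (toSheafify X.smallEtaleTopology (A.obj ⊗ B.obj)) W t) (a ⊗ₜ[Λ] b)
  refine h2.symm.trans ?_
  exact (congrArg ((stalkShfIso (Λ := Λ) ξ).inv.app (A.obj ⊗ B.obj)) h1).symm

/-- The tensor product of two sheaves corepresenting sections corepresents sections over the product. -/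
theorem nonempty_iso_tensor_coRep {A B P : EtModW.Mod Λ X} {W W' Q : X.Etale} {a : EtModW.sect Λ A W}
    {b : EtModW.sect Λ B W'} {c : EtModW.sect Λ P Q} (hA : CoRep A W a) (hB : CoRep B W' b) (hP : CoRep P Q c)
    (p : Q ⟶ W) (p' : Q ⟶ W')
    (hp : ∀ (Ω : Type u) [Field Ω] [IsSepClosed Ω] (η : Spec (CommRingCat.of Ω) ⟶ X),
      Function.Bijective fun t : Pt η Q =>
        ((Scheme.pointSmallEtale η).fiber.map p t, (Scheme.pointSmallEtale η).fiber.map p' t)) :
    Nonempty (P ≅ ((EtModD.tensorBi Λ X).obj A).obj B) := by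
  obtain ⟨θ, hθ⟩ := (hP (((EtModD.tensorBi Λ X).obj A).obj B)).2
    ((toSheafify X.smallEtaleTopology (A.obj ⊗ B.obj)).app (op Q) (A.obj.map p.op a ⊗ₜ[Λ] B.obj.map p'.op b))
  have : IsIso θ := isIso_of_stalks θ fun K _ _ η => by
    obtain ⟨bA, hbA⟩ := hA.exists_basis η
    obtain ⟨bB, hbB⟩ := hB.exists_basis η
    obtain ⟨bP, hbP⟩ := hP.exists_basis η
    let E : _ ≃ₗ[Λ] _ := bP.equiv ((bA.tensorProduct bB).map (stalkTensorIso η A B).toLinearEquiv)
      (Equiv.ofBijective _ (hp K η))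
    have hE : ((EtModW.stalk Λ η).map θ).hom = E.toLinearMap := bP.ext fun t => by
      rw [LinearEquiv.coe_coe, Module.Basis.equiv_apply, hbP]
      refine (stalk_map_germ η θ t c).trans ((congrArg (germ η _ t) hθ).trans ((germ_pure η A B t _ _).trans ?_))
      rw [germ_map, germ_map]
      simp [Module.Basis.tensorProduct_apply, hbA, hbB]
      rfl
    refine (ConcreteCategory.isIso_iff_bijective _).2 ?_
    show Function.Bijective ((EtModW.stalk Λ η).map θ).hom
    rw [hE]
    exact E.bijective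
  exact ⟨asIso θ⟩

/-- `j_! Λ ⊗ k_! Λ` is `j_! Λ` of the fibre product. -/
theorem nonempty_gen_tensor {U U' : Scheme.{u}} (j : U ⟶ X) [Etale j] [EtShriek.JCont j] (k : U' ⟶ X)
    [Etale k] [EtShriek.JCont k] [Etale (pullback.fst j k ≫ j)] :
    Nonempty (gen Λ (pullback.fst j k ≫ j) ≅ ((EtModD.tensorBi Λ X).obj (gen Λ j)).obj (gen Λ k)) := by
  obtain ⟨a, ha⟩ := exists_coRep_gen (Λ := Λ) j
  obtain ⟨b, hb⟩ := exists_coRep_gen (Λ := Λ) k
  obtain ⟨c, hc⟩ := exists_coRep_gen (Λ := Λ) (pullback.fst j k ≫ j)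
  refine nonempty_iso_tensor_coRep ha hb hc
    (MorphismProperty.Over.homMk (pullback.fst j k) rfl trivial)
    (MorphismProperty.Over.homMk (pullback.snd j k) pullback.condition.symm trivial) fun K _ _ η => ?_
  refine ⟨fun s t hst => ?_, fun ⟨s, t⟩ => ?_⟩
  · refine Over.OverMorphism.ext (pullback.hom_ext ?_ ?_)
    · exact congrArg (fun z => Unr55.EtSh.hom η z.1) hst
    · exact congrArg (fun z => Unr55.EtSh.hom η z.2) hst
  · refine ⟨Unr55.EtSh.mkPt _ (pullback.lift (Unr55.EtSh.hom η s) (Unr55.EtSh.hom η t)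
      ((Over.w s).trans (Over.w t).symm)) ?_, ?_⟩
    · exact (Category.assoc _ _ _).symm.trans ((congrArg (· ≫ j) (pullback.lift_fst _ _ _)).trans (Over.w s))
    · exact Prod.ext (Over.OverMorphism.ext (pullback.lift_fst _ _ _))
        (Over.OverMorphism.ext (pullback.lift_snd _ _ _))

end Groth.Agent.Mod48.EtCons
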