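import Groth.Agent.Mod48.EtConsKFlat
import Groth.Agent.DerComp18.LTensor
import Groth.Agent.LocConst45.ModPull
import Groth.Agent.Six47.PullExact
import Mathlib.Algebra.Homology.DerivedCategory.Fractions

/-!
The derived tensor product of sheaves of modules on small etale sites; restriction to etale objects.
-/

set_option autoImplicit false
set_option backward.isDefEq.respectTransparency.types false
universe u

open CategoryTheory CategoryTheory.Limits AlgebraicGeometry Opposite MonoidalCategory HomologicalComplex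

attribute [local instance] HasDerivedCategory.standard

namespace Groth.Agent.Mod48.EtCons

variable {Λ : Type (u + 1)} [CommRing Λ] {X U : Scheme.{u}}

/-- The tensor product of two complexes. -/
noncomputable abbrev tcx (P E : CochainComplex (EtModW.Mod Λ X) ℤ) : CochainComplex (EtModW.Mod Λ X) ℤ :=
  ((EtModD.tensorCx Λ X).obj P).obj E

/-- `- ⊗ E` on the homotopy category. -/
noncomputable def tensorKh (E : CochainComplex (EtModW.Mod Λ X) ℤ) :
    HomotopyCategory (EtModW.Mod Λ X) (ComplexShape.up ℤ) ⥤ EtModD.D Λ X :=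
  CategoryTheory.Quotient.lift _ (EtModD.tensorCxQ E) fun _ _ _ _ ⟨h⟩ =>
    DerivedCategory.Q_map_eq_of_homotopy (EtModW.Mod Λ X)
      (HomologicalComplex.mapBifunctorMapHomotopy₁ h (𝟙 E) (EtModD.tensorBi Λ X) _)

/-- Stalkwise K-flat complexes, in the homotopy category. -/
def SKF (Λ : Type (u + 1)) [CommRing Λ] (X : Scheme.{u}) :
    ObjectProperty (HomotopyCategory (EtModW.Mod Λ X) (ComplexShape.up ℤ)) :=
  fun K => StalkKFlat K.as

theorem hasRes_SKF :
    DCK91.HasRes (HomotopyCategory.quasiIso (EtModW.Mod Λ X) (ComplexShape.up ℤ)) (SKF Λ X) := by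
  rintro ⟨K⟩
  obtain ⟨P, q, hP, hq⟩ := exists_stalkKFlat_resolution K
  exact ⟨⟨P⟩, (HomotopyCategory.quotient _ _).map q, hP,
    (HomotopyCategory.quotient_map_mem_quasiIso_iff q).2 hq⟩

theorem inverts_SKF (E : CochainComplex (EtModW.Mod Λ X) ℤ) :
    (DCK91.W₀ (HomotopyCategory.quasiIso (EtModW.Mod Λ X) (ComplexShape.up ℤ)) (SKF Λ X)).IsInvertedBy
      ((SKF Λ X).ι ⋙ tensorKh E) := by
  rintro ⟨⟨K⟩, hK⟩ ⟨⟨L⟩, hL⟩ f hf
  obtain ⟨φ, hφ⟩ := (HomotopyCategory.quotient (EtModW.Mod Λ X) (ComplexShape.up ℤ)).map_surjective f.hom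
  have : QuasiIso φ := by
    refine (HomotopyCategory.quotient_map_mem_quasiIso_iff φ).1 ?_
    rw [hφ]
    exact hf
  change IsIso ((tensorKh E).map f.hom)
  rw [← hφ]
  change IsIso (DerivedCategory.Q.map (((EtModD.tensorCx Λ X).flip.obj E).map φ))
  have := quasiIso_tensorCx_left hK hL φ E
  exact (DerivedCategory.isIso_Q_map_iff_quasiIso (φ := ((EtModD.tensorCx Λ X).flip.obj E).map φ)).2 this

/-- `P ⊗^L E = P ⊗ E` for stalkwise K-flat `P`. -/
theorem nonempty_LTensor_iso (E : CochainComplex (EtModW.Mod Λ X) ℤ) [EtModD.HasLTensorCx E]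
    {P : CochainComplex (EtModW.Mod Λ X) ℤ} (hP : StalkKFlat P) :
    Nonempty ((EtModD.LTensorCx E).obj (DerivedCategory.Q.obj P) ≅ DerivedCategory.Q.obj (tcx P E)) := by
  obtain ⟨G, α, hG, hi⟩ := DCK91.exists_leftDerived (DerivedCategory.Qh) hasRes_SKF (inverts_SKF E)
  let W := HomologicalComplex.quasiIso (EtModW.Mod Λ X) (ComplexShape.up ℤ)
  let q := HomotopyCategory.quotient (EtModW.Mod Λ X) (ComplexShape.up ℤ)
  let eF : q ⋙ tensorKh E ≅ EtModD.tensorCxQ E := CategoryTheory.Quotient.lift.isLift _ _ _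
  let eL : q ⋙ DerivedCategory.Qh ≅ DerivedCategory.Q := DerivedCategory.quotientCompQhIso (EtModW.Mod Λ X)
  let a : DerivedCategory.Q ⋙ G ⟶ EtModD.tensorCxQ E :=
    Functor.whiskerRight eL.inv G ≫ (Functor.associator _ _ _).hom ≫ Functor.whiskerLeft q α ≫ eF.hom
  have ha : G.IsRightKanExtension a :=
    DerComp18.isRightKanExtension_of_quotient eL eF G α hG.isRightKanExtension a fun Y => by simp [a, q]
  have : G.IsLeftDerivedFunctor a W := ⟨ha⟩
  let RF := EtModD.LTensorCx E
  let c := (EtModD.tensorCxQ E).totalLeftDerivedCounit DerivedCategory.Q W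
  have : RF.IsLeftDerivedFunctor c W := inferInstance
  have hiX : IsIso (a.app P) := by
    have := hi (q.obj P) hP
    simp only [a, NatTrans.comp_app, Functor.whiskerRight_app, Functor.associator_hom_app, Functor.whiskerLeft_app]
    infer_instance
  have : IsIso (G.leftDerivedLift a W RF c) :=
    (Functor.isLeftDerivedFunctor_iff_isIso_leftDerivedLift G a _ RF c).1 inferInstance
  exact ⟨(asIso (G.leftDerivedLift a W RF c)).app _ ≪≫ @asIso _ _ _ _ _ hiX⟩

/-- Tensoring stalkwise K-flat complexes respects isomorphisms in the derived category. -/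
theorem nonempty_tensor_iso {P P' E : CochainComplex (EtModW.Mod Λ X) ℤ} (hP : StalkKFlat P)
    (hP' : StalkKFlat P') (e : DerivedCategory.Q.obj P ≅ DerivedCategory.Q.obj P') :
    Nonempty (DerivedCategory.Q.obj (tcx P E) ≅ DerivedCategory.Q.obj (tcx P' E)) := by
  obtain ⟨R, s, hs, g, hg⟩ := DerivedCategory.right_fac e.hom
  obtain ⟨R', r, hR', hr⟩ := exists_stalkKFlat_resolution R
  have hs' : QuasiIso s := (DerivedCategory.isIso_Q_map_iff_quasiIso (φ := s)).1 hs
  have hg' : QuasiIso g := (DerivedCategory.isIso_Q_map_iff_quasiIso (φ := g)).1 (by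
    have : DerivedCategory.Q.map g = DerivedCategory.Q.map s ≫ e.hom := by rw [hg, IsIso.hom_inv_id_assoc]
    rw [this]
    infer_instance)
  have h1 := quasiIso_tensorCx_left hR' hP (r ≫ s) E
  have h2 := quasiIso_tensorCx_left hR' hP' (r ≫ g) E
  let F := (EtModD.tensorCx Λ X).flip.obj E
  have i1 : IsIso (DerivedCategory.Q.map (F.map (r ≫ s))) :=
    (DerivedCategory.isIso_Q_map_iff_quasiIso (φ := F.map (r ≫ s))).2 h1
  have i2 : IsIso (DerivedCategory.Q.map (F.map (r ≫ g))) :=
    (DerivedCategory.isIso_Q_map_iff_quasiIso (φ := F.map (r ≫ g))).2 h2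
  exact ⟨(@asIso _ _ _ _ _ i1).symm ≪≫ @asIso _ _ _ _ _ i2⟩

variable (j : U ⟶ X) [Etale j] [EtShriek.JCont j]

instance isCocontinuous_compEtale :
    (EtShriek.compEtale j).IsCocontinuous U.smallEtaleTopology X.smallEtaleTopology where
  cover_lift {W S} hS := by
    refine Unr55.EtSh.mem_topology fun x => ?_
    obtain ⟨K, _, _, η, t, ht⟩ := Unr55.EtSh.point_over ((EtShriek.compEtale j).obj W) x
    obtain ⟨V, g, hg, t', ht'⟩ := (Scheme.pointSmallEtale η).jointly_surjective S hS t
    have hv : g.left (Unr55.EtSh.hom η t' default) = x := by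
      rw [← ht, ← ht']
      rfl
    let l : V.left ⟶ W.left := g.left
    have : Etale l := EtCore45.etale_left g
    have : Etale W.hom := W.prop
    let c : Scheme.Etale.mk (l ≫ W.hom) ⟶ W := MorphismProperty.Over.homMk l rfl trivial
    let i : (EtShriek.compEtale j).obj (Scheme.Etale.mk (l ≫ W.hom)) ≅ V :=
      MorphismProperty.Over.isoMk (Iso.refl _) (by
        change 𝟙 V.left ≫ V.hom = (l ≫ W.hom) ≫ j
        rw [Category.id_comp, Category.assoc]
        exact (Over.w g.hom).symm)
    have hi : i.hom ≫ g = (EtShriek.compEtale j).map c := MorphismProperty.Over.Hom.ext (Category.id_comp l)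
    refine ⟨_, c, Unr55.EtSh.hom η t' default, ?_, hv⟩
    change S ((EtShriek.compEtale j).map c)
    rw [← hi]
    exact S.downward_closed hg _

/-- Restriction commutes with tensor products. -/
noncomputable def restrTensorIso (A B : EtModW.Mod Λ X) :
    ((EtModD.tensorBi Λ U).obj ((EtSix.restrMod Λ j).obj A)).obj ((EtSix.restrMod Λ j).obj B) ≅
      (EtSix.restrMod Λ j).obj (((EtModD.tensorBi Λ X).obj A).obj B) :=
  ((EtShriek.compEtale j).pushforwardContinuousSheafificationCompatibility (ModuleCat.{u + 1} Λ)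
    U.smallEtaleTopology X.smallEtaleTopology).app (A.obj ⊗ B.obj)

theorem restrTensorIso_natural_left {A A' : EtModW.Mod Λ X} (f : A ⟶ A') (B : EtModW.Mod Λ X) :
    ((EtModD.tensorBi Λ U).map ((EtSix.restrMod Λ j).map f)).app ((EtSix.restrMod Λ j).obj B) ≫
        (restrTensorIso j A' B).hom =
      (restrTensorIso j A B).hom ≫ (EtSix.restrMod Λ j).map (((EtModD.tensorBi Λ X).map f).app B) :=
  ((EtShriek.compEtale j).pushforwardContinuousSheafificationCompatibility (ModuleCat.{u + 1} Λ)
    U.smallEtaleTopology X.smallEtaleTopology).hom.naturality (f.hom ▷ B.obj)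

theorem restrTensorIso_natural_right (A : EtModW.Mod Λ X) {B B' : EtModW.Mod Λ X} (g : B ⟶ B') :
    ((EtModD.tensorBi Λ U).obj ((EtSix.restrMod Λ j).obj A)).map ((EtSix.restrMod Λ j).map g) ≫
        (restrTensorIso j A B').hom =
      (restrTensorIso j A B).hom ≫ (EtSix.restrMod Λ j).map (((EtModD.tensorBi Λ X).obj A).map g) :=
  ((EtShriek.compEtale j).pushforwardContinuousSheafificationCompatibility (ModuleCat.{u + 1} Λ)
    U.smallEtaleTopology X.smallEtaleTopology).hom.naturality (A.obj ◁ g.hom)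

/-- Restriction of complexes. -/
noncomputable abbrev restrCx :
    CochainComplex (EtModW.Mod Λ X) ℤ ⥤ CochainComplex (EtModW.Mod Λ U) ℤ :=
  (EtSix.restrMod Λ j).mapHomologicalComplex (ComplexShape.up ℤ)

instance preservesColimits_restrMod : PreservesColimitsOfSize.{0, 0} (EtSix.restrMod Λ j) :=
  (restrPushModAdj Λ j).leftAdjoint_preservesColimits

instance preservesFiniteLimits_restrMod : PreservesFiniteLimits (EtSix.restrMod Λ j) :=
  have : PreservesLimitsOfSize.{0, 0} (EtSix.restrMod Λ j) := (EtSix.extZeroModAdj Λ j).rightAdjoint_preservesLimits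
  PreservesLimitsOfSize.preservesFiniteLimits _

instance preservesFiniteColimits_restrMod : PreservesFiniteColimits (EtSix.restrMod Λ j) :=
  PreservesColimitsOfSize.preservesFiniteColimits _

/-- Restriction commutes with tensor products of complexes. -/
theorem nonempty_restrCx_tensor (P E : CochainComplex (EtModW.Mod Λ X) ℤ) :
    Nonempty (tcx ((restrCx j).obj P) ((restrCx j).obj E) ≅ (restrCx j).obj (tcx P E)) :=
  nonempty_mapTotIso (EtModD.tensorBi Λ X) (EtModD.tensorBi Λ U) (EtSix.restrMod Λ j) (EtSix.restrMod Λ j)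
    (EtSix.restrMod Λ j) (restrTensorIso j) (fun f B => restrTensorIso_natural_left j f B)
    (fun A _ _ g => restrTensorIso_natural_right j A g) P E

/-- The stalk of a restriction. -/
theorem exists_stalkRestrIso {Ω : Type u} [Field Ω] [IsSepClosed Ω] (ξ : Spec (CommRingCat.of Ω) ⟶ U) :
    Nonempty (EtSix.restrMod Λ j ⋙ EtModW.stalk Λ ξ ≅ EtModW.stalk Λ (ξ ≫ j)) := by
  let θ : EtModW.stalk Λ (ξ ≫ j) ⟶ EtModW.pull Λ j ⋙ EtModW.stalk Λ ξ :=
    { app := LocConst45.Mod.theta j ξ
      naturality := fun F G φ => ConcreteCategory.hom_ext _ _ fun a => by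
        obtain ⟨V, s, σ, rfl⟩ := LocConst45.Mod.exists_germ_eq (ξ ≫ j) F a
        change LocConst45.Mod.theta j ξ G ((EtModW.stalk Λ (ξ ≫ j)).map φ (LocConst45.Mod.germ (ξ ≫ j) F s σ)) =
          (EtModW.stalk Λ ξ).map ((EtModW.pull Λ j).map φ)
            (LocConst45.Mod.theta j ξ F (LocConst45.Mod.germ (ξ ≫ j) F s σ))
        rw [LocConst45.Mod.stalk_map_germ, LocConst45.Mod.theta_germ, LocConst45.Mod.theta_germ,
          LocConst45.Mod.stalk_map_germ]
        exact congrArg (LocConst45.Mod.germ ξ _ _)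
          (congrArg (fun k => k.hom.app (op V) σ) ((LocConst45.Mod.modAdj Λ j).unit.naturality φ)) }
  have : ∀ F, IsIso (θ.app F) := fun F =>
    (ConcreteCategory.isIso_iff_bijective _).2 (LocConst45.Mod.theta_bijective j ξ F)
  have := NatIso.isIso_of_isIso_app θ
  exact ⟨Functor.isoWhiskerRight (pullRestrModIso Λ j).symm _ ≪≫ (asIso θ).symm⟩

theorem StalkKFlat.restr {P : CochainComplex (EtModW.Mod Λ X) ℤ} (h : StalkKFlat P) :
    StalkKFlat ((restrCx j).obj P) := fun Ω _ _ ξ => by
  obtain ⟨e⟩ := exists_stalkRestrIso (Λ := Λ) j ξ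
  exact isKFlat_of_iso ((HomologicalComplex.Hom.isoOfComponents (fun i => (e.app (P.X i)).symm)
    fun i k _ => (e.inv.naturality (P.d i k)).symm) :
      (stalkCx (ξ ≫ j)).obj P ≅ (stalkCx ξ).obj ((restrCx j).obj P)) (h Ω (ξ ≫ j))

end Groth.Agent.Mod48.EtCons
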