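import Groth.Agent.Mod48.EtConsTensor
import Groth.Agent.Mod48.EtConsRelRes
import Groth.Agent.Mod48.EtConsShriek
import Mathlib.Algebra.Homology.DerivedCategory.TStructure

/-!
The derived tensor product of bounded above complexes with constructible cohomology.
-/

set_option autoImplicit false
set_option backward.isDefEq.respectTransparency.types false
universe u

open CategoryTheory CategoryTheory.Limits AlgebraicGeometry Opposite MonoidalCategory HomologicalComplex

attribute [local instance] HasDerivedCategory.standard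
attribute [local instance] Abelian.hasFiniteBiproducts

namespace Groth.Agent.Mod48.EtCons

open Groth.Agent.ModCons93 (isConstructible_of_iso isConstructible_pull)

variable {Λ : Type (u + 1)} [CommRing Λ] {X U : Scheme.{u}}

instance additive_tensorBi_flip_obj (B : EtModW.Mod Λ X) : ((EtModD.tensorBi Λ X).flip.obj B).Additive where
  map_add {A A' f g} := congr_app ((EtModD.tensorBi Λ X).map_add (f := f) (g := g)) B

/-- Finite sums of `j_! Λ` with affine sources. -/
def GenSum (F : EtModW.Mod Λ X) : Prop :=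
  ∃ (m : ℕ) (V : Fin m → Scheme.{u}) (j : ∀ k, V k ⟶ X) (_ : ∀ k, Etale (j k)) (_ : ∀ k, IsAffine (V k)),
    Nonempty (F ≅ ⨁ fun k => gen Λ (j k))

theorem GenSum.flat_stalk {F : EtModW.Mod Λ X} (h : GenSum F) {Ω : Type u} [Field Ω] [IsSepClosed Ω]
    (ξ : Spec (CommRingCat.of Ω) ⟶ X) :
    Module.Flat Λ ((EtModW.stalk Λ ξ).obj F : ModuleCat.{u + 1} Λ) := by
  classical
  obtain ⟨m, V, j, hj, hV, ⟨e⟩⟩ := h
  let f : Fin m → ModuleCat.{u + 1} Λ := fun k => (EtModW.stalk Λ ξ).obj (gen Λ (j k))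
  have : ∀ k, Module.Flat Λ (f k : ModuleCat.{u + 1} Λ) := fun k => flat_stalk_gen ξ (j k)
  let i : (EtModW.stalk Λ ξ).obj F ≅ ModuleCat.of Λ (∀ k, f k) :=
    (EtModW.stalk Λ ξ).mapIso e ≪≫ (EtModW.stalk Λ ξ).mapBiproduct _ ≪≫ ModuleCat.biproductIsoPi f
  have : Module.Flat Λ (∀ k, f k) := Module.Flat.of_linearEquiv DFinsupp.linearEquivFunOnFintype.symm
  exact Module.Flat.of_linearEquiv i.toLinearEquiv

variable [IsNoetherianRing Λ]

theorem GenSum.isConstructible [CompactSpace X] [QuasiSeparatedSpace X] {F : EtModW.Mod Λ X} (h : GenSum F) :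
    EtModW.IsConstructible Λ F := by
  obtain ⟨m, V, j, hj, hV, ⟨e⟩⟩ := h
  exact isConstructible_of_iso e.symm (isConstructible_biproduct_fin _ fun k => isConstructible_gen (j k))

theorem GenSum.isConstructible_tensor [IsAffine X] {A B : EtModW.Mod Λ X} (hA : GenSum A) (hB : GenSum B) :
    EtModW.IsConstructible Λ (((EtModD.tensorBi Λ X).obj A).obj B) := by
  obtain ⟨m, V, j, hj, hV, ⟨eA⟩⟩ := hA
  obtain ⟨n, W, k, hk, hW, ⟨eB⟩⟩ := hB
  refine isConstructible_of_iso ((((EtModD.tensorBi Λ X).flip.obj B).mapBiproduct _).symm ≪≫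
    ((EtModD.tensorBi Λ X).flip.obj B).mapIso eA.symm) (isConstructible_biproduct_fin _ fun a => ?_)
  refine isConstructible_of_iso ((((EtModD.tensorBi Λ X).obj (gen Λ (j a))).mapBiproduct _).symm ≪≫
    ((EtModD.tensorBi Λ X).obj (gen Λ (j a))).mapIso eB.symm) (isConstructible_biproduct_fin _ fun b => ?_)
  obtain ⟨e⟩ := nonempty_gen_tensor (Λ := Λ) (j a) (k b)
  exact isConstructible_of_iso e (isConstructible_gen _)

/-- Bounded above complexes with constructible cohomology on qcqs schemes are resolved by finite sums of `j_! Λ`. -/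
theorem exists_genSum_resolution [CompactSpace X] [QuasiSeparatedSpace X]
    (K : CochainComplex (EtModW.Mod Λ X) ℤ) (hK : ∀ i, EtModW.IsConstructible Λ (K.homology i)) (n : ℤ)
    (h0 : ∀ i, n < i → IsZero (K.homology i)) :
    ∃ (C : CochainComplex (EtModW.Mod Λ X) ℤ) (α : C ⟶ K),
      C.IsStrictlyLE n ∧ (∀ i, GenSum (C.X i)) ∧ QuasiIso α :=
  RelRes.exists_left_resolution' (EtModW.IsConstructible Λ) GenSum
    (fun e h => isConstructible_of_iso e h)
    (fun f h₁ h₂ => (isConstructible_kernel_cokernel f h₁ h₂).1)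
    isConstructible_extension
    ⟨⨁ fun k : Fin 0 => (k.elim0 : EtModW.Mod Λ X), by
        rw [IsZero.iff_id_eq_zero]; exact biproduct.hom_ext' _ _ fun k => k.elim0,
      0, fun k => k.elim0, fun k => k.elim0, fun k => k.elim0, fun k => k.elim0,
        ⟨biproduct.mapIso fun k => k.elim0⟩⟩
    (fun _ h => h.isConstructible)
    (fun v _ hB => by
      obtain ⟨m, V, j, hj, hV, hp⟩ := exists_gen_epi v hB
      obtain ⟨p, hp⟩ := hp
      exact ⟨_, p, ⟨m, V, j, hj, hV, ⟨(biproduct.isoCoproduct _).symm⟩⟩, hp⟩)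
    K hK n h0

/-- A coproduct with almost all summands zero. -/
theorem isConstructible_tcx_X [IsAffine X] {P E : CochainComplex (EtModW.Mod Λ X) ℤ}
    (a b : ℤ) (hP0 : ∀ i, a < i → IsZero (P.X i)) (hE0 : ∀ i, b < i → IsZero (E.X i))
    (hP : ∀ i, GenSum (P.X i)) (hE : ∀ i, GenSum (E.X i)) (n : ℤ) :
    EtModW.IsConstructible Λ ((tcx P E).X n) := by
  classical
  let T := EtModD.tensorBi Λ X
  let s : ℕ := (a + b - n + 1).toNat
  let f : Fin s → EtModW.Mod Λ X := fun k => (T.obj (P.X (n - b + k))).obj (E.X (b - k))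
  let v : (⨁ f) ⟶ (mapBifunctor P E T (ComplexShape.up ℤ)).X n := biproduct.desc fun k =>
    ιMapBifunctor P E T (ComplexShape.up ℤ) (n - b + k) (b - k) n (by change _ + _ = n; omega)
  let w : (mapBifunctor P E T (ComplexShape.up ℤ)).X n ⟶ ⨁ f := mapBifunctorDesc fun p q (h : p + q = n) =>
    if hp : ∃ k : Fin s, n - b + k = p then
      eqToHom (show (T.obj (P.X p)).obj (E.X q) =
          (T.obj (P.X (n - b + (hp.choose : ℕ)))).obj (E.X (b - (hp.choose : ℕ))) by
        rw [hp.choose_spec, show b - ((hp.choose : ℕ) : ℤ) = q by have := hp.choose_spec; omega]) ≫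
        biproduct.ι f hp.choose
    else 0
  have hwv : w ≫ v = 𝟙 _ := by
    refine mapBifunctor.hom_ext (fun p q (h : p + q = n) => ?_)
    rw [ι_mapBifunctorDesc_assoc, Category.comp_id]
    split_ifs with hp
    · rw [Category.assoc, biproduct.ι_desc]
      obtain ⟨k, hk⟩ := hp
      have key : ∀ (k' : Fin s) (hk' : n - b + k' = p) (e : (T.obj (P.X p)).obj (E.X q) = f k'),
          eqToHom e ≫ ιMapBifunctor P E T (ComplexShape.up ℤ) (n - b + k') (b - k') n
              (by change _ + _ = n; omega) = ιMapBifunctor P E T (ComplexShape.up ℤ) p q n h := by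
        intro k' hk' e
        obtain rfl := hk'
        obtain rfl : q = b - k' := by omega
        simp
      exact key _ (⟨k, hk⟩ : ∃ k : Fin s, n - b + k = p).choose_spec _
    · have hz : IsZero ((T.obj (P.X p)).obj (E.X q)) := by
        by_cases hq : b < q
        · exact (T.obj (P.X p)).map_isZero (hE0 q hq)
        · have : a < p := by
            by_contra hc
            exact hp ⟨⟨(p - (n - b)).toNat, by omega⟩, by simp; omega⟩
          exact (T.map_isZero (hP0 p this)).obj _
      exact hz.eq_of_src _ _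
  have hvw : v ≫ w = 𝟙 _ := by
    refine biproduct.hom_ext' _ _ fun k => ?_
    rw [biproduct.ι_desc_assoc, ι_mapBifunctorDesc, Category.comp_id]
    have hp : ∃ k' : Fin s, n - b + k' = n - b + (k : ℕ) := ⟨k, rfl⟩
    rw [dif_pos hp]
    have key : ∀ (k' : Fin s), k' = k → ∀ e : f k = f k', eqToHom e ≫ biproduct.ι f k' = biproduct.ι f k := by
      rintro _ rfl e
      simp
    exact key _ (Fin.ext (by have := hp.choose_spec; omega)) _
  exact isConstructible_of_iso (⟨v, w, hvw, hwv⟩ : (⨁ f) ≅ (mapBifunctor P E T (ComplexShape.up ℤ)).X n)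
    (isConstructible_biproduct_fin f fun k => (hP _).isConstructible_tensor (hE _))

omit [IsNoetherianRing Λ] in
theorem isZero_tcx_X {P E : CochainComplex (EtModW.Mod Λ X) ℤ}
    (a b : ℤ) (hP0 : ∀ i, a < i → IsZero (P.X i)) (hE0 : ∀ i, b < i → IsZero (E.X i)) (n : ℤ) (hn : a + b < n) :
    IsZero ((tcx P E).X n) := by
  change IsZero ((mapBifunctor P E (EtModD.tensorBi Λ X) (ComplexShape.up ℤ)).X n)
  rw [IsZero.iff_id_eq_zero]
  refine mapBifunctor.hom_ext (fun p q (h : p + q = n) => ?_)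
  have hz : IsZero (((EtModD.tensorBi Λ X).obj (P.X p)).obj (E.X q)) := by
    by_cases hq : b < q
    · exact ((EtModD.tensorBi Λ X).obj (P.X p)).map_isZero (hE0 q hq)
    · exact ((EtModD.tensorBi Λ X).map_isZero (hP0 p (by omega))).obj _
  exact hz.eq_of_src _ _

/-- The affine case. -/
theorem tensor_homology_affine [IsAffine X] {P K E : CochainComplex (EtModW.Mod Λ X) ℤ}
    (hP : StalkKFlat P) (q : P ⟶ K) [QuasiIso q] (a b : ℤ) (hK0 : ∀ i, a < i → IsZero (K.homology i))
    (hE0 : ∀ i, b < i → IsZero (E.homology i)) (hK : ∀ i, EtModW.IsConstructible Λ (K.homology i))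
    (hE : ∀ i, EtModW.IsConstructible Λ (E.homology i)) :
    (∀ i, EtModW.IsConstructible Λ ((tcx P E).homology i)) ∧
      ∀ i, a + b < i → IsZero ((tcx P E).homology i) := by
  obtain ⟨C, α, hCb, hC, hα⟩ := exists_genSum_resolution K hK a hK0
  obtain ⟨D, β, hDb, hD, hβ⟩ := exists_genSum_resolution E hE b hE0
  have hC0 : ∀ i, a < i → IsZero (C.X i) := fun i hi => C.isZero_of_isStrictlyLE a i hi
  have hD0 : ∀ i, b < i → IsZero (D.X i) := fun i hi => D.isZero_of_isStrictlyLE b i hi
  have hC' : StalkKFlat C := stalkKFlat_of_flat a hC0 fun i Ω _ _ ξ => (hC i).flat_stalk ξ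
  have i1 : IsIso (DerivedCategory.Q.map q) := (DerivedCategory.isIso_Q_map_iff_quasiIso (φ := q)).2 inferInstance
  have i2 : IsIso (DerivedCategory.Q.map α) := (DerivedCategory.isIso_Q_map_iff_quasiIso (φ := α)).2 hα
  obtain ⟨e⟩ := nonempty_tensor_iso (E := E) hP hC'
    (asIso (DerivedCategory.Q.map q) ≪≫ (asIso (DerivedCategory.Q.map α)).symm)
  have h3 := quasiIso_tensorCx_right hC' β
  let g := ((EtModD.tensorCx Λ X).obj C).map β
  have i3 : IsIso (DerivedCategory.Q.map g) := (DerivedCategory.isIso_Q_map_iff_quasiIso (φ := g)).2 h3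
  let e' : ∀ i, (tcx P E).homology i ≅ (tcx C D).homology i := fun i =>
    ((DerivedCategory.homologyFunctorFactors (EtModW.Mod Λ X) i).app (tcx P E)).symm ≪≫
      (DerivedCategory.homologyFunctor (EtModW.Mod Λ X) i).mapIso
        (e ≪≫ (@asIso _ _ _ _ _ i3).symm) ≪≫
      (DerivedCategory.homologyFunctorFactors (EtModW.Mod Λ X) i).app (tcx C D)
  refine ⟨fun i => isConstructible_of_iso (e' i).symm (isConstructible_homology ((tcx C D).sc i)
    (isConstructible_tcx_X a b hC0 hD0 hC hD _) (isConstructible_tcx_X a b hC0 hD0 hC hD _)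
    (isConstructible_tcx_X a b hC0 hD0 hC hD _)), fun i hi => ?_⟩
  exact ((HomologicalComplex.exactAt_iff_isZero_homology _ _).1
    (ShortComplex.exact_of_isZero_X₂ ((tcx C D).sc i) (isZero_tcx_X a b hC0 hD0 i hi) : (tcx C D).ExactAt i)).of_iso (e' i)

/-- Bounded above complexes with constructible cohomology have such derived tensor products. -/
theorem tensor_homology {P K E : CochainComplex (EtModW.Mod Λ X) ℤ}
    (hP : StalkKFlat P) (q : P ⟶ K) [QuasiIso q] (a b : ℤ) (hK0 : ∀ i, a < i → IsZero (K.homology i))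
    (hE0 : ∀ i, b < i → IsZero (E.homology i)) (hK : ∀ i, EtModW.IsConstructible Λ (K.homology i))
    (hE : ∀ i, EtModW.IsConstructible Λ (E.homology i)) :
    (∀ i, EtModW.IsConstructible Λ ((tcx P E).homology i)) ∧
      ∀ i, a + b < i → IsZero ((tcx P E).homology i) := by
  have key : ∀ V : X.affineOpens, (∀ i, EtModW.IsConstructible Λ
      ((EtSix.restrMod Λ V.1.ι).obj ((tcx P E).homology i))) ∧
      ∀ i, a + b < i → IsZero ((EtSix.restrMod Λ V.1.ι).obj ((tcx P E).homology i)) := by
    intro V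
    have : IsAffine V.1.toScheme := V.2
    let j := V.1.ι
    let R := EtSix.restrMod Λ j
    have hcons : ∀ {F : EtModW.Mod Λ X}, EtModW.IsConstructible Λ F → EtModW.IsConstructible Λ (R.obj F) :=
      fun {F} hF => isConstructible_of_iso ((pullRestrModIso Λ j).app F) (isConstructible_pull j hF)
    let eH : ∀ (M : CochainComplex (EtModW.Mod Λ X) ℤ) (i : ℤ),
        ((restrCx j).obj M).homology i ≅ R.obj (M.homology i) := fun M i => (M.sc i).mapHomologyIso R
    obtain ⟨h1, h2⟩ := tensor_homology_affine (hP.restr j) ((restrCx j).map q) a b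
      (fun i hi => (R.map_isZero (hK0 i hi)).of_iso (eH K i))
      (fun i hi => (R.map_isZero (hE0 i hi)).of_iso (eH E i))
      (fun i => isConstructible_of_iso (eH K i).symm (hcons (hK i)))
      (fun i => isConstructible_of_iso (eH E i).symm (hcons (hE i)))
    obtain ⟨e⟩ := nonempty_restrCx_tensor j P E
    let e' : ∀ i, (tcx ((restrCx j).obj P) ((restrCx j).obj E)).homology i ≅ R.obj ((tcx P E).homology i) :=
      fun i => (homologyFunctor _ _ i).mapIso e ≪≫ eH (tcx P E) i
    exact ⟨fun i => isConstructible_of_iso (e' i) (h1 i), fun i hi => (h2 i hi).of_iso (e' i).symm⟩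
  refine ⟨fun i => isConstructible_of_open_cover _ (fun V : X.affineOpens => V.1)
    (iSup_affineOpens_eq_top X) fun V =>
      isConstructible_of_iso ((pullRestrModIso Λ V.1.ι).app _).symm ((key V).1 i),
    fun i hi => isZero_of_stalks fun Ω _ _ ξ => ?_⟩
  obtain ⟨s⟩ : Nonempty (Spec (CommRingCat.of Ω)) := inferInstance
  obtain ⟨_, ⟨V, hV, rfl⟩, hxV, -⟩ :=
    X.isBasis_affineOpens.exists_subset_of_mem_open (Set.mem_univ (ξ s)) isOpen_univ
  have hr : Set.range ξ ⊆ Set.range (Scheme.Opens.ι V) := by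
    rintro _ ⟨t, rfl⟩
    rw [Scheme.Opens.range_ι, Subsingleton.elim t s]
    exact hxV
  obtain ⟨η, hη⟩ : ∃ η, η ≫ Scheme.Opens.ι V = ξ := ⟨_, IsOpenImmersion.lift_fac (Scheme.Opens.ι V) ξ hr⟩
  subst hη
  obtain ⟨e⟩ := exists_stalkRestrIso (Λ := Λ) (Scheme.Opens.ι V) η
  exact ((EtModW.stalk Λ η).map_isZero ((key ⟨V, hV⟩).2 i hi)).of_iso (e.app _).symm

end Groth.Agent.Mod48.EtCons
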