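import Groth.Agent.Mod48.SupportSS
import Groth.Agent.SiteMod.SheafHomAcyclic

/-!
The local-to-global spectral sequence for Ext.
-/

universe u

open CategoryTheory CategoryTheory.Limits Opposite CategoryTheory.Abelian

attribute [local instance] HasDerivedCategory.standard

namespace Groth.Agent.Mod48

variable {C : Type u} [SmallCategory C] {J : GrothendieckTopology C} {O : Sheaf J CommRingCat.{u}}

/-- Global sections of the internal hom are homomorphisms. -/
lemma nonempty_globalHomIso (M : ModSite.Mod O) [ModSite.HasSheafHom M] :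
    Nonempty (preadditiveCoyoneda.obj (op M) ≅
      ModSite.sheafHom M ⋙ SheafOfModules.toSheaf (ModSite.ringSh O) ⋙
        preadditiveCoyoneda.obj
          (op ((constantSheaf J AddCommGrpCat.{u}).obj (AddCommGrpCat.of (ULift.{u} ℤ))))) := by
  let T := SheafOfModules.toSheaf.{u} (ModSite.ringSh O)
  let adj : tR M ⊣ ModSite.sheafHom M := SiteMod.homAdj M
  have : (tR M).Additive := adj.left_adjoint_additive
  let l : (tR M).obj (ModSite.unit O) ⟶ M := (tensUnit.app M).hom
  have : IsIso l := inferInstanceAs (IsIso (tensUnit.app M).hom)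
  let f : (N : ModSite.Mod O) → (M ⟶ N) →+
      ((constantSheaf J AddCommGrpCat.{u}).obj (AddCommGrpCat.of (ULift.{u} ℤ)) ⟶
        T.obj ((ModSite.sheafHom M).obj N)) := fun N =>
    AddMonoidHom.mk' (fun φ => SiteMod.unitSec (ModSite.ringSh O) ≫ T.map (adj.homEquiv _ _ (l ≫ φ)))
      (fun a b => by
        rw [Preadditive.comp_add, Adjunction.homAddEquiv_add, T.map_add, Preadditive.comp_add])
  have hf : ∀ N, Function.Bijective (f N) := fun N => by
    change Function.Bijective
      ((fun ψ => SiteMod.unitSec (ModSite.ringSh O) ≫ T.map ψ) ∘ (adj.homEquiv _ N) ∘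
        ((asIso l).symm.homFromEquiv (Z := N)))
    exact (SiteMod.unitSec_bijective (ModSite.ringSh O) _).comp
      ((Equiv.bijective _).comp (Equiv.bijective _))
  refine ⟨NatIso.ofComponents (fun N => (AddEquiv.ofBijective (f N) (hf N)).toAddCommGrpIso)
    (fun {N N'} g => ?_)⟩
  ext φ
  change SiteMod.unitSec (ModSite.ringSh O) ≫ T.map (adj.homEquiv _ _ (l ≫ φ ≫ g)) =
    (SiteMod.unitSec (ModSite.ringSh O) ≫ T.map (adj.homEquiv _ _ (l ≫ φ))) ≫
      T.map ((ModSite.sheafHom M).map g)
  rw [Category.assoc, ← T.map_comp, ← adj.homEquiv_naturality_right, Category.assoc]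

theorem exists_spectralSequence_ext (M N : ModSite.Mod O) [ModSite.HasSheafHom M]
    [HasInjectiveResolutions (ModSite.Mod O)] [HasExt.{u} (ModSite.Mod O)] :
    ∃ (E : E₂CohomologicalSpectralSequence AddCommGrpCat.{u})
      (a : SpSeq.Abutment E (fun n : ℤ =>
        if 0 ≤ n then AddCommGrpCat.of (Abelian.Ext.{u} M N n.toNat) else AddCommGrpCat.of PUnit.{u + 1})),
      (∀ n : ℤ, a.IsFinite n) ∧ SpSeq.IsBounded E ∧
      ∀ p q : ℤ, Nonempty ((E.page 2 le_rfl).X (p, q) ≅
        (if 0 ≤ p ∧ 0 ≤ q then AddCommGrpCat.of (ModSite.HC O ((ModSite.extSh M q.toNat).obj N) p.toNat)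
          else AddCommGrpCat.of PUnit.{u + 1})) := by
  obtain ⟨_, _⟩ := toSheaf_exact (O := O)
  let T' := SheafOfModules.toSheaf.{u} (ModSite.ringSh O)
  have : T'.PreservesHomology := Functor.preservesHomologyOfExact _
  have : IsGrothendieckAbelian.{u} (ModSite.Mod O) :=
    Coh69.sheafOfModules_isGrothendieckAbelian (ModSite.ringSh O)
  let Zc := (constantSheaf J AddCommGrpCat.{u}).obj (AddCommGrpCat.of (ULift.{u} ℤ))
  let S := preadditiveCoyoneda.obj (op Zc)
  have : PreservesFiniteLimits S := inferInstance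
  have hzero : IsZero (AddCommGrpCat.of PUnit.{u + 1}) := AddCommGrpCat.isZero_of_subsingleton _
  refine GSS45.exists_spectralSequence_comp (ModSite.sheafHom M ⋙ T') S ?_ N (fun n => ?_)
    (fun n hn => ?_) (fun p q => ?_) (fun p q hpq => ?_)
  · intro Q hQ n hn
    obtain ⟨m, rfl⟩ : ∃ m, n = m + 1 := ⟨n - 1, by omega⟩
    exact GSS45.isZero_coyo_rightDerived _ _ _
      (subsingleton_H_of_torExtends (SiteMod.torExtends_sheafHom M Q) m)
  · rw [if_pos (Int.natCast_nonneg n), Int.toNat_natCast]
    obtain ⟨e⟩ := nonempty_globalHomIso M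
    exact ⟨(GSS45.rightDerivedIsoOfIso (Functor.associator _ _ _ ≪≫ e.symm) n).app N ≪≫
      (GSS45.coyoRightDerivedIso M n).app N⟩
  · rw [if_neg (by omega)]
    exact hzero
  · rw [if_pos ⟨Int.natCast_nonneg p, Int.natCast_nonneg q⟩, Int.toNat_natCast, Int.toNat_natCast]
    exact ⟨(S.rightDerived p).mapIso ((SiteCoh.rightDerivedCompExactIso (ModSite.sheafHom M) T' q).app N) ≪≫
      (GSS45.coyoRightDerivedIso Zc p).app _⟩
  · rw [if_neg (by omega)]
    exact hzero

end Groth.Agent.Mod48
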