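import Groth.Agent.Unr55.Et.FiniteSplit
import Mathlib.AlgebraicGeometry.Sites.EtalePoint

/-!
Over a finite morphism, an etale covering of the source is, etale locally on the target, refined by a finite
decomposition into clopen pieces.
-/

universe u

open CategoryTheory CategoryTheory.Limits AlgebraicGeometry Opposite Groth.Agent.FlatMor66

namespace Groth.Agent.Mod48

set_option backward.isDefEq.respectTransparency.types false

variable {W W' : Scheme.{u}} (h : W' ⟶ W) [IsFinite h] {K : Type u} [Field K] [IsAlgClosed K]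
  (r : Spec (CommRingCat.of K) ⟶ W)

/-- Clopen pieces over an etale neighbourhood of `r` for the lifts in a list. -/
structure SplitData {n : ℕ} (ξ : Fin n → GPt h r) {V : Fin n → Scheme.{u}} (g : ∀ i, V i ⟶ W') :
    Type (u + 1) where
  W₀ : Scheme.{u}
  b : W₀ ⟶ W
  r₀ : Spec (CommRingCat.of K) ⟶ W₀
  etale : Etale b
  fac : r₀ ≫ b = r
  A : Fin n → (pullback h b).Opens
  closed : ∀ i, IsClosed (A i : Set ↥(pullback h b))
  mem_iff : ∀ (i : Fin n) (m : Spec (CommRingCat.of K) ⟶ pullback h b), m ≫ pullback.snd h b = r₀ →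
    (gpt m ∈ A i ↔ m ≫ pullback.fst h b = (ξ i).1)
  lift : ∀ i, (A i).toScheme ⟶ V i
  lift_fac : ∀ i, lift i ≫ g i = (A i).ι ≫ pullback.fst h b

/-- One piece. -/
theorem exists_piece (ξ : GPt h r) {V : Scheme.{u}} (g : V ⟶ W') [Etale g]
    (l : Spec (CommRingCat.of K) ⟶ V) (hl : l ≫ g = ξ.1) :
    ∃ (W₀ : Scheme.{u}) (b : W₀ ⟶ W) (r₀ : Spec (CommRingCat.of K) ⟶ W₀) (A : (pullback h b).Opens)
      (φ : A.toScheme ⟶ V), Etale b ∧ r₀ ≫ b = r ∧ IsClosed (A : Set ↥(pullback h b)) ∧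
      φ ≫ g = A.ι ≫ pullback.fst h b ∧
      ∀ m : Spec (CommRingCat.of K) ⟶ pullback h b, m ≫ pullback.snd h b = r₀ →
        (gpt m ∈ A ↔ m ≫ pullback.fst h b = ξ.1) := by
  obtain ⟨W₀, b, r₀, P, Q, pr₁, pr₂, j, gQ, m₀, hb, hr₀, hP, hjo, hjc, hg, hm₀g, hm₀r, hu⟩ :=
    Unr55.EtSh.exists_clopen_piece h g r l (by rw [← Category.assoc, hl]; exact ξ.2)
  let j' : Q ⟶ pullback h b := j ≫ hP.isoPullback.hom
  have : IsOpenImmersion j' := inferInstance
  have : IsClosedImmersion j' := MorphismProperty.comp_mem _ _ _ hjc inferInstance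
  have hjfst : j' ≫ pullback.fst h b = j ≫ pr₁ := by
    rw [Category.assoc, IsPullback.isoPullback_hom_fst]
  have hjsnd : j' ≫ pullback.snd h b = j ≫ pr₂ := by
    rw [Category.assoc, IsPullback.isoPullback_hom_snd]
  let A : (pullback h b).Opens := j'.opensRange
  have hA : Set.range A.ι ⊆ Set.range j' := (Scheme.Opens.range_ι A).le
  refine ⟨W₀, b, r₀, A, IsOpenImmersion.lift j' A.ι hA ≫ gQ, hb, hr₀,
    j'.isClosedEmbedding.isClosed_range, ?_, fun m hm => ⟨fun hmem => ?_, fun hfst => ?_⟩⟩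
  · rw [Category.assoc, hg, ← hjfst, IsOpenImmersion.lift_fac_assoc]
  · let m' := IsOpenImmersion.lift j' m (by
      rintro _ ⟨a, rfl⟩
      rw [Subsingleton.elim a (IsLocalRing.closedPoint K)]
      exact hmem)
    have hm' : m' ≫ j' = m := IsOpenImmersion.lift_fac _ _ _
    have e := hu m' (by rw [← hjsnd, ← Category.assoc, hm', hm])
    rw [← hm', e, Category.assoc, hjfst, ← hg, ← Category.assoc, hm₀g, hl]
  · have e : m = m₀ ≫ j' := pullback.hom_ext
      (by rw [hfst, Category.assoc, hjfst, ← hg, ← Category.assoc, hm₀g, hl])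
      (by rw [hm, Category.assoc, hjsnd, hm₀r])
    exact ⟨gpt m₀, by rw [e]; exact (gpt_comp m₀ j').symm⟩

/-- All pieces for a list of lifts. -/
theorem nonempty_splitData : ∀ {n : ℕ} (ξ : Fin n → GPt h r) {V : Fin n → Scheme.{u}}
    (g : ∀ i, V i ⟶ W') [∀ i, Etale (g i)] (l : ∀ i, Spec (CommRingCat.of K) ⟶ V i)
    (_ : ∀ i, l i ≫ g i = (ξ i).1), Nonempty (SplitData h r ξ g)
  | 0, ξ, V, g, _, l, _ => ⟨⟨W, 𝟙 W, r, inferInstance, Category.comp_id r, finZeroElim, finZeroElim,
      finZeroElim, finZeroElim, finZeroElim⟩⟩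
  | n + 1, ξ, V, g, _, l, hl => by
    obtain ⟨D⟩ := nonempty_splitData (fun i : Fin n => ξ i.succ) (fun i => g i.succ)
      (fun i => l i.succ) (fun i => hl i.succ)
    obtain ⟨W₁, b₁, r₁, A₁, φ, hb₁, hr₁, hA₁, hφ, hmem₁⟩ := exists_piece h r (ξ 0) (g 0) (l 0) (hl 0)
    have := D.etale
    let W₀ := pullback D.b b₁
    let b : W₀ ⟶ W := pullback.fst D.b b₁ ≫ D.b
    let r₀ := pullback.lift (f := D.b) (g := b₁) D.r₀ r₁ (D.fac.trans hr₁.symm)
    let p : pullback h b ⟶ pullback h D.b :=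
      pullback.lift (pullback.fst h b) (pullback.snd h b ≫ pullback.fst D.b b₁)
        (by rw [Category.assoc]; exact pullback.condition)
    let p₁ : pullback h b ⟶ pullback h b₁ :=
      pullback.lift (pullback.fst h b) (pullback.snd h b ≫ pullback.snd D.b b₁)
        (by rw [Category.assoc, ← pullback.condition]; exact pullback.condition)
    refine ⟨⟨W₀, b, r₀, inferInstance, by rw [← Category.assoc, pullback.lift_fst]; exact D.fac,
      Fin.cons (p₁ ⁻¹ᵁ A₁) (fun i => p ⁻¹ᵁ D.A i), ?_, ?_,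
      Fin.cons ((p₁ ∣_ A₁) ≫ φ) (fun i => (p ∣_ D.A i) ≫ D.lift i), ?_⟩⟩
    · refine Fin.cases ?_ (fun i => ?_)
      · rw [Fin.cons_zero]; exact hA₁.preimage p₁.continuous
      · rw [Fin.cons_succ]; exact (D.closed i).preimage p.continuous
    · refine Fin.cases (fun m hm => ?_) (fun i m hm => ?_)
      · rw [Fin.cons_zero]
        have e := hmem₁ (m ≫ p₁) (by
          rw [Category.assoc, pullback.lift_snd, ← Category.assoc, hm, pullback.lift_snd])
        rw [Category.assoc, pullback.lift_fst, gpt_comp] at e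
        exact e
      · rw [Fin.cons_succ]
        have e := D.mem_iff i (m ≫ p) (by
          rw [Category.assoc, pullback.lift_snd, ← Category.assoc, hm, pullback.lift_fst])
        rw [Category.assoc, pullback.lift_fst, gpt_comp] at e
        exact e
    · refine Fin.cases ?_ (fun i => ?_)
      · show ((p₁ ∣_ A₁) ≫ φ) ≫ g 0 = (p₁ ⁻¹ᵁ A₁).ι ≫ pullback.fst h b
        rw [Category.assoc, hφ, morphismRestrict_ι_assoc, pullback.lift_fst]
      · show ((p ∣_ D.A i) ≫ D.lift i) ≫ g i.succ = (p ⁻¹ᵁ D.A i).ι ≫ pullback.fst h b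
        rw [Category.assoc, D.lift_fac, morphismRestrict_ι_assoc, pullback.lift_fst]

/-- An etale covering of the source of a finite morphism is refined, near any point of the target and
etale locally there, by a finite decomposition of the source. -/
theorem exists_finite_decomposition (P : ∀ {V : Scheme.{u}}, (V ⟶ W') → Prop)
    (hP : ∀ x' : W', ∃ (V : Scheme.{u}) (g : V ⟶ W') (v : V), Etale g ∧ P g ∧ g v = x') (x : W) :
    ∃ (W₀ : Scheme.{u}) (b : W₀ ⟶ W) (w : W₀) (n : ℕ) (A : Fin n → (pullback h b).Opens),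
      Etale b ∧ b w = x ∧ (∀ z : ↥(pullback h b), ∃! i, z ∈ A i) ∧
      ∀ i, ∃ (V : Scheme.{u}) (g : V ⟶ W') (l : (A i).toScheme ⟶ V), P g ∧
        l ≫ g = (A i).ι ≫ pullback.fst h b := by
  let r : Spec (CommRingCat.of (AlgebraicClosure (W.residueField x))) ⟶ W :=
    Spec.map (CommRingCat.ofHom (algebraMap (W.residueField x) (AlgebraicClosure (W.residueField x)))) ≫
      W.fromSpecResidueField x
  have hr : gpt r = x := W.fromSpecResidueField_apply x _
  have : Finite (GPt h r) := finite_GPt h r (h.finite_preimage_singleton _)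
  have : Fintype (GPt h r) := Fintype.ofFinite _
  let e := (Fintype.equivFin (GPt h r)).symm
  choose V g v hge hgP hgv using fun i => hP (gpt (e i).1)
  have hgpt : ∀ i, (gpt (e i).1) = ((e i).1 : Spec _ ⟶ W') default :=
    fun i => congrArg (fun p : Spec (CommRingCat.of (AlgebraicClosure (W.residueField x))) => (e i).1 p) (Subsingleton.elim _ _)
  choose l hl hlv using fun i => have := hge i
    Scheme.exists_fac_of_etale_of_isSepClosed (g i) (e i).1 (v i) ((hgv i).trans (hgpt i))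
  obtain ⟨D⟩ := nonempty_splitData h r e g l hl
  have := D.etale
  let S : Set ↥(pullback h D.b) := {z | ∃! i, z ∈ D.A i}
  have hS : IsOpen S := by
    refine isOpen_iff_forall_mem_open.2 fun z ⟨i, hi, hu⟩ =>
      ⟨(D.A i : Set ↥(pullback h D.b)) ∩ ⋂ (j : Fin (Fintype.card (GPt h r))) (_ : j ≠ i),
        (D.A j : Set ↥(pullback h D.b))ᶜ, ?_, ?_, hi, ?_⟩
    · rintro y ⟨hy, hy'⟩
      exact ⟨i, hy, fun j hj => by_contra fun hne => Set.mem_iInter₂.1 hy' j hne hj⟩
    · exact (D.A i).2.inter (isOpen_iInter_of_finite fun j => isOpen_iInter_of_finite fun _ =>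
        (D.closed j).isOpen_compl)
    · exact Set.mem_iInter₂.2 fun j hne hj => hne (hu j hj)
  have hC : IsClosed (pullback.snd h D.b '' Sᶜ) :=
    (pullback.snd h D.b).isClosedMap _ hS.isClosed_compl
  let O : D.W₀.Opens := ⟨(pullback.snd h D.b '' Sᶜ)ᶜ, hC.isOpen_compl⟩
  have hrO : gpt D.r₀ ∈ O := by
    rintro ⟨z, hz, hzr⟩
    obtain ⟨⟨m, hm⟩, hmz⟩ := exists_lift (pullback.snd h D.b) D.r₀ z hzr
    have hξ : (m ≫ pullback.fst h D.b) ≫ h = r := by
      rw [Category.assoc, pullback.condition, reassoc_of% hm, D.fac]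
    refine hz ⟨e.symm ⟨_, hξ⟩, ?_, fun j hj => ?_⟩
    · show z ∈ D.A _
      rw [← hmz, D.mem_iff _ m hm, Equiv.apply_symm_apply]
    · change z ∈ D.A j at hj
      rw [← hmz, D.mem_iff _ m hm] at hj
      rw [Equiv.eq_symm_apply]
      exact Subtype.ext hj.symm
  let q : pullback h (O.ι ≫ D.b) ⟶ pullback h D.b :=
    pullback.lift (pullback.fst _ _) (pullback.snd _ _ ≫ O.ι) (by rw [Category.assoc]; exact pullback.condition)
  refine ⟨O, O.ι ≫ D.b, (⟨gpt D.r₀, hrO⟩ : O.toScheme), _, fun i => q ⁻¹ᵁ D.A i, inferInstance, ?_,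
    fun z => ?_, fun i => ⟨V i, g i, (q ∣_ D.A i) ≫ D.lift i, hgP i, ?_⟩⟩
  · show D.b (gpt D.r₀) = x
    rw [← gpt_comp, D.fac, hr]
  · have : q z ∈ S := by
      by_contra hz
      exact (pullback.snd h (O.ι ≫ D.b) z : O.toScheme).2 ⟨q z, hz, by
        rw [← Scheme.Hom.comp_apply, pullback.lift_snd]
        rfl⟩
    exact this
  · rw [Category.assoc, D.lift_fac, morphismRestrict_ι_assoc, pullback.lift_fst]

end Groth.Agent.Mod48
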