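import Groth.Agent.SiteCoh.FreeSet
import Groth.Agent.SiteCoh.TypePush
import Groth.Agent.SiteCoh.Torsion
import Groth.Prelude.Def_ToposFin2
import Mathlib.CategoryTheory.Abelian.CommSq
import Mathlib.CategoryTheory.Sites.Subsheaf
import Mathlib.CategoryTheory.Sites.Limits

/-!
Totally acyclic sheaves: sections extend along subobjects.
-/

universe u

open CategoryTheory CategoryTheory.Limits Opposite CategoryTheory.Abelian

namespace Groth.Agent.Mod48

variable {C : Type u} [SmallCategory C] {J : GrothendieckTopology C}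

open SiteCoh (freeAb freeAbAdj)

instance mono_freeAb_map {K' K : Sheaf J (Type u)} (i : K' ⟶ K) [Mono i] : Mono ((freeAb J).map i) := by
  have : Mono ((sheafToPresheaf J (Type u)).map i) := inferInstance
  have : ∀ U, Mono (i.hom.app U) := fun U => (NatTrans.mono_iff_mono_app _).1 this U
  have h2 : ∀ U, Mono ((Functor.whiskerRight i.hom AddCommGrpCat.free.{u}).app U) := fun U =>
    inferInstanceAs (Mono (AddCommGrpCat.free.{u}.map (i.hom.app U)))
  have := NatTrans.mono_of_mono_app (Functor.whiskerRight i.hom AddCommGrpCat.free.{u})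
  exact inferInstanceAs (Mono ((presheafToSheaf J AddCommGrpCat.{u}).map (Functor.whiskerRight i.hom AddCommGrpCat.free.{u})))

variable {F : Sheaf J AddCommGrpCat.{u}} (hF : CohCx.IsTotallyAcyclic F)

include hF in
lemma subsingleton_ext_freeAb (K : Sheaf J (Type u)) (n : ℕ) :
    Subsingleton (Ext ((freeAb J).obj K) F (n + 1)) :=
  hF K n

include hF in
/-- Morphisms into a totally acyclic sheaf extend along monomorphisms of free sheaves on sheaves of sets. -/
theorem exists_extend_mono {K' K : Sheaf J (Type u)} (i : K' ⟶ K) [Mono i]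
    (φ : (freeAb J).obj K' ⟶ F) : ∃ ψ : (freeAb J).obj K ⟶ F, (freeAb J).map i ≫ ψ = φ := by
  have : (freeAb J).IsLeftAdjoint := (freeAbAdj J).isLeftAdjoint
  have hP := (IsPushout.of_hasPushout i i).map (freeAb J)
  let S := hP.shortComplex
  have hm : Mono S.f := by
    have : S.f ≫ biprod.fst = (freeAb J).map i := by simp [S, CommSq.shortComplex]
    exact @mono_of_mono_fac _ _ _ _ _ _ _ _ (mono_freeAb_map i) this
  have hS : S.ShortExact :=
    { exact := hP.exact_shortComplex
      mono_f := hm
      epi_g := hP.epi_shortComplex_g }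
  have := subsingleton_ext_freeAb hF (pushout i i) 0
  obtain ⟨χ, hχ⟩ := Ext.contravariant_sequence_exact₁ hS F (Ext.mk₀ φ) (n₁ := 1) (add_zero 1)
    (Subsingleton.elim (α := Ext ((freeAb J).obj (pushout i i)) F 1) _ _)
  obtain ⟨χ, rfl⟩ := (Ext.mk₀_bijective _ _).surjective χ
  rw [Ext.mk₀_comp_mk₀] at hχ
  have hχ' : S.f ≫ χ = φ := (Ext.mk₀_bijective _ _).injective hχ
  refine ⟨biprod.inl ≫ χ - biprod.inr ≫ χ, ?_⟩
  rw [← hχ']
  have e : S.f = (freeAb J).map i ≫ biprod.inl - (freeAb J).map i ≫ biprod.inr := by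
    apply biprod.hom_ext <;> simp [S, CommSq.shortComplex]
  rw [e]
  refine (Preadditive.comp_sub _ _ _).trans ?_
  refine Eq.trans ?_ (Preadditive.sub_comp _ _ _).symm
  exact congrArg₂ (· - ·) (Category.assoc _ _ _).symm (Category.assoc _ _ _).symm

include hF in
/-- The higher Ext groups out of the cokernel of such a monomorphism vanish. -/
theorem subsingleton_ext_coker {K' K : Sheaf J (Type u)} (i : K' ⟶ K) [Mono i] (n : ℕ) :
    Subsingleton (Ext (cokernel ((freeAb J).map i)) F (n + 1)) := by
  have hS : (ShortComplex.mk _ _ (cokernel.condition ((freeAb J).map i))).ShortExact :=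
    { exact := ShortComplex.exact_of_g_is_cokernel _ (cokernelIsCokernel _)
      mono_f := inferInstanceAs (Mono ((freeAb J).map i))
      epi_g := inferInstanceAs (Epi (cokernel.π ((freeAb J).map i))) }
  refine subsingleton_of_forall_eq 0 fun ξ => ?_
  obtain ⟨ζ, rfl⟩ := Ext.contravariant_sequence_exact₃ hS F ξ
    (@Subsingleton.elim _ (subsingleton_ext_freeAb hF K n) _ _) (n₀ := n) (by omega)
  cases n with
  | zero =>
    obtain ⟨φ, rfl⟩ := (Ext.mk₀_bijective _ _).surjective ζ
    obtain ⟨ψ, rfl⟩ := exists_extend_mono hF i φ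
    change hS.extClass.comp (Ext.mk₀ ((freeAb J).map i ≫ ψ)) _ = 0
    rw [← Ext.mk₀_comp_mk₀, ← Ext.comp_assoc _ _ _ (add_zero 1) (zero_add 0) (by omega),
      hS.extClass_comp, Ext.zero_comp]
  | succ n =>
    rw [@Subsingleton.elim _ (subsingleton_ext_freeAb hF K' n) ζ 0, Ext.comp_zero]

/-- Free abelian sheaves on presheaves of sets. -/
noncomputable def freePsAdj :
    presheafToSheaf J (Type u) ⋙ freeAb J ⊣
      sheafCompose J (forget AddCommGrpCat.{u}) ⋙ sheafToPresheaf J (Type u) :=
  (sheafificationAdjunction J (Type u)).comp (freeAbAdj J)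

include hF in
/-- A compatible family on any sieve (covering or not) extends. -/
theorem exists_extend_sieve {W : C} (S : Sieve W) (m : ∀ ⦃V : C⦄ (g : V ⟶ W), S g → F.obj.obj (op V))
    (hm : ∀ ⦃V V' : C⦄ (g : V ⟶ W) (h : V' ⟶ V) (hg : S g),
      F.obj.map h.op (m g hg) = m (h ≫ g) (S.downward_closed hg h)) :
    ∃ x : F.obj.obj (op W), ∀ ⦃V : C⦄ (g : V ⟶ W) (hg : S g), F.obj.map g.op x = m g hg := by
  let a : S.functor ⟶ F.obj ⋙ forget AddCommGrpCat.{u} :=
    { app := fun V => TypeCat.ofHom fun g => m g.1 g.2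
      naturality := fun V V' h => by
        ext g
        exact (hm g.1 h.unop g.2).symm }
  have : Mono ((presheafToSheaf J (Type u)).map S.functorInclusion) := inferInstance
  obtain ⟨ψ, hψ⟩ := exists_extend_mono hF ((presheafToSheaf J (Type u)).map S.functorInclusion)
    ((freePsAdj.homEquiv S.functor F).symm a)
  let b : yoneda.obj W ⟶ F.obj ⋙ forget AddCommGrpCat.{u} := freePsAdj.homEquiv (yoneda.obj W) F ψ
  have hb : S.functorInclusion ≫ b = a :=
    (Adjunction.homEquiv_naturality_left _ _ _).symm.trans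
      ((congrArg (freePsAdj.homEquiv S.functor F) hψ).trans (Equiv.apply_symm_apply _ _))
  refine ⟨yonedaEquiv b, fun V g hg => ?_⟩
  refine (yonedaEquiv_naturality b g).trans ?_
  refine Eq.trans ?_ (ConcreteCategory.congr_hom (NatTrans.congr_app hb (op V)) ⟨g, hg⟩)
  exact congrArg (fun t : V ⟶ W => b.app (op V) t) (Category.id_comp g)

include hF in
/-- Cohomology with supports of a totally acyclic sheaf vanishes. -/
theorem subsingleton_HZFunctor (U : Sheaf J (Type u)) (n : ℕ) :
    Subsingleton ((ToposFin.HZFunctor U (n + 1)).obj F) := by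
  have : (freeAb J).IsLeftAdjoint := (freeAbAdj J).isLeftAdjoint
  let p := Sheaf.toImage (terminal.from U)
  let i := Sheaf.imageι (terminal.from U)
  have e : (ToposFin.freeAb J).map (terminal.from U) = (freeAb J).map p ≫ (freeAb J).map i := by
    rw [← Functor.map_comp, Sheaf.toImage_ι]
  have : Epi ((freeAb J).map p) := inferInstance
  let e' : ToposFin.quotZ U ≅ cokernel ((freeAb J).map i) :=
    cokernelIsoOfEq e ≪≫ cokernelEpiComp _ _
  have h := subsingleton_ext_coker hF i n
  change Subsingleton (Ext (ToposFin.quotZ U) F (n + 1))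
  refine subsingleton_of_forall_eq 0 fun ξ => ?_
  have h0 : (Ext.mk₀ e'.inv).comp ξ (zero_add _) = 0 := Subsingleton.elim _ _
  rw [← Ext.mk₀_id_comp ξ, ← e'.hom_inv_id, ← Ext.mk₀_comp_mk₀,
    Ext.comp_assoc _ _ _ (zero_add 0) (zero_add (n + 1)) (by omega), h0, Ext.comp_zero]

include hF in
/-- Sections of a quotient by a totally acyclic sheaf lift. -/
theorem sections_surjective_of_isTotallyAcyclic {S : ShortComplex (Sheaf J AddCommGrpCat.{u})}
    (hS : S.ShortExact) (e : S.X₁ = F) (W : C) : Function.Surjective (S.g.hom.app (op W)) := by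
  subst e
  have : Subsingleton (Ext (CohCx.freeSheaf J W) S.X₁ 1) :=
    SiteCoh.hu_subsingleton_of_isTotallyAcyclic hF W 0
  exact SiteCoh.sections_surjective_of_acyclic J hS W

end Groth.Agent.Mod48
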