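import Groth.Agent.Mod48.FlatPullChart
import Groth.Agent.SiteMod.FlatRinged

/-!
The inverse image of modules along a flat morphism of ringed sites is exact.
-/

universe u

open CategoryTheory CategoryTheory.Limits Opposite

namespace Groth.Agent.Mod48

open SiteMod (rres rres_rres sig rres_sig Comb rels mem_rels_of_relation combRes combRes_single combRes_mem
  Trip Sums Van VanAt sumsRes sumsRes_single sumsRes_sumsRes van_of_local res_zero res_sum exists_common
  exists_equalize pullModel cls cls_surjective cls_eq_zero res_cls cmpPull cmpPull_naturality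
  isLocalIso_cmpPull mono_of_ap_injective eq_zero_of_locally ap res_ap ap_sum ap_smul res_lincomb)

variable {C D : Type u} [SmallCategory C] [SmallCategory D] {J : GrothendieckTopology C}
  {K : GrothendieckTopology D} {O_C : Sheaf J CommRingCat.{u}} {O_D : Sheaf K CommRingCat.{u}}
  {f : ModSite.RMor O_C O_D} (hf : ModSite.IsFlat f.baseMod) {M N : ModSite.Mod O_D} (φ : M ⟶ N) [Mono φ]

/-- Sections of a module. -/
noncomputable abbrev secMap (W : D) : (pre M).obj (op W) → (pre N).obj (op W) := fun m => ap φ m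

lemma secMap_injective (W : D) : Function.Injective (secMap φ W) :=
  fun _ _ h => PresheafOfModules.injective_of_mono (fgt.map φ) (op W) h

include hf in
/-- Relations descend locally. -/
lemma exists_rels_preimage_local {V : C} {W : D} (g : V ⟶ f.fn.obj W) (μ : Comb (O_C := O_C) (pre M) W V)
    (hμ : Finsupp.mapDomain (secMap φ W) μ ∈ rels f (pre N) g) :
    ∃ S ∈ J V, ∀ ⦃V' : C⦄ (v : V' ⟶ V), S v →
      ∃ (W' : D) (k : W' ⟶ W) (g' : V' ⟶ f.fn.obj W'),
        v ≫ g = g' ≫ f.fn.map k ∧ combRes (pre M) v k μ ∈ rels f (pre M) g' := by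
  classical
  obtain ⟨T, c₀, hsub, hsum⟩ : ∃ (T : Finset ((pre N).obj (op W) →₀ O_D.obj.obj (op W)))
      (c₀ : ((pre N).obj (op W) →₀ O_D.obj.obj (op W)) → O_C.obj.obj (op V)),
      (∀ κ ∈ T, Finsupp.linearCombination (O_D.obj.obj (op W)) id κ = (0 : (pre N).obj (op W))) ∧
        ∑ κ ∈ T, c₀ κ • Finsupp.mapRange (sig f g) (map_zero _) κ =
          Finsupp.mapDomain (secMap φ W) μ := by
    obtain ⟨l, hl, hl'⟩ := (Finsupp.mem_span_image_iff_linearCombination _).1 hμ
    exact ⟨l.support, l, fun κ hκ => hl hκ, by rw [← hl', Finsupp.linearCombination_apply]; rfl⟩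
  let ψ := secMap φ W
  have hψ : Function.Injective ψ := secMap_injective φ W
  let Kf : Finset ((pre N).obj (op W)) := (T.biUnion fun κ => κ.support).filter fun q => q ∉ Set.range ψ
  let lam : T → ((pre M).obj (op W) →₀ O_D.obj.obj (op W)) :=
    fun t => Finsupp.comapDomain ψ t.1 hψ.injOn
  have hdec : ∀ t : T, t.1 = Finsupp.mapDomain ψ (lam t) +
      ∑ q : Kf, Finsupp.single q.1 (t.1 q.1) := by
    intro t
    refine Finsupp.ext fun q => ?_
    rw [Finsupp.add_apply, Finsupp.finsetSum_apply]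
    by_cases hq : q ∈ Set.range ψ
    · obtain ⟨m, rfl⟩ := hq
      rw [Finsupp.mapDomain_apply hψ, Finset.sum_eq_zero fun (k : Kf) _ =>
        Finsupp.single_eq_of_ne fun e => (Finset.mem_filter.1 k.2).2 ⟨m, e⟩, add_zero]
      simp [lam]
    · rw [Finsupp.mapDomain_notin_range _ _ hq, zero_add]
      by_cases hs : q ∈ Kf
      · rw [Finset.sum_eq_single ⟨q, hs⟩ (fun k _ hk => Finsupp.single_eq_of_ne fun e => hk (Subtype.ext e.symm))
          (fun h => absurd (Finset.mem_univ _) h), Finsupp.single_eq_same]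
      · have h0 : t.1 q = 0 := by
          by_contra h
          exact hs (Finset.mem_filter.2 ⟨Finset.mem_biUnion.2 ⟨t.1, t.2, Finsupp.mem_support_iff.2 h⟩, hq⟩)
        rw [h0, Finset.sum_eq_zero fun k _ => Finsupp.single_eq_of_ne fun e => hs (by rw [e]; exact k.2)]
  have hsys : ∀ q : Kf, ∑ t : T, c₀ t.1 * sig (f) g (t.1 q.1) = 0 := by
    intro q
    have h1 := congrArg (fun z : Comb (O_C := O_C) (pre N) W V => z q.1) hsum
    simp only [Finsupp.finsetSum_apply, Finsupp.smul_apply, Finsupp.mapRange_apply, smul_eq_mul] at h1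
    refine Eq.trans ?_ (h1.trans (Finsupp.mapDomain_of_notMem_range _ _ (Finset.mem_filter.1 q.2).2))
    exact Finset.sum_coe_sort T fun κ => c₀ κ * sig (f) g (κ q.1)
  obtain ⟨S, hS, hgood⟩ := flat_chart f hf g (fun (t : T) (q : Kf) => t.1 q.1) (fun t : T => c₀ t.1) hsys
  refine ⟨S, hS, fun V' v hv => ?_⟩
  obtain ⟨W', g', k, n, d', e, hg', hc', hker⟩ := hgood v hv
  refine ⟨W', k, g', hg', ?_⟩
  let lam' : T → ((pre M).obj (op W') →₀ O_D.obj.obj (op W')) := fun t =>
    combRes (O_C := O_D) (pre M) (k : W' ⟶ W) k (lam t)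
  have hrel : ∀ l, Finsupp.linearCombination (O_D.obj.obj (op W')) id
      (∑ t, d' l t • lam' t) = (0 : (pre M).obj (op W')) := by
    intro l
    have hlc : ∀ t, Finsupp.linearCombination (O_D.obj.obj (op W')) id (lam' t) =
        res (pre M) k.op (Finsupp.linearCombination (O_D.obj.obj (op W)) id (lam t)) := by
      intro t
      simp only [lam']
      generalize lam t = z
      induction z using Finsupp.induction_linear with
      | zero => simp [res_zero]
      | add a b ha hb => rw [map_add, map_add, ha, hb, map_add, res_add]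
      | single q b =>
        rw [combRes_single, Finsupp.linearCombination_single, Finsupp.linearCombination_single, id, id,
          res_smul]
    have hval : ∀ t : T, ap φ (Finsupp.linearCombination (O_D.obj.obj (op W)) id (lam t)) =
        - ∑ q : Kf, t.1 q.1 • q.1 := by
      intro t
      have h4 := hsub t.1 t.2
      rw [hdec t, map_add, Finsupp.linearCombination_mapDomain, map_sum] at h4
      simp only [Finsupp.linearCombination_single, id] at h4
      rw [eq_neg_iff_add_eq_zero]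
      refine Eq.trans (congrArg (· + _) ?_) h4
      simp only [Finsupp.linearCombination_apply, Finsupp.sum]
      exact (map_sum _ _ _).trans (Finset.sum_congr rfl fun m _ => map_smul _ _ _)
    apply secMap_injective φ W'
    change ap φ _ = ap φ 0
    rw [map_sum]
    simp only [map_smul, hlc, ap_sum, ap_smul, ← res_ap, hval]
    refine Eq.trans ?_ (map_zero _).symm
    have h5 : ∀ t : T, res (pre N) k.op (- ∑ q : Kf, t.1 q.1 • q.1) =
        - ∑ q : Kf, rres k.op (t.1 q.1) • res (pre N) k.op q.1 := fun t =>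
      (map_neg ((pre N).map k.op).hom _).trans (congrArg Neg.neg (res_lincomb (pre N) k _ _))
    simp only [h5, smul_neg, Finset.smul_sum, smul_smul, Finset.sum_neg_distrib]
    rw [Finset.sum_comm, neg_eq_zero]
    exact Finset.sum_eq_zero fun q _ => by rw [← Finset.sum_smul, hker l q, zero_smul]
  have hμ' : μ = ∑ t : T, c₀ t.1 • Finsupp.mapRange (sig (f) g) (map_zero _) (lam t) := by
    refine Finsupp.ext fun m => ?_
    have h6 := congrArg (fun z : Comb (O_C := O_C) (pre N) W V => z (ψ m)) hsum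
    simp only [Finsupp.finsetSum_apply, Finsupp.smul_apply, Finsupp.mapRange_apply] at h6
    refine ((h6.trans (Finsupp.mapDomain_apply hψ μ m)).symm).trans ?_
    rw [Finsupp.finsetSum_apply]
    refine ((Finset.sum_coe_sort T fun κ => c₀ κ • sig (f) g (κ (ψ m))).symm).trans ?_
    exact Finset.sum_congr rfl fun t _ => by simp [lam]
  have hcomb : ∀ t : T, combRes (pre M) v k (c₀ t.1 • Finsupp.mapRange (sig (f) g) (map_zero _) (lam t)) =
      rres v.op (c₀ t.1) • Finsupp.mapRange (sig (f) g') (map_zero _) (lam' t) := by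
    intro t
    simp only [lam']
    generalize lam t = z
    induction z using Finsupp.induction_linear with
    | zero => simp
    | add a b ha hb =>
      rw [Finsupp.mapRange_add (map_add _), smul_add, map_add, ha, hb, map_add,
        Finsupp.mapRange_add (map_add _), smul_add]
    | single q b =>
      rw [Finsupp.mapRange_single, Finsupp.smul_single, combRes_single, combRes_single,
        Finsupp.mapRange_single, Finsupp.smul_single, smul_eq_mul, smul_eq_mul, map_mul,
        rres_sig (f) (g' := g') (k := k) hg' b]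
  rw [hμ', map_sum]
  simp only [hcomb, hc', Finset.sum_smul]
  rw [Finset.sum_comm]
  refine Submodule.sum_mem _ fun l _ => ?_
  have h8 : ∑ t : T, (e l * sig (f) g' (d' l t)) •
      Finsupp.mapRange (sig (f) g') (map_zero _) (lam' t) =
      e l • Finsupp.mapRange (sig (f) g') (map_zero _) (∑ t, d' l t • lam' t) := by
    refine Finsupp.ext fun m => ?_
    simp [Finset.mul_sum, mul_assoc]
  rw [h8]
  exact Submodule.smul_mem _ _ (mem_rels_of_relation _ _ _ _ (hrel l))

/-- The map of formal sums. -/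
noncomputable def mapTripS {V : C} (t : Trip f (pre M) V) : Trip f (pre N) V :=
  ⟨t.X, t.g, ap φ t.m⟩

include hf in
lemma van_of_vanAt_mapTripS {V : C} (ξ : Sums f (pre M) V)
    (h : VanAt f (pre N) (Finsupp.mapDomain (mapTripS φ) ξ)) : Van f (pre M) ξ := by
  classical
  obtain ⟨W₀, g₀, m, t₀, b₀, h₀, hg₀, hsum, hmem⟩ := h
  let U : Finset (Trip f (pre N) V) := ξ.support.image (mapTripS φ) ∪ Finset.univ.image t₀
  let e := U.equivFin.symm
  let XX : Fin (U.card + 1) → D := Fin.cons W₀ fun i => (e i).1.X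
  let gg : ∀ i, V ⟶ f.fn.obj (XX i) := Fin.cons g₀ fun i => (e i).1.g
  obtain ⟨S₁, hS₁, h₁⟩ := exists_common J K f.fn XX gg
  choose Z g₁ H hH using h₁
  have hH0 : ∀ (V₁ : C) (v : V₁ ⟶ V) (hv : S₁ v), v ≫ g₀ = g₁ v hv ≫ f.fn.map (H v hv 0) :=
    fun V₁ v hv => hH v hv 0
  let HU : ∀ (V₁ : C) (v : V₁ ⟶ V) (hv : S₁ v) (s : Trip f (pre N) V) (hs : s ∈ U), Z v hv ⟶ s.X :=
    fun V₁ v hv s hs => H v hv (Fin.succ (e.symm ⟨s, hs⟩)) ≫
      eqToHom (by change (e (e.symm ⟨s, hs⟩)).1.X = s.X; rw [Equiv.apply_symm_apply])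
  have hHU : ∀ (V₁ : C) (v : V₁ ⟶ V) (hv : S₁ v) (s : Trip f (pre N) V) (hs : s ∈ U),
      v ≫ s.g = g₁ v hv ≫ f.fn.map (HU V₁ v hv s hs) := by
    intro V₁ v hv s hs
    obtain ⟨i, hi⟩ := e.surjective ⟨s, hs⟩
    obtain rfl : (e i).1 = s := congrArg Subtype.val hi
    have hi' : e.symm ⟨(e i).1, hs⟩ = i := e.symm_apply_apply i
    have key : ∀ (j : Fin U.card) (p : (e j).1 = (e i).1),
        g₁ v hv ≫ f.fn.map (H v hv j.succ ≫ eqToHom (congrArg Trip.X p)) = v ≫ (e i).1.g := by
      intro j p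
      obtain rfl : j = i := e.injective (Subtype.ext p)
      exact (congrArg (fun z => g₁ v hv ≫ f.fn.map z) (Category.comp_id (H v hv j.succ))).trans (hH v hv j.succ).symm
    exact (key (e.symm ⟨(e i).1, hs⟩) (congrArg (fun j => (e j).1) hi')).symm
  have ht₀ : ∀ i, t₀ i ∈ U := fun i =>
    Finset.mem_union_right _ (Finset.mem_image_of_mem _ (Finset.mem_univ i))
  choose S₂ hS₂ h₂ using fun (V₁ : C) (v : V₁ ⟶ V) (hv : S₁ v) =>
    exists_equalize J K f.fn (g₁ v hv) (fun i : Fin m => (t₀ i).X) (fun i => H v hv 0 ≫ h₀ i)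
      (fun i => HU V₁ v hv (t₀ i) (ht₀ i)) (fun i => by
        refine ((congrArg (g₁ v hv ≫ ·) (f.fn.map_comp _ _)).trans ((Category.assoc _ _ _).symm.trans
          ((congrArg (· ≫ f.fn.map (h₀ i)) (hH0 V₁ v hv).symm).trans ((Category.assoc _ _ _).trans
            ((congrArg (v ≫ ·) (hg₀ i).symm).trans (hHU V₁ v hv (t₀ i) (ht₀ i))))))))
  refine van_of_local (S := Sieve.bind S₁.1 fun V₁ v hv => S₂ V₁ v hv)
    (J.bind_covering hS₁ fun V₁ v hv => hS₂ V₁ v hv) ?_
  rintro V₂ _ ⟨V₁, v', v₁, hv₁, hv', rfl⟩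
  obtain ⟨W, g, k, hg, hk⟩ := h₂ V₁ v₁ hv₁ v' hv'
  let HW : ∀ s (_ : s ∈ U), W ⟶ s.X := fun s hs => k ≫ HU V₁ v₁ hv₁ s hs
  have hHW : ∀ s (hs : s ∈ U), (v' ≫ v₁) ≫ s.g = g ≫ f.fn.map (HW s hs) := fun s hs => by
    refine (Category.assoc _ _ _).trans ((congrArg (v' ≫ ·) (hHU V₁ v₁ hv₁ s hs)).trans ?_)
    exact (Category.assoc _ _ _).symm.trans ((congrArg (· ≫ f.fn.map (HU V₁ v₁ hv₁ s hs)) hg).trans
      ((Category.assoc _ _ _).trans (congrArg (g ≫ ·) (f.fn.map_comp _ _).symm)))
  let col : Sums f (pre N) V →+ Comb (O_C := O_C) (pre N) W V₂ :=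
    Finsupp.liftAddHom fun s => if hs : s ∈ U then
      (Finsupp.singleAddHom (Mod48.res (pre N) (HW s hs).op s.m)).comp
        (rres (O := O_C) (v' ≫ v₁).op).toAddMonoidHom else 0
  have hcol : ∀ s (hs : s ∈ U) b, col (Finsupp.single s b) =
      Finsupp.single (Mod48.res (pre N) (HW s hs).op s.m) (rres (v' ≫ v₁).op b) := fun s hs b => by
    rw [Finsupp.liftAddHom_apply_single, dif_pos hs]
    rfl
  let e' := ξ.support.equivFin.symm
  let t : Fin ξ.support.card → Trip f (pre M) V := fun j => (e' j).1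
  have ht : ∀ j, mapTripS φ (t j) ∈ U := fun j =>
    Finset.mem_union_left _ (Finset.mem_image_of_mem _ (e' j).2)
  let hh : ∀ j, W ⟶ (t j).X := fun j => HW (mapTripS φ (t j)) (ht j)
  have hξ : ξ = ∑ j, Finsupp.single (t j) (ξ (t j)) := by
    conv_lhs => rw [← Finsupp.sum_single ξ]
    rw [Finsupp.sum, ← Finset.sum_coe_sort]
    exact (Equiv.sum_comp e' fun s => Finsupp.single s.1 (ξ s.1)).symm
  let μ : Comb (O_C := O_C) (pre M) W V₂ :=
    ∑ j, Finsupp.single (Mod48.res (pre M) (hh j).op (t j).m) (rres (v' ≫ v₁).op (ξ (t j)))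
  have hμ : Finsupp.mapDomain (secMap φ W) μ ∈ rels f (pre N) g := by
    have h1 : col (Finsupp.mapDomain (mapTripS φ) ξ) = Finsupp.mapDomain (secMap φ W) μ := by
      conv_lhs => rw [hξ]
      rw [Finsupp.mapDomain_finsetSum, map_sum, Finsupp.mapDomain_finsetSum]
      refine Finset.sum_congr rfl fun j _ => ?_
      rw [Finsupp.mapDomain_single, hcol _ (ht j), Finsupp.mapDomain_single]
      exact congrArg (fun z => Finsupp.single z (rres (v' ≫ v₁).op (ξ (t j)))) (res_ap φ (hh j) (t j).m)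
    have h2 : col (Finsupp.mapDomain (mapTripS φ) ξ) = combRes (pre N) (v' ≫ v₁) (k ≫ H v₁ hv₁ 0 : W ⟶ W₀)
        (∑ i, Finsupp.single (Mod48.res (pre N) (h₀ i).op (t₀ i).m) (b₀ i)) := by
      rw [hsum, map_sum, map_sum]
      refine Finset.sum_congr rfl fun i _ => ?_
      rw [hcol _ (ht₀ i), combRes_single, res_res]
      refine congrArg (fun z => Finsupp.single (Mod48.res (pre N) z (t₀ i).m) (rres (v' ≫ v₁).op (b₀ i))) ?_
      exact congrArg Quiver.Hom.op ((hk i).symm.trans (Category.assoc _ _ _).symm)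
    rw [← h1, h2]
    refine combRes_mem f (pre N) ?_ hmem
    refine (Category.assoc _ _ _).trans ((congrArg (v' ≫ ·) (hH0 V₁ v₁ hv₁)).trans ?_)
    exact (Category.assoc _ _ _).symm.trans ((congrArg (· ≫ f.fn.map (H v₁ hv₁ 0)) hg).trans
      ((Category.assoc _ _ _).trans (congrArg (g ≫ ·) (f.fn.map_comp _ _).symm)))
  obtain ⟨S₃, hS₃, h₃⟩ := exists_rels_preimage_local hf φ g μ hμ
  refine ⟨S₃, hS₃, fun V₃ w hw => ?_⟩
  obtain ⟨W', k', g', hg', hmem'⟩ := h₃ w hw
  rw [sumsRes_sumsRes]
  refine ⟨W', g', ξ.support.card, fun j => (t j).res _ _ (w ≫ v' ≫ v₁),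
    fun j => rres (w ≫ v' ≫ v₁).op (ξ (t j)), fun j => k' ≫ hh j, fun j => ?_, ?_, ?_⟩
  · change (w ≫ v' ≫ v₁) ≫ (t j).g = g' ≫ f.fn.map (k' ≫ hh j)
    refine (Category.assoc w (v' ≫ v₁) (t j).g).trans ((congrArg (w ≫ ·) (hHW _ (ht j))).trans ?_)
    exact (Category.assoc _ _ _).symm.trans ((congrArg (· ≫ f.fn.map (hh j)) hg').trans
      ((Category.assoc _ _ _).trans (congrArg (g' ≫ ·) (f.fn.map_comp k' (hh j)).symm)))
  · conv_lhs => rw [hξ]
    simp [map_sum, sumsRes_single]
  · convert hmem' using 1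
    rw [map_sum]
    refine Finset.sum_congr rfl fun j _ => ?_
    rw [combRes_single, res_res, rres_rres]
    rfl

include hf in
lemma van_of_van_mapTripS {V : C} (ξ : Sums f (pre M) V)
    (h : Van f (pre N) (Finsupp.mapDomain (mapTripS φ) ξ)) : Van f (pre M) ξ := by
  obtain ⟨S, hS, hS'⟩ := h
  refine van_of_local hS fun V₁ v₁ hv₁ => van_of_vanAt_mapTripS hf φ _ ?_
  have h1 : Finsupp.mapDomain (mapTripS φ) (sumsRes f (pre M) v₁ ξ) =
      sumsRes f (pre N) v₁ (Finsupp.mapDomain (mapTripS φ) ξ) := by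
    clear hS'
    induction ξ using Finsupp.induction_linear with
    | zero => simp
    | add a b ha hb => simp only [map_add, Finsupp.mapDomain_add, ha, hb]
    | single t b => simp only [sumsRes_single, Finsupp.mapDomain_single]; rfl
  exact h1 ▸ hS' v₁ hv₁

include hf in
theorem mono_pull_map_of_flat : Mono (f.pull.map φ) := by
  refine mono_of_ap_injective _ fun V z hz => ?_
  obtain ⟨S, hS, hS'⟩ := locally_preimage (isLocalIso_cmpPull f M) (op V) z
  refine eq_zero_of_locally hS fun V' v hv => ?_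
  obtain ⟨q, hq⟩ := hS' v hv
  obtain ⟨ξ, rfl⟩ := cls_surjective f (pre M) q
  rw [← hq, show cls f (pre M) ξ = 0 from ?_, map_zero]
  rw [cls_eq_zero]
  refine van_of_van_mapTripS hf φ ξ ?_
  have h0 : (cmpPull f N).app (op V')
      (cls f (pre N) (Finsupp.mapDomain (mapTripS φ) ξ)) = 0 := by
    refine (cmpPull_naturality f M φ ξ).symm.trans ?_
    rw [hq, ← res_ap, hz]
    exact res_zero _ _
  obtain ⟨T, hT, he⟩ := locally_eq (isLocalIso_cmpPull f N) (op V') _ 0
    (h0.trans (map_zero _).symm)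
  refine van_of_local hT fun V'' w hw => ?_
  have h1 := (he w hw).trans (res_zero _ _)
  rw [res_cls, cls_eq_zero] at h1
  exact h1

omit φ [Mono φ] in
include hf in
/-- A flat morphism of ringed sites has exact inverse image of modules. -/
theorem rmor_isFlat : f.IsFlat := by
  let L := f.pull
  have : PreservesColimitsOfSize.{0, 0} L := f.adj.leftAdjoint_preservesColimits
  have : L.Additive := Adjunction.left_adjoint_additive f.adj
  have : L.PreservesMonomorphisms := ⟨fun φ _ => mono_pull_map_of_flat hf φ⟩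
  have := L.preservesHomology_of_preservesMonos_and_cokernels
  exact L.preservesFiniteLimits_of_preservesHomology

end Groth.Agent.Mod48
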