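import Groth.Agent.Mod48.InvRingChart
import Groth.Agent.SiteMod.FlatCritConv

/-!
For a flat morphism of ringed sites, relations with coefficients pulled back along charts are locally
combinations of relations in charts.
-/

universe u

open CategoryTheory CategoryTheory.Limits Opposite

namespace Groth.Agent.Mod48

open SiteMod (rres rres_rres sig LocFlat kill locFlat_of_isFlat res_sum)

variable {C D : Type u} [SmallCategory C] [SmallCategory D] {J : GrothendieckTopology C}
  {K : GrothendieckTopology D} {O_C : Sheaf J CommRingCat.{u}} {O_D : Sheaf K CommRingCat.{u}}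
  (f : ModSite.RMor O_C O_D)

/-- A function as a section of `baseMod`. -/
def toB {V : C} (x : O_C.obj.obj (op V)) : (pre f.baseMod).obj (op V) := x

/-- A section of `baseMod` as a function. -/
def ofB {V : C} (x : (pre f.baseMod).obj (op V)) : O_C.obj.obj (op V) := x

lemma ofB_smul {V : C} (a : f.invRing.obj.obj (op V)) (x : (pre f.baseMod).obj (op V)) :
    ofB f (a • x) = (f.invSharp.hom.app (op V)).hom a * ofB f x := rfl

lemma ofB_res {V W : C} (w : W ⟶ V) (x : (pre f.baseMod).obj (op V)) :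
    ofB f (Mod48.res (pre f.baseMod) w.op x) = rres w.op (ofB f x) := rfl

lemma ofB_sum {V : C} {ι : Type*} (s : Finset ι) (x : ι → (pre f.baseMod).obj (op V)) :
    ofB f (∑ i ∈ s, x i) = ∑ i ∈ s, ofB f (x i) := by
  classical
  induction s using Finset.induction with
  | empty => rfl
  | insert i s hi ih =>
    rw [Finset.sum_insert hi, Finset.sum_insert hi, ← ih]
    rfl

lemma rres_invSig_self {X : D} {V W : C} (w : W ⟶ V) (g : V ⟶ f.fn.obj X) (r : O_D.obj.obj (op X)) :
    rres w.op (invSig f g r) = invSig f (w ≫ g) r := by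
  change rres w.op (rres g.op _) = rres (w ≫ g).op _
  rw [rres_rres, ← op_comp]

/-- The equational criterion along charts. -/
lemma flat_chart (hf : ModSite.IsFlat f.baseMod) {X : D} {V : C} (g : V ⟶ f.fn.obj X) {τ κ' : Type*}
    [Fintype τ] [Fintype κ'] (κ : τ → κ' → O_D.obj.obj (op X)) (c : τ → O_C.obj.obj (op V))
    (h : ∀ q, ∑ t, c t * sig f g (κ t q) = 0) :
    ∃ S ∈ J V, ∀ ⦃W : C⦄ (w : W ⟶ V), S w →
      ∃ (X' : D) (g' : W ⟶ f.fn.obj X') (k : X' ⟶ X) (n : ℕ)
        (d : Fin n → τ → O_D.obj.obj (op X')) (e : Fin n → O_C.obj.obj (op W)),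
        w ≫ g = g' ≫ f.fn.map k ∧ (∀ t, rres w.op (c t) = ∑ l, e l * sig f g' (d l t)) ∧
          ∀ l q, ∑ t, d l t * rres k.op (κ t q) = 0 := by
  classical
  let Q : Finset ((pre f.baseMod).obj (op V)) := Finset.univ.image fun t => toB f (c t)
  let rel : κ' → (pre f.baseMod).obj (op V) → f.invRing.obj.obj (op V) := fun q p =>
    ∑ t ∈ Finset.univ.filter (fun t => toB f (c t) = p), invSig f g (κ t q)
  have hrel : ∀ q, ∑ p ∈ Q, rel q p • p = 0 := by
    intro q
    have h1 : ofB f (∑ p ∈ Q, rel q p • p) = 0 := by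
      rw [ofB_sum]
      have h2 : ∀ p ∈ Q, ofB f (rel q p • p) =
          ∑ t ∈ Finset.univ.filter (fun t => toB f (c t) = p), sig f g (κ t q) * c t := by
        intro p _
        rw [ofB_smul, map_sum, Finset.sum_mul]
        refine Finset.sum_congr rfl fun t ht => ?_
        rw [invSharp_invSig, ← (Finset.mem_filter.1 ht).2]
        rfl
      rw [Finset.sum_congr rfl h2, Finset.sum_fiberwise_of_maps_to (g := fun t => toB f (c t)) (t := Q)
        (fun t ht => Finset.mem_image_of_mem _ ht)]
      rw [← h q]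
      exact Finset.sum_congr rfl fun t _ => mul_comm _ _
    exact h1
  obtain ⟨S, hS, hgood⟩ := kill (locFlat_of_isFlat hf) Q ((Finset.univ : Finset κ').toList.map rel) (by
    intro r hr
    obtain ⟨q, -, rfl⟩ := List.mem_map.1 hr
    exact hrel q)
  choose m A s hA hκ using hgood
  let e' : ∀ (W : C) (w : W ⟶ V) (hw : S w), τ × Fin (m w hw) ≃ Fin (Fintype.card (τ × Fin (m w hw))) :=
    fun W w hw => Fintype.equivFin _
  choose S₂ hS₂ h₂ using fun (W : C) (w : W ⟶ V) (hw : S w) =>
    exists_invSigs f (w ≫ g) _ fun i => A w hw (toB f (c ((e' W w hw).symm i).1)) ((e' W w hw).symm i).2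
  choose X₂ g₂ k₂ r hg₂ hr using h₂
  let d : ∀ (W : C) (w : W ⟶ V) (hw : S w) (W' : C) (v : W' ⟶ W) (hv : S₂ W w hw v),
      Fin (m w hw) → τ → O_D.obj.obj (op (X₂ W w hw v hv)) :=
    fun W w hw W' v hv l t => r W w hw v hv (e' W w hw (t, l))
  have hd : ∀ (W : C) (w : W ⟶ V) (hw : S w) (W' : C) (v : W' ⟶ W) (hv : S₂ W w hw v)
      (l : Fin (m w hw)) (t : τ), invSig f (g₂ W w hw v hv) (d W w hw W' v hv l t) =
        rres v.op (A w hw (toB f (c t)) l) := fun W w hw W' v hv l t => by
    rw [← hr W w hw v hv, Equiv.symm_apply_apply]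
  choose S₃ hS₃ h₃ using fun (W : C) (w : W ⟶ V) (hw : S w) (W' : C) (v : W' ⟶ W) (hv : S₂ W w hw v) =>
    exists_invSigs_eq_zero f (Fintype.card (Fin (m w hw) × κ')) (g₂ W w hw v hv)
      (fun i => ∑ t, d W w hw W' v hv ((Fintype.equivFin _).symm i).1 t *
        rres (k₂ W w hw v hv).op (κ t ((Fintype.equivFin _).symm i).2))
      (fun i => by
        generalize (Fintype.equivFin (Fin (m w hw) × κ')).symm i = lq
        obtain ⟨l, q⟩ := lq
        have hz := congrArg (rres v.op) (hκ w hw (rel q)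
          (List.mem_map.2 ⟨q, Finset.mem_toList.2 (Finset.mem_univ q), rfl⟩) l)
        rw [map_zero, map_sum] at hz
        have h4 : ∀ p ∈ Q, rres v.op (rres w.op (rel q p) * A w hw p l) =
            ∑ t ∈ Finset.univ.filter (fun t => toB f (c t) = p),
              invSig f (g₂ W w hw v hv) (d W w hw W' v hv l t * rres (k₂ W w hw v hv).op (κ t q)) := by
          intro p _
          rw [map_mul, map_sum, map_sum, Finset.sum_mul]
          refine Finset.sum_congr rfl fun t ht => ?_
          rw [map_mul, hd, ← rres_invSig f (hg₂ W w hw v hv), mul_comm,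
            ← rres_invSig_self f w g (κ t q), (Finset.mem_filter.1 ht).2]
        rw [Finset.sum_congr rfl h4, Finset.sum_fiberwise_of_maps_to (g := fun t => toB f (c t)) (t := Q)
          (fun t ht => Finset.mem_image_of_mem _ ht)] at hz
        rw [map_sum]
        exact hz)
  refine ⟨Sieve.bind S.1 fun W w hw => Sieve.bind (S₂ W w hw).1 fun W' v hv => S₃ W w hw W' v hv,
    J.bind_covering hS fun W w hw => J.bind_covering (hS₂ W w hw) fun W' v hv => hS₃ W w hw W' v hv, ?_⟩
  rintro W₂ _ ⟨W, _, w, hw, ⟨W', z, v, hv, hz, rfl⟩, rfl⟩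
  obtain ⟨X', g', k, hg, hk⟩ := h₃ W w hw W' v hv z hz
  refine ⟨X', g', k ≫ k₂ W w hw v hv, m w hw, fun l t => rres k.op (d W w hw W' v hv l t),
    fun l => rres (z ≫ v).op (ofB f (s w hw l)), ?_, fun t => ?_, fun l q => ?_⟩
  · refine Eq.trans ?_ ((congrArg (g' ≫ ·) (f.fn.map_comp _ _)).trans
      ((Category.assoc _ _ _).symm.trans (congrArg (· ≫ f.fn.map (k₂ W w hw v hv)) hg.symm))).symm
    rw [Category.assoc, Category.assoc, Category.assoc, hg₂ W w hw v hv]
  · have h5 := congrArg (ofB f) (hA w hw (toB f (c t)) (Finset.mem_image_of_mem _ (Finset.mem_univ t)))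
    rw [ofB_res, ofB_sum] at h5
    have h5' : rres w.op (c t) = ∑ l, ofB f (A w hw (toB f (c t)) l • s w hw l) := h5
    rw [op_comp, ← rres_rres, h5', map_sum]
    refine Finset.sum_congr rfl fun l _ => ?_
    rw [ofB_smul, map_mul, mul_comm]
    refine congrArg (rres (z ≫ v).op (ofB f (s w hw l)) * ·) ?_
    rw [← invSharp_invSig, ← rres_invSig f hg, hd, rres_rres, ← op_comp]
    exact (ConcreteCategory.congr_hom (f.invSharp.hom.naturality (z ≫ v).op) _).symm
  · have h6 := hk (Fintype.equivFin _ (l, q))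
    rw [map_sum, Equiv.symm_apply_apply] at h6
    rw [← h6]
    refine Finset.sum_congr rfl fun t _ => ?_
    rw [map_mul, rres_rres, ← op_comp]

end Groth.Agent.Mod48
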