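import Groth.Agent.Mod48.GermEtale
import Groth.Agent.Unr55.Et.FinitePushExact

/-!
Pullback to the big fppf site commutes with direct image along finite morphisms.
-/

universe u

open CategoryTheory CategoryTheory.Limits AlgebraicGeometry Opposite

namespace Groth.Agent.Mod48

set_option backward.isDefEq.respectTransparency.types false

open Unr55 (EtSh.germ EtSh.Pt EtSh.exists_germ_eq EtSh.ptUpAt EtSh.pushMapAt EtSh.pushMapAt_germ
  EtSh.pushMapAt_injective EtSh.pushMapPi EtSh.pushMapPi_bijective)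

variable {X Y : Scheme.{u}}

/-- Jointly surjective etale maps cover in the big fppf site. -/
theorem mem_J_of_etale {W : Over X} (R : Sieve W)
    (hR : ∀ x : W.left, ∃ (W' : Over X) (g : W' ⟶ W) (w : W'.left), R g ∧ Etale g.left ∧ g.left w = x) :
    R ∈ EtFppf.J X W := by
  rw [GrothendieckTopology.mem_over_iff]
  choose W' g w hg he hw using hR
  have hmem : Presieve.ofArrows (fun x : W.left => (W' x).left) (fun x => (g x).left) ∈
      Scheme.fppfPrecoverage W.left := by
    refine (Scheme.ofArrows_mem_precoverage_iff _).2 ⟨fun x => ⟨x, w x, hw x⟩, fun x => ?_⟩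
    have := he x
    exact ⟨inferInstance, inferInstance⟩
  refine GrothendieckTopology.superset_covering _ ?_ (Precoverage.generate_mem_toGrothendieck hmem)
  rw [Sieve.generate_le_iff]
  rintro Z q ⟨x⟩
  exact (Sieve.overEquiv_iff R (g x).left).2 (by
    have e : (Over.homMk (g x).left : Over.mk ((g x).left ≫ W.hom) ⟶ W) =
        (Over.isoMk (Iso.refl _) (by exact (Category.id_comp _).trans (Over.w (g x)).symm) :
          Over.mk ((g x).left ≫ W.hom) ≅ W' x).hom ≫ g x := by
      apply Over.OverMorphism.ext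
      exact (Category.id_comp _).symm
    rw [e]
    exact R.downward_closed (hg x) _)

variable (h : Y ⟶ X) [EtFppf.ACont X] [EtFppf.ACont Y] (E : EtCoh.Ab Y)

/-- A base change of an etale scheme, as an object of the big site of the source. -/
noncomputable def bcBig (U : X.Etale) :
    (Over.pullback h).obj ((EtFppf.a X).obj U) ⟶ (EtFppf.a Y).obj ((EtCoh.bc h).obj U) :=
  Over.homMk (𝟙 _) (Category.id_comp _)

/-- The base change map. -/
noncomputable def bcMapF :
    (EtFppf.aPull X).obj ((EtCoh.push h).obj E) ⟶ (EtFppf.pushBig h).obj ((EtFppf.aPull Y).obj E) :=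
  ((GSite.adj (EtFppf.J X) (EtFppf.a X)).homEquiv _ _).symm
    { hom :=
      { app := fun U => AddCommGrpCat.ofHom
          { toFun := fun s => ((EtFppf.aPull Y).obj E).obj.map (bcBig h U.unop).op
              (GSite.etaSect (EtFppf.J Y) (EtFppf.a Y) E s)
            map_zero' := (congrArg _ (map_zero _)).trans (map_zero _)
            map_add' := fun s s' => (congrArg _ (map_add _ _ _)).trans (map_add _ _ _) }
        naturality := fun U U' g => by
          ext s
          show ((EtFppf.aPull Y).obj E).obj.map (bcBig h U'.unop).op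
              (GSite.etaSect (EtFppf.J Y) (EtFppf.a Y) E (E.obj.map ((EtCoh.bc h).map g.unop).op s)) =
            ((EtFppf.aPull Y).obj E).obj.map ((Over.pullback h).map ((EtFppf.a X).map g.unop)).op
              (((EtFppf.aPull Y).obj E).obj.map (bcBig h U.unop).op
                (GSite.etaSect (EtFppf.J Y) (EtFppf.a Y) E s))
          rw [← GSite.eta_map, ← ConcreteCategory.comp_apply, ← ConcreteCategory.comp_apply,
            ← Functor.map_comp, ← Functor.map_comp, ← op_comp, ← op_comp]
          refine congrArg (fun k => ((EtFppf.aPull Y).obj E).obj.map (Quiver.Hom.op k)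
            (GSite.etaSect (EtFppf.J Y) (EtFppf.a Y) E s)) ?_
          apply Over.OverMorphism.ext
          exact (Category.id_comp _).trans (Category.comp_id _).symm } }

lemma bcMapF_eta {U : X.Etale} (s : EtCoh.sect E ((EtCoh.bc h).obj U)) :
    (bcMapF h E).hom.app (op ((EtFppf.a X).obj U))
        (GSite.etaSect (EtFppf.J X) (EtFppf.a X) ((EtCoh.push h).obj E) s) =
      ((EtFppf.aPull Y).obj E).obj.map (bcBig h U).op (GSite.etaSect (EtFppf.J Y) (EtFppf.a Y) E s) := by
  have hh : (GSite.adj (EtFppf.J X) (EtFppf.a X)).homEquiv _ _ (bcMapF h E) = _ := Equiv.apply_symm_apply _ _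
  rw [Adjunction.homEquiv_unit] at hh
  exact congrArg (fun φ : (EtCoh.push h).obj E ⟶ _ => φ.hom.app (op U) s) hh

/-- The lift of a point to a base change. -/
noncomputable def ptLift {W : Over X} {η : GPt X} (v : (fppfGSite X).Pts η W)
    (ξ : Spec (CommRingCat.of η.k) ⟶ Y) (hξ : ξ ≫ h = η.hom) :
    (fppfGSite Y).Pts ⟨η.k, ξ⟩ ((Over.pullback h).obj W) :=
  Over.homMk (pullback.lift (f := W.hom) (g := h) v.left ξ ((Over.w v).trans hξ.symm))
    (pullback.lift_snd _ _ _)

lemma ptLift_fst {W : Over X} {η : GPt X} (v : (fppfGSite X).Pts η W)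
    (ξ : Spec (CommRingCat.of η.k) ⟶ Y) (hξ : ξ ≫ h = η.hom) :
    (ptLift h v ξ hξ).left ≫ pullback.fst W.hom h = v.left :=
  pullback.lift_fst _ _ _

lemma ptLift_map {W W' : Over X} {η : GPt X} (g : W ⟶ W') (v : (fppfGSite X).Pts η W)
    (ξ : Spec (CommRingCat.of η.k) ⟶ Y) (hξ : ξ ≫ h = η.hom) :
    ptLift h v ξ hξ ≫ (fppfGSite Y).U.map ((Over.pullback h).map g) =
      ptLift h (v ≫ (fppfGSite X).U.map g) ξ hξ := by
  apply Over.OverMorphism.ext
  refine pullback.hom_ext ?_ ?_
  · show (pullback.lift v.left ξ _ ≫ pullback.lift (pullback.fst _ _ ≫ g.left) (pullback.snd _ _) _) ≫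
      pullback.fst _ _ = pullback.lift _ ξ _ ≫ pullback.fst _ _
    rw [Category.assoc, pullback.lift_fst, pullback.lift_fst_assoc, pullback.lift_fst]
    rfl
  · show (pullback.lift v.left ξ _ ≫ pullback.lift (pullback.fst _ _ ≫ g.left) (pullback.snd _ _) _) ≫
      pullback.snd _ _ = pullback.lift _ ξ _ ≫ pullback.snd _ _
    rw [Category.assoc, pullback.lift_snd, pullback.lift_snd, pullback.lift_snd]

/-- Values of the base change map. -/
theorem val_bcMapF {W : Over X} (t : ((EtFppf.aPull X).obj ((EtCoh.push h).obj E)).obj.obj (op W))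
    (η : GPt X) (v : (fppfGSite X).Pts η W) (ξ : Spec (CommRingCat.of η.k) ⟶ Y) (hξ : ξ ≫ h = η.hom) :
    (fppfGSite Y).val E ⟨η.k, ξ⟩ (ptLift h v ξ hξ) ((bcMapF h E).hom.app (op W) t) =
      EtSh.pushMapAt h hξ E ((fppfGSite X).val ((EtCoh.push h).obj E) η v t) := by
  obtain ⟨W', g, w, ⟨U, π, s, hs⟩, rfl⟩ :=
    (fppfGSite X).exists_lift_pts ((fppfGSite X).repSieve_mem ((EtCoh.push h).obj E) t) η v
  have e1 : ((EtFppf.pushBig h).obj ((EtFppf.aPull Y).obj E)).obj.map g.op ((bcMapF h E).hom.app (op W) t) =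
      ((EtFppf.aPull Y).obj E).obj.map ((Over.pullback h).map π).op
        (((EtFppf.aPull Y).obj E).obj.map (bcBig h U).op (GSite.etaSect (EtFppf.J Y) (EtFppf.a Y) E s)) :=
    (NatTrans.naturality_apply (bcMapF h E).hom g.op t).symm.trans
      ((congrArg ((bcMapF h E).hom.app (op W')) hs).trans
        ((NatTrans.naturality_apply (bcMapF h E).hom π.op _).trans
          (congrArg _ (bcMapF_eta h E s))))
  rw [← ptLift_map, ← GSite.val_map, ← GSite.val_map, hs, GSite.val_rep]
  refine (congrArg ((fppfGSite Y).val E ⟨η.k, ξ⟩ (ptLift h w ξ hξ)) e1).trans ?_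
  rw [← ConcreteCategory.comp_apply, ← Functor.map_comp, ← op_comp, GSite.val_rep]
  refine Eq.trans ?_ (EtSh.pushMapAt_germ h hξ E _ s).symm
  congr 1
  congr 1
  apply Over.OverMorphism.ext
  refine pullback.hom_ext ?_ ?_
  · show (pullback.lift w.left ξ _ ≫ ((pullback.lift (pullback.fst _ _ ≫ π.left) (pullback.snd _ _) _ ≫
      𝟙 _) ≫ 𝟙 _)) ≫ pullback.fst _ _ = pullback.lift (w.left ≫ π.left ≫ 𝟙 _) ξ _ ≫ pullback.fst _ _
    simp only [Category.comp_id, Category.assoc, pullback.lift_fst, pullback.lift_fst_assoc]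

  · show (pullback.lift w.left ξ _ ≫ ((pullback.lift (pullback.fst _ _ ≫ π.left) (pullback.snd _ _) _ ≫
      𝟙 _) ≫ 𝟙 _)) ≫ pullback.snd _ _ = pullback.lift (w.left ≫ π.left ≫ 𝟙 _) ξ _ ≫ pullback.snd _ _
    simp only [Category.comp_id, Category.assoc, pullback.lift_snd]

variable [IsFinite h]

lemma bcMapF_injective (W : Over X) : Function.Injective ((bcMapF h E).hom.app (op W)) := by
  refine (injective_iff_map_eq_zero _).2 fun t ht => ?_
  refine (fppfGSite X).eq_zero_of_val _ t fun η v => EtSh.pushMapAt_injective h E _ fun ξ hξ => ?_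
  rw [← val_bcMapF, ht]
  exact map_zero _

lemma bcMapF_surjective (W : Over X) : Function.Surjective ((bcMapF h E).hom.app (op W)) := by
  intro t
  let P := (EtFppf.aPull X).obj ((EtCoh.push h).obj E)
  let Q := (EtFppf.pushBig h).obj ((EtFppf.aPull Y).obj E)
  let R : Sieve W :=
    { arrows := fun W' g => ∃ σ : P.obj.obj (op W'), (bcMapF h E).hom.app (op W') σ = Q.obj.map g.op t
      downward_closed := fun {W' W'' g} ⟨σ, hσ⟩ k => ⟨P.obj.map k.op σ, by
        rw [op_comp, Functor.map_comp, ConcreteCategory.comp_apply, ← hσ]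
        exact NatTrans.naturality_apply (bcMapF h E).hom k.op σ⟩ }
  have hR : R ∈ EtFppf.J X W := mem_J_of_etale R fun x => by
    obtain ⟨η, v, hv⟩ := exists_gpt ((fppfGSite X).U.obj W) x
    let S := fun ξ : {ξ : Spec (CommRingCat.of η.k) ⟶ Y // ξ ≫ h = η.hom} => (EtCoh.stalk ξ.1).obj E
    have : Finite (FlatMor66.GPt h η.hom) :=
      FlatMor66.finite_GPt h η.hom (h.finite_preimage_singleton _)
    let ee := Concrete.productEquiv S
    obtain ⟨a, ha⟩ := (EtSh.pushMapPi_bijective h η.hom E).2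
      (ee.symm fun ξ => (fppfGSite Y).val E ⟨η.k, ξ.1⟩ (ptLift h v ξ.1 ξ.2) t)
    have hcomp : ∀ ξ hξ, EtSh.pushMapAt h hξ E a =
        (fppfGSite Y).val E ⟨η.k, ξ⟩ (ptLift h v ξ hξ) t := fun ξ hξ => by
      have e1 : ee (EtSh.pushMapPi h η.hom E a) ⟨ξ, hξ⟩ = EtSh.pushMapAt h hξ E a :=
        (Concrete.productEquiv_apply_apply S _ _).trans (ConcreteCategory.congr_hom (Pi.lift_π _ _) a)
      rw [← e1]
      exact (congrArg (fun q => ee q ⟨ξ, hξ⟩) ha).trans (by rw [Equiv.apply_symm_apply])
    obtain ⟨U₀, u₀, s, hs⟩ := EtSh.exists_germ_eq η.hom ((EtCoh.push h).obj E) a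
    have : Etale U₀.hom := U₀.prop
    let vl : Spec (CommRingCat.of η.k) ⟶ W.left := v.left
    let ul : Spec (CommRingCat.of η.k) ⟶ U₀.left := u₀.left
    have hvu : vl ≫ W.hom = ul ≫ U₀.hom := (Over.w v).trans (Over.w u₀).symm
    let W₁ : Over X := Over.mk (pullback.fst W.hom U₀.hom ≫ W.hom)
    let q : W₁ ⟶ W := Over.homMk (pullback.fst W.hom U₀.hom) rfl
    let π : W₁ ⟶ (EtFppf.a X).obj U₀ := Over.homMk (pullback.snd W.hom U₀.hom) pullback.condition.symm
    let v₁ : (fppfGSite X).Pts η W₁ := Over.homMk (pullback.lift vl ul hvu) (by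
      show pullback.lift vl ul hvu ≫ pullback.fst W.hom U₀.hom ≫ W.hom = η.hom
      rw [pullback.lift_fst_assoc]
      exact Over.w v)
    have hq : v₁ ≫ (fppfGSite X).U.map q = v := Over.OverMorphism.ext (pullback.lift_fst _ _ _)
    have hπ : (v₁ ≫ (fppfGSite X).unE π : EtSh.Pt η.hom U₀) = u₀ := by
      apply Over.OverMorphism.ext
      show pullback.lift vl ul hvu ≫ pullback.snd W.hom U₀.hom ≫ 𝟙 _ = ul
      rw [Category.comp_id, pullback.lift_snd]
    let σ : P.obj.obj (op W₁) :=
      P.obj.map π.op (GSite.etaSect (EtFppf.J X) (EtFppf.a X) ((EtCoh.push h).obj E) s)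
    let d : ((EtFppf.aPull Y).obj E).obj.obj (op ((Over.pullback h).obj W₁)) :=
      (bcMapF h E).hom.app (op W₁) σ - Q.obj.map q.op t
    let B : Set (pullback W₁.hom h : Scheme.{u}) := ((fppfGSite Y).locusSet E d)ᶜ
    have hB : IsClosed (pullback.fst W₁.hom h '' B) := by
      have : IsFinite (pullback.fst W₁.hom h) := MorphismProperty.pullback_fst _ _ inferInstance
      exact (pullback.fst W₁.hom h).isClosedMap _ ((fppfGSite Y).isOpen_locusSet E d).isClosed_compl
    let O : W₁.left.Opens := ⟨(pullback.fst W₁.hom h '' B)ᶜ, hB.isOpen_compl⟩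
    let xp : W₁.left := img (η := η) (Y := (fppfGSite X).U.obj W₁) v₁
    have hx : xp ∈ O := by
      rintro ⟨z, hz, hzx⟩
      have : IsFinite (pullback.fst W₁.hom h) := MorphismProperty.pullback_fst _ _ inferInstance
      let vl₁ : Spec (CommRingCat.of η.k) ⟶ W₁.left := v₁.left
      obtain ⟨⟨c, hc⟩, hcz⟩ := FlatMor66.exists_lift (pullback.fst W₁.hom h) vl₁ z
        (hzx.trans (congrArg vl₁ (Subsingleton.elim _ _)))
      have hξ : (c ≫ pullback.snd W₁.hom h) ≫ h = η.hom := by
        rw [Category.assoc, ← pullback.condition, reassoc_of% hc]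
        exact Over.w v₁
      refine hz ?_
      have hw : (ptLift h v₁ _ hξ).left = c :=
        pullback.hom_ext ((pullback.lift_fst _ _ _).trans hc.symm) (pullback.lift_snd _ _ _)
      have : img (ptLift h v₁ _ hξ) = z := by
        refine Eq.trans ?_ hcz
        show (ptLift h v₁ _ hξ).left _ = c _
        rw [hw]
        exact congrArg c (Subsingleton.elim _ _)
      rw [← this]
      refine ((fppfGSite Y).mem_locusSet_iff E d _ _).2 ?_
      refine (map_sub _ _ _).trans (sub_eq_zero.2 ?_)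
      rw [val_bcMapF]
      refine Eq.trans (congrArg _ ?_) ((hcomp _ hξ).trans ?_)
      · rw [GSite.val_rep, hπ]
        exact hs
      · refine (congrArg (fun w => (fppfGSite Y).val E _ (ptLift h w _ hξ) t) hq).symm.trans ?_
        show (fppfGSite Y).val E _ (ptLift h (v₁ ≫ (fppfGSite X).U.map q) _ hξ) t = _
        rw [← ptLift_map, ← GSite.val_map]
        rfl
    let W₂ : Over X := Over.mk (O.ι ≫ W₁.hom)
    let o : W₂ ⟶ W₁ := Over.homMk O.ι rfl
    have hz : ((EtFppf.aPull Y).obj E).obj.map ((Over.pullback h).map o).op d = 0 := by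
      refine (fppfGSite Y).eq_zero_of_val E _ fun ζ u => ?_
      rw [GSite.val_map, ← GSite.mem_locusSet_iff]
      by_contra hn
      let p : (pullback W₂.hom h : Scheme.{u}) := img u
      have e2 : pullback.fst W₁.hom h (((Over.pullback h).map o).left p) = O.ι (pullback.fst W₂.hom h p) := by
        have e3 : ((Over.pullback h).map o).left ≫ pullback.fst W₁.hom h = pullback.fst W₂.hom h ≫ O.ι :=
          pullback.lift_fst _ _ _
        rw [← Scheme.Hom.comp_apply, ← Scheme.Hom.comp_apply]
        exact congrArg (fun r : pullback W₂.hom h ⟶ W₁.left => r p) e3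
      exact (pullback.fst W₂.hom h p : O.toScheme).2 ⟨_, hn, e2⟩
    refine ⟨W₂, o ≫ q, (⟨xp, hx⟩ : O.toScheme), ⟨P.obj.map o.op σ, ?_⟩, ?_, ?_⟩
    · rw [op_comp, Functor.map_comp, ConcreteCategory.comp_apply]
      exact (NatTrans.naturality_apply (bcMapF h E).hom o.op σ).trans
        (sub_eq_zero.1 ((map_sub _ _ _).symm.trans hz))
    · show Etale (O.ι ≫ pullback.fst W.hom U₀.hom)
      infer_instance
    · exact (congrArg (fun r : (fppfGSite X).Pts η W => img r) hq).trans hv
  choose σ hσ using fun W' (g : W' ⟶ W) (hg : R g) => hg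
  have hP := fun (K : EtFppf.AbF X) => (isSheaf_iff_isSheaf_of_type _ _).1
    (Presheaf.isSheaf_comp_of_isSheaf (EtFppf.J X) K.obj (forget AddCommGrpCat.{u + 1}) K.property)
  have hcomp : Presieve.FamilyOfElements.Compatible
      (P := P.obj ⋙ forget AddCommGrpCat.{u + 1}) (R := R.arrows) σ := by
    intro W₁ W₂ W' g₁ g₂ f₁ f₂ h₁ h₂ w
    refine bcMapF_injective h E W' ?_
    show (bcMapF h E).hom.app (op W') (P.obj.map g₁.op (σ W₁ f₁ h₁)) =
      (bcMapF h E).hom.app (op W') (P.obj.map g₂.op (σ W₂ f₂ h₂))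
    rw [NatTrans.naturality_apply, NatTrans.naturality_apply, hσ, hσ, ← ConcreteCategory.comp_apply,
      ← ConcreteCategory.comp_apply, ← Functor.map_comp, ← Functor.map_comp, ← op_comp, ← op_comp, w]
  obtain ⟨s, hs, -⟩ := hP P R hR σ hcomp
  refine ⟨s, (hP Q R hR).isSeparatedFor.ext fun W' g hg => ?_⟩
  show Q.obj.map g.op ((bcMapF h E).hom.app (op W) s) = Q.obj.map g.op t
  rw [← hσ W' g hg]
  exact (NatTrans.naturality_apply (bcMapF h E).hom g.op s).symm.trans (congrArg _ (hs g hg))

/-- Pullback to the big fppf site commutes with direct image along a finite morphism. -/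
theorem isIso_bcMapF : IsIso (bcMapF h E) := by
  have : ∀ W, IsIso ((bcMapF h E).hom.app W) := fun W =>
    (ConcreteCategory.isIso_iff_bijective _).2 ⟨bcMapF_injective h E W.unop, bcMapF_surjective h E W.unop⟩
  have : IsIso (bcMapF h E).hom := NatIso.isIso_of_isIso_app _
  exact (isIso_iff_of_reflects_iso (bcMapF h E) (sheafToPresheaf _ AddCommGrpCat.{u + 1})).1 this

end Groth.Agent.Mod48
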