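import Groth.Agent.Mod48.FppfRestrict
import Groth.Agent.Mod48.FppfFiniteBC
import Groth.Agent.Mod48.FiniteDescent

/-!
Classes on the big fppf site that die etale locally, and their behaviour under direct image along finite
morphisms.
-/

universe u

open CategoryTheory CategoryTheory.Limits AlgebraicGeometry Opposite CategoryTheory.Abelian

namespace Groth.Agent.Mod48

set_option backward.isDefEq.respectTransparency.types false

variable {X : Scheme.{u}}

/-- The class dies etale locally. -/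
def EtKill {G : EtFppf.AbF X} {W : Over X} {n : ℕ} (ξ : Ext.{u + 1} (lFree (EtFppf.J X) W) G n) : Prop :=
  ∀ x : W.left, ∃ (W' : Over X) (g : W' ⟶ W) (w : W'.left), Etale g.left ∧ g.left w = x ∧ resX g ξ = 0

/-- All classes of a degree die etale locally. -/
def Acy (G : EtFppf.AbF X) (n : ℕ) : Prop :=
  ∀ (W : Over X) (ξ : Ext.{u + 1} (lFree (EtFppf.J X) W) G n), EtKill ξ

lemma etKill_of_eq_zero {G : EtFppf.AbF X} {W : Over X} {n : ℕ}
    {ξ : Ext.{u + 1} (lFree (EtFppf.J X) W) G n} (h : ξ = 0) : EtKill ξ := fun x =>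
  ⟨W, 𝟙 W, x, (inferInstance : Etale (𝟙 W.left)), rfl, by rw [h]; exact resX_zero _⟩

lemma etKill_of_local {G : EtFppf.AbF X} {W : Over X} {n : ℕ} {ξ : Ext.{u + 1} (lFree (EtFppf.J X) W) G n}
    (h : ∀ x : W.left, ∃ (W' : Over X) (g : W' ⟶ W) (w : W'.left),
      Etale g.left ∧ g.left w = x ∧ EtKill (resX g ξ)) : EtKill ξ := fun x => by
  obtain ⟨W', g, w, hg, hw, hk⟩ := h x
  obtain ⟨W'', g', w', hg', hw', hz⟩ := hk w
  refine ⟨W'', g' ≫ g, w', ?_, ?_, by rw [resX_comp]; exact hz⟩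
  · show Etale (g'.left ≫ g.left)
    infer_instance
  · show g.left (g'.left w') = x
    rw [hw', hw]

lemma etKill_sieve_mem {G : EtFppf.AbF X} {W : Over X} {n : ℕ} {ξ : Ext.{u + 1} (lFree (EtFppf.J X) W) G n}
    (h : EtKill ξ) :
    ({ arrows := fun _ g => resX g ξ = 0
       downward_closed := fun {V V' g} hg k => by rw [resX_comp, hg]; exact resX_zero _ } : Sieve W) ∈
      EtFppf.J X W := mem_J_of_etale _ fun x => by
  obtain ⟨W', g, w, hg, hw, hz⟩ := h x
  exact ⟨W', g, w, hz, hg, hw⟩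

/-- Sections over a scheme decomposed into finitely many disjoint open pieces. -/
theorem bijective_pieces (G : EtFppf.AbF X) {W : Over X} {n : ℕ} (A : Fin n → W.left.Opens)
    (hA : ∀ z : W.left, ∃! i, z ∈ A i) :
    Function.Bijective fun (s : G.obj.obj (op W)) (i : Fin n) =>
      G.obj.map (Over.homMk (A i).ι rfl : Over.mk ((A i).ι ≫ W.hom) ⟶ W).op s := by
  let P : Fin n → Over X := fun i => Over.mk ((A i).ι ≫ W.hom)
  let π : ∀ i, P i ⟶ W := fun i => Over.homMk (A i).ι rfl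
  have hS : Sieve.generate (Presieve.ofArrows P π) ∈ EtFppf.J X W := mem_J_of_etale _ fun z => by
    obtain ⟨i, hi, -⟩ := hA z
    exact ⟨P i, π i, (⟨z, hi⟩ : (A i).toScheme), Sieve.le_generate _ _ _ ⟨i⟩,
      (inferInstance : Etale (A i).ι), rfl⟩
  have hG := (isSheaf_iff_isSheaf_of_type _ _).1
    (Presheaf.isSheaf_comp_of_isSheaf (EtFppf.J X) G.obj (forget AddCommGrpCat.{u + 1}) G.property)
  have h := (Presieve.isSheafFor_iff_generate _).2 (hG _ hS)
  rw [Presieve.isSheafFor_arrows_iff] at h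
  have hc : ∀ s : ∀ i, (G.obj ⋙ forget AddCommGrpCat.{u + 1}).obj (op (P i)),
      Presieve.Arrows.Compatible (G.obj ⋙ forget AddCommGrpCat.{u + 1}) π s := by
    intro s i j Z gi gj hw
    by_cases hZ : Nonempty Z.left
    · obtain ⟨z⟩ := hZ
      have e : (A i).ι (gi.left z) = (A j).ι (gj.left z) :=
        congrArg (fun q : Z ⟶ W => q.left z) hw
      obtain rfl : i = j := (hA ((A i).ι (gi.left z))).unique (gi.left z : (A i).toScheme).2
        (by rw [e]; exact (gj.left z : (A j).toScheme).2)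
      have : gi = gj := Over.OverMorphism.ext ((cancel_mono (A i).ι).1
        (congrArg (fun q : Z ⟶ W => q.left) hw :))
      rw [this]
    · have hbot : (⊥ : Sieve Z) ∈ EtFppf.J X Z := mem_J_of_etale _ fun z => (hZ ⟨z⟩).elim
      exact (hG _ hbot).isSeparatedFor.ext fun _ _ hf => hf.elim
  constructor
  · intro s t hst
    exact (h _ (hc fun i => G.obj.map (π i).op s)).unique (fun i => rfl) fun i => (congrFun hst i).symm
  · intro s
    obtain ⟨t, ht, -⟩ := h s (hc s)
    exact ⟨t, funext ht⟩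

/-- A class vanishing on each of finitely many disjoint open pieces vanishes. -/
theorem eq_zero_of_pieces {G : EtFppf.AbF X} {W : Over X} {m : ℕ}
    (ξ : Ext.{u + 1} (lFree (EtFppf.J X) W) G m) {n : ℕ} (A : Fin n → W.left.Opens)
    (hA : ∀ z : W.left, ∃! i, z ∈ A i)
    (h : ∀ i, resX (Over.homMk (A i).ι rfl : Over.mk ((A i).ι ≫ W.hom) ⟶ W) ξ = 0) : ξ = 0 :=
  eq_zero_of_decomposition (fun i => Over.mk ((A i).ι ≫ W.hom))
    (fun i => (Over.homMk (A i).ι rfl : Over.mk ((A i).ι ≫ W.hom) ⟶ W))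
    (fun H => bijective_pieces H A hA) ξ h

variable {Y : Scheme.{u}} (h : Y ⟶ X)

/-- The counit on the underlying schemes. -/
noncomputable abbrev piW (W : Over X) : (Over.map h).obj ((Over.pullback h).obj W) ⟶ W :=
  (Over.mapPullbackAdj h).counit.app W

/-- Adjoint classes on the source. -/
noncomputable def psi (M : EtFppf.AbF Y) {W : Over X} {n : ℕ}
    (η : Ext.{u + 1} (lFree (EtFppf.J X) W) ((EtFppf.pushBig h).obj M) n) :
    Ext.{u + 1} (lFree (EtFppf.J Y) ((Over.pullback h).obj W)) M n :=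
  (fExt h (piW h W) _ n η).comp (Ext.mk₀ ((fResAdj h).counit.app M)) (add_zero n)

lemma psi_resX {M : EtFppf.AbF Y} {W W' : Over X} (g : W' ⟶ W) {n : ℕ}
    (η : Ext.{u + 1} (lFree (EtFppf.J X) W) ((EtFppf.pushBig h).obj M) n) :
    psi h M (resX g η) = resX ((Over.pullback h).map g) (psi h M η) := by
  have e : piW h W' ≫ g = (Over.map h).map ((Over.pullback h).map g) ≫ piW h W :=
    ((Over.mapPullbackAdj h).counit.naturality g).symm
  rw [psi, psi, fExt_resX, resX_comp_ext, resX_fExt, e]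

lemma counit_sections {M : EtFppf.AbF Y} {W : Over X} (x : ((EtFppf.pushBig h).obj M).obj.obj (op W)) :
    ((fResAdj h).counit.app M).hom.app (op ((Over.pullback h).obj W))
        (((EtFppf.pushBig h).obj M).obj.map (piW h W).op x) = x := by
  show M.obj.map ((Over.mapPullbackAdj h).unit.app ((Over.pullback h).obj W)).op
    (M.obj.map ((Over.pullback h).map (piW h W)).op x) = x
  rw [← ConcreteCategory.comp_apply, ← Functor.map_comp, ← op_comp,
    Adjunction.right_triangle_components]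
  exact ConcreteCategory.congr_hom (M.obj.map_id _) x

lemma psi_mk₀ {M : EtFppf.AbF Y} {W : Over X} (x : ((EtFppf.pushBig h).obj M).obj.obj (op W)) :
    psi h M (Ext.mk₀ ((lEquiv W _).symm x)) = Ext.mk₀ ((lEquiv ((Over.pullback h).obj W) M).symm x) := by
  rw [psi, SiteCoh.extTransfer_mk₀, Ext.mk₀_comp_mk₀]
  congr 1
  apply (lEquiv _ _).injective
  rw [lEquiv_comp, lEquiv_fFree_comp, AddEquiv.apply_symm_apply]
  exact (counit_sections h x).trans ((lEquiv ((Over.pullback h).obj W) M).apply_symm_apply x).symm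

variable [IsFinite h]

/-- An etale covering of the source is refined, etale locally on the target, by finite decompositions. -/
theorem exists_pieces {W : Over X} (P : ∀ {V : Over Y}, (V ⟶ (Over.pullback h).obj W) → Prop)
    (hdown : ∀ {V V' : Over Y} (g : V ⟶ (Over.pullback h).obj W) (k : V' ⟶ V), P g → P (k ≫ g))
    (hcov : ∀ z : ((Over.pullback h).obj W).left, ∃ (V : Over Y) (g : V ⟶ (Over.pullback h).obj W) (v : V.left),
      Etale g.left ∧ g.left v = z ∧ P g) (x : W.left) :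
    ∃ (W₀ : Over X) (g : W₀ ⟶ W) (w : W₀.left) (n : ℕ) (A : Fin n → ((Over.pullback h).obj W₀).left.Opens),
      Etale g.left ∧ g.left w = x ∧ (∀ z : ((Over.pullback h).obj W₀).left, ∃! i, z ∈ A i) ∧
      ∀ i, P ((Over.homMk (A i).ι rfl : Over.mk ((A i).ι ≫ ((Over.pullback h).obj W₀).hom) ⟶
        (Over.pullback h).obj W₀) ≫ (Over.pullback h).map g) := by
  let h' : pullback W.hom h ⟶ W.left := pullback.fst W.hom h
  have : IsFinite h' := MorphismProperty.pullback_fst _ _ inferInstance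
  let Q : ∀ {V : Scheme.{u}}, (V ⟶ pullback W.hom h) → Prop := fun {V} g =>
    ∃ hg : g ≫ pullback.snd W.hom h = g ≫ pullback.snd W.hom h,
      P (Over.homMk g hg : Over.mk (g ≫ pullback.snd W.hom h) ⟶ (Over.pullback h).obj W)
  obtain ⟨W₀, b, w, n, A, hb, hw, hA, hAi⟩ := exists_finite_decomposition h' Q (fun z => by
    obtain ⟨V, g, v, hg, hv, hPg⟩ := hcov z
    refine ⟨V.left, g.left, v, hg, ⟨rfl, ?_⟩, hv⟩
    have e : (Over.homMk g.left rfl : Over.mk (g.left ≫ pullback.snd W.hom h) ⟶ (Over.pullback h).obj W) =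
        (Over.homMk (𝟙 V.left) ((Category.id_comp _).trans (Over.w g).symm) :
          Over.mk (g.left ≫ pullback.snd W.hom h) ⟶ V) ≫ g :=
      Over.OverMorphism.ext (Category.id_comp _).symm
    rw [e]
    exact hdown _ _ hPg) x
  let W₁ : Over X := Over.mk (b ≫ W.hom)
  let g : W₁ ⟶ W := Over.homMk b rfl
  let e : ((Over.pullback h).obj W₁).left ⟶ pullback h' b :=
    pullback.lift ((Over.pullback h).map g).left (pullback.fst W₁.hom h) (pullback.lift_fst _ _ _)
  refine ⟨W₁, g, w, n, fun i => e ⁻¹ᵁ A i, hb, hw, fun z => hA (e z), fun i => ?_⟩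
  obtain ⟨V, gV, l, ⟨_, hP'⟩, hl⟩ := hAi i
  have h1 : ((e ∣_ A i) ≫ l) ≫ gV = (e ⁻¹ᵁ A i).ι ≫ ((Over.pullback h).map g).left := by
    rw [Category.assoc, hl, morphismRestrict_ι_assoc, pullback.lift_fst]
  let k : Over.mk ((e ⁻¹ᵁ A i).ι ≫ ((Over.pullback h).obj W₁).hom) ⟶ Over.mk (gV ≫ pullback.snd W.hom h) :=
    Over.homMk ((e ∣_ A i) ≫ l) (by
      show ((e ∣_ A i) ≫ l) ≫ gV ≫ pullback.snd W.hom h = (e ⁻¹ᵁ A i).ι ≫ ((Over.pullback h).obj W₁).hom
      rw [← Category.assoc, h1, Category.assoc]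
      exact congrArg ((e ⁻¹ᵁ A i).ι ≫ ·) (Over.w ((Over.pullback h).map g)))
  convert hdown _ k hP' using 1
  exact Over.OverMorphism.ext h1.symm

/-- If the adjoint class dies etale locally, it dies after an etale localisation of the target. -/
theorem exists_psi_eq_zero {M : EtFppf.AbF Y} {W : Over X} {n : ℕ}
    (η : Ext.{u + 1} (lFree (EtFppf.J Y) ((Over.pullback h).obj W)) M n) (hη : EtKill η) (x : W.left) :
    ∃ (W₀ : Over X) (g : W₀ ⟶ W) (w : W₀.left), Etale g.left ∧ g.left w = x ∧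
      resX ((Over.pullback h).map g) η = 0 := by
  obtain ⟨W₀, g, w, m, A, hg, hw, hA, hAi⟩ := exists_pieces h (fun {V} g => resX g η = 0)
    (fun {V V'} g k hk => by rw [resX_comp, hk]; exact resX_zero _)
    (fun z => by
      obtain ⟨V, g, v, hg, hv, hz⟩ := hη z
      exact ⟨V, g, v, hg, hv, hz⟩) x
  refine ⟨W₀, g, w, hg, hw, eq_zero_of_pieces _ A hA fun i => ?_⟩
  rw [← resX_comp]
  exact hAi i

/-- A class on the target dies etale locally if its adjoint class does. -/
theorem etKill_of_psi : ∀ (k : ℕ) (M : EtFppf.AbF Y), (∀ j : ℕ, 1 ≤ j → j ≤ k → Acy M j) →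
    ∀ (W : Over X) (η : Ext.{u + 1} (lFree (EtFppf.J X) W) ((EtFppf.pushBig h).obj M) (k + 1)),
      EtKill (psi h M η) → EtKill η := by
  suffices H : ∀ (k : ℕ) (M : EtFppf.AbF Y), (∀ j : ℕ, 1 ≤ j → j ≤ k → Acy M j) →
      ∀ (W : Over X) (η : Ext.{u + 1} (lFree (EtFppf.J X) W) ((EtFppf.pushBig h).obj M) (k + 1)),
        psi h M η = 0 → EtKill η by
    intro k M hM W η hη
    refine etKill_of_local fun x => ?_
    obtain ⟨W₀, g, w, hg, hw, hz⟩ := exists_psi_eq_zero h _ hη x
    exact ⟨W₀, g, w, hg, hw, H k M hM W₀ _ (by rw [psi_resX]; exact hz)⟩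
  intro k
  induction k with
  | zero => ?_
  | succ k ih => ?_
  all_goals
    intro M hM W η hη
    let I := Injective.under M
    let T : ShortComplex (EtFppf.AbF Y) :=
      ShortComplex.mk (Injective.ι M) (cokernel.π (Injective.ι M)) (cokernel.condition _)
    have hT : T.ShortExact :=
      { exact := ShortComplex.exact_of_g_is_cokernel _ (cokernelIsCokernel (Injective.ι M))
        mono_f := inferInstanceAs (Mono (Injective.ι M))
        epi_g := inferInstanceAs (Epi (cokernel.π _)) }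
    let Φ := EtFppf.pushBig h
    have : PreservesLimitsOfSize.{0, 0} Φ := (fResAdj h).rightAdjoint_preservesLimits
    have : PreservesFiniteLimits Φ := PreservesLimitsOfSize.preservesFiniteLimits _
    obtain ⟨hTe, hTm⟩ : (T.map Φ).Exact ∧ Mono (Φ.map T.f) :=
      ⟨((Functor.preservesFiniteLimits_iff_forall_exact_map_and_mono Φ).1 inferInstance _ hT).1,
        ((Functor.preservesFiniteLimits_iff_forall_exact_map_and_mono Φ).1 inferInstance _ hT).2⟩
    let S : ShortComplex (EtFppf.AbF X) :=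
      ShortComplex.mk (Φ.map T.f) (cokernel.π (Φ.map T.f)) (cokernel.condition _)
    have hS : S.ShortExact :=
      { exact := ShortComplex.exact_of_g_is_cokernel _ (cokernelIsCokernel (Φ.map T.f))
        mono_f := hTm
        epi_g := inferInstanceAs (Epi (cokernel.π _)) }
    let j : S.X₃ ⟶ Φ.obj T.X₃ := cokernel.desc (Φ.map T.f) (Φ.map T.g) (T.map Φ).zero
    have : Mono j := hTe.mono_cokernelDesc
    have hqj : S.g ≫ j = Φ.map T.g := cokernel.π_desc _ _ _
    let θ : S.map (fRes h) ⟶ T :=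
      { τ₁ := (fResAdj h).counit.app T.X₁
        τ₂ := (fResAdj h).counit.app T.X₂
        τ₃ := (fRes h).map j ≫ (fResAdj h).counit.app T.X₃
        comm₁₂ := ((fResAdj h).counit.naturality T.f).symm
        comm₂₃ := by
          show (fResAdj h).counit.app T.X₂ ≫ T.g =
            (fRes h).map S.g ≫ (fRes h).map j ≫ (fResAdj h).counit.app T.X₃
          rw [← Category.assoc, ← Functor.map_comp, hqj]
          exact ((fResAdj h).counit.naturality T.g).symm }
    have hI : Injective S.X₂ := Injective.injective_of_adjoint (fResAdj h) I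
    obtain ⟨s, rfl⟩ := Ext.covariant_sequence_exact₁ _ hS η
      ((Ext.subsingleton_of_injective _ S.X₂ _).elim _ _) rfl
    have hψ : psi h M (s.comp hS.extClass rfl) =
        (psi h T.X₃ (s.comp (Ext.mk₀ j) (add_zero _))).comp hT.extClass rfl := by
      have e := (hS.map_of_exact (fRes h)).extClass_naturality hT θ
      rw [psi, psi, SiteCoh.extTransfer_comp, Ext.mapExactFunctor_extClass (fRes h) hS,
        fExt_comp, Ext.comp_assoc _ _ _ rfl (add_zero 1) (by omega)]
      refine (congrArg (fun q => Ext.comp _ q rfl) e).trans ?_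
      rw [← Ext.comp_assoc _ _ _ (add_zero _) (zero_add 1) (by omega),
        Ext.comp_assoc _ _ _ (add_zero _) (add_zero 0) (by omega), Ext.mk₀_comp_mk₀]
      rfl
    rw [hψ] at hη
    obtain ⟨t, ht⟩ := Ext.covariant_sequence_exact₃ _ hT _ rfl hη
  · -- degree one
    obtain ⟨φ, rfl⟩ := Ext.addEquiv₀.symm.surjective s
    obtain ⟨σ, rfl⟩ := (lEquiv W _).symm.surjective φ
    obtain ⟨ψ, rfl⟩ := Ext.addEquiv₀.symm.surjective t
    obtain ⟨i, rfl⟩ := (lEquiv _ _).symm.surjective ψ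
    have ht' : (Ext.mk₀ ((lEquiv ((Over.pullback h).obj W) T.X₂).symm i)).comp (Ext.mk₀ T.g) (add_zero 0) =
        psi h T.X₃ ((Ext.mk₀ ((lEquiv W S.X₃).symm σ)).comp (Ext.mk₀ j) (add_zero 0)) := ht
    rw [Ext.mk₀_comp_mk₀, Ext.mk₀_comp_mk₀, lEquiv_symm_comp, lEquiv_symm_comp, psi_mk₀] at ht'
    have hi : T.g.hom.app (op ((Over.pullback h).obj W)) i = j.hom.app (op W) σ :=
      (lEquiv ((Over.pullback h).obj W) T.X₃).symm.injective ((Ext.mk₀_bijective _ _).1 ht')
    have hjm : Function.Injective (j.hom.app (op W)) :=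
      (AddCommGrpCat.mono_iff_injective _).1
        ((NatTrans.mono_iff_mono_app j.hom).1
          ((sheafToPresheaf (EtFppf.J X) AddCommGrpCat.{u + 1}).map_mono j) (op W))
    have hσ : σ = S.g.hom.app (op W) i := hjm (hi.symm.trans
      (congrArg (fun φ : S.X₂ ⟶ Φ.obj T.X₃ => φ.hom.app (op W) i) hqj).symm)
    refine etKill_of_eq_zero ?_
    show (Ext.mk₀ ((lEquiv W S.X₃).symm σ)).comp hS.extClass (zero_add 1) = 0
    rw [hσ, ← lEquiv_symm_comp, ← Ext.mk₀_comp_mk₀,
      Ext.comp_assoc _ _ _ (add_zero 0) (zero_add 1) (by omega), hS.comp_extClass, Ext.comp_zero]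
  · -- higher degree
    have hsurj : Sheaf.IsLocallySurjective j := by
      refine ⟨fun {V} σ => mem_J_of_etale _ fun x => ?_⟩
      let σ' : T.X₃.obj.obj (op ((Over.pullback h).obj V)) := σ
      let θ' := (Ext.mk₀ ((lEquiv ((Over.pullback h).obj V) T.X₃).symm σ')).comp hT.extClass (zero_add 1)
      obtain ⟨V₀, g, v, hg, hv, hz⟩ := exists_psi_eq_zero h θ' (hM 1 le_rfl (by omega) _ θ') x
      rw [resX_comp_ext, resX_mk₀] at hz
      obtain ⟨t₀, ht₀⟩ := Ext.covariant_sequence_exact₃ _ hT _ rfl hz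
      obtain ⟨ψ₀, rfl⟩ := Ext.addEquiv₀.symm.surjective t₀
      obtain ⟨i₀, rfl⟩ := (lEquiv _ _).symm.surjective ψ₀
      have ht₀' : (Ext.mk₀ ((lEquiv ((Over.pullback h).obj V₀) T.X₂).symm i₀)).comp (Ext.mk₀ T.g) (add_zero 0) =
        Ext.mk₀ ((lEquiv ((Over.pullback h).obj V₀) T.X₃).symm
          (T.X₃.obj.map ((Over.pullback h).map g).op σ')) := ht₀
      rw [Ext.mk₀_comp_mk₀, lEquiv_symm_comp] at ht₀'
      have hi := (lEquiv ((Over.pullback h).obj V₀) T.X₃).symm.injective ((Ext.mk₀_bijective _ _).1 ht₀')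
      refine ⟨V₀, g, v, ⟨S.g.hom.app (op V₀) i₀, ?_⟩, hg, hv⟩
      refine (congrArg (fun φ : S.X₂ ⟶ Φ.obj T.X₃ => φ.hom.app (op V₀) i₀) hqj).trans ?_
      exact hi
    have : Epi j := (Sheaf.isLocallySurjective_iff_epi' AddCommGrpCat.{u + 1} j).1 hsurj
    have : IsIso j := isIso_of_mono_of_epi j
    have h0 : psi h T.X₃ (s.comp (Ext.mk₀ j) (add_zero _)) = 0 := by
      rw [← ht, (Ext.subsingleton_of_injective _ I k).elim t 0, Ext.zero_comp]
    have hM' : ∀ i : ℕ, 1 ≤ i → i ≤ k → Acy T.X₃ i := by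
      intro i hi1 hi2 V α
      refine etKill_of_local fun x => ?_
      obtain ⟨V', g, v, hg, hv, hz⟩ := hM (i + 1) (by omega) (by omega) V (α.comp hT.extClass rfl) x
      rw [resX_comp_ext] at hz
      obtain ⟨t', ht'⟩ := Ext.covariant_sequence_exact₃ _ hT (resX g α) rfl hz
      refine ⟨V', g, v, hg, hv, etKill_of_eq_zero ?_⟩
      obtain ⟨i, rfl⟩ := Nat.exists_eq_add_one.2 hi1
      rw [← ht', (Ext.subsingleton_of_injective _ I i).elim t' 0, Ext.zero_comp]
    intro x
    obtain ⟨W', g, w, hg, hw, hz⟩ := ih T.X₃ hM' W _ h0 x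
    refine ⟨W', g, w, hg, hw, ?_⟩
    rw [resX_comp_ext] at hz
    have hs : resX g s = 0 := by
      have := congrArg (fun q => Ext.comp q (Ext.mk₀ (inv j)) (add_zero _)) hz
      rw [Ext.comp_assoc _ _ _ (add_zero _) (add_zero 0) (by omega), Ext.mk₀_comp_mk₀,
        IsIso.hom_inv_id, Ext.comp_mk₀_id, Ext.zero_comp] at this
      exact this
    rw [resX_comp_ext, hs, Ext.zero_comp]

end Groth.Agent.Mod48
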