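import Groth.Agent.Mod48.FppfPush
import Groth.Agent.Unr55.Et.PullExact
import Groth.Agent.EtCore45.Stalks
import Groth.Agent.FlatMor67.FppfPh

/-!
Higher fppf cohomology of sheaves coming from the small etale site dies etale locally.
-/

universe u

open CategoryTheory CategoryTheory.Limits AlgebraicGeometry Opposite CategoryTheory.Abelian

namespace Groth.Agent.Mod48

set_option backward.isDefEq.respectTransparency.types false

open Unr55 (EtSh.germ EtSh.Pt EtSh.exists_germ_eq EtSh.stalk_map_germ)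

variable {X : Scheme.{u}} [EtFppf.ACont X]

/-- Values are natural in the sheaf. -/
lemma val_map_hom {F G : EtCoh.Ab X} (φ : F ⟶ G) {W : Over X}
    (t : ((EtFppf.aPull X).obj F).obj.obj (op W)) (η : GPt X) (v : (fppfGSite X).Pts η W) :
    (fppfGSite X).val G η v (((EtFppf.aPull X).map φ).hom.app (op W) t) =
      (EtCoh.stalk η.hom).map φ ((fppfGSite X).val F η v t) := by
  obtain ⟨W', g, w, ⟨U, π, s, hs⟩, rfl⟩ :=
    (fppfGSite X).exists_lift_pts ((fppfGSite X).repSieve_mem F t) η v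
  have hn : ((EtFppf.aPull X).map φ).hom.app (op ((EtFppf.a X).obj U))
        (GSite.etaSect (EtFppf.J X) (EtFppf.a X) F s) =
      GSite.etaSect (EtFppf.J X) (EtFppf.a X) G (φ.hom.app (op U) s) :=
    (congrArg (fun ψ : F ⟶ _ => ψ.hom.app (op U) s) ((EtFppf.aAdj X).unit.naturality φ)).symm
  rw [← GSite.val_map, ← GSite.val_map, hs]
  refine (congrArg _ ((NatTrans.naturality_apply ((EtFppf.aPull X).map φ).hom g.op t).symm.trans
    ((congrArg (((EtFppf.aPull X).map φ).hom.app (op W')) hs).trans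
      ((NatTrans.naturality_apply ((EtFppf.aPull X).map φ).hom π.op _).trans
        (congrArg _ hn))))).trans ?_
  rw [GSite.val_rep, GSite.val_rep]
  exact (EtSh.stalk_map_germ η.hom φ _ s).symm

/-- Pullback to the big fppf site preserves monomorphisms. -/
theorem mono_aPull_map {F G : EtCoh.Ab X} (φ : F ⟶ G) [Mono φ] : Mono ((EtFppf.aPull X).map φ) := by
  have hinj : ∀ W, Function.Injective (((EtFppf.aPull X).map φ).hom.app (op W)) := fun W =>
    (injective_iff_map_eq_zero (((EtFppf.aPull X).map φ).hom.app (op W)).hom).2 fun t ht =>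
      (fppfGSite X).eq_zero_of_val F t fun η v => by
        refine Unr55.EtSh.stalk_map_injective_of_mono φ η.hom ?_
        rw [← val_map_hom, map_zero]
        exact (congrArg _ ht).trans (map_zero _)
  have : Mono ((EtFppf.aPull X).map φ).hom := by
    rw [NatTrans.mono_iff_mono_app]
    exact fun W => (AddCommGrpCat.mono_iff_injective _).2 (hinj W.unop)
  exact (sheafToPresheaf _ AddCommGrpCat.{u + 1}).mono_of_mono_map this

/-- Pullback to the big fppf site is exact. -/
theorem aPull_shortExact {S : ShortComplex (EtCoh.Ab X)} (hS : S.ShortExact) :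
    haveI := (EtFppf.aAdj X).left_adjoint_additive
    (S.map (EtFppf.aPull X)).ShortExact := by
  have := (EtFppf.aAdj X).left_adjoint_additive
  have : PreservesColimitsOfSize.{0, 0} (EtFppf.aPull X) := (EtFppf.aAdj X).leftAdjoint_preservesColimits
  have := PreservesColimitsOfSize.preservesFiniteColimits (EtFppf.aPull X)
  obtain ⟨h1, h2⟩ := (Functor.preservesFiniteColimits_iff_forall_exact_map_and_epi (EtFppf.aPull X)).1
    inferInstance S hS
  have := hS.mono_f
  exact { exact := h1, mono_f := mono_aPull_map S.f, epi_g := h2 }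

/-- Along an epimorphism, sections lift etale locally. -/
theorem exists_etale_lift {F G : EtCoh.Ab X} (φ : F ⟶ G) [Epi φ] {W : Over X}
    (t : ((EtFppf.aPull X).obj G).obj.obj (op W)) (x : W.left) :
    ∃ (W' : Over X) (g : W' ⟶ W) (w : W'.left) (s : ((EtFppf.aPull X).obj F).obj.obj (op W')),
      Etale g.left ∧ g.left w = x ∧
      ((EtFppf.aPull X).map φ).hom.app (op W') s = ((EtFppf.aPull X).obj G).obj.map g.op t := by
  obtain ⟨η, v, hv⟩ := exists_gpt ((fppfGSite X).U.obj W) x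
  obtain ⟨b, hb⟩ := EtCore45.stalk_map_surjective_of_epi η.hom φ ((fppfGSite X).val G η v t)
  obtain ⟨U₀, u₀, σ₀, rfl⟩ := EtSh.exists_germ_eq η.hom F b
  have : Etale U₀.hom := U₀.prop
  let vl : Spec (CommRingCat.of η.k) ⟶ W.left := v.left
  let ul : Spec (CommRingCat.of η.k) ⟶ U₀.left := u₀.left
  have hvu : vl ≫ W.hom = ul ≫ U₀.hom := (Over.w v).trans (Over.w u₀).symm
  let W₁ : Over X := Over.mk (pullback.fst W.hom U₀.hom ≫ W.hom)
  let q : W₁ ⟶ W := Over.homMk (pullback.fst W.hom U₀.hom) rfl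
  let π : W₁ ⟶ (EtFppf.a X).obj U₀ := Over.homMk (pullback.snd W.hom U₀.hom) pullback.condition.symm
  let v₁ : (fppfGSite X).Pts η W₁ := Over.homMk (pullback.lift vl ul hvu) (by
    show pullback.lift vl ul hvu ≫ pullback.fst W.hom U₀.hom ≫ W.hom = η.hom
    rw [pullback.lift_fst_assoc]
    exact Over.w v)
  have hq : v₁ ≫ (fppfGSite X).U.map q = v := Over.OverMorphism.ext (pullback.lift_fst _ _ _)
  have hπ : (v₁ ≫ (fppfGSite X).unE π : EtSh.Pt η.hom U₀) = u₀ := by
    apply Over.OverMorphism.ext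
    show pullback.lift vl ul hvu ≫ pullback.snd W.hom U₀.hom ≫ 𝟙 _ = ul
    rw [Category.comp_id, pullback.lift_snd]
  let σ : ((EtFppf.aPull X).obj F).obj.obj (op W₁) :=
    ((EtFppf.aPull X).obj F).obj.map π.op (GSite.etaSect (EtFppf.J X) (EtFppf.a X) F σ₀)
  let d : ((EtFppf.aPull X).obj G).obj.obj (op W₁) :=
    ((EtFppf.aPull X).map φ).hom.app (op W₁) σ - ((EtFppf.aPull X).obj G).obj.map q.op t
  have hd : (fppfGSite X).val G η v₁ d = 0 := by
    refine (map_sub _ _ _).trans (sub_eq_zero.2 ?_)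
    rw [val_map_hom, GSite.val_rep, hπ, hb, GSite.val_map]
    exact (congrArg (fun w => (fppfGSite X).val G η w t) hq).symm
  let O : W₁.left.Opens := ⟨(fppfGSite X).locusSet G d, (fppfGSite X).isOpen_locusSet G d⟩
  let W₂ : Over X := Over.mk (O.ι ≫ W₁.hom)
  let o : W₂ ⟶ W₁ := Over.homMk O.ι rfl
  have hz : ((EtFppf.aPull X).obj G).obj.map o.op d = 0 := by
    refine (fppfGSite X).eq_zero_of_val G _ fun ζ u => ?_
    rw [GSite.val_map, ← GSite.mem_locusSet_iff]
    exact ((img u : O.toScheme)).2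
  let xp : W₁.left := img (η := η) (Y := (fppfGSite X).U.obj W₁) v₁
  have hx : xp ∈ O := ((fppfGSite X).mem_locusSet_iff G d η v₁).2 hd
  refine ⟨W₂, o ≫ q, (⟨xp, hx⟩ : O.toScheme), ((EtFppf.aPull X).obj F).obj.map o.op σ, ?_, ?_, ?_⟩
  · show Etale (O.ι ≫ pullback.fst W.hom U₀.hom)
    infer_instance
  · exact (congrArg (fun r : (fppfGSite X).Pts η W => img r) hq).trans hv
  · rw [op_comp, Functor.map_comp, ConcreteCategory.comp_apply]
    exact (NatTrans.naturality_apply ((EtFppf.aPull X).map φ).hom o.op σ).trans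
      (sub_eq_zero.1 ((map_sub _ _ _).symm.trans hz))

omit [EtFppf.ACont X] in
/-- Transport of `EtKill` along an isomorphism of coefficients. -/
lemma acy_of_iso {G G' : EtFppf.AbF X} (e : G ≅ G') {n : ℕ} (h : Acy G n) : Acy G' n := fun W ξ x => by
  obtain ⟨W', g, w, hg, hw, hz⟩ := h W (ξ.comp (Ext.mk₀ e.inv) (add_zero n)) x
  refine ⟨W', g, w, hg, hw, ?_⟩
  rw [resX_comp_ext] at hz
  have := congrArg (fun q => Ext.comp q (Ext.mk₀ e.hom) (add_zero n)) hz
  rw [Ext.comp_assoc _ _ _ (add_zero n) (add_zero 0) (by omega), Ext.mk₀_comp_mk₀, e.inv_hom_id,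
    Ext.comp_mk₀_id, Ext.zero_comp] at this
  exact this

omit [EtFppf.ACont X] in
lemma hom_top_ext {W : Over X} (a b : W ⟶ Over.mk (𝟙 X)) : a = b :=
  Over.OverMorphism.ext ((Category.comp_id _).symm.trans ((Over.w a).trans
    ((Over.w b).symm.trans (Category.comp_id _))))

/-- The inductive step at the final object of an affine base. -/
theorem etKill_top [IsAffine X] (n : ℕ)
    (ih : ∀ (Y : Scheme.{u}) [EtFppf.ACont Y] (E : EtCoh.Ab Y) (j : ℕ), 1 ≤ j → j ≤ n →
      Acy ((EtFppf.aPull Y).obj E) j)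
    (F : EtCoh.Ab X)
    (ξ : Ext.{u + 1} (lFree (EtFppf.J X) (Over.mk (𝟙 X))) ((EtFppf.aPull X).obj F) (n + 1)) :
    EtKill ξ := by
  obtain ⟨R, hR, hkill⟩ := exists_cover_resX_eq_zero n _ _ ξ
  obtain ⟨R₀, hR₀, hle⟩ := Precoverage.mem_toGrothendieck_iff_of_isStableUnderComposition.1
    ((GrothendieckTopology.mem_over_iff _ _).1 hR)
  obtain ⟨ι, Z, f, rfl⟩ := R₀.exists_eq_ofArrows
  obtain ⟨hsur, hP⟩ := (Scheme.ofArrows_mem_precoverage_iff _).1 hR₀
  obtain ⟨Y, π, hfin, hsurj, hloc⟩ := FlatMor67.FppfPh.exists_finite_refine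
    (PreZeroHypercover.mk ι Z f) (fun i => (hP i).1) (fun i => (hP i).2) (fun t => by
      obtain ⟨i, y, hy⟩ := hsur t
      exact ⟨i, y, hy⟩) Γ(X, ⊤) X.isoSpec.inv
  let h : Y ⟶ X := π ≫ X.isoSpec.inv
  have : IsFinite h := inferInstance
  have : Surjective h := inferInstance
  have : EtFppf.ACont Y := aCont Y
  let E := (EtCoh.pull h).obj F
  let u := (EtCoh.pullPushAdj h).unit.app F
  have : Mono u := Unr55.EtSh.mono_unit_of_surjective h F
  let S : ShortComplex (EtCoh.Ab X) := ShortComplex.mk u (cokernel.π u) (cokernel.condition _)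
  have hS : S.ShortExact :=
    { exact := ShortComplex.exact_of_g_is_cokernel _ (cokernelIsCokernel u)
      mono_f := this
      epi_g := inferInstanceAs (Epi (cokernel.π _)) }
  have := (EtFppf.aAdj X).left_adjoint_additive
  have hS' := aPull_shortExact hS
  have := isIso_bcMapF h E
  let φ : (EtFppf.aPull X).obj F ⟶ (EtFppf.pushBig h).obj ((EtFppf.aPull Y).obj E) :=
    (EtFppf.aPull X).map u ≫ bcMapF h E
  have hη : EtKill (psi h _ (ξ.comp (Ext.mk₀ φ) (add_zero _))) := by
    intro z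
    let y : Y := pullback.snd (Over.mk (𝟙 X)).hom h z
    obtain ⟨V, i, l, hyV, -, hl⟩ := hloc y
    let V' : Over Y := Over.mk V.ι
    let g : V' ⟶ (Over.pullback h).obj (Over.mk (𝟙 X)) :=
      Over.homMk (pullback.lift (V.ι ≫ h) V.ι (Category.comp_id _)) (pullback.lift_snd _ _ _)
    have : IsIso (pullback.snd (Over.mk (𝟙 X)).hom h) :=
      inferInstanceAs (IsIso (pullback.snd (𝟙 X) h))
    refine ⟨V', g, (⟨y, hyV⟩ : V.toScheme), ?_, ?_, ?_⟩
    · show Etale (pullback.lift (V.ι ≫ h) V.ι (Category.comp_id _))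
      have e : pullback.lift (V.ι ≫ h) V.ι (Category.comp_id _) =
          V.ι ≫ inv (pullback.snd (Over.mk (𝟙 X)).hom h) := by
        rw [IsIso.eq_comp_inv]
        exact pullback.lift_snd _ _ _
      rw [e]
      infer_instance
    · refine (pullback.snd (Over.mk (𝟙 X)).hom h).homeomorph.injective ?_
      show pullback.snd (Over.mk (𝟙 X)).hom h (g.left (⟨y, hyV⟩ : V.toScheme)) = y
      rw [← Scheme.Hom.comp_apply]
      exact congrArg (fun q : V.toScheme ⟶ Y => q ⟨y, hyV⟩) (pullback.lift_snd _ _ _)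
    · have hk : resX ((Over.map h).map g ≫ piW h (Over.mk (𝟙 X))) ξ = 0 := by
        have hf : R.arrows (Over.homMk (f i) : Over.mk (f i ≫ 𝟙 X) ⟶ Over.mk (𝟙 X)) :=
          (Sieve.overEquiv_iff R (f i)).1 (hle _ _ ⟨i⟩)
        refine hkill _ _ ?_
        have := R.downward_closed hf (Over.homMk l (by
          show l ≫ f i ≫ 𝟙 X = V.ι ≫ h
          erw [Category.comp_id]
          exact hl) : (Over.map h).obj V' ⟶ Over.mk (f i ≫ 𝟙 X))
        exact (congrArg (fun q => R.arrows q) (hom_top_ext _ _)).mp this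
      have hk2 : fExt h ((Over.map h).map g ≫ piW h (Over.mk (𝟙 X))) _ (n + 1) ξ = 0 := by
        have h' := fExt_resX h (V := V') (𝟙 _) ((Over.map h).map g ≫ piW h (Over.mk (𝟙 X))) ξ
        rw [hk, map_zero, Category.id_comp] at h'
        exact h'.symm
      rw [psi, fExt_comp, resX_comp_ext, resX_comp_ext, resX_fExt, hk2, Ext.zero_comp, Ext.zero_comp]
  refine etKill_of_local fun x => ?_
  obtain ⟨W', g, w, hg, hw, hz⟩ := etKill_of_psi h n _ (fun j hj hj' => ih Y E j hj hj') _ _ hη x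
  refine ⟨W', g, w, hg, hw, ?_⟩
  have hz2 : (resX g ξ).comp (Ext.mk₀ ((EtFppf.aPull X).map u)) (add_zero _) = 0 := by
    rw [resX_comp_ext] at hz
    have := congrArg (fun q => Ext.comp q (Ext.mk₀ (inv (bcMapF h E))) (add_zero _)) hz
    rw [Ext.comp_assoc _ _ _ (add_zero _) (add_zero 0) (by omega), Ext.mk₀_comp_mk₀, Category.assoc,
      IsIso.hom_inv_id, Category.comp_id, Ext.zero_comp] at this
    exact this
  obtain ⟨s, hs⟩ := Ext.covariant_sequence_exact₁ _ hS' (resX g ξ) hz2 rfl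
  rcases Nat.eq_zero_or_pos n with rfl | hn
  · obtain ⟨ψ, rfl⟩ := Ext.addEquiv₀.symm.surjective s
    obtain ⟨t, rfl⟩ := (lEquiv W' _).symm.surjective ψ
    intro y
    obtain ⟨W'', g', w', b, hg', hw', hb⟩ := exists_etale_lift (cokernel.π u) t y
    refine ⟨W'', g', w', hg', hw', ?_⟩
    refine (congrArg (resX g') hs.symm).trans ?_
    show resX g' (Ext.comp (Ext.mk₀ _) _ (zero_add 1)) = 0
    rw [resX_comp_ext, resX_mk₀]
    refine (congrArg (fun r => Ext.comp (Ext.mk₀ ((lEquiv W'' (S.map (EtFppf.aPull X)).X₃).symm r))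
      hS'.extClass (zero_add 1)) hb.symm).trans ?_
    refine (congrArg (fun q => Ext.comp (Ext.mk₀ q) hS'.extClass (zero_add 1))
      (lEquiv_symm_comp b ((EtFppf.aPull X).map (cokernel.π u))).symm).trans ?_
    show (Ext.mk₀ ((lEquiv W'' (S.map (EtFppf.aPull X)).X₂).symm b ≫ (S.map (EtFppf.aPull X)).g)).comp
      hS'.extClass (zero_add 1) = 0
    rw [← Ext.mk₀_comp_mk₀, Ext.comp_assoc _ _ _ (add_zero 0) (zero_add 1) (by omega), hS'.comp_extClass,
      Ext.comp_zero]
  · intro y
    obtain ⟨W'', g', w', hg', hw', hz'⟩ := ih X (cokernel u) n hn le_rfl W' s y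
    refine ⟨W'', g', w', hg', hw', ?_⟩
    refine (congrArg (resX g') hs.symm).trans ?_
    rw [resX_comp_ext]
    exact (congrArg (fun q => Ext.comp q hS'.extClass rfl) hz').trans (Ext.zero_comp _ _ hS'.extClass _ rfl)

omit [EtFppf.ACont X] in
/-- Higher fppf classes of a sheaf from the small etale site die etale locally. -/
theorem acy_aPull : ∀ (n : ℕ) (X : Scheme.{u}) [EtFppf.ACont X] (F : EtCoh.Ab X) (j : ℕ),
    1 ≤ j → j ≤ n → Acy ((EtFppf.aPull X).obj F) j := by
  intro n
  induction n with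
  | zero => intro X _ F j h1 h2; omega
  | succ n ih =>
    intro X _ F j h1 h2
    rcases Nat.lt_or_ge j (n + 1) with hj | hj
    · exact ih X F j h1 (by omega)
    obtain rfl : j = n + 1 := by omega
    intro W ξ
    refine etKill_of_local fun x => ?_
    obtain ⟨_, ⟨A, hA, rfl⟩, hxA, -⟩ := W.left.isBasis_affineOpens.exists_subset_of_mem_open
      (Set.mem_univ x) isOpen_univ
    let O : W.left.Opens := A
    have : IsAffine O.toScheme := hA
    have : EtFppf.ACont O.toScheme := aCont _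
    let W₁ : Over X := Over.mk (O.ι ≫ W.hom)
    let o : W₁ ⟶ W := Over.homMk O.ι rfl
    refine ⟨W₁, o, (⟨x, hxA⟩ : O.toScheme), (inferInstance : Etale O.ι), rfl, ?_⟩
    let f : O.toScheme ⟶ X := W₁.hom
    let V : Over O.toScheme := Over.mk (𝟙 _)
    let p : (Over.map f).obj V ⟶ W₁ := Over.homMk (𝟙 _) rfl
    let e : (fRes f).obj ((EtFppf.aPull X).obj F) ≅ (EtFppf.aPull O.toScheme).obj ((EtCoh.pull f).obj F) :=
      (fResPullIso f).app F
    let ξ' := (fExt f p _ (n + 1) (resX o ξ)).comp (Ext.mk₀ e.hom) (add_zero _)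
    intro y
    obtain ⟨V', g, v, hg, hv, hz⟩ := etKill_top n (fun Y _ E j => ih Y E j) _ ξ' y
    refine ⟨(Over.map f).obj V', (Over.map f).map g ≫ p, v, ?_, ?_, ?_⟩
    · show Etale (g.left ≫ 𝟙 O.toScheme)
      erw [Category.comp_id]
      exact hg
    · show (g.left ≫ 𝟙 O.toScheme) v = y
      erw [Category.comp_id]
      exact hv
    · apply (fExt_bijective f V' _ (n + 1)).1
      rw [map_zero, fExt_resX, Category.id_comp, ← resX_fExt]
      rw [resX_comp_ext] at hz
      have := congrArg (fun q => Ext.comp q (Ext.mk₀ e.inv) (add_zero _)) hz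
      rw [Ext.comp_assoc _ _ _ (add_zero _) (add_zero 0) (by omega), Ext.mk₀_comp_mk₀,
        e.hom_inv_id, Ext.comp_mk₀_id, Ext.zero_comp] at this
      exact this

/-- Higher direct images to the small etale site vanish. -/
theorem isZero_RaPush_aPull (F : EtCoh.Ab X) (q : ℕ) (hq : 0 < q) :
    IsZero ((EtFppf.RaPush X q).obj ((EtFppf.aPull X).obj F)) := by
  obtain ⟨n, rfl⟩ := Nat.exists_eq_add_one.2 hq
  refine isZero_rightDerived_of_kill (EtFppf.a X) _ n fun V ξ => ?_
  have hk := acy_aPull (n + 1) X F (n + 1) (by omega) le_rfl _ ξ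
  refine ⟨{ arrows := fun W g => resX ((EtFppf.a X).map g) ξ = 0
            downward_closed := fun {W W' g} hg k => by
              rw [Functor.map_comp, resX_comp, hg]; exact resX_zero _ },
    Unr55.EtSh.mem_topology fun x => ?_, fun W g hg => hg⟩
  obtain ⟨W', g, w, hg, hw, hz⟩ := hk x
  have : Etale V.hom := V.prop
  have hW : Etale W'.hom := by
    rw [← Over.w g]
    exact MorphismProperty.comp_mem _ _ _ hg (inferInstance : Etale V.hom)
  let W'' : X.Etale := MorphismProperty.Over.mk ⊤ W'.hom hW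
  refine ⟨W'', MorphismProperty.Over.homMk g.left (Over.w g), w, ?_, hw⟩
  exact hz

end Groth.Agent.Mod48
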