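import Groth.Agent.Mod48.FreeOn
import Mathlib.CategoryTheory.Functor.OfSequence

/-!
Extensions by sums of modules of the form `j_! O_U`.
-/

universe u

open CategoryTheory CategoryTheory.Limits Opposite

namespace Groth.Agent.Mod48

variable {C : Type u} [SmallCategory C] {J : GrothendieckTopology C} {O : Sheaf J CommRingCat.{u}}

/-- A direct sum of modules `j_! O_U`. -/
def IsFreeSum (X : ModSite.Mod O) : Prop :=
  ∃ (ι : Type u) (U : ι → C), Nonempty (X ≅ ∐ fun j => ModSite.freeOn O (U j))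

lemma isFreeSum_of_iso {X Y : ModSite.Mod O} (e : X ≅ Y) (h : IsFreeSum X) : IsFreeSum Y := by
  obtain ⟨ι, U, ⟨f⟩⟩ := h
  exact ⟨ι, U, ⟨e.symm ≪≫ f⟩⟩

lemma isFreeSum_of_isZero {X : ModSite.Mod O} (h : IsZero X) : IsFreeSum X := by
  refine ⟨PEmpty.{u + 1}, fun j => j.elim, ⟨h.iso ?_⟩⟩
  rw [IsZero.iff_id_eq_zero]
  exact Sigma.hom_ext _ _ fun j => j.elim

lemma isFreeSum_sigma {κ : Type u} (X : κ → ModSite.Mod O) (h : ∀ k, IsFreeSum (X k)) :
    IsFreeSum (∐ X) := by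
  choose ι U e using h
  exact ⟨Σ k, ι k, fun j => U j.1 j.2,
    ⟨Sigma.mapIso (fun k => (e k).some) ≪≫
      sigmaSigmaIso ι (fun k j => ModSite.freeOn O (U k j))⟩⟩

lemma isFreeSum_biprod {X Y : ModSite.Mod O} (hX : IsFreeSum X) (hY : IsFreeSum Y) : IsFreeSum (X ⊞ Y) := by
  obtain ⟨ι, U, ⟨e⟩⟩ := hX
  obtain ⟨ι', U', ⟨e'⟩⟩ := hY
  let F : ι ⊕ ι' → ModSite.Mod O := fun j => ModSite.freeOn O (Sum.elim U U' j)
  let f : (∐ fun j => ModSite.freeOn O (U j)) ⊞ (∐ fun j => ModSite.freeOn O (U' j)) ⟶ ∐ F :=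
    biprod.desc (Sigma.desc fun j => Sigma.ι F (Sum.inl j)) (Sigma.desc fun j => Sigma.ι F (Sum.inr j))
  let g : ∐ F ⟶ (∐ fun j => ModSite.freeOn O (U j)) ⊞ (∐ fun j => ModSite.freeOn O (U' j)) :=
    Sigma.desc fun j => match j with
      | Sum.inl a => Sigma.ι (fun j => ModSite.freeOn O (U j)) a ≫ biprod.inl
      | Sum.inr a => Sigma.ι (fun j => ModSite.freeOn O (U' j)) a ≫ biprod.inr
  refine ⟨ι ⊕ ι', Sum.elim U U', ⟨biprod.mapIso e e' ≪≫ ⟨f, g, ?_, ?_⟩⟩⟩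
  · refine biprod.hom_ext' _ _ (Sigma.hom_ext _ _ fun j => ?_) (Sigma.hom_ext _ _ fun j => ?_)
    · simp only [f, g, biprod.inl_desc_assoc, Sigma.ι_desc_assoc, Category.comp_id]
      exact Sigma.ι_desc _ _
    · simp only [f, g, biprod.inr_desc_assoc, Sigma.ι_desc_assoc, Category.comp_id]
      exact Sigma.ι_desc _ _
  · refine Sigma.hom_ext _ _ fun j => ?_
    cases j with
    | inl a =>
      simp only [f, g, Sigma.ι_desc_assoc, Category.comp_id, Category.assoc, biprod.inl_desc]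
      exact Sigma.ι_desc _ _
    | inr a =>
      simp only [f, g, Sigma.ι_desc_assoc, Category.comp_id, Category.assoc, biprod.inr_desc]
      exact Sigma.ι_desc _ _

/-- Every module is a quotient of a sum of modules `j_! O_U`. -/
lemma exists_freeSum_epi (F : ModSite.Mod O) :
    ∃ (G : ModSite.Mod O) (π : G ⟶ F), IsFreeSum G ∧ Epi π := by
  let T := Σ U : C, ((pre F).obj (op U) : Type u)
  let π : (∐ fun t : T => ModSite.freeOn O t.1) ⟶ F :=
    Sigma.desc fun t => (freeOnEquiv t.1 F).symm t.2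
  refine ⟨_, π, ⟨T, fun t => t.1, ⟨Iso.refl _⟩⟩, ⟨fun {Z} g h hgh => ?_⟩⟩
  refine (fgt (O := O)).map_injective (PresheafOfModules.hom_ext fun X => ModuleCat.hom_ext (LinearMap.ext fun s => ?_))
  obtain ⟨U⟩ := X
  have h1 : (freeOnEquiv U F).symm s ≫ g = (freeOnEquiv U F).symm s ≫ h := by
    rw [← show Sigma.ι (fun t : T => ModSite.freeOn O t.1) ⟨U, s⟩ ≫ π = (freeOnEquiv U F).symm s from
      Sigma.ι_desc _ _, Category.assoc, Category.assoc, hgh]
  have h2 := congrArg (freeOnEquiv U Z) h1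
  rw [freeOnEquiv_comp, freeOnEquiv_comp, Equiv.apply_symm_apply] at h2
  exact h2

/-- A split monomorphism with complement a sum of modules `j_! O_U`. -/
def FreeExt {X Y : ModSite.Mod O} (i : X ⟶ Y) : Prop :=
  ∃ (W : ModSite.Mod O) (w : W ⟶ Y), IsFreeSum W ∧ IsIso (biprod.desc i w)

lemma FreeExt.isFreeSum {X Y : ModSite.Mod O} {i : X ⟶ Y} (h : FreeExt i) (hX : IsFreeSum X) :
    IsFreeSum Y := by
  obtain ⟨W, w, hW, hi⟩ := h
  exact isFreeSum_of_iso (asIso (biprod.desc i w)) (isFreeSum_biprod hX hW)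

lemma FreeExt.exists_retraction {X Y : ModSite.Mod O} {i : X ⟶ Y} (h : FreeExt i) :
    ∃ r : Y ⟶ X, i ≫ r = 𝟙 _ ∧ IsFreeSum (cokernel i) := by
  obtain ⟨W, w, hW, hi⟩ := h
  let e := asIso (biprod.desc i w)
  have hi' : i ≫ e.inv = biprod.inl := by
    rw [← cancel_mono e.hom, Category.assoc, e.inv_hom_id, Category.comp_id]
    exact (biprod.inl_desc i w).symm
  have hw' : w ≫ e.inv = biprod.inr := by
    rw [← cancel_mono e.hom, Category.assoc, e.inv_hom_id, Category.comp_id]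
    exact (biprod.inr_desc i w).symm
  refine ⟨e.inv ≫ biprod.fst, by rw [reassoc_of% hi', biprod.inl_fst], isFreeSum_of_iso ?_ hW⟩
  refine
    { hom := w ≫ cokernel.π i
      inv := cokernel.desc i (e.inv ≫ biprod.snd) (by rw [reassoc_of% hi', biprod.inl_snd])
      hom_inv_id := by rw [Category.assoc, cokernel.π_desc, reassoc_of% hw', biprod.inr_snd]
      inv_hom_id := ?_ }
  rw [← cancel_epi (cokernel.π i), cokernel.π_desc_assoc, ← cancel_epi e.hom]
  refine biprod.hom_ext' _ _ ?_ ?_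
  · simp [e, cokernel.condition]
  · simp [e]

lemma freeExt_id (X : ModSite.Mod O) : FreeExt (𝟙 X) := by
  have hz : IsZero (∐ fun j : PEmpty.{u + 1} => ModSite.freeOn O (j.elim : C)) := by
    rw [IsZero.iff_id_eq_zero]
    exact Sigma.hom_ext _ _ fun j => j.elim
  refine ⟨_, 0, isFreeSum_of_isZero hz, ⟨biprod.inl, ?_, ?_⟩⟩
  · exact biprod.hom_ext' _ _ (by simp) (hz.eq_of_src _ _)
  · simp

lemma freeExt_biprod_inl (X : ModSite.Mod O) {W : ModSite.Mod O} (hW : IsFreeSum W) :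
    FreeExt (biprod.inl : X ⟶ X ⊞ W) :=
  ⟨W, biprod.inr, hW, by rw [show biprod.desc (biprod.inl : X ⟶ X ⊞ W) biprod.inr = 𝟙 _ from biprod.hom_ext' _ _ (by simp) (by simp)]; infer_instance⟩

lemma FreeExt.comp_iso {X Y Y' : ModSite.Mod O} {i : X ⟶ Y} (h : FreeExt i) (e : Y ⟶ Y') [IsIso e] :
    FreeExt (i ≫ e) := by
  obtain ⟨W, w, hW, hi⟩ := h
  exact ⟨W, w ≫ e, hW, by
    rw [show biprod.desc (i ≫ e) (w ≫ e) = biprod.desc i w ≫ e from
      biprod.hom_ext' _ _ (by simp) (by simp)]; infer_instance⟩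

lemma FreeExt.comp {X Y Z : ModSite.Mod O} {i : X ⟶ Y} {j : Y ⟶ Z} (hi : FreeExt i) (hj : FreeExt j) :
    FreeExt (i ≫ j) := by
  obtain ⟨W, w, hW, hi⟩ := hi
  obtain ⟨V, v, hV, hj⟩ := hj
  refine ⟨W ⊞ V, biprod.desc (w ≫ j) v, isFreeSum_biprod hW hV, ?_⟩
  let a : (X ⊞ W) ⊞ V ⟶ X ⊞ (W ⊞ V) :=
    biprod.desc (biprod.desc biprod.inl (biprod.inl ≫ biprod.inr)) (biprod.inr ≫ biprod.inr)
  let b : X ⊞ (W ⊞ V) ⟶ (X ⊞ W) ⊞ V :=
    biprod.desc (biprod.inl ≫ biprod.inl) (biprod.desc (biprod.inr ≫ biprod.inl) biprod.inr)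
  have : IsIso b := ⟨a, biprod.hom_ext' _ _ (by simp [a, b]) (biprod.hom_ext' _ _ (by simp [a, b]) (by simp [a, b])),
    biprod.hom_ext' _ _ (biprod.hom_ext' _ _ (by simp [a, b]) (by simp [a, b])) (by simp [a, b])⟩
  have hm : IsIso (biprod.map (biprod.desc i w) (𝟙 V)) :=
    (biprod.mapIso (asIso (biprod.desc i w)) (Iso.refl V)).isIso_hom
  rw [show biprod.desc (i ≫ j) (biprod.desc (w ≫ j) v) =
    b ≫ biprod.map (biprod.desc i w) (𝟙 V) ≫ biprod.desc j v from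
      biprod.hom_ext' _ _ (by simp [b]) (biprod.hom_ext' _ _ (by simp [b]) (by simp [b]))]
  infer_instance

/-- A sequence of free extensions has a free extension as colimit. -/
lemma freeExt_colimit (D : ℕ ⥤ ModSite.Mod O) (c : Cocone D) (hc : IsColimit c)
    (h : ∀ k, FreeExt (D.map (homOfLE (Nat.le_add_right k 1)))) : FreeExt (c.ι.app 0) := by
  choose W w hW he using h
  let W' : ULift.{u} ℕ → ModSite.Mod O := fun k => W k.down
  let T := D.obj 0 ⊞ (∐ W')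
  let ψ : ∀ k, D.obj k ⟶ T := fun k => Nat.rec biprod.inl
    (fun k t => (@asIso _ _ _ _ _ (he k)).inv ≫ biprod.desc t (Sigma.ι W' ⟨k⟩ ≫ biprod.inr)) k
  have hψ : ∀ k, D.map (homOfLE (Nat.le_add_right k 1)) ≫ ψ (k + 1) = ψ k ∧
      w k ≫ ψ (k + 1) = Sigma.ι W' ⟨k⟩ ≫ biprod.inr := fun k => by
    have e : biprod.desc (D.map (homOfLE (Nat.le_add_right k 1))) (w k) ≫ ψ (k + 1) =
        biprod.desc (ψ k) (Sigma.ι W' ⟨k⟩ ≫ biprod.inr) := (@asIso _ _ _ _ _ (he k)).hom_inv_id_assoc _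
    exact ⟨by simpa using congrArg (biprod.inl ≫ ·) e, by simpa using congrArg (biprod.inr ≫ ·) e⟩
  let cψ : Cocone D := Cocone.mk T (NatTrans.ofSequence ψ fun k => (hψ k).1.trans (Category.comp_id _).symm)
  refine ⟨∐ W', Sigma.desc fun k => w k.down ≫ c.ι.app (k.down + 1), isFreeSum_sigma _ fun k => hW k.down,
    ⟨hc.desc cψ, ?_, ?_⟩⟩
  · refine biprod.hom_ext' _ _ ?_ (Sigma.hom_ext _ _ fun k => ?_)
    · rw [biprod.inl_desc_assoc, hc.fac, Category.comp_id]; rfl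
    · rw [biprod.inr_desc_assoc, Sigma.ι_desc_assoc, Category.assoc, hc.fac, Category.comp_id]
      exact (hψ k.down).2
  · refine hc.hom_ext fun k => ?_
    rw [hc.fac_assoc]
    refine Eq.trans ?_ (Category.comp_id _).symm
    change ψ k ≫ _ = _
    induction k with
    | zero => exact biprod.inl_desc _ _
    | succ k ih =>
      have := he k
      rw [← cancel_epi (biprod.desc (D.map (homOfLE (Nat.le_add_right k 1))) (w k))]
      refine biprod.hom_ext' _ _ ?_ ?_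
      · rw [biprod.inl_desc_assoc, biprod.inl_desc_assoc, reassoc_of% (hψ k).1, ih, c.w]
      · rw [biprod.inr_desc_assoc, biprod.inr_desc_assoc, reassoc_of% (hψ k).2, biprod.inr_desc,
          Sigma.ι_desc]

end Groth.Agent.Mod48
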