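import Groth.Agent.SiteMod.LocPres
import Groth.Agent.SiteMod.FlatStalk
import Mathlib.RingTheory.LocalRing.Module
import Mathlib.LinearAlgebra.FreeModule.Finite.Basic

/-!
Free modules near a point of a site.
-/

universe u

open CategoryTheory CategoryTheory.Limits Opposite

namespace Groth.Agent.Mod48

open SiteMod

variable {C : Type u} [SmallCategory C] {J : GrothendieckTopology C} {O : Sheaf J CommRingCat.{u}}

/-- Locally generating and independent sections over `Y`. -/
structure FreeAt (P : PreM O) (Y : C) {ι : Type u} [Fintype ι] (a : ι → P.obj (op Y)) : Prop where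
  gen : GenAt P Y a
  indep : ∀ (W : C) (g : W ⟶ Y) (c : ι → O.obj.obj (op W)), ∑ i, c i • res P g.op (a i) = 0 → c = 0

lemma FreeAt.pullback {P : PreM O} {Y : C} {ι : Type u} [Fintype ι] {a : ι → P.obj (op Y)}
    (h : FreeAt P Y a) {Y' : C} (k : Y' ⟶ Y) : FreeAt P Y' fun i => res P k.op (a i) where
  gen := h.gen.pullback k
  indep W g c hc := h.indep W (g ≫ k) c (by simpa only [res_res, ← op_comp] using hc)

variable {F : ModSite.Mod O} {Y : C}

/-- A free restriction gives a basis. -/
theorem exists_freeAt_of_iso {ι : Type u} [Fintype ι]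
    (e : (ModSite.restr O Y).obj F ≅ freeM (O := O.over Y) ι) :
    ∃ (a : ι → (pre F).obj (op Y)) (φ : ∀ (W : C), (W ⟶ Y) → (pre F).obj (op W) → ι → O.obj.obj (op W)),
      FreeAt (pre F) Y a ∧ (∀ W g x, x = ∑ i, φ W g x i • res (pre F) g.op (a i)) := by
  classical
  let T := topO Y
  let hT := topO.isTerminal Y
  let M := (ModSite.restr O Y).obj F
  let a : ι → (pre F).obj (op Y) := fun i => ap e.inv (gen₀ (T := T) i)
  have hinv : freeTo hT (G := M) a = e.inv := free_hom_ext hT fun i => ap_freeTo_gen₀ hT (G := M) a i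
  let φ : ∀ (W : C), (W ⟶ Y) → (pre F).obj (op W) → ι → O.obj.obj (op W) := fun W g x i =>
    (ofU (ap (coord i) (ap (W := Over.mk g) e.hom x)) : (O.over Y).obj.obj (op (Over.mk g)))
  have hφ : ∀ W g x, x = ∑ i, φ W g x i • res (pre F) g.op (a i) := by
    intro W g x
    let o : Over Y := Over.mk g
    have h1 : ap (W := o) (freeTo hT (G := M) a) (ap (W := o) e.hom x) = x := by
      rw [hinv, ← ap_comp, e.hom_inv_id]
      rfl
    refine h1.symm.trans ((ap_freeTo hT (G := M) a _).trans (Finset.sum_congr rfl fun i _ => ?_))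
    exact congrArg (fun z : (pre M).obj (op o) => toO (W := o) (φ W g x i) • z) (res_top F (a i) o)
  refine ⟨a, φ, ⟨fun W g x => ⟨⊤, J.top_mem W, fun V v _ => ⟨φ V (v ≫ g) (res (pre F) v.op x), hφ _ _ _⟩⟩,
    fun W g c hc => ?_⟩, hφ⟩
  let o : Over Y := Over.mk g
  have h2 : ap (freeTo hT (G := M) a) (ofCoord fun i => toO (W := o) (c i)) = 0 := by
    rw [ap_freeTo_ofCoord]
    refine Eq.trans (Finset.sum_congr rfl fun i _ => ?_) hc
    exact congrArg (fun z : (pre M).obj (op o) => toO (W := o) (c i) • z) (res_top F (a i) o)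
  rw [hinv] at h2
  have h3 : (ofCoord fun i => toO (W := o) (c i)) = (0 : (pre (freeM (O := O.over Y) ι)).obj (op o)) := by
    have h4 := congrArg (fun z => ap (W := o) e.hom z) h2
    simp only [map_zero] at h4
    rw [← ap_comp, e.inv_hom_id] at h4
    exact h4
  funext i
  refine (ap_coord_ofCoord (fun i => toO (W := o) (c i)) i).symm.trans ?_
  refine (congrArg (fun z => ofU (ap (coord i) z)) h3).trans ?_
  exact map_zero ((fgt.map (coord (O := O.over Y) i)).app (op o)).hom

/-- A basis gives a free restriction. -/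
theorem nonempty_iso_of_freeAt {ι : Type u} [Fintype ι] {a : ι → (pre F).obj (op Y)}
    (h : FreeAt (pre F) Y a) : Nonempty ((ModSite.restr O Y).obj F ≅ freeM (O := O.over Y) ι) := by
  let d : LocPres (pre F) Y :=
    { ι := ι
      κ := PEmpty.{u + 1}
      a := a
      r := fun t => t.elim
      rel := fun t => t.elim
      gen := h.gen
      kerr := fun W g c hc => ⟨⊤, J.top_mem W, fun V v _ => ⟨fun t => t.elim, fun i => by
        rw [h.indep W g c hc]
        simp⟩⟩ }
  have h0 : d.relMap = 0 := free_hom_ext (topO.isTerminal Y) fun t => t.elim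
  have : Mono d.genMap := d.exact.mono_g h0
  have : Epi d.genMap := d.epi_genMap
  have : IsIso d.genMap := isIso_of_mono_of_epi _
  exact ⟨(asIso d.genMap).symm⟩

section Point

variable (p : GrothendieckTopology.Point.{u} J) (y : p.fiber.obj Y)

/-- A neighbourhood of `y` carrying finitely many refinements. -/
lemma exists_refine' {ι : Type*} [Finite ι] (Z : ι → C) (g : ∀ i, Z i ⟶ Y) (z : ∀ i, p.fiber.obj (Z i))
    (hz : ∀ i, p.fiber.map (g i) (z i) = y) :
    ∃ (V : C) (h : V ⟶ Y) (v : p.fiber.obj V), p.fiber.map h v = y ∧ ∀ i, ∃ r : V ⟶ Z i, r ≫ g i = h := by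
  let e := Finite.equivFin ι
  obtain ⟨V, h, v, hv, hr⟩ := exists_refine p y (Nat.card ι) (fun j => Z (e.symm j)) (fun j => g _)
    (fun j => z _) (fun j => hz _)
  refine ⟨V, h, v, hv, fun i => ?_⟩
  obtain ⟨j, rfl⟩ := e.symm.surjective i
  exact hr j

/-- Finitely many equal germs are equal near the point. -/
lemma exists_res_eq_near {ι : Type*} [Finite ι] (s t : ι → (pre F).obj (op Y))
    (h : ∀ i, grm p F Y y (s i) = grm p F Y y (t i)) :
    ∃ (V : C) (k : V ⟶ Y) (v : p.fiber.obj V), p.fiber.map k v = y ∧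
      ∀ i, res (pre F) k.op (s i) = res (pre F) k.op (t i) := by
  choose Z g z hz he using fun i => exists_res_eq_of_germ_eq p F y (h i)
  obtain ⟨V, k, v, hv, hr⟩ := exists_refine' p y Z g z hz
  refine ⟨V, k, v, hv, fun i => ?_⟩
  obtain ⟨r, rfl⟩ := hr i
  rw [op_comp, ← res_res, ← res_res, he i]

/-- Finitely many equal germs of functions are equal near the point. -/
lemma exists_rres_eq_near {ι : Type*} [Finite ι] (s t : ι → O.obj.obj (op Y))
    (h : ∀ i, ModSite.germRing p Y y (s i) = ModSite.germRing p Y y (t i)) :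
    ∃ (V : C) (k : V ⟶ Y) (v : p.fiber.obj V), p.fiber.map k v = y ∧
      ∀ i, rres k.op (s i) = rres k.op (t i) := by
  choose Z g z hz he using fun i => exists_rres_eq_of_germRing_eq (O := O) p y (h i)
  obtain ⟨V, k, v, hv, hr⟩ := exists_refine' p y Z g z hz
  refine ⟨V, k, v, hv, fun i => ?_⟩
  obtain ⟨r, rfl⟩ := hr i
  rw [op_comp, ← rres_rres, ← rres_rres, he i]

/-- Finitely many elements of the stalk are germs on one neighbourhood. -/
lemma exists_lift_near {ι κ : Type u} [Finite ι] [Finite κ] (m : ι → ModSite.stalkMod p F)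
    (r : κ → ModSite.stalkRing p O) :
    ∃ (V : C) (k : V ⟶ Y) (v : p.fiber.obj V), p.fiber.map k v = y ∧
      (∃ s : ι → (pre F).obj (op V), ∀ i, grm p F V v (s i) = m i) ∧
      ∃ f : κ → O.obj.obj (op V), ∀ i, ModSite.germRing p V v (f i) = r i := by
  choose Zs zs s hs using fun i => exists_germ p F (m i)
  choose Zr zr f hf using fun i => exists_germRing (O := O) p (r i)
  obtain ⟨V, v, π, hπ⟩ := exists_nbhd p
    (fun b : Option (ι ⊕ κ) => b.elim Y (Sum.elim Zs Zr))
    (fun b => match b with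
      | none => y
      | some (Sum.inl i) => zs i
      | some (Sum.inr i) => zr i)
  refine ⟨V, π none, v, hπ none, ⟨fun i => res (pre F) (π (some (Sum.inl i))).op (s i), fun i => ?_⟩,
    ⟨fun i => rres (π (some (Sum.inr i))).op (f i), fun i => ?_⟩⟩
  · exact (germ_res p F _ v (s i)).trans ((congrArg (fun z => grm p F (Zs i) z (s i))
      (hπ (some (Sum.inl i)))).trans (hs i))
  · exact (germRing_res p _ v (f i)).trans ((congrArg (fun z => ModSite.germRing p (Zr i) z (f i))
      (hπ (some (Sum.inr i)))).trans (hf i))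

/-- Germs on a smaller neighbourhood. -/
lemma grm_of_map {V : C} {k : V ⟶ Y} {v : p.fiber.obj V} (hv : p.fiber.map k v = y) (s : (pre F).obj (op Y)) :
    grm p F V v (res (pre F) k.op s) = grm p F Y y s := by rw [germ_res, hv]

lemma germRing_of_map {V : C} {k : V ⟶ Y} {v : p.fiber.obj V} (hv : p.fiber.map k v = y) (r : O.obj.obj (op Y)) :
    ModSite.germRing p V v (rres k.op r) = ModSite.germRing p Y y r := by rw [germRing_res, hv]

lemma grm_sum_smul {ι : Type*} [Fintype ι] {V : C} (v : p.fiber.obj V) (c : ι → O.obj.obj (op V))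
    (s : ι → (pre F).obj (op V)) :
    grm p F V v (∑ i, c i • s i) = ∑ i, ModSite.germRing p V v (c i) • grm p F V v (s i) := by
  rw [germ_sum]
  exact Finset.sum_congr rfl fun i _ => grm_smul p F V v _ _

lemma germRing_sum {ι : Type*} [Fintype ι] {V : C} (v : p.fiber.obj V) (s : ι → O.obj.obj (op V)) :
    ModSite.germRing p V v (∑ i, s i) = ∑ i, ModSite.germRing p V v (s i) :=
  map_sum (p.toPresheafFiber V v O.obj).hom s Finset.univ

lemma germRing_mul {V : C} (v : p.fiber.obj V) (a b : O.obj.obj (op V)) :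
    ModSite.germRing p V v (a * b) = ModSite.germRing p V v a * ModSite.germRing p V v b :=
  map_mul (p.toPresheafFiber V v O.obj).hom a b

/-- The germs of generators span the stalk. -/
theorem span_germs {ι : Type u} [Fintype ι] {a : ι → (pre F).obj (op Y)} (h : GenAt (pre F) Y a)
    (m : ModSite.stalkMod p F) : ∃ c : ι → ModSite.stalkRing p O, m = ∑ i, c i • grm p F Y y (a i) := by
  obtain ⟨V, k, v, hv, ⟨s, hs⟩, -⟩ := exists_lift_near (F := F) p y (fun _ : PUnit.{u + 1} => m)
    (fun i : PEmpty.{u + 1} => i.elim)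
  obtain ⟨S, hS, hc⟩ := h V k (s PUnit.unit)
  obtain ⟨V', g, hg, w, hw⟩ := p.jointly_surjective S hS v
  obtain ⟨c, hc⟩ := hc g hg
  refine ⟨fun i => ModSite.germRing p V' w (c i), ?_⟩
  rw [← hs PUnit.unit, ← grm_of_map p v hw, hc, grm_sum_smul]
  refine Finset.sum_congr rfl fun i _ => congrArg (_ • ·) ?_
  rw [op_comp, ← res_res, grm_of_map p v hw, grm_of_map p y hv]

/-- The relations between germs of generators. -/
theorem relation_germs (d : LocPres (pre F) Y) (c : d.ι → ModSite.stalkRing p O)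
    (hc : ∑ i, c i • grm p F Y y (d.a i) = 0) :
    ∃ e : d.κ → ModSite.stalkRing p O, ∀ i, c i = ∑ t, e t * ModSite.germRing p Y y (d.r t i) := by
  obtain ⟨V, k, v, hv, -, ⟨f, hf⟩⟩ := exists_lift_near (F := F) p y (fun i : PEmpty.{u + 1} => i.elim) c
  have h0 : grm p F V v (∑ i, f i • res (pre F) k.op (d.a i)) = grm p F V v 0 := by
    rw [grm_sum_smul, grm_zero, ← hc]
    exact Finset.sum_congr rfl fun i _ => by rw [hf i, grm_of_map p y hv]
  obtain ⟨V', g, w, hw, he⟩ := exists_res_eq_of_germ_eq p F v h0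
  obtain ⟨S, hS, hd⟩ := d.kerr V' (g ≫ k) (fun i => rres g.op (f i)) (by
    refine Eq.trans ?_ (he.trans (res_zero (pre F) g.op))
    rw [res_sum]
    exact Finset.sum_congr rfl fun i _ => by rw [res_smul, res_res, ← op_comp])
  obtain ⟨V'', g', hg', w', hw'⟩ := p.jointly_surjective S hS w
  obtain ⟨e, he'⟩ := hd g' hg'
  refine ⟨fun t => ModSite.germRing p V'' w' (e t), fun i => ?_⟩
  rw [← hf i, ← germRing_of_map p v hw, ← germRing_of_map p w hw', he' i, germRing_sum]
  refine Finset.sum_congr rfl fun t _ => ?_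
  rw [germRing_mul, op_comp, ← rres_rres, germRing_of_map p w hw', op_comp, ← rres_rres,
    germRing_of_map p v hw, germRing_of_map p y hv]

/-- A finitely presented module with a free stalk is free near the point. -/
theorem exists_freeAt_of_basis (d : LocPres (pre F) Y) {ι : Type u} [Fintype ι]
    (b : Module.Basis ι (ModSite.stalkRing p O) (ModSite.stalkMod p F)) :
    ∃ (V : C) (k : V ⟶ Y) (v : p.fiber.obj V), p.fiber.map k v = y ∧
      ∃ s : ι → (pre F).obj (op V), FreeAt (pre F) V s ∧ ∀ j, grm p F V v (s j) = b j := by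
  classical
  choose dc hdc using fun j => span_germs p y d.gen (b j)
  obtain ⟨V, k, v, hv, ⟨s, hs⟩, ⟨f, hf⟩⟩ := exists_lift_near (F := F) p y (fun j => b j)
    (Sum.elim (fun ij : d.ι × ι => b.repr (grm p F Y y (d.a ij.1)) ij.2) (fun ji : ι × d.ι => dc ji.1 ji.2))
  let cV : d.ι → ι → O.obj.obj (op V) := fun i j => f (Sum.inl (i, j))
  let dV : ι → d.ι → O.obj.obj (op V) := fun j i => f (Sum.inr (j, i))
  have hcV : ∀ i j, ModSite.germRing p V v (cV i j) = b.repr (grm p F Y y (d.a i)) j := fun i j => hf _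
  have hdV : ∀ j i, ModSite.germRing p V v (dV j i) = dc j i := fun j i => hf _
  have e1 : ∀ i, grm p F V v (res (pre F) k.op (d.a i)) = grm p F V v (∑ j, cV i j • s j) := fun i => by
    rw [grm_of_map p y hv, grm_sum_smul]
    conv_lhs => rw [← b.sum_repr (grm p F Y y (d.a i))]
    exact Finset.sum_congr rfl fun j _ => by rw [hcV, hs]
  obtain ⟨V₁, k₁, v₁, hv₁, h₁⟩ := exists_res_eq_near p v _ _ e1
  have e2 : ∀ tl : d.κ × ι,
      ModSite.germRing p V v (∑ i, rres k.op (d.r tl.1 i) * cV i tl.2) = ModSite.germRing p V v 0 := by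
    rintro ⟨t, l⟩
    refine Eq.trans ?_ (map_zero (p.toPresheafFiber V v O.obj).hom).symm
    rw [germRing_sum]
    have h := congrArg (fun m => b.repr m l)
      ((grm_sum_smul p y (d.r t) d.a).symm.trans ((congrArg (grm p F Y y) (d.rel t)).trans (grm_zero p F Y y)))
    simp only [map_sum, map_smul, map_zero, Finsupp.coe_finsetSum, Finset.sum_apply, Finsupp.coe_zero,
      Pi.zero_apply, Finsupp.smul_apply, smul_eq_mul] at h
    refine Eq.trans (Finset.sum_congr rfl fun i _ => ?_) h
    rw [germRing_mul, germRing_of_map p y hv, hcV]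
  have e3 : ∀ jl : ι × ι, ModSite.germRing p V v (∑ i, dV jl.1 i * cV i jl.2) =
      ModSite.germRing p V v (if jl.1 = jl.2 then 1 else 0) := by
    rintro ⟨j, l⟩
    rw [germRing_sum]
    have h := congrArg (fun m => b.repr m l) (hdc j)
    simp only [Module.Basis.repr_self, map_sum, map_smul, Finsupp.coe_finsetSum, Finset.sum_apply,
      Finsupp.smul_apply, smul_eq_mul, Finsupp.single_apply] at h
    refine Eq.trans (Finset.sum_congr rfl fun i _ => ?_) (h.symm.trans ?_)
    · rw [germRing_mul, hdV, hcV]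
    · split_ifs
      · exact (map_one (p.toPresheafFiber V v O.obj).hom).symm
      · exact (map_zero (p.toPresheafFiber V v O.obj).hom).symm
  have e4 : ∀ j, grm p F V v (s j) = grm p F V v (∑ i, dV j i • res (pre F) k.op (d.a i)) := fun j => by
    rw [grm_sum_smul, hs, hdc j]
    exact Finset.sum_congr rfl fun i _ => by rw [hdV, grm_of_map p y hv]
  obtain ⟨V₂, k₂, v₂, hv₂, h₂⟩ := exists_rres_eq_near p v _ _ e2
  obtain ⟨V₃, k₃, v₃, hv₃, h₃⟩ := exists_rres_eq_near p v _ _ e3
  obtain ⟨V₄, k₄, v₄, hv₄, h₄⟩ := exists_res_eq_near p v _ _ e4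
  obtain ⟨U, h, z, hz, hr⟩ := exists_refine' p v (ι := Fin 4) ![V₁, V₂, V₃, V₄]
    (Fin.cases k₁ (Fin.cases k₂ (Fin.cases k₃ (Fin.cases k₄ fun i => i.elim0))))
    (Fin.cases v₁ (Fin.cases v₂ (Fin.cases v₃ (Fin.cases v₄ fun i => i.elim0))))
    (Fin.cases hv₁ (Fin.cases hv₂ (Fin.cases hv₃ (Fin.cases hv₄ fun i => i.elim0))))
  obtain ⟨r₁, hr₁⟩ : ∃ r : U ⟶ V₁, r ≫ k₁ = h := hr 0
  obtain ⟨r₂, hr₂⟩ : ∃ r : U ⟶ V₂, r ≫ k₂ = h := hr 1
  obtain ⟨r₃, hr₃⟩ : ∃ r : U ⟶ V₃, r ≫ k₃ = h := hr 2
  obtain ⟨r₄, hr₄⟩ : ∃ r : U ⟶ V₄, r ≫ k₄ = h := hr 3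
  have E1 : ∀ i, res (pre F) (h ≫ k).op (d.a i) = ∑ j, rres h.op (cV i j) • res (pre F) h.op (s j) := fun i => by
    rw [op_comp, ← res_res, ← hr₁, op_comp, ← res_res, h₁ i, res_res, ← op_comp, res_sum]
    exact Finset.sum_congr rfl fun j _ => res_smul _ _ _ _
  have E2 : ∀ t l, ∑ i, rres (h ≫ k).op (d.r t i) * rres h.op (cV i l) = 0 := fun t l => by
    have : rres h.op (∑ i, rres k.op (d.r t i) * cV i l) = 0 := by
      rw [← hr₂, op_comp, ← rres_rres, h₂ (t, l), map_zero, map_zero]
    rw [map_sum] at this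
    refine Eq.trans (Finset.sum_congr rfl fun i _ => ?_) this
    rw [map_mul, rres_rres, ← op_comp]
  have E3 : ∀ j l, ∑ i, rres h.op (dV j i) * rres h.op (cV i l) = if j = l then 1 else 0 := fun j l => by
    have : rres h.op (∑ i, dV j i * cV i l) = rres h.op (if j = l then 1 else 0) := by
      rw [← hr₃, op_comp, ← rres_rres, h₃ (j, l), rres_rres]
    rw [map_sum] at this
    refine Eq.trans (Finset.sum_congr rfl fun i _ => (map_mul _ _ _).symm) (this.trans ?_)
    split_ifs
    · exact map_one _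
    · exact map_zero _
  have E4 : ∀ j, res (pre F) h.op (s j) = ∑ i, rres h.op (dV j i) • res (pre F) (h ≫ k).op (d.a i) := fun j => by
    rw [← hr₄, op_comp, ← res_res, h₄ j, res_res, ← op_comp, res_sum]
    refine Finset.sum_congr rfl fun i _ => ?_
    rw [res_smul, res_res, ← op_comp]
  refine ⟨U, h ≫ k, z, ?_, fun j => res (pre F) h.op (s j), ⟨fun W g x => ?_, fun W g e he => ?_⟩, fun j => ?_⟩
  · rw [Functor.map_comp_apply, hz, hv]
  · obtain ⟨S, hS, hc⟩ := d.gen W (g ≫ h ≫ k) x
    refine ⟨S, hS, fun Z q hq => ?_⟩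
    obtain ⟨c, hc⟩ := hc q hq
    refine ⟨fun j => ∑ i, c i * rres (q ≫ g).op (rres h.op (cV i j)), hc.trans ?_⟩
    simp only [Finset.sum_smul, ← smul_smul]
    rw [Finset.sum_comm]
    refine Finset.sum_congr rfl fun i _ => ?_
    rw [← Finset.smul_sum]
    refine congrArg (c i • ·) ?_
    rw [← Category.assoc, op_comp, ← res_res, E1 i, res_sum]
    exact Finset.sum_congr rfl fun j _ => res_smul _ _ _ _
  · have hz0 : ∑ i, (∑ j, e j * rres g.op (rres h.op (dV j i))) • res (pre F) (g ≫ h ≫ k).op (d.a i) = 0 := by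
      refine Eq.trans ?_ he
      simp only [Finset.sum_smul, ← smul_smul]
      rw [Finset.sum_comm]
      refine Finset.sum_congr rfl fun j _ => ?_
      rw [← Finset.smul_sum, E4 j, res_sum]
      refine congrArg (e j • ·) (Finset.sum_congr rfl fun i _ => ?_)
      rw [res_smul, res_res (pre F) _ g.op, ← op_comp]
    obtain ⟨S, hS, hd⟩ := d.kerr W (g ≫ h ≫ k) _ hz0
    funext l
    refine ext_of_sieve (H := ModSite.unit O) (X := op W) hS fun Z q hq => ?_
    obtain ⟨ε, hε⟩ := hd q hq
    change rres q.op (e l) = rres q.op 0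
    rw [map_zero]
    have hA : rres q.op (e l) =
        ∑ i, rres q.op (∑ j, e j * rres g.op (rres h.op (dV j i))) * rres (q ≫ g).op (rres h.op (cV i l)) := by
      simp only [map_sum, map_mul, Finset.sum_mul, mul_assoc]
      rw [Finset.sum_comm]
      refine Eq.trans ?_ (Finset.sum_congr rfl fun j _ => Finset.mul_sum _ _ _)
      have hj : ∀ j, ∑ i, rres q.op (rres g.op (rres h.op (dV j i))) * rres (q ≫ g).op (rres h.op (cV i l)) =
          rres (q ≫ g).op (if j = l then 1 else 0) := fun j => by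
        rw [← E3 j l, map_sum]
        exact Finset.sum_congr rfl fun i _ => by rw [map_mul, rres_rres g.op q.op, ← op_comp]
      simp only [hj]
      rw [Finset.sum_eq_single l (fun j _ hj' => by rw [if_neg hj', map_zero, mul_zero])
        (fun hl => absurd (Finset.mem_univ l) hl), if_pos rfl, map_one, mul_one]
    rw [hA]
    simp only [hε, Finset.sum_mul, mul_assoc]
    rw [Finset.sum_comm]
    refine Finset.sum_eq_zero fun t _ => ?_
    rw [← Finset.mul_sum]
    refine mul_eq_zero_of_right _ ?_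
    refine Eq.trans ?_ ((congrArg (rres (q ≫ g).op) (E2 t l)).trans (map_zero _))
    rw [map_sum]
    refine Finset.sum_congr rfl fun i _ => ?_
    rw [map_mul, rres_rres (h ≫ k).op (q ≫ g).op, ← op_comp, Category.assoc]
  · rw [grm_of_map p v hz, hs]

end Point

end Groth.Agent.Mod48
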