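import Groth.Agent.Mod48.FreeNear
import Mathlib.Topology.Sheaves.Points
import Mathlib.Topology.Sheaves.Stalks
import Mathlib.RingTheory.Flat.Basic

/-!
Modules with a finite dual basis, and free neighbourhoods on ringed spaces.
-/

universe u

open CategoryTheory CategoryTheory.Limits Opposite

namespace Groth.Agent.Mod48

open SiteMod

variable {C : Type u} [SmallCategory C] {J : GrothendieckTopology C} {O : Sheaf J CommRingCat.{u}}

/-- Functionals and sections over `Y` exhibiting a direct summand of a finite free module. -/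
structure DualAt (P : PreM O) (Y : C) (ι : Type u) [Fintype ι] where
  /-- The sections. -/
  a : ι → P.obj (op Y)
  /-- The functionals. -/
  φ : ∀ (W : C), (W ⟶ Y) → (P.obj (op W) →ₗ[O.obj.obj (op W)] (ι → O.obj.obj (op W)))
  nat : ∀ {W W' : C} (g : W ⟶ Y) (w : W' ⟶ W) (x : P.obj (op W)) (i : ι),
    rres w.op (φ W g x i) = φ W' (w ≫ g) (res P w.op x) i
  sum : ∀ (W : C) (g : W ⟶ Y) (x : P.obj (op W)), x = ∑ i, φ W g x i • res P g.op (a i)

namespace DualAt

variable {P : PreM O} {Y : C} {ι : Type u} [Fintype ι] [DecidableEq ι] (d : DualAt P Y ι)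

/-- The idempotent matrix. -/
noncomputable def mat (t i : ι) : O.obj.obj (op Y) := d.φ Y (𝟙 Y) (d.a t) i

lemma φ_res {W : C} (g : W ⟶ Y) (t i : ι) : d.φ W g (res P g.op (d.a t)) i = rres g.op (d.mat t i) := by
  rw [mat, d.nat (𝟙 Y) g (d.a t) i, Category.comp_id]

lemma eq_sum_mat {W : C} (g : W ⟶ Y) (c : ι → O.obj.obj (op W))
    (hc : ∑ i, c i • res P g.op (d.a i) = 0) (l : ι) : ∑ i, c i * rres g.op (d.mat i l) = 0 := by
  have h := congrArg (fun x => d.φ W g x l) hc
  simp only [map_sum, map_smul, Finset.sum_apply, Pi.smul_apply, smul_eq_mul, map_zero, Pi.zero_apply] at h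
  refine Eq.trans (Finset.sum_congr rfl fun i _ => ?_) h
  rw [φ_res]

/-- The presentation by the idempotent matrix. -/
noncomputable def locPres : LocPres P Y where
  ι := ι
  κ := ι
  a := d.a
  r t i := (if t = i then 1 else 0) - d.mat t i
  rel t := by
    simp only [sub_smul, Finset.sum_sub_distrib, ite_smul, one_smul, zero_smul, Finset.sum_ite_eq,
      Finset.mem_univ, if_true]
    rw [sub_eq_zero]
    refine (d.sum Y (𝟙 Y) (d.a t)).trans (Finset.sum_congr rfl fun i _ => ?_)
    exact congrArg (d.mat t i • ·) (congr($(P.map_id (op Y)) (d.a i)))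
  gen W g x := ⟨⊤, J.top_mem W, fun V v _ => ⟨d.φ V (v ≫ g) (res P v.op x), d.sum V (v ≫ g) _⟩⟩
  kerr W g c hc := ⟨⊤, J.top_mem W, fun V v _ => ⟨fun t => rres v.op (c t), fun i => by
    have h := d.eq_sum_mat (v ≫ g) (fun t => rres v.op (c t)) (by
      refine Eq.trans ?_ ((congrArg (res P v.op) hc).trans (res_zero P v.op))
      rw [res_sum]
      exact Finset.sum_congr rfl fun t _ => by rw [res_smul, res_res, ← op_comp]) i
    simp only [map_sub, mul_sub, Finset.sum_sub_distrib, h, sub_zero]
    rw [Finset.sum_eq_single i (fun t _ ht => by rw [if_neg ht, map_zero, mul_zero])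
      (fun hi => absurd (Finset.mem_univ i) hi), if_pos rfl, map_one, mul_one]⟩⟩

end DualAt

variable {F : ModSite.Mod O} {Y : C} (p : GrothendieckTopology.Point.{u} J) (y : p.fiber.obj Y)

include y in
/-- The stalk of a module with a dual basis is finite projective. -/
theorem projective_stalk_of_dualAt {ι : Type u} [Fintype ι] (d : DualAt (pre F) Y ι) :
    Module.Finite (ModSite.stalkRing p O) (ModSite.stalkMod p F) ∧
      Module.Projective (ModSite.stalkRing p O) (ModSite.stalkMod p F) := by
  classical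
  let π : (ι → ModSite.stalkRing p O) →ₗ[ModSite.stalkRing p O] ModSite.stalkMod p F :=
    ∑ i, LinearMap.smulRight (LinearMap.proj i) (grm p F Y y (d.a i))
  have hπ : ∀ c, π c = ∑ i, c i • grm p F Y y (d.a i) := fun c => by
    simp [π, LinearMap.sum_apply]
  have hsurj : Function.Surjective π := fun m => by
    obtain ⟨c, hc⟩ := span_germs p y d.locPres.gen m
    exact ⟨c, (hπ c).trans hc.symm⟩
  let E : (ι → ModSite.stalkRing p O) →ₗ[ModSite.stalkRing p O] (ι → ModSite.stalkRing p O) :=
    LinearMap.pi fun l => ∑ i, (ModSite.germRing p Y y (d.mat i l)) • LinearMap.proj i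
  have hE : ∀ c l, E c l = ∑ i, c i * ModSite.germRing p Y y (d.mat i l) := fun c l => by
    simp [E, LinearMap.sum_apply, mul_comm]
  have hsum : ∀ t, grm p F Y y (d.a t) = ∑ l, ModSite.germRing p Y y (d.mat t l) • grm p F Y y (d.a l) := fun t => by
    refine Eq.trans ?_ (grm_sum_smul p y (d.mat t) d.a)
    refine congrArg (grm p F Y y) ((d.sum Y (𝟙 Y) (d.a t)).trans (Finset.sum_congr rfl fun i _ => ?_))
    exact congrArg (d.mat t i • ·) (congr($((pre F).map_id (op Y)) (d.a i)))
  have hidem : ∀ t l, ∑ i, ModSite.germRing p Y y (d.mat t i) * ModSite.germRing p Y y (d.mat i l) =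
      ModSite.germRing p Y y (d.mat t l) := fun t l => by
    refine Eq.trans (Finset.sum_congr rfl fun i _ => (germRing_mul p y _ _).symm) ?_
    rw [← germRing_sum]
    refine congrArg (ModSite.germRing p Y y) ?_
    have h := congrArg (fun x => d.φ Y (𝟙 Y) x l) (d.sum Y (𝟙 Y) (d.a t))
    simp only [map_sum, map_smul, Finset.sum_apply, Pi.smul_apply, smul_eq_mul] at h
    refine Eq.trans (Finset.sum_congr rfl fun i _ => ?_) h.symm
    rw [d.φ_res]
    change d.mat t i * d.mat i l = d.mat t i * _
    exact congrArg (d.mat t i * ·) (congr($(O.obj.map_id (op Y)).hom (d.mat i l))).symm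
  have haux : ∀ l t : ι, ∑ i, ModSite.germRing p Y y ((if t = i then 1 else 0) - d.mat t i) *
      ModSite.germRing p Y y (d.mat i l) = 0 := fun l t => by
    have hs : ∀ r s : O.obj.obj (op Y),
        ModSite.germRing p Y y (r - s) = ModSite.germRing p Y y r - ModSite.germRing p Y y s :=
      fun r s => map_sub (p.toPresheafFiber Y y O.obj).hom r s
    have h1 : ∀ i, ModSite.germRing (O := O) p Y y (if t = i then 1 else 0) = if t = i then 1 else 0 := fun i => by
      split_ifs
      · exact map_one (p.toPresheafFiber Y y O.obj).hom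
      · exact map_zero (p.toPresheafFiber Y y O.obj).hom
    simp only [hs, h1, sub_mul, Finset.sum_sub_distrib, ite_mul, one_mul, zero_mul, Finset.sum_ite_eq,
      Finset.mem_univ, if_true]
    rw [sub_eq_zero, hidem t l]
  have hker : ∀ c, π c = 0 → E c = 0 := fun c hc => by
    obtain ⟨e, he⟩ := relation_germs p y d.locPres c (((hπ c).symm).trans hc)
    funext l
    rw [hE, Pi.zero_apply]
    simp only [he, Finset.sum_mul, mul_assoc]
    rw [Finset.sum_comm]
    refine Finset.sum_eq_zero fun t _ => ?_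
    rw [← Finset.mul_sum]
    exact mul_eq_zero_of_right _ (haux l t)
  have hπE : ∀ c, π (E c) = π c := fun c => by
    rw [hπ, hπ]
    simp only [hE, Finset.sum_smul, mul_smul]
    rw [Finset.sum_comm]
    refine Finset.sum_congr rfl fun i _ => ?_
    rw [← Finset.smul_sum, ← hsum i]
  have hwd : ∀ c c', π c = π c' → E c = E c' := fun c c' h => by
    have h1 := hker (c - c') (by rw [map_sub, h, sub_self])
    rwa [map_sub, sub_eq_zero] at h1
  let σ : ModSite.stalkMod p F →ₗ[ModSite.stalkRing p O] (ι → ModSite.stalkRing p O) :=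
    { toFun := fun m => E (Function.surjInv hsurj m)
      map_add' := fun m m' => by
        rw [← map_add]
        refine hwd _ _ ?_
        rw [map_add, Function.surjInv_eq hsurj, Function.surjInv_eq hsurj, Function.surjInv_eq hsurj]
      map_smul' := fun r m => by
        rw [RingHom.id_apply, ← map_smul]
        refine hwd _ _ ?_
        rw [map_smul, Function.surjInv_eq hsurj, Function.surjInv_eq hsurj] }
  refine ⟨Module.Finite.of_surjective π hsurj, Module.Projective.of_split σ π ?_⟩
  ext m
  exact (hπE _).trans (Function.surjInv_eq hsurj m)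

/-- A direct summand of a finite free module has a dual basis. -/
theorem nonempty_dualAt_of_retract {H : ModSite.Mod O} (i : F ⟶ H) (q : H ⟶ F) (hip : i ≫ q = 𝟙 F)
    {ι : Type u} [Fintype ι] (e : (ModSite.restr O Y).obj H ≅ freeM (O := O.over Y) ι) :
    Nonempty (DualAt (pre F) Y ι) := by
  obtain ⟨a, φ, ha, hφ⟩ := exists_freeAt_of_iso e
  have huniq : ∀ (W : C) (g : W ⟶ Y) (x : (pre H).obj (op W)) (c : ι → O.obj.obj (op W)),
      x = ∑ t, c t • res (pre H) g.op (a t) → c = φ W g x := fun W g x c hx => by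
    refine sub_eq_zero.1 (ha.indep W g _ ?_)
    simp only [Pi.sub_apply, sub_smul, Finset.sum_sub_distrib]
    rw [← hx, ← hφ W g x, sub_self]
  let ψ : ∀ (W : C), (W ⟶ Y) → ((pre F).obj (op W) →ₗ[O.obj.obj (op W)] (ι → O.obj.obj (op W))) := fun W g =>
    { toFun := fun x => φ W g (ap i x)
      map_add' := fun x x' => (huniq W g _ _ (by
        refine (map_add ((fgt.map i).app (op W)).hom x x').trans ?_
        refine Eq.trans (congrArg₂ (· + ·) (hφ W g (ap i x)) (hφ W g (ap i x'))) ?_
        rw [← Finset.sum_add_distrib]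
        exact Finset.sum_congr rfl fun t _ => (add_smul _ _ _).symm)).symm
      map_smul' := fun r x => (huniq W g _ _ (by
        refine (map_smul ((fgt.map i).app (op W)).hom r x).trans ?_
        refine (congrArg (r • ·) (hφ W g (ap i x))).trans (Finset.smul_sum.trans ?_)
        exact Finset.sum_congr rfl fun t _ => (smul_smul _ _ _))).symm }
  refine ⟨⟨fun t => ap q (a t), ψ, fun {W W'} g w x t => ?_, fun W g x => ?_⟩⟩
  · refine congrFun (huniq W' (w ≫ g) (ap i (res (pre F) w.op x)) (fun t => rres w.op (φ W g (ap i x) t)) ?_) t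
    rw [← res_ap]
    conv_lhs => rw [hφ W g (ap i x), res_sum]
    exact Finset.sum_congr rfl fun t _ => by rw [res_smul, res_res, ← op_comp]
  · have h1 : ap q (ap i x) = x := by
      rw [← ap_comp, hip]
      rfl
    conv_lhs => rw [← h1, hφ W g (ap i x)]
    refine (map_sum _ _ _).trans (Finset.sum_congr rfl fun t _ => ?_)
    exact (map_smul _ _ _).trans (congrArg (φ W g (ap i x) t • ·) (res_ap q g (a t)).symm)

section Space

open TopologicalSpace

variable {X : TopCat.{u}} {O : TopCat.Sheaf CommRingCat.{u} X} {F : ModSite.Mod O}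

/-- A finitely presented module with a free stalk is free near the point. -/
theorem exists_free_nbhd {x : X} {Y : Opens X} (hY : x ∈ Y) (d : LocPres (pre F) Y) {ι : Type u} [Fintype ι]
    (b : Module.Basis ι (ModSite.stalkRing (Opens.pointGrothendieckTopology x) O)
      (ModSite.stalkMod (Opens.pointGrothendieckTopology x) F)) :
    ∃ U : Opens X, x ∈ U ∧ Nonempty ((ModSite.restr O U).obj F ≅ SheafOfModules.free ι) := by
  obtain ⟨V, k, v, -, s, hs, -⟩ := exists_freeAt_of_basis (Opens.pointGrothendieckTopology x) ⟨⟨hY⟩⟩ d b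
  exact ⟨V, v.down.down, nonempty_iso_of_freeAt hs⟩

/-- Local stalk rings. -/
theorem isLocalRing_stalkRing (x : X) (h : IsLocalRing (O.presheaf.stalk x)) :
    IsLocalRing (ModSite.stalkRing (Opens.pointGrothendieckTopology x) O) := by
  let p := Opens.pointGrothendieckTopology x
  have key : ∀ (U : Opens X) (hU : x ∈ U) (r : O.obj.obj (op U)),
      IsUnit (O.presheaf.germ U x hU r) → IsUnit (ModSite.germRing (O := O) p U ⟨⟨hU⟩⟩ r) := by
    intro U hU r hr
    obtain ⟨b, hb⟩ := hr.exists_right_inv
    obtain ⟨V, hV, s, rfl⟩ := O.presheaf.exists_germ_eq b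
    have h1 : O.presheaf.germ (U ⊓ V) x ⟨hU, hV⟩ (O.obj.map (homOfLE inf_le_left).op r * O.obj.map (homOfLE inf_le_right).op s) =
        O.presheaf.germ (U ⊓ V) x ⟨hU, hV⟩ 1 := by
      rw [map_mul, map_one]
      refine Eq.trans ?_ hb
      exact congrArg₂ (· * ·) (O.presheaf.germ_res_apply _ _ _ r) (O.presheaf.germ_res_apply _ _ _ s)
    obtain ⟨W, hW, i₁, i₂, e⟩ := O.presheaf.germ_eq x _ _ _ _ h1
    refine IsUnit.of_mul_eq_one (a := ModSite.germRing (O := O) p U ⟨⟨hU⟩⟩ r)
      (ModSite.germRing p W ⟨⟨hW⟩⟩ (rres i₁.op (O.obj.map (homOfLE inf_le_right).op s))) ?_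
    have h2 : ModSite.germRing p W ⟨⟨hW⟩⟩ (rres i₁.op (O.obj.map (homOfLE inf_le_left).op r)) =
        ModSite.germRing (O := O) p U ⟨⟨hU⟩⟩ r :=
      (germRing_res p i₁ ⟨⟨hW⟩⟩ _).trans (germRing_res p (homOfLE inf_le_left) _ r)
    rw [← h2, ← germRing_mul, ← map_mul, show rres i₁.op _ = rres i₂.op (1 : O.obj.obj (op (U ⊓ V))) from e, map_one]
    exact map_one (p.toPresheafFiber W _ O.obj).hom
  have : Nontrivial (ModSite.stalkRing p O) := by
    refine ⟨⟨1, 0, fun h10 => ?_⟩⟩
    obtain ⟨Y, g, y, -, e⟩ := exists_rres_eq_of_germRing_eq (O := O) p (X := ⊤) ⟨⟨trivial⟩⟩ (f := 1) (f' := 0) (by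
      refine Eq.trans ?_ (h10.trans (map_zero (p.toPresheafFiber (⊤ : Opens X) _ O.obj).hom).symm)
      exact map_one (p.toPresheafFiber (⊤ : Opens X) _ O.obj).hom)
    have e' := congrArg (O.presheaf.germ Y x y.down.down)
      ((map_one (O.obj.map g.op).hom).symm.trans (e.trans (map_zero (O.obj.map g.op).hom)))
    simp only [map_one, map_zero] at e'
    exact one_ne_zero e'
  refine IsLocalRing.of_isUnit_or_isUnit_one_sub_self fun a => ?_
  obtain ⟨U, z, r, rfl⟩ := exists_germRing (O := O) p a
  have hU : x ∈ U := z.down.down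
  rcases IsLocalRing.isUnit_or_isUnit_one_sub_self (O.presheaf.germ U x hU r) with h1 | h1
  · exact Or.inl (key U hU r h1)
  · refine Or.inr ?_
    have h2 := key U hU (1 - r) (by rwa [map_sub, map_one])
    have h3 : ModSite.germRing (O := O) p U z (1 - r) = 1 - ModSite.germRing (O := O) p U z r :=
      (map_sub (p.toPresheafFiber U z O.obj).hom 1 r).trans
        (congrArg (· - _) (map_one (p.toPresheafFiber U z O.obj).hom))
    exact h3 ▸ h2

/-- A module with a dual basis over local stalk rings is free near each point. -/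
theorem exists_free_nbhd_of_dualAt {x : X} {Y : Opens X} (hY : x ∈ Y)
    (hO : IsLocalRing (ModSite.stalkRing (Opens.pointGrothendieckTopology x) O)) {ι : Type u} [Fintype ι]
    (d : DualAt (pre F) Y ι) :
    ∃ (U : Opens X) (n : ℕ), x ∈ U ∧
      Nonempty ((ModSite.restr O U).obj F ≅ SheafOfModules.free (ULift.{u} (Fin n))) := by
  classical
  obtain ⟨h1, h2⟩ := projective_stalk_of_dualAt (Opens.pointGrothendieckTopology x) (y := ⟨⟨hY⟩⟩) d
  have : Module.Free (ModSite.stalkRing (Opens.pointGrothendieckTopology x) O)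
      (ModSite.stalkMod (Opens.pointGrothendieckTopology x) F) := Module.free_of_flat_of_isLocalRing
  let b := (Module.finBasis (ModSite.stalkRing (Opens.pointGrothendieckTopology x) O)
      (ModSite.stalkMod (Opens.pointGrothendieckTopology x) F)).reindex Equiv.ulift.{u}.symm
  obtain ⟨U, hU, e⟩ := exists_free_nbhd hY d.locPres b
  exact ⟨U, _, hU, e⟩

end Space

end Groth.Agent.Mod48
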