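import Groth.Agent.Mod48.GermSite
import Mathlib.AlgebraicGeometry.Morphisms.UniversallyOpen

/-!
Sections of the pullback of a small etale sheaf are locally pulled back from the etale site, are detected by
their values at geometric points, and vanish on an open set; consequently the unit is an isomorphism.
-/

universe u

open CategoryTheory CategoryTheory.Limits AlgebraicGeometry Opposite

namespace Groth.Agent.Mod48

set_option backward.isDefEq.respectTransparency.types false

open Unr55 (EtSh.germ EtSh.Pt EtSh.mkPt EtSh.germ_map EtSh.germ_eq_zero_iff EtSh.sect_eq_zero_of_local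
  EtSh.isSheafFor_forget EtSh.mem_topology EtSh.exists_germ_eq)

variable {X : Scheme.{u}}

/-- An open subscheme of an etale `X`-scheme. -/
noncomputable def openEt (U : X.Etale) (O : U.left.Opens) : X.Etale :=
  MorphismProperty.Over.mk ⊤ (O.ι ≫ U.hom) (by
    have : Etale U.hom := U.prop
    exact (inferInstance : Etale (O.ι ≫ U.hom)))

/-- Its inclusion. -/
noncomputable def openEtι (U : X.Etale) (O : U.left.Opens) : openEt U O ⟶ U :=
  MorphismProperty.Over.homMk O.ι

lemma openEtι_left (U : X.Etale) (O : U.left.Opens) : (openEtι U O).left = O.ι := rfl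

instance (U : X.Etale) (O : U.left.Opens) : IsOpenImmersion (openEtι U O).left :=
  inferInstanceAs (IsOpenImmersion O.ι)

lemma etale_left {U V : X.Etale} (g : V ⟶ U) : Etale g.left := by
  have : Etale (g.left ≫ U.hom) := by rw [Over.w g.hom]; exact V.prop
  exact MorphismProperty.of_postcomp @Etale (W' := @Etale) g.left U.hom U.prop this

/-- The open set where a section vanishes. -/
def vanSet (F : EtCoh.Ab X) {U : X.Etale} (s : EtCoh.sect F U) : U.left.Opens where
  carrier := {x | ∃ (V : X.Etale) (g : V ⟶ U) (v : V.left), g.left v = x ∧ F.obj.map g.op s = 0}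
  is_open' := by
    refine isOpen_iff_forall_mem_open.2 fun x ⟨V, g, v, hv, hg⟩ => ?_
    have := etale_left g
    refine ⟨Set.range g.left, ?_, g.left.isOpenMap.isOpen_range, v, hv⟩
    rintro _ ⟨w, rfl⟩
    exact ⟨V, g, w, rfl, hg⟩

lemma map_vanSet_eq_zero (F : EtCoh.Ab X) {U : X.Etale} (s : EtCoh.sect F U) :
    F.obj.map (openEtι U (vanSet F s)).op s = 0 := by
  refine EtSh.sect_eq_zero_of_local F _ fun x => ?_
  obtain ⟨V, g, v, hv, hg⟩ := x.2
  have hr : Set.range g.left ⊆ Set.range (openEtι U (vanSet F s)).left := by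
    rintro _ ⟨w, rfl⟩
    exact ⟨⟨g.left w, V, g, w, rfl, hg⟩, rfl⟩
  let l := IsOpenImmersion.lift (openEtι U (vanSet F s)).left g.left hr
  have hl : l ≫ (vanSet F s).ι = g.left := IsOpenImmersion.lift_fac _ _ _
  let g' : V ⟶ openEt U (vanSet F s) := MorphismProperty.Over.homMk l (by
    show l ≫ (vanSet F s).ι ≫ U.hom = V.hom
    rw [← Category.assoc, hl]
    exact Over.w g.hom)
  have hg' : g' ≫ openEtι U (vanSet F s) = g := MorphismProperty.Over.Hom.ext hl
  refine ⟨V, g', v, Subtype.ext ?_, ?_⟩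
  · exact (Scheme.Hom.comp_apply l (vanSet F s).ι v).symm.trans ((congrArg (fun q : V.left ⟶ U.left => q v) hl).trans hv)
  · rw [← ConcreteCategory.comp_apply, ← Functor.map_comp, ← op_comp, hg']
    exact hg

/-- The point of `Y` under a geometric point. -/
noncomputable abbrev img {η : GPt X} {Y : Over X} (v : Over.mk η.hom ⟶ Y) : Y.left :=
  v.left (default : Spec (CommRingCat.of η.k))

lemma img_comp {η : GPt X} {Y Z : Over X} (v : Over.mk η.hom ⟶ Y) (g : Y ⟶ Z) :
    img (v ≫ g) = g.left (img v) := rfl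

lemma germ_eq_zero_iff_mem (η : GPt X) (F : EtCoh.Ab X) {U : X.Etale} (t : EtSh.Pt η.hom U)
    (s : EtCoh.sect F U) :
    EtSh.germ η.hom F t s = 0 ↔ img (η := η) (Y := (Scheme.Etale.forget X).obj U) t ∈ vanSet F s := by
  constructor
  · intro h
    obtain ⟨V, g, t', ht, hg⟩ := (EtSh.germ_eq_zero_iff η.hom F t s).1 h
    exact ⟨V, g, img (η := η) (Y := (Scheme.Etale.forget X).obj V) t', congrArg (fun q : EtSh.Pt η.hom U => img (η := η) (Y := (Scheme.Etale.forget X).obj U) q) ht, hg⟩
  · intro h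
    let tl : Spec (CommRingCat.of η.k) ⟶ U.left := t.left
    have hr : Set.range tl ⊆
        Set.range (openEtι U (vanSet F s)).left := by
      rintro _ ⟨p, rfl⟩
      exact ⟨⟨tl p, by rw [Subsingleton.elim p default]; exact h⟩, rfl⟩
    obtain ⟨l, hl⟩ : ∃ l, l ≫ (vanSet F s).ι = tl :=
      ⟨IsOpenImmersion.lift (vanSet F s).ι tl hr, IsOpenImmersion.lift_fac _ _ _⟩
    have hw : tl ≫ U.hom = η.hom := Over.w t
    let t' : EtSh.Pt η.hom (openEt U (vanSet F s)) := EtSh.mkPt η.hom l (by
      show l ≫ (vanSet F s).ι ≫ U.hom = η.hom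
      rw [← Category.assoc, hl, hw])
    have ht : (Scheme.pointSmallEtale η.hom).fiber.map (openEtι U (vanSet F s)) t' = t :=
      Over.OverMorphism.ext hl
    rw [← ht, ← EtSh.germ_map, map_vanSet_eq_zero, map_zero]

/-- A geometric point over any point. -/
lemma exists_gpt (Y : Over X) (x : Y.left) :
    ∃ (η : GPt X) (v : Over.mk η.hom ⟶ Y), img v = x := by
  let l : Spec (CommRingCat.of (AlgebraicClosure (Y.left.residueField x))) ⟶ Y.left :=
    Spec.map (CommRingCat.ofHom (algebraMap (Y.left.residueField x)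
      (AlgebraicClosure (Y.left.residueField x)))) ≫ Y.left.fromSpecResidueField x
  exact ⟨⟨_, l ≫ Y.hom⟩, Over.homMk l rfl, Y.left.fromSpecResidueField_apply x _⟩

namespace GSite

variable {C : Type (u + 1)} [Category.{u} C] {K : GrothendieckTopology C} {e : X.Etale ⥤ C}
  (Γ : GSite X K e)
  [e.IsContinuous X.smallEtaleTopology K]
  [(e.sheafPushforwardContinuous AddCommGrpCat.{u + 1} X.smallEtaleTopology K).IsRightAdjoint]
  (F : EtCoh.Ab X)

lemma eta_map {U U' : X.Etale} (a : U' ⟶ U) (s : EtCoh.sect F U) :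
    (pull K e F).obj.map (e.map a).op (etaSect K e F s) = etaSect K e F (F.obj.map a.op s) :=
  (NatTrans.naturality_apply ((adj K e).unit.app F).hom a.op s).symm

variable (K e) in
/-- The sieve on which a section comes from the etale site. -/
def repSieve {V : C} (t : (pull K e F).obj.obj (op V)) : Sieve V where
  arrows W g := ∃ (U : X.Etale) (h : W ⟶ e.obj U) (s : EtCoh.sect F U),
    (pull K e F).obj.map g.op t = (pull K e F).obj.map h.op (etaSect K e F s)
  downward_closed := by
    rintro W W' g ⟨U, h, s, hs⟩ k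
    refine ⟨U, k ≫ h, s, ?_⟩
    rw [op_comp, Functor.map_comp, ConcreteCategory.comp_apply, hs, op_comp, Functor.map_comp,
      ConcreteCategory.comp_apply]

include Γ in
lemma repSieve_inter {V : C} (t t' : (pull K e F).obj.obj (op V)) :
    repSieve K e F t ⊓ repSieve K e F t' ≤ repSieve K e F (t + t') := by
  rintro W g ⟨⟨U, h, s, hs⟩, ⟨U', h', s', hs'⟩⟩
  have : Etale U.hom := U.prop
  have : Etale U'.hom := U'.prop
  let P : X.Etale := MorphismProperty.Over.mk ⊤ (pullback.fst U.hom U'.hom ≫ U.hom)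
    (inferInstance : Etale (pullback.fst U.hom U'.hom ≫ U.hom))
  let p₁ : P ⟶ U := MorphismProperty.Over.homMk (pullback.fst U.hom U'.hom) rfl
  let p₂ : P ⟶ U' := MorphismProperty.Over.homMk (pullback.snd U.hom U'.hom) pullback.condition.symm
  let q : Γ.U.obj W ⟶ (Scheme.Etale.forget X).obj P :=
    Over.homMk (pullback.lift (Γ.unE h).left (Γ.unE h').left
      ((Over.w (Γ.unE h)).trans (Over.w (Γ.unE h')).symm)) (by
      show pullback.lift _ _ _ ≫ pullback.fst U.hom U'.hom ≫ U.hom = _
      rw [pullback.lift_fst_assoc]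
      exact Over.w (Γ.unE h))
  have h1 : Γ.toE q ≫ e.map p₁ = h := Γ.unE_injective (by
    rw [unE_comp_e, unE_toE]
    exact Over.OverMorphism.ext (pullback.lift_fst _ _ _))
  have h2 : Γ.toE q ≫ e.map p₂ = h' := Γ.unE_injective (by
    rw [unE_comp_e, unE_toE]
    exact Over.OverMorphism.ext (pullback.lift_snd _ _ _))
  refine ⟨P, Γ.toE q, F.obj.map p₁.op s + F.obj.map p₂.op s', ?_⟩
  have key : etaSect K e F (F.obj.map p₁.op s + F.obj.map p₂.op s') =
      etaSect K e F (F.obj.map p₁.op s) + etaSect K e F (F.obj.map p₂.op s') := map_add _ _ _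
  rw [key, map_add, map_add, ← eta_map, ← eta_map, ← ConcreteCategory.comp_apply,
    ← ConcreteCategory.comp_apply, ← Functor.map_comp, ← Functor.map_comp, ← op_comp, ← op_comp,
    h1, h2, hs, hs']

include Γ in
lemma repSieve_zero (V : C) : repSieve K e F (0 : (pull K e F).obj.obj (op V)) = ⊤ :=
  top_unique fun W _ _ => ⟨EtCoh.top X, Γ.toE (Over.homMk (Γ.U.obj W).hom (Category.comp_id _)), 0, by
    rw [map_zero]
    exact ((congrArg _ (map_zero _)).trans (map_zero _)).symm⟩

/-- Sections locally coming from the etale site. -/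
def locRep (V : C) : AddSubgroup ((pull K e F).obj.obj (op V)) where
  carrier := {t | repSieve K e F t ∈ K V}
  zero_mem' := by
    show repSieve K e F 0 ∈ K V
    rw [Γ.repSieve_zero]
    exact K.top_mem V
  add_mem' ha hb := K.superset_covering (Γ.repSieve_inter F _ _) (K.intersection_covering ha hb)
  neg_mem' {t} ht := by
    refine K.superset_covering (S := repSieve K e F t) ?_ ht
    rintro W g ⟨U, h, s, hs⟩
    refine ⟨U, h, -s, ?_⟩
    rw [map_neg, hs, ← map_neg]
    congr 1
    exact (map_neg _ s).symm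

lemma repSieve_pullback {V W : C} (g : W ⟶ V) (t : (pull K e F).obj.obj (op V)) :
    (repSieve K e F t).pullback g ≤ repSieve K e F ((pull K e F).obj.map g.op t) := by
  rintro W' k ⟨U, h, s, hs⟩
  exact ⟨U, h, s, by rw [← ConcreteCategory.comp_apply, ← Functor.map_comp, ← op_comp]; exact hs⟩

/-- The subpresheaf of sections locally coming from the etale site. -/
noncomputable def locRepPre : Cᵒᵖ ⥤ AddCommGrpCat.{u + 1} where
  obj V := AddCommGrpCat.of (Γ.locRep F V.unop)
  map {V W} g := AddCommGrpCat.ofHom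
    { toFun := fun t => ⟨(pull K e F).obj.map g t.1, by
        have := K.superset_covering (repSieve_pullback F g.unop t.1) (K.pullback_stable g.unop t.2)
        exact this⟩
      map_zero' := Subtype.ext (map_zero _)
      map_add' := fun a b => Subtype.ext (map_add _ _ _) }
  map_id V := by
    ext t
    exact ConcreteCategory.congr_hom ((pull K e F).obj.map_id _) t.1
  map_comp f g := by
    ext t
    exact ConcreteCategory.congr_hom ((pull K e F).obj.map_comp f g) t.1

theorem locRepPre_isSheaf : Presheaf.IsSheaf K (Γ.locRepPre F) := by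
  rw [Presheaf.isSheaf_iff_isSheaf_forget K _ (forget AddCommGrpCat.{u + 1}),
    isSheaf_iff_isSheaf_of_type]
  intro V S hS x hx
  have hP := (isSheaf_iff_isSheaf_of_type _ _).1
    (Presheaf.isSheaf_comp_of_isSheaf K (pull K e F).obj (forget AddCommGrpCat.{u + 1})
      (pull K e F).property)
  let x' : Presieve.FamilyOfElements ((pull K e F).obj ⋙ forget AddCommGrpCat.{u + 1}) S.arrows :=
    fun W g hg => (x g hg).1
  have hx' : x'.Compatible := fun W₁ W₂ W g₁ g₂ f₁ f₂ h₁ h₂ w =>
    congrArg Subtype.val (hx g₁ g₂ h₁ h₂ w)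
  obtain ⟨y, hy, huy⟩ := hP S hS x' hx'
  have hmem : repSieve K e F y ∈ K V := by
    refine K.transitive hS _ fun W g hg => ?_
    have h : repSieve K e F ((pull K e F).obj.map g.op y) ∈ K W := by
      rw [show (pull K e F).obj.map g.op y = (x g hg).1 from hy g hg]
      exact (x g hg).2
    refine K.superset_covering ?_ h
    rintro W' k ⟨U, h, s, hs⟩
    exact ⟨U, h, s, by rw [op_comp, Functor.map_comp, ConcreteCategory.comp_apply]; exact hs⟩
  exact ⟨⟨y, hmem⟩, fun W g hg => Subtype.ext (hy g hg), fun z hz =>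
    Subtype.ext (huy z.1 fun W g hg => congrArg Subtype.val (hz g hg))⟩

include Γ in
/-- Every section locally comes from the etale site. -/
theorem repSieve_mem {V : C} (t : (pull K e F).obj.obj (op V)) : repSieve K e F t ∈ K V := by
  let G : Sheaf K AddCommGrpCat.{u + 1} := ⟨Γ.locRepPre F, Γ.locRepPre_isSheaf F⟩
  let incl : G ⟶ pull K e F :=
    { hom :=
      { app := fun V => AddCommGrpCat.ofHom (Γ.locRep F V.unop).subtype
        naturality := fun _ _ _ => rfl } }
  let l : F ⟶ (e.sheafPushforwardContinuous AddCommGrpCat.{u + 1} X.smallEtaleTopology K).obj G :=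
    { hom :=
      { app := fun U => AddCommGrpCat.ofHom
          { toFun := fun s => (⟨etaSect K e F s, K.superset_covering
              (fun W g _ => ⟨U.unop, g, s, rfl⟩) (K.top_mem _)⟩ : Γ.locRep F (e.obj U.unop))
            map_zero' := Subtype.ext (map_zero _)
            map_add' := fun a b => Subtype.ext (map_add _ _ _) }
        naturality := fun U U' a => by
          ext s
          exact Subtype.ext (eta_map F a.unop s).symm } }
  have hid : ((adj K e).homEquiv _ _).symm l ≫ incl = 𝟙 (pull K e F) := by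
    apply ((adj K e).homEquiv _ _).injective
    rw [Adjunction.homEquiv_naturality_right, Equiv.apply_symm_apply, Adjunction.homEquiv_unit]
    rw [CategoryTheory.Functor.map_id]
    erw [Category.comp_id]
    ext U s
    rfl
  have h := congrArg (fun φ : pull K e F ⟶ pull K e F => φ.hom.app (op V) t) hid
  have hr := ((((adj K e).homEquiv _ _).symm l).hom.app (op V) t).2
  change repSieve K e F (incl.hom.app (op V) ((((adj K e).homEquiv _ _).symm l).hom.app (op V) t)) ∈ K V at hr
  change incl.hom.app (op V) ((((adj K e).homEquiv _ _).symm l).hom.app (op V) t) = t at h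
  rwa [h] at hr

/-- Value of a section coming from the etale site. -/
lemma val_rep {W : C} {U : X.Etale} (h : W ⟶ e.obj U) (s : EtCoh.sect F U) (η : GPt X)
    (w : Γ.Pts η W) :
    Γ.val F η w ((pull K e F).obj.map h.op (etaSect K e F s)) =
      EtSh.germ η.hom F (w ≫ Γ.unE h : EtSh.Pt η.hom U) s := by
  rw [val_map, val_eta]
  congr 1

lemma val_eq_zero_iff_rep {V W : C} (t : (pull K e F).obj.obj (op V)) (g : W ⟶ V) {U : X.Etale}
    (h : W ⟶ e.obj U) (s : EtCoh.sect F U)
    (hs : (pull K e F).obj.map g.op t = (pull K e F).obj.map h.op (etaSect K e F s))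
    (η : GPt X) (w : Γ.Pts η W) :
    Γ.val F η (w ≫ Γ.U.map g) t = 0 ↔ (Γ.unE h).left (img w) ∈ vanSet F s := by
  rw [← val_map, hs, val_rep, germ_eq_zero_iff_mem]
  rfl

lemma exists_lift_pts {V : C} {S : Sieve V} (hS : S ∈ K V) (η : GPt X) (v : Γ.Pts η V) :
    ∃ (W : C) (g : W ⟶ V) (w : Γ.Pts η W), S.arrows g ∧ w ≫ Γ.U.map g = v := by
  obtain ⟨W, g, w, hg, hw⟩ := Γ.lift hS (k := η.k) v.left
  refine ⟨W, g, Over.homMk w ?_, hg, Over.OverMorphism.ext hw⟩
  show w ≫ (Γ.U.obj W).hom = η.hom
  rw [← Over.w (Γ.U.map g), ← Category.assoc, hw]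
  exact Over.w v

/-- Vanishing of a value does not change under extension of the field. -/
lemma val_eq_zero_iff_ext {V : C} (t : (pull K e F).obj.obj (op V)) (η : GPt X) (v : Γ.Pts η V)
    {L : Type u} [Field L] [IsAlgClosed L]
    (r : Spec (CommRingCat.of L) ⟶ Spec (CommRingCat.of η.k))
    (v' : Γ.Pts ⟨L, r ≫ η.hom⟩ V) (hv : v'.left = r ≫ v.left) :
    Γ.val F η v t = 0 ↔ Γ.val F ⟨L, r ≫ η.hom⟩ v' t = 0 := by
  obtain ⟨W, g, w, ⟨U, h, s, hs⟩, hw⟩ := Γ.exists_lift_pts (Γ.repSieve_mem F t) η v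
  let w' : Γ.Pts ⟨L, r ≫ η.hom⟩ W := Over.homMk (r ≫ w.left) (by
    show (r ≫ w.left) ≫ _ = r ≫ η.hom
    rw [Category.assoc]
    exact congrArg (r ≫ ·) (Over.w w))
  have hw' : w' ≫ Γ.U.map g = v' := Over.OverMorphism.ext (by
    show (r ≫ w.left) ≫ (Γ.U.map g).left = v'.left
    rw [hv, Category.assoc]
    exact congrArg (r ≫ ·) (congrArg CommaMorphism.left hw))
  rw [← hw, ← hw', Γ.val_eq_zero_iff_rep F t g h s hs, Γ.val_eq_zero_iff_rep F t g h s hs]
  show _ ↔ (Γ.unE h).left ((r ≫ (w.left : Spec (CommRingCat.of η.k) ⟶ (Γ.U.obj W).left)) default) ∈ _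
  rw [Scheme.Hom.comp_apply, Subsingleton.elim (r default) default]

lemma val_eq_zero_iff_point {V W : C} (t : (pull K e F).obj.obj (op V)) (g : W ⟶ V) {U : X.Etale}
    (h : W ⟶ e.obj U) (s : EtCoh.sect F U)
    (hs : (pull K e F).obj.map g.op t = (pull K e F).obj.map h.op (etaSect K e F s))
    (x : (Γ.U.obj W).left) (η : GPt X) (v : Γ.Pts η V) (hx : (Γ.U.map g).left x = img v) :
    Γ.val F η v t = 0 ↔ (Γ.unE h).left x ∈ vanSet F s := by
  obtain ⟨z, hz₁, hz₂⟩ := Scheme.Pullback.exists_preimage_pullback (f := v.left) (g := (Γ.U.map g).left)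
    (default : Spec (CommRingCat.of η.k)) x hx.symm
  let Z := pullback v.left (Γ.U.map g).left
  let l : Spec (CommRingCat.of (AlgebraicClosure (Z.residueField z))) ⟶ Z :=
    Spec.map (CommRingCat.ofHom (algebraMap (Z.residueField z) (AlgebraicClosure (Z.residueField z)))) ≫
      Z.fromSpecResidueField z
  have hl : l default = z := Z.fromSpecResidueField_apply z _
  let r := l ≫ pullback.fst v.left (Γ.U.map g).left
  let η' : GPt X := ⟨AlgebraicClosure (Z.residueField z), r ≫ η.hom⟩
  let w : Γ.Pts η' W := Over.homMk (l ≫ pullback.snd v.left (Γ.U.map g).left) (by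
    show (l ≫ pullback.snd v.left (Γ.U.map g).left) ≫ _ =
      (l ≫ pullback.fst v.left (Γ.U.map g).left) ≫ η.hom
    rw [← Over.w (Γ.U.map g), Category.assoc, ← pullback.condition_assoc, Category.assoc]
    exact congrArg (fun q => l ≫ pullback.fst v.left (Γ.U.map g).left ≫ q) (Over.w v))
  have hv : (w ≫ Γ.U.map g).left = r ≫ v.left := by
    show (l ≫ pullback.snd v.left (Γ.U.map g).left) ≫ (Γ.U.map g).left = _
    rw [Category.assoc, ← pullback.condition, ← Category.assoc]
  rw [Γ.val_eq_zero_iff_ext F t η v r (w ≫ Γ.U.map g) hv, Γ.val_eq_zero_iff_rep F t g h s hs]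
  show (Γ.unE h).left ((l ≫ pullback.snd v.left (Γ.U.map g).left) default) ∈ _ ↔ _
  rw [Scheme.Hom.comp_apply, hl, hz₂]

/-- Points where a section vanishes. -/
def locusSet {V : C} (t : (pull K e F).obj.obj (op V)) : Set ↥(Γ.U.obj V).left :=
  {x | ∀ (η : GPt X) (v : Γ.Pts η V), img v = x → Γ.val F η v t = 0}

lemma mem_locusSet_iff {V : C} (t : (pull K e F).obj.obj (op V)) (η : GPt X) (v : Γ.Pts η V) :
    img v ∈ Γ.locusSet F t ↔ Γ.val F η v t = 0 := by
  refine ⟨fun h => h η v rfl, fun h η' v' e' => ?_⟩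
  obtain ⟨W, g, w, ⟨U, hh, s, hs⟩, hw⟩ := Γ.exists_lift_pts (Γ.repSieve_mem F t) η v
  have hx : (Γ.U.map g).left (img w) = img v :=
    congrArg (fun q : Γ.Pts η V => img q) hw
  rw [Γ.val_eq_zero_iff_point F t g hh s hs _ η' v' (hx.trans e'.symm)]
  exact (Γ.val_eq_zero_iff_point F t g hh s hs _ η v hx).1 h

theorem isOpen_locusSet {V : C} (t : (pull K e F).obj.obj (op V)) : IsOpen (Γ.locusSet F t) := by
  refine Γ.quot (Γ.repSieve_mem F t) _ fun W g ⟨U, h, s, hs⟩ => ?_
  have : (Γ.U.map g).left ⁻¹' Γ.locusSet F t = (Γ.unE h).left ⁻¹' (vanSet F s : Set U.left) := by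
    ext x
    obtain ⟨η, v, hv⟩ := exists_gpt (Γ.U.obj V) ((Γ.U.map g).left x)
    rw [Set.mem_preimage, ← hv, Γ.mem_locusSet_iff, Γ.val_eq_zero_iff_point F t g h s hs x η v hv.symm]
    rfl
  rw [this]
  exact (vanSet F s).2.preimage (Γ.unE h).left.continuous

include Γ in
/-- A section with all values zero is zero. -/
theorem eq_zero_of_val {V : C} (t : (pull K e F).obj.obj (op V))
    (ht : ∀ (η : GPt X) (v : Γ.Pts η V), Γ.val F η v t = 0) : t = 0 := by
  have hP := (isSheaf_iff_isSheaf_of_type _ _).1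
    (Presheaf.isSheaf_comp_of_isSheaf K (pull K e F).obj (forget AddCommGrpCat.{u + 1})
      (pull K e F).property)
  refine (hP _ (Γ.repSieve_mem F t)).isSeparatedFor.ext fun W g ⟨U, h, s, hs⟩ => ?_
  show (pull K e F).obj.map g.op t = (pull K e F).obj.map g.op 0
  rw [map_zero, hs]
  have hr : Set.range (Γ.unE h).left ⊆ Set.range (openEtι U (vanSet F s)).left := by
    rintro _ ⟨x, rfl⟩
    obtain ⟨η, v, hv⟩ := exists_gpt (Γ.U.obj V) ((Γ.U.map g).left x)
    exact ⟨⟨_, (Γ.val_eq_zero_iff_point F t g h s hs x η v hv.symm).1 (ht η v)⟩, rfl⟩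
  obtain ⟨h', rfl⟩ := Γ.exists_factor (openEtι U (vanSet F s)) h hr
  rw [op_comp, Functor.map_comp, ConcreteCategory.comp_apply, eta_map, map_vanSet_eq_zero]
  exact (congrArg _ (map_zero _)).trans (map_zero _)

include Γ in
theorem eq_of_val {V : C} (t t' : (pull K e F).obj.obj (op V))
    (ht : ∀ (η : GPt X) (v : Γ.Pts η V), Γ.val F η v t = Γ.val F η v t') : t = t' :=
  sub_eq_zero.1 (Γ.eq_zero_of_val F _ fun η v => by rw [map_sub, ht, sub_self])

include Γ in
/-- The unit is injective on sections. -/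
theorem etaSect_injective [IsIso Γ.c] (U : X.Etale) : Function.Injective (etaSect K e F (U := U)) := by
  intro s s' h
  refine sub_eq_zero.1 (EtSh.sect_eq_zero_of_local F _ fun x => ?_)
  obtain ⟨η, v, hv⟩ := exists_gpt ((Scheme.Etale.forget X).obj U) x
  have h0 : EtSh.germ η.hom F (v : EtSh.Pt η.hom U) (s - s') = 0 := by
    rw [map_sub, sub_eq_zero]
    have := congrArg (Γ.val F η (v ≫ Γ.i.inv.app U)) h
    rw [val_eta, val_eta, Category.assoc, ← i_hom, Iso.inv_hom_id_app, Category.comp_id] at this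
    exact this
  obtain ⟨V, g, w, hw, hg⟩ := (germ_eq_zero_iff_mem η F _ _).1 h0
  exact ⟨V, g, w, hw.trans hv, hg⟩

include Γ in
/-- The unit is surjective on sections. -/
theorem etaSect_surjective [IsIso Γ.c] (U : X.Etale) : Function.Surjective (etaSect K e F (U := U)) := by
  intro t
  let S : Sieve U :=
    { arrows := fun W g => ∃ σ : EtCoh.sect F W,
        etaSect K e F σ = (pull K e F).obj.map (e.map g).op t
      downward_closed := fun {W W' g} ⟨σ, hσ⟩ k => ⟨F.obj.map k.op σ, by
        rw [← eta_map, hσ, ← ConcreteCategory.comp_apply, ← Functor.map_comp, ← op_comp,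
          ← Functor.map_comp]⟩ }
  have hS : S ∈ X.smallEtaleTopology U := EtSh.mem_topology fun x => by
    obtain ⟨η, v, hv⟩ := exists_gpt ((Scheme.Etale.forget X).obj U) x
    obtain ⟨W₀, w₀, σ₀, hσ₀⟩ := EtSh.exists_germ_eq η.hom F (Γ.val F η (v ≫ Γ.i.inv.app U) t)
    obtain ⟨⟨W, w⟩, a, b, -⟩ := IsCofiltered.toIsCofilteredOrEmpty.cone_objs
      (C := (Scheme.pointSmallEtale η.hom).fiber.Elements) ⟨U, v⟩ ⟨W₀, w₀⟩
    let d := (pull K e F).obj.map (e.map a.val).op t - etaSect K e F (F.obj.map b.val.op σ₀)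
    have hd : Γ.val F η (w ≫ Γ.i.inv.app W) d = 0 := by
      rw [map_sub, sub_eq_zero, val_map, val_eta, Category.assoc, Category.assoc, ← i_hom,
        Iso.inv_hom_id_app, Category.comp_id, EtSh.germ_map, b.property, hσ₀]
      have n := Γ.i.inv.naturality a.val
      simp only [Functor.comp_map] at n
      congr 2
      show (w : Over.mk η.hom ⟶ _) ≫ Γ.i.inv.app W ≫ Γ.U.map (e.map a.val) = v ≫ Γ.i.inv.app U
      rw [← n, ← Category.assoc]
      exact congrArg (· ≫ Γ.i.inv.app U) a.property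
    let O : W.left.Opens :=
      ⟨(Γ.i.inv.app W).left ⁻¹' Γ.locusSet F d, (Γ.isOpen_locusSet F d).preimage (Γ.i.inv.app W).left.continuous⟩
    have hz : (pull K e F).obj.map (e.map (openEtι W O)).op d = 0 := by
      refine Γ.eq_zero_of_val F _ fun ζ u => ?_
      rw [val_map, ← mem_locusSet_iff]
      have n := Γ.i.hom.naturality (openEtι W O)
      simp only [Functor.comp_map] at n
      have hp : img ((u ≫ Γ.U.map (e.map (openEtι W O))) ≫ Γ.i.hom.app W) ∈ O := by
        rw [Category.assoc, n]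
        exact ((img (u ≫ Γ.i.hom.app (openEt W O)) : O.toScheme)).2
      have hp' : img (((u ≫ Γ.U.map (e.map (openEtι W O))) ≫ Γ.i.hom.app W) ≫ Γ.i.inv.app W) ∈
          Γ.locusSet F d := hp
      rw [Category.assoc, Iso.hom_inv_id_app] at hp'; erw [Category.comp_id] at hp'
      exact hp'
    have hwO : img (η := η) (Y := (Scheme.Etale.forget X).obj W) w ∈ O :=
      (Γ.mem_locusSet_iff F d η (w ≫ Γ.i.inv.app W)).2 hd
    refine ⟨openEt W O, openEtι W O ≫ a.val, ⟨img (η := η) (Y := (Scheme.Etale.forget X).obj W) w, hwO⟩,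
      ⟨F.obj.map (openEtι W O).op (F.obj.map b.val.op σ₀), ?_⟩, ?_⟩
    · rw [map_sub, sub_eq_zero, eta_map, ← ConcreteCategory.comp_apply, ← Functor.map_comp,
        ← op_comp, ← Functor.map_comp] at hz
      exact hz.symm
    · exact (congrArg (fun q : EtSh.Pt η.hom U => img q) a.property).trans hv
  choose σ hσ using fun W (g : W ⟶ U) (hg : S g) => hg
  have hcomp : Presieve.FamilyOfElements.Compatible
      (P := F.obj ⋙ forget AddCommGrpCat.{u + 1}) (R := S.arrows) σ := by
    intro W₁ W₂ W g₁ g₂ f₁ f₂ h₁ h₂ w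
    refine Γ.etaSect_injective F W ?_
    show etaSect K e F (F.obj.map g₁.op (σ W₁ f₁ h₁)) = etaSect K e F (F.obj.map g₂.op (σ W₂ f₂ h₂))
    rw [← eta_map, ← eta_map, hσ, hσ, ← ConcreteCategory.comp_apply, ← ConcreteCategory.comp_apply,
      ← Functor.map_comp, ← Functor.map_comp, ← op_comp, ← op_comp, ← Functor.map_comp,
      ← Functor.map_comp, w]
  obtain ⟨s, hs, -⟩ := EtSh.isSheafFor_forget F hS σ hcomp
  refine ⟨s, Γ.eq_of_val F _ _ fun η v => ?_⟩
  let p : Over.mk η.hom ⟶ (Scheme.Etale.forget X).obj U := v ≫ Γ.i.hom.app U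
  obtain ⟨W, g, x, hg, hx⟩ : ∃ (W : X.Etale) (g : W ⟶ U) (x : W.left), S g ∧ g.left x = img p := by
    have e' : X.smallEtaleTopology =
        (X.smallPretopology (P := EtCoh.etaleMP) (Q := EtCoh.etaleMP)).toGrothendieck :=
      Scheme.smallGrothendieckTopology_eq_toGrothendieck_smallPretopology X le_rfl
    have hS' := hS
    rw [e'] at hS'
    obtain ⟨W, g, x, hg, -, hx⟩ := (Scheme.mem_toGrothendieck_smallPretopology U S).1 hS' (img p)
    exact ⟨W, g, x, hg, hx⟩
  have := etale_left g
  obtain ⟨l, hl, -⟩ := Scheme.exists_fac_of_etale_of_isSepClosed g.left p.left x hx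
  let q : Over.mk η.hom ⟶ (Scheme.Etale.forget X).obj W := Over.homMk l (by
    show l ≫ W.hom = η.hom
    have h1 : g.left ≫ U.hom = W.hom := Over.w g.hom
    rw [← h1, ← Category.assoc, hl]
    exact Over.w p)
  have hq : (q ≫ Γ.i.inv.app W) ≫ Γ.U.map (e.map g) = v := by
    have n := Γ.i.inv.naturality g
    simp only [Functor.comp_map] at n
    have hqp : q ≫ (Scheme.Etale.forget X).map g = p := Over.OverMorphism.ext hl
    rw [Category.assoc, ← n, ← Category.assoc, hqp, Category.assoc, Iso.hom_inv_id_app]; exact Category.comp_id _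
  rw [← hq, ← val_map, ← val_map, eta_map]
  congr 1
  exact (congrArg (etaSect K e F) (hs g hg)).trans (hσ W g hg)

include Γ in
/-- The unit is an isomorphism. -/
theorem isIso_unit [IsIso Γ.c] : IsIso ((adj K e).unit.app F) := by
  have : IsIso ((adj K e).unit.app F).hom := by
    have : ∀ U : X.Etaleᵒᵖ, IsIso (((adj K e).unit.app F).hom.app U) := fun U =>
      (ConcreteCategory.isIso_iff_bijective _).2
        ⟨Γ.etaSect_injective F U.unop, Γ.etaSect_surjective F U.unop⟩
    exact NatIso.isIso_of_isIso_app _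
  exact (isIso_iff_of_reflects_iso ((adj K e).unit.app F) (sheafToPresheaf X.smallEtaleTopology AddCommGrpCat.{u + 1})).1 this

end GSite

end Groth.Agent.Mod48
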