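import Groth.Agent.Unr55.Et.Stalk
import Mathlib.CategoryTheory.Sites.Pullback
import Mathlib.FieldTheory.IsAlgClosed.AlgebraicClosure

/-!
Germs at geometric points of the pullback of a small etale sheaf to a larger site over the same scheme
(small pro-etale site, big fppf site): sections of the pullback are detected by their germs.
-/

universe u

open CategoryTheory CategoryTheory.Limits AlgebraicGeometry Opposite

namespace Groth.Agent.Mod48

set_option backward.isDefEq.respectTransparency.types false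

open Unr55 (EtSh.germ EtSh.Pt EtSh.mkPt EtSh.germ_map EtSh.germ_eq_zero_iff EtSh.sect_eq_zero_of_germ)

/-- An algebraically closed geometric point. -/
structure GPt (X : Scheme.{u}) : Type (u + 1) where
  k : Type u
  [field : Field k]
  [algClosed : IsAlgClosed k]
  hom : Spec (CommRingCat.of k) ⟶ X

attribute [instance] GPt.field GPt.algClosed

variable {X : Scheme.{u}}

instance (η : GPt X) : IsSepClosed η.k := inferInstance

/-- The stalk at a geometric point. -/
noncomputable abbrev GPt.stalk (η : GPt X) (F : EtCoh.Ab X) : AddCommGrpCat.{u + 1} :=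
  (EtCoh.stalk η.hom).obj F

/-- A site over `X` receiving the small etale site, with lifting of geometric points along coverings. -/
structure GSite (X : Scheme.{u}) {C : Type (u + 1)} [Category.{u} C] (K : GrothendieckTopology C)
    (e : X.Etale ⥤ C) : Type (u + 2) where
  U : C ⥤ Over X
  faithful : U.Faithful
  /-- Comparison of underlying schemes for objects of the etale site. -/
  c : e ⋙ U ⟶ Scheme.Etale.forget X
  bij : ∀ (V : C) (W : X.Etale), Function.Bijective fun h : V ⟶ e.obj W => U.map h ≫ c.app W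
  lift : ∀ {V : C} {S : Sieve V}, S ∈ K V → ∀ {k : Type u} [Field k] [IsAlgClosed k]
    (v : Spec (CommRingCat.of k) ⟶ (U.obj V).left),
    ∃ (W : C) (g : W ⟶ V) (w : Spec (CommRingCat.of k) ⟶ (U.obj W).left),
      S.arrows g ∧ w ≫ (U.map g).left = v
  pb : ∀ {V₁ V₂ V : C} (g₁ : V₁ ⟶ V) (g₂ : V₂ ⟶ V),
    ∃ (W : C) (a : W ⟶ V₁) (b : W ⟶ V₂),
      IsPullback (U.map a).left (U.map b).left (U.map g₁).left (U.map g₂).left
  quot : ∀ {V : C} {S : Sieve V}, S ∈ K V → ∀ T : Set ↥(U.obj V).left,
    (∀ (W : C) (g : W ⟶ V), S.arrows g → IsOpen ((U.map g).left ⁻¹' T)) → IsOpen T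

namespace GSite

variable {C : Type (u + 1)} [Category.{u} C] {K : GrothendieckTopology C} {e : X.Etale ⥤ C}
  (Γ : GSite X K e)

/-- Points of an object over a geometric point. -/
abbrev Pts (η : GPt X) (V : C) : Type u := Over.mk η.hom ⟶ Γ.U.obj V

/-- Maps into the image of the etale site are scheme maps over `X`. -/
noncomputable def toE {V : C} {U : X.Etale} (q : Γ.U.obj V ⟶ (Scheme.Etale.forget X).obj U) :
    V ⟶ e.obj U :=
  ((Γ.bij V U).2 q).choose

/-- The underlying map over `X` of a map into the image of the etale site. -/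
noncomputable def unE {V : C} {U : X.Etale} (h : V ⟶ e.obj U) :
    Γ.U.obj V ⟶ (Scheme.Etale.forget X).obj U :=
  Γ.U.map h ≫ Γ.c.app U

lemma unE_toE {V : C} {U : X.Etale} (q : Γ.U.obj V ⟶ (Scheme.Etale.forget X).obj U) :
    Γ.unE (Γ.toE q) = q :=
  ((Γ.bij V U).2 q).choose_spec

lemma unE_injective {V : C} {U : X.Etale} {h h' : V ⟶ e.obj U} (w : Γ.unE h = Γ.unE h') : h = h' :=
  (Γ.bij V U).1 w

lemma unE_comp {W V : C} {U : X.Etale} (g : W ⟶ V) (h : V ⟶ e.obj U) :
    Γ.unE (g ≫ h) = Γ.U.map g ≫ Γ.unE h := by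
  simp [unE]

lemma unE_comp_e {V : C} {U U' : X.Etale} (h : V ⟶ e.obj U) (a : U ⟶ U') :
    Γ.unE (h ≫ e.map a) = Γ.unE h ≫ (Scheme.Etale.forget X).map a := by
  simp [unE]
  exact congrArg (Γ.U.map h ≫ ·) (Γ.c.naturality a)

lemma exists_factor {V : C} {U U' : X.Etale} (a : U' ⟶ U) [IsOpenImmersion a.left] (h : V ⟶ e.obj U)
    (hr : Set.range (Γ.unE h).left ⊆ Set.range a.left) :
    ∃ h' : V ⟶ e.obj U', h' ≫ e.map a = h := by
  obtain ⟨l, hl⟩ : ∃ l : (Γ.U.obj V).left ⟶ U'.left,
      l ≫ a.left = ((Γ.unE h).left : (Γ.U.obj V).left ⟶ U.left) :=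
    ⟨IsOpenImmersion.lift a.left ((Γ.unE h).left : (Γ.U.obj V).left ⟶ U.left) hr,
      IsOpenImmersion.lift_fac _ _ _⟩
  have h1 : a.left ≫ U.hom = U'.hom := Over.w a.hom
  refine ⟨Γ.toE (Over.homMk l ?_), Γ.unE_injective ?_⟩
  · show l ≫ U'.hom = (Γ.U.obj V).hom
    rw [← h1, ← Category.assoc, hl]
    exact Over.w (Γ.unE h)
  · rw [unE_comp_e, unE_toE]
    exact Over.OverMorphism.ext hl

/-- When the comparison is invertible, the underlying scheme of an etale object. -/
noncomputable def i [IsIso Γ.c] : e ⋙ Γ.U ≅ Scheme.Etale.forget X := asIso Γ.c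

lemma i_hom [IsIso Γ.c] : Γ.i.hom = Γ.c := rfl

section Sky

variable (F : EtCoh.Ab X)

/-- Functions assigning a germ to every geometric point. -/
noncomputable def skyPre : Cᵒᵖ ⥤ AddCommGrpCat.{u + 1} where
  obj V := AddCommGrpCat.of (∀ η : GPt X, Γ.Pts η V.unop → η.stalk F)
  map g := AddCommGrpCat.ofHom
    { toFun := fun t η v => t η (v ≫ Γ.U.map g.unop)
      map_zero' := rfl
      map_add' := fun _ _ => rfl }
  map_id V := by
    ext t η v
    show t η (v ≫ Γ.U.map (𝟙 V.unop)) = t η v
    rw [Γ.U.map_id, Category.comp_id]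
  map_comp f g := by
    ext t η v
    show t η (v ≫ Γ.U.map (g.unop ≫ f.unop)) = t η ((v ≫ Γ.U.map g.unop) ≫ Γ.U.map f.unop)
    rw [Γ.U.map_comp, Category.assoc]

theorem skyPre_isSheaf : Presheaf.IsSheaf K (Γ.skyPre F) := by
  rw [Presheaf.isSheaf_iff_isSheaf_forget K _ (forget AddCommGrpCat.{u + 1}),
    isSheaf_iff_isSheaf_of_type]
  intro V S hS x hx
  have lft : ∀ (η : GPt X) (v : Γ.Pts η V), ∃ (W : C) (g : W ⟶ V) (w : Γ.Pts η W),
      S.arrows g ∧ w ≫ Γ.U.map g = v := fun η v => by
    obtain ⟨W, g, w, hg, hw⟩ := Γ.lift hS (k := η.k) v.left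
    refine ⟨W, g, Over.homMk w ?_, hg, Over.OverMorphism.ext hw⟩
    show w ≫ (Γ.U.obj W).hom = η.hom
    rw [← Over.w (Γ.U.map g), ← Category.assoc, hw]
    exact Over.w v
  choose W g w hg hw using lft
  refine ⟨fun η v => (x (g η v) (hg η v)) η (w η v), fun W' g' hg' => ?_, fun y hy => ?_⟩
  · funext η v
    show (x _ (hg η (v ≫ Γ.U.map g'))) η (w η (v ≫ Γ.U.map g')) = x g' hg' η v
    obtain ⟨P, a, b, hP⟩ := Γ.pb (g η (v ≫ Γ.U.map g')) g'
    have e1 : a ≫ g η (v ≫ Γ.U.map g') = b ≫ g' := Γ.faithful.map_injective (Over.OverMorphism.ext (by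
      simpa using hP.w))
    have e2 := congrArg CommaMorphism.left (hw η (v ≫ Γ.U.map g'))
    simp only [Over.comp_left] at e2
    let p : Γ.Pts η P := Over.homMk (hP.lift (w η (v ≫ Γ.U.map g')).left v.left e2) (by
      show _ ≫ (Γ.U.obj P).hom = η.hom
      rw [← Over.w (Γ.U.map b), hP.lift_snd_assoc]
      exact Over.w v)
    have pa : p ≫ Γ.U.map a = w η (v ≫ Γ.U.map g') := Over.OverMorphism.ext (hP.lift_fst _ _ _)
    have pb : p ≫ Γ.U.map b = v := Over.OverMorphism.ext (hP.lift_snd _ _ _)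
    have hc := congrFun (congrFun (hx a b (hg η (v ≫ Γ.U.map g')) hg' e1) η) p
    change x _ (hg η (v ≫ Γ.U.map g')) η (p ≫ Γ.U.map a) = x g' hg' η (p ≫ Γ.U.map b) at hc
    rwa [pa, pb] at hc
  · funext η v
    show y η v = _
    have := congrFun (congrFun (hy (g η v) (hg η v)) η) (w η v)
    change y η (w η v ≫ Γ.U.map (g η v)) = _ at this
    rw [hw η v] at this
    exact this

/-- The sheaf of families of germs. -/
noncomputable def sky : Sheaf K AddCommGrpCat.{u + 1} := ⟨Γ.skyPre F, Γ.skyPre_isSheaf F⟩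

end Sky

variable [e.IsContinuous X.smallEtaleTopology K]
  [(e.sheafPushforwardContinuous AddCommGrpCat.{u + 1} X.smallEtaleTopology K).IsRightAdjoint]

variable (e K) in
/-- Pullback along `e`. -/
noncomputable abbrev pull (F : EtCoh.Ab X) : Sheaf K AddCommGrpCat.{u + 1} :=
  (e.sheafPullback AddCommGrpCat.{u + 1} X.smallEtaleTopology K).obj F

variable (e K) in
/-- The adjunction. -/
noncomputable abbrev adj :=
  e.sheafAdjunctionContinuous AddCommGrpCat.{u + 1} X.smallEtaleTopology K

variable (e K) in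
/-- The unit on sections. -/
noncomputable abbrev etaSect (F : EtCoh.Ab X) {U : X.Etale} (s : EtCoh.sect F U) :
    (pull K e F).obj.obj (op (e.obj U)) :=
  ((adj K e).unit.app F).hom.app (op U) s

variable (F : EtCoh.Ab X)

/-- Germs of sections of `F`, as a map to the sheaf of families of germs. -/
noncomputable def germSky :
    F ⟶ (e.sheafPushforwardContinuous AddCommGrpCat.{u + 1} X.smallEtaleTopology K).obj (Γ.sky F) where
  hom :=
    { app := fun U => AddCommGrpCat.ofHom
        { toFun := fun s η v => EtSh.germ η.hom F (v ≫ Γ.c.app U.unop : EtSh.Pt η.hom U.unop) s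
          map_zero' := funext fun η => funext fun v => map_zero _
          map_add' := fun s s' => funext fun η => funext fun v => map_add _ _ _ }
      naturality := fun U U' a => by
        ext s
        funext η v
        show EtSh.germ η.hom F (v ≫ Γ.c.app U'.unop) (F.obj.map a s) =
          EtSh.germ η.hom F ((v ≫ Γ.U.map (e.map a.unop)) ≫ Γ.c.app U.unop) s
        rw [← a.op_unop, EtSh.germ_map, Category.assoc]
        congr 1
        congr 1
        show (v ≫ Γ.c.app U'.unop) ≫ (Scheme.Etale.forget X).map a.unop = _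
        rw [Category.assoc]
        exact congrArg (v ≫ ·) (Γ.c.naturality a.unop).symm }

/-- Values of sections of the pullback at geometric points. -/
noncomputable def value : pull K e F ⟶ Γ.sky F :=
  ((adj K e).homEquiv _ _).symm (Γ.germSky F)

/-- The value of a section at a point. -/
noncomputable def val {V : C} (η : GPt X) (v : Γ.Pts η V) :
    (pull K e F).obj.obj (op V) →+ η.stalk F where
  toFun t := ((Γ.value F).hom.app (op V) t) η v
  map_zero' := by rw [map_zero]; rfl
  map_add' a b := by rw [map_add]; rfl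

lemma val_map {V W : C} (g : W ⟶ V) (η : GPt X) (w : Γ.Pts η W) (t : (pull K e F).obj.obj (op V)) :
    Γ.val F η w ((pull K e F).obj.map g.op t) = Γ.val F η (w ≫ Γ.U.map g) t :=
  congrFun (congrFun (NatTrans.naturality_apply (Γ.value F).hom g.op t) η) w

lemma val_eta {U : X.Etale} (η : GPt X) (v : Γ.Pts η (e.obj U)) (s : EtCoh.sect F U) :
    Γ.val F η v (etaSect K e F s) =
      EtSh.germ η.hom F (v ≫ Γ.c.app U : EtSh.Pt η.hom U) s := by
  have h : (adj K e).homEquiv _ _ (Γ.value F) = Γ.germSky F := Equiv.apply_symm_apply _ _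
  rw [Adjunction.homEquiv_unit] at h
  exact congrFun (congrFun (congrArg (fun φ : F ⟶ _ => φ.hom.app (op U) s) h) η) v

end GSite

end Groth.Agent.Mod48
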