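import Groth.Agent.Mod48.HomColimSite
import Groth.Prelude.Def_CohCx
import Mathlib.CategoryTheory.Sites.EpiMono

/-!
Global sections of sheaves of modules commute with filtered colimits on a quasi-compact, separated topos.
-/

universe u

open CategoryTheory CategoryTheory.Limits Opposite

namespace Groth.Agent.Mod48

open SiteMod

variable {C : Type u} [SmallCategory C] {J : GrothendieckTopology C}

/-! ### Elements of sheaves of sets -/

/-- The sheaf of sets of an object. -/
noncomputable abbrev ySh (J : GrothendieckTopology C) (V : C) : Sheaf J (Type u) :=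
  (presheafToSheaf J (Type u)).obj (yoneda.obj V)

/-- The canonical element of `ySh J V` at an arrow. -/
noncomputable def yEl {V W : C} (g : W ⟶ V) : (ySh J V).obj.obj (op W) :=
  (toSheafify J (yoneda.obj V)).app (op W) g

/-- The map out of `ySh J V` given by an element. -/
noncomputable def yTo {V : C} {Q : Sheaf J (Type u)} (z : Q.obj.obj (op V)) : ySh J V ⟶ Q :=
  ((sheafificationAdjunction J (Type u)).homEquiv (yoneda.obj V) Q).symm (yonedaEquiv.symm z)

lemma yTo_yEl {V W : C} {Q : Sheaf J (Type u)} (z : Q.obj.obj (op V)) (g : W ⟶ V) :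
    (yTo z).hom.app (op W) (yEl g) = Q.obj.map g.op z := by
  have h : toSheafify J (yoneda.obj V) ≫ (yTo z).hom = yonedaEquiv.symm z :=
    ((sheafificationAdjunction J (Type u)).homEquiv_unit _ _ _).symm.trans (Equiv.apply_symm_apply _ _)
  exact ConcreteCategory.congr_hom (NatTrans.congr_app h (op W)) g

lemma yTo_id {V : C} {Q : Sheaf J (Type u)} (z : Q.obj.obj (op V)) :
    (yTo z).hom.app (op V) (yEl (𝟙 V)) = z := by
  rw [yTo_yEl, op_id]
  exact ConcreteCategory.congr_hom (Q.obj.map_id (op V)) z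

lemma ySh_hom_ext {V : C} {Q : Sheaf J (Type u)} {f g : ySh J V ⟶ Q}
    (h : f.hom.app (op V) (yEl (𝟙 V)) = g.hom.app (op V) (yEl (𝟙 V))) : f = g := by
  apply ((sheafificationAdjunction J (Type u)).homEquiv _ _).injective
  apply yonedaEquiv.injective
  rw [Adjunction.homEquiv_unit, Adjunction.homEquiv_unit]
  exact h

lemma ySh_locally {V W : C} (x : (ySh J V).obj.obj (op W)) :
    ∃ S ∈ J W, ∀ ⦃Z : C⦄ (v : Z ⟶ W), S v → ∃ g : Z ⟶ V, yEl g = (ySh J V).obj.map v.op x :=
  by
  refine ⟨_, Presheaf.imageSieve_mem J (toSheafify J (yoneda.obj V)) x, fun Z v hv => ?_⟩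
  obtain ⟨g, hg⟩ := hv
  exact ⟨g, hg⟩

/-- The element of the terminal sheaf. -/
noncomputable def termEl (J : GrothendieckTopology C) (W : C) : (⊤_ (Sheaf J (Type u))).obj.obj (op W) :=
  (terminal.from (ySh J W)).hom.app (op W) (yEl (𝟙 W))

lemma terminal_el_eq {W : C} (a b : (⊤_ (Sheaf J (Type u))).obj.obj (op W)) : a = b := by
  rw [← yTo_id a, ← yTo_id b, terminal.hom_ext (yTo a) (yTo b)]

/-- Two elements as an element of a product. -/
noncomputable def pairEl {P Q : Sheaf J (Type u)} {W : C} (a : P.obj.obj (op W)) (b : Q.obj.obj (op W)) :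
    (P ⨯ Q).obj.obj (op W) :=
  (prod.lift (yTo a) (yTo b)).hom.app (op W) (yEl (𝟙 W))

lemma pairEl_fst {P Q : Sheaf J (Type u)} {W : C} (a : P.obj.obj (op W)) (b : Q.obj.obj (op W)) :
    (prod.fst : P ⨯ Q ⟶ P).hom.app (op W) (pairEl a b) = a :=
  (congrArg (fun t : ySh J W ⟶ P => t.hom.app (op W) (yEl (𝟙 W))) (prod.lift_fst (yTo a) (yTo b))).trans (yTo_id a)

lemma pairEl_snd {P Q : Sheaf J (Type u)} {W : C} (a : P.obj.obj (op W)) (b : Q.obj.obj (op W)) :
    (prod.snd : P ⨯ Q ⟶ Q).hom.app (op W) (pairEl a b) = b :=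
  (congrArg (fun t : ySh J W ⟶ Q => t.hom.app (op W) (yEl (𝟙 W))) (prod.lift_snd (yTo a) (yTo b))).trans (yTo_id b)

lemma locally_nonempty {Q : Sheaf J (Type u)} (hQ : Epi (terminal.from Q)) (W : C) :
    ∃ T ∈ J W, ∀ ⦃V : C⦄ (v : V ⟶ W), T v → Nonempty (Q.obj.obj (op V)) := by
  have h : Presheaf.IsLocallySurjective J (terminal.from Q).hom :=
    (Sheaf.isLocallySurjective_iff_epi' (Type u) (terminal.from Q)).2 hQ
  refine ⟨_, h.imageSieve_mem (U := W) (termEl J W), fun V v hv => ?_⟩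
  obtain ⟨a, -⟩ := hv
  exact ⟨a⟩

/-- Finitely many elements with a local property locally generate a quasi-compact sheaf. -/
theorem exists_finite_elements {Q : Sheaf J (Type u)} (hQ : CohCx.IsQcObject Q)
    (P : ∀ V : C, Q.obj.obj (op V) → Prop)
    (hP : ∀ (W : C) (z : Q.obj.obj (op W)), ∃ T ∈ J W, ∀ ⦃V : C⦄ (v : V ⟶ W), T v → P V (Q.obj.map v.op z)) :
    ∃ (ι : Type u) (_ : Finite ι) (V : ι → C) (z : ∀ i, Q.obj.obj (op (V i))), (∀ i, P (V i) (z i)) ∧
      ∀ (W : C) (x : Q.obj.obj (op W)), ∃ T ∈ J W, ∀ ⦃Z : C⦄ (v : Z ⟶ W), T v →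
        ∃ (i : ι) (g : Z ⟶ V i), Q.obj.map g.op (z i) = Q.obj.map v.op x := by
  let I := Σ V : C, {z : Q.obj.obj (op V) // P V z}
  have hJS : CohCx.JointlySurjective fun i : I => yTo i.2.1 := by
    intro W x
    obtain ⟨T, hT, h⟩ := hP W x
    exact ⟨T, hT, fun V v hv => ⟨⟨V, _, h v hv⟩, yEl (𝟙 V), yTo_id _⟩⟩
  obtain ⟨t, ht⟩ := hQ I _ _ hJS
  refine ⟨t, inferInstance, fun i => i.1.1, fun i => i.1.2.1, fun i => i.1.2.2, fun W x => ?_⟩
  obtain ⟨T, hT, h⟩ := ht W x
  refine loc_bind (P := fun Z v => ∃ (i : t) (g : Z ⟶ i.1.1),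
    Q.obj.map g.op i.1.2.1 = Q.obj.map v.op x) hT fun V v hv => ?_
  obtain ⟨i, b, hb⟩ := h V v hv
  obtain ⟨S, hS, hg⟩ := ySh_locally b
  refine ⟨S, hS, fun Z u hu => ?_⟩
  obtain ⟨g, hg⟩ := hg u hu
  refine ⟨i, g, ?_⟩
  rw [← yTo_yEl i.1.2.1 g, hg, NatTrans.naturality_apply (yTo i.1.2.1).hom u.op b, hb, op_comp,
    Functor.map_comp_apply]

/-! ### Global sections and filtered colimits -/

variable {O : Sheaf J CommRingCat.{u}}

/-- The sheaf of sets of a module. -/
noncomputable abbrev setSh (M : ModSite.Mod O) : Sheaf J (Type u) :=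
  (CategoryTheory.sheafCompose J (forget AddCommGrpCat.{u})).obj (ModSite.toAb M)

/-- The map of sheaves of sets of a map of modules. -/
noncomputable def setMap {M N : ModSite.Mod O} (φ : M ⟶ N) : setSh M ⟶ setSh N :=
  (CategoryTheory.sheafCompose J (forget AddCommGrpCat.{u})).map
    ((SheafOfModules.toSheaf (ModSite.ringSh O)).map φ)

/-- The constant map at a global section. -/
noncomputable def constTo (Q : Sheaf J (Type u)) {M : ModSite.Mod O} (s : M.sections) : Q ⟶ setSh M :=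
  ⟨{ app := fun W => TypeCat.ofHom fun _ => (s.val W : (setSh M).obj.obj W)
     naturality := fun {W W'} f => by
       ext x
       exact (s.property f).symm }⟩

variable {K : Type u} [Category.{u} K] [IsFiltered K] {D : K ⥤ ModSite.Mod O} {c : Cocone D}
  {S : Set (Sheaf J (Type u))}
  (hSa : ∀ F : Sheaf J (Type u), Epi (terminal.from F) → ∃ Q ∈ S, Epi (terminal.from Q) ∧ Nonempty (Q ⟶ F))
  (hSb : ∀ Q ∈ S, CohCx.IsQcObject (Q ⨯ Q))

include hSa hSb

/-- A property holding locally everywhere holds on finitely many objects covering the final object. -/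
theorem exists_finite_objects (P : C → Prop)
    (hP : ∀ W : C, ∃ T ∈ J W, ∀ ⦃V : C⦄ (v : V ⟶ W), T v → P V) :
    ∃ (ι : Type u) (_ : Finite ι) (V : ι → C), (∀ i, P (V i)) ∧
      ∀ W : C, ∃ T ∈ J W, ∀ ⦃Z : C⦄ (v : Z ⟶ W), T v → ∃ i, Nonempty (Z ⟶ V i) := by
  have hid : Epi (terminal.from (⊤_ (Sheaf J (Type u)))) := by
    rw [terminal.hom_ext (terminal.from _) (𝟙 _)]
    infer_instance
  obtain ⟨Q, hQ, hQe, -⟩ := hSa (⊤_ (Sheaf J (Type u))) hid
  obtain ⟨ι, hι, V, z, hz, hgen⟩ := exists_finite_elements (hSb Q hQ) (fun V _ => P V) (fun W _ => hP W)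
  refine ⟨ι, hι, V, hz, fun W => ?_⟩
  obtain ⟨T, hT, hne⟩ := locally_nonempty hQe W
  refine loc_bind (P := fun Z _ => ∃ i, Nonempty (Z ⟶ V i)) hT fun V' v hv => ?_
  obtain ⟨a⟩ := hne v hv
  obtain ⟨T', hT', h⟩ := hgen V' (pairEl a a)
  refine ⟨T', hT', fun Z u hu => ?_⟩
  obtain ⟨i, g, -⟩ := h u hu
  exact ⟨i, ⟨g⟩⟩

/-- A global section of a stage vanishing in the colimit vanishes at a later stage. -/
theorem exists_stage_global_zero (hc : IsColimit c) {k : K} (s : (D.obj k).sections)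
    (hs : ∀ W : C, ap (c.ι.app k) (W := W) (s.val (op W)) = 0) :
    ∃ (l : K) (f : k ⟶ l), ∀ W : C, ap (D.map f) (W := W) (s.val (op W)) = 0 := by
  obtain ⟨ι, hι, V, hV, hcov⟩ := exists_finite_objects hSa hSb
    (fun V => ∃ (l : K) (f : k ⟶ l), ap (D.map f) (W := V) (s.val (op V)) = 0) (fun W => by
      obtain ⟨T, hT, h⟩ := exists_local_zero hc (W := W) (s.val (op W)) (hs W)
      refine ⟨T, hT, fun V v hv => ?_⟩
      obtain ⟨l, f, hf⟩ := h v hv
      exact ⟨l, f, (congrArg (ap (D.map f)) (s.property v.op).symm).trans hf⟩)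
  choose l f hf using hV
  obtain ⟨m, g, hg⟩ := exists_stage_factor l f
  refine ⟨m, g, fun W => ?_⟩
  obtain ⟨T, hT, h⟩ := hcov W
  refine ext_of_sieve (X := op W) hT fun Z v hv => ?_
  obtain ⟨i, ⟨w⟩⟩ := h v hv
  obtain ⟨e, he⟩ := hg i
  refine Eq.trans ?_ (res_zero _ _).symm
  rw [res_ap]
  refine (congrArg (ap (D.map g)) ((s.property v.op).trans (s.property w.op).symm)).trans ?_
  change ap (D.map g) (res (pre (D.obj k)) w.op (s.val (op (V i)))) = 0
  rw [← res_ap, he, D.map_comp, ap_comp, hf i]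
  exact (congrArg (res (pre (D.obj m)) w.op) (map_zero _)).trans (res_zero _ _)

/-- A global section of the colimit comes from a stage. -/
theorem exists_stage_global_rep (hc : IsColimit c) (s : c.pt.sections) :
    ∃ (l : K) (t : (D.obj l).sections), ∀ W : C, ap (c.ι.app l) (W := W) (t.val (op W)) = s.val (op W) := by
  obtain ⟨ι, hι, V, hV, hcov⟩ := exists_finite_objects hSa hSb
    (fun V => ∃ (k : K) (y : (pre (D.obj k)).obj (op V)), ap (c.ι.app k) y = s.val (op V)) (fun W => by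
      obtain ⟨T, hT, h⟩ := exists_local_rep hc (W := W) (s.val (op W))
      refine ⟨T, hT, fun V v hv => ?_⟩
      obtain ⟨k, y, hy⟩ := h v hv
      exact ⟨k, y, hy.trans (s.property v.op)⟩)
  choose k y₀ hy₀ using hV
  obtain ⟨k₀⟩ := IsFiltered.nonempty (C := K)
  obtain ⟨l, -, hl⟩ := exists_stage_homColim k₀ k
  let y : ∀ i, (setSh (D.obj l)).obj.obj (op (V i)) := fun i => ap (D.map (hl i).some) (y₀ i)
  let L := ∐ fun i => ySh J (V i)
  let Y : L ⟶ setSh (D.obj l) := Sigma.desc fun i => yTo (y i)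
  have hY : Y ≫ setMap (c.ι.app l) = constTo L s := by
    refine Sigma.hom_ext _ _ fun i => ?_
    rw [Sigma.ι_desc_assoc]
    apply ySh_hom_ext
    refine (congrArg (fun a => (setMap (c.ι.app l)).hom.app (op (V i)) a) (yTo_id (y i))).trans ?_
    change ap (c.ι.app l) (ap (D.map (hl i).some) (y₀ i)) = s.val (op (V i))
    rw [← ap_comp, c.w, hy₀]
  have hL : Epi (terminal.from L) := by
    rw [← Sheaf.isLocallySurjective_iff_epi' (Type u)]
    refine ⟨fun {W} x => ?_⟩
    obtain ⟨T, hT, h⟩ := hcov W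
    refine J.superset_covering ?_ hT
    intro Z v hv
    obtain ⟨i, ⟨w⟩⟩ := h v hv
    exact ⟨(Sigma.ι (fun i => ySh J (V i)) i).hom.app (op Z) (yEl w), terminal_el_eq _ _⟩
  obtain ⟨Q, hQS, hQe, ⟨q⟩⟩ := hSa L hL
  let z : Q ⟶ setSh (D.obj l) := q ≫ Y
  have hz : ∀ (W : C) (a : Q.obj.obj (op W)), ap (c.ι.app l) (W := W) (z.hom.app (op W) a) = s.val (op W) := by
    intro W a
    exact congrArg (fun r : L ⟶ setSh c.pt => r.hom.app (op W) (q.hom.app (op W) a)) hY
  let d : ∀ (W : C) (x : (Q ⨯ Q).obj.obj (op W)), (pre (D.obj l)).obj (op W) := fun W x =>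
    (show (pre (D.obj l)).obj (op W) from z.hom.app (op W) ((prod.fst : Q ⨯ Q ⟶ Q).hom.app (op W) x)) -
      (show (pre (D.obj l)).obj (op W) from z.hom.app (op W) ((prod.snd : Q ⨯ Q ⟶ Q).hom.app (op W) x))
  have hd : ∀ {W Z : C} (v : Z ⟶ W) (x : (Q ⨯ Q).obj.obj (op W)),
      res (pre (D.obj l)) v.op (d W x) = d Z ((Q ⨯ Q).obj.map v.op x) := by
    intro W Z v x
    refine (map_sub ((pre (D.obj l)).map v.op).hom _ _).trans (congrArg₂ (· - ·) ?_ ?_)
    · exact ((NatTrans.naturality_apply ((prod.fst : Q ⨯ Q ⟶ Q) ≫ z).hom v.op x).symm)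
    · exact ((NatTrans.naturality_apply ((prod.snd : Q ⨯ Q ⟶ Q) ≫ z).hom v.op x).symm)
  obtain ⟨κ, hκ, U, x, hx, hgen⟩ := exists_finite_elements (hSb Q hQS)
    (fun W x => ∃ (m : K) (f : l ⟶ m), ap (D.map f) (d W x) = 0) (fun W x => by
      obtain ⟨T, hT, h⟩ := exists_local_zero hc (d W x)
        ((map_sub _ _ _).trans (sub_eq_zero.2 ((hz W _).trans (hz W _).symm)))
      refine ⟨T, hT, fun Z v hv => ?_⟩
      obtain ⟨m, f, hf⟩ := h v hv
      exact ⟨m, f, by rw [← hd]; exact hf⟩)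
  choose m f hf using hx
  obtain ⟨M, g, hg⟩ := exists_stage_factor m f
  let w : ∀ (W : C) (a : Q.obj.obj (op W)), (pre (D.obj M)).obj (op W) := fun W a =>
    ap (D.map g) (z.hom.app (op W) a)
  have hw : ∀ (W : C) (a b : Q.obj.obj (op W)), w W a = w W b := by
    intro W a b
    obtain ⟨T, hT, h⟩ := hgen W (pairEl a b)
    have h0 : ap (D.map g) (d W (pairEl a b)) = 0 := by
      refine ext_of_sieve (X := op W) hT fun Z v hv => ?_
      obtain ⟨i, u, hu⟩ := h v hv
      obtain ⟨e, he⟩ := hg i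
      rw [res_ap, hd, ← hu, ← hd, ← res_ap, he, D.map_comp, ap_comp, hf i]
      exact (congrArg (res (pre (D.obj M)) u.op) (map_zero _)).trans ((res_zero _ _).trans (res_zero _ _).symm)
    simp only [d, pairEl_fst, pairEl_snd] at h0
    exact sub_eq_zero.1 ((map_sub _ _ _).symm.trans h0)
  have hwres : ∀ {W Z : C} (v : Z ⟶ W) (a : Q.obj.obj (op W)),
      res (pre (D.obj M)) v.op (w W a) = w Z (Q.obj.map v.op a) := fun {W Z} v a => by
    refine (res_ap (D.map g) v _).trans (congrArg (ap (D.map g)) ?_)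
    exact (NatTrans.naturality_apply z.hom v.op a).symm
  have hglue : ∀ W : C, ∃ t : (pre (D.obj M)).obj (op W),
      ∀ ⦃Z : C⦄ (v : Z ⟶ W) (a : Q.obj.obj (op Z)), res (pre (D.obj M)) v.op t = w Z a := by
    intro W
    obtain ⟨T, hT, hne⟩ := locally_nonempty hQe W
    let P := setSh (D.obj M)
    let fam : Presieve.FamilyOfElements P.obj T.arrows := fun Z v hv => w Z (hne v hv).some
    have hfam : fam.Compatible := fun Z₁ Z₂ Z g₁ g₂ f₁ f₂ h₁ h₂ _ =>
      (hwres g₁ _).trans ((hw _ _ _).trans (hwres g₂ _).symm)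
    obtain ⟨t, ht, -⟩ := ((isSheaf_iff_isSheaf_of_type _ _).1 P.2) T hT fam hfam
    refine ⟨t, fun Z v a => ext_of_sieve (X := op Z) (J.pullback_stable v hT) fun Z' u hu => ?_⟩
    refine (res_res (pre (D.obj M)) v.op u.op t).trans ((ht (u ≫ v) hu).trans ?_)
    exact (hw _ _ _).trans (hwres u a).symm
  choose t ht using hglue
  have htnat : ∀ {W Z : C} (v : Z ⟶ W), res (pre (D.obj M)) v.op (t W) = t Z := by
    intro W Z v
    obtain ⟨T, hT, hne⟩ := locally_nonempty hQe Z
    refine ext_of_sieve (X := op Z) hT fun Z' u hu => ?_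
    obtain ⟨a⟩ := hne u hu
    rw [res_res, ← op_comp, ht W (u ≫ v) a, ht Z u a]
  refine ⟨M, PresheafOfModules.sectionsMk (fun W => t W.unop) (fun W W' v => htnat v.unop), fun W => ?_⟩
  obtain ⟨T, hT, hne⟩ := locally_nonempty hQe W
  refine ext_of_sieve (X := op W) hT fun Z v hv => ?_
  obtain ⟨a⟩ := hne v hv
  refine (res_ap _ _ _).trans ?_
  change ap (c.ι.app M) (res (pre (D.obj M)) v.op (t W)) = _
  rw [ht W v a]
  exact (ap_comp _ _ _).symm.trans ((congrArg (fun r => ap r (z.hom.app (op Z) a)) (c.w g)).trans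
    ((hz Z a).trans (s.property v.op).symm))

/-- Maps out of the structure sheaf commute with filtered colimits. -/
theorem preservesColimit_coyoneda_unit :
    PreservesColimit D (coyoneda.obj (op (SheafOfModules.unit (ModSite.ringSh O)))) := by
  refine ⟨fun {c} hc => ⟨Types.FilteredColimit.isColimitOf' _ _ (fun x => ?_) fun k (x y : SheafOfModules.unit (ModSite.ringSh O) ⟶ D.obj k) hxy => ?_⟩⟩
  · obtain ⟨l, t, ht⟩ := exists_stage_global_rep hSa hSb hc (c.pt.unitHomEquiv x)
    refine ⟨l, (D.obj l).unitHomEquiv.symm t, ?_⟩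
    apply c.pt.unitHomEquiv.injective
    change c.pt.unitHomEquiv x = c.pt.unitHomEquiv ((D.obj l).unitHomEquiv.symm t ≫ c.ι.app l)
    rw [SheafOfModules.unitHomEquiv_comp_apply, Equiv.apply_symm_apply]
    exact PresheafOfModules.sections_ext _ _ fun W => (ht W.unop).symm
  · change x ≫ c.ι.app k = y ≫ c.ι.app k at hxy
    obtain ⟨l, f, hf⟩ := exists_stage_global_zero hSa hSb hc ((D.obj k).unitHomEquiv (x - y))
      (fun W => congrArg (fun r : SheafOfModules.unit (ModSite.ringSh O) ⟶ c.pt =>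
        (c.pt.unitHomEquiv r).val (op W))
        (show (x - y) ≫ c.ι.app k = 0 by rw [Preadditive.sub_comp, hxy, sub_self]))
    refine ⟨l, f, ?_⟩
    change x ≫ D.map f = y ≫ D.map f
    refine sub_eq_zero.1 ((Preadditive.sub_comp _ _ _).symm.trans ?_)
    apply (D.obj l).unitHomEquiv.injective
    exact PresheafOfModules.sections_ext _ _ fun W => hf W.unop

/-- Maps out of a module of finite presentation commute with filtered colimits. -/
theorem preservesColimit_coyoneda_of_qc (F : ModSite.Mod O) [ModSite.HasSheafHom F]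
    [SheafOfModules.IsFinitePresentation (R := ModSite.ringSh O) F] :
    PreservesColimit D (coyoneda.obj (op F)) := by
  have := preservesColimit_sheafHom (F := F) (D := D)
  have := preservesColimit_coyoneda_unit (D := D ⋙ ModSite.sheafHom F) hSa hSb
  let e : coyoneda.obj (op F) ≅
      ModSite.sheafHom F ⋙ coyoneda.obj (op (SheafOfModules.unit (ModSite.ringSh O))) :=
    NatIso.ofComponents
      (fun G => (Equiv.toIso ((tensUnit.app F).symm.homFromEquiv.trans ((SiteMod.homAdj F).homEquiv _ G))))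
      (fun {G G'} φ => by
        ext x
        change (SiteMod.homAdj F).homEquiv _ _ ((tensUnit.app F).hom ≫ x ≫ φ) =
          (SiteMod.homAdj F).homEquiv _ _ ((tensUnit.app F).hom ≫ x) ≫ (ModSite.sheafHom F).map φ
        rw [← Adjunction.homEquiv_naturality_right, Category.assoc])
  exact preservesColimit_of_natIso D e.symm

end Groth.Agent.Mod48
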