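import Groth.Agent.SiteMod.FreeTop
import Groth.Prelude.Def_AlgSpPerf
import Groth.Prelude.Def_ModSite
import Mathlib.Algebra.Module.Projective
import Mathlib.RingTheory.Finiteness.Basic
import Mathlib.CategoryTheory.Idempotents.Basic
import Mathlib.LinearAlgebra.Pi

/-!
Direct summands of finite free modules and finite projective modules of global sections.
-/

universe u

open CategoryTheory CategoryTheory.Limits Opposite

namespace Groth.Agent.Mod48

open SiteMod

variable {C : Type u} [SmallCategory C] {J : GrothendieckTopology C} {O : Sheaf J CommRingCat.{u}}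
  {T : C} (hT : IsTerminal T) {ι : Type u} [Fintype ι] [DecidableEq ι]

include hT in
lemma res_fromT (P : PreM O) (x : P.obj (op T)) : res P (hT.from T).op x = x := res_self (hT.from T) x hT

include hT in
/-- Coordinates of global sections of a free module. -/
noncomputable def coordEquiv :
    (pre (freeM (O := O) ι)).obj (op T) ≃ₗ[O.obj.obj (op T)] (ι → O.obj.obj (op T)) where
  toFun x i := ofU (ap (coord i) x)
  map_add' x y := funext fun i => map_add ((fgt.map (coord i)).app (op T)).hom x y
  map_smul' r x := funext fun i => map_smul ((fgt.map (coord i)).app (op T)).hom r x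
  invFun c := ofCoord c
  left_inv x := by
    conv_rhs => rw [eq_sum_coord hT x]
    refine Finset.sum_congr rfl fun i _ => ?_
    rw [res_fromT hT]
    exact ap_unit_eq_smul (inF i) _
  right_inv c := funext fun i => ap_coord_ofCoord c i

lemma coordEquiv_symm_apply (c : ι → O.obj.obj (op T)) : (coordEquiv hT).symm c = ofCoord c := rfl

/-- Values of a map out of a free module on global sections. -/
noncomputable def evalT {G : ModSite.Mod O} (φ : freeM (O := O) ι ⟶ G) :
    (ι → O.obj.obj (op T)) →ₗ[O.obj.obj (op T)] (pre G).obj (op T) :=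
  ((fgt.map φ).app (op T)).hom.comp (coordEquiv (O := O) hT).symm.toLinearMap

lemma evalT_coord {G : ModSite.Mod O} (φ : freeM (O := O) ι ⟶ G) (z : (pre (freeM (O := O) ι)).obj (op T)) :
    evalT hT φ (coordEquiv hT z) = ap φ z :=
  congrArg (ap φ) ((coordEquiv hT).symm_apply_apply z)

lemma evalT_freeTo {G : ModSite.Mod O} (v : ι → (pre G).obj (op T)) (c : ι → O.obj.obj (op T)) :
    evalT hT (freeTo hT v) c = ∑ k, c k • v k := by
  refine (ap_freeTo_ofCoord hT v c).trans (Finset.sum_congr rfl fun k _ => ?_)
  rw [res_fromT hT]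

lemma hom_ext_evalT {G : ModSite.Mod O} {φ ψ : freeM (O := O) ι ⟶ G} (h : evalT hT φ = evalT hT ψ) : φ = ψ :=
  free_hom_ext hT fun k => by
    have := LinearMap.congr_fun h (coordEquiv hT (gen₀ k))
    rwa [evalT_coord, evalT_coord] at this

/-- Every linear map on coordinates comes from a map out of the free module. -/
theorem exists_evalT_eq {G : ModSite.Mod O}
    (f : (ι → O.obj.obj (op T)) →ₗ[O.obj.obj (op T)] (pre G).obj (op T)) :
    ∃ φ : freeM (O := O) ι ⟶ G, evalT hT φ = f := by
  refine ⟨freeTo hT fun k => f (Pi.single k 1), LinearMap.ext fun c => ?_⟩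
  rw [evalT_freeTo]
  conv_rhs => rw [pi_eq_sum_univ' c, map_sum]
  simp only [map_smul]

section Summand

variable {E : ModSite.Mod O} (i : E ⟶ freeM (O := O) ι) (p : freeM (O := O) ι ⟶ E) (hip : i ≫ p = 𝟙 E)

include hip in
lemma evalT_retract (x : (pre E).obj (op T)) : evalT hT p (coordEquiv hT (ap i x)) = x := by
  rw [evalT_coord, ← ap_comp, hip]
  rfl

include hT hip in
theorem bijective_app_of_summand (E' : ModSite.Mod O) :
    Function.Bijective fun φ : E ⟶ E' => φ.val.app (op T) := by
  constructor
  · intro φ ψ h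
    have h' : p ≫ φ = p ≫ ψ := hom_ext_evalT hT (LinearMap.ext fun c => by
      exact congr($h (evalT hT p c)))
    have := congrArg (i ≫ ·) h'
    simpa only [← Category.assoc, hip, Category.id_comp] using! this
  · intro f
    obtain ⟨ψ, hψ⟩ := exists_evalT_eq hT (G := E') (f.hom.comp (evalT hT p))
    refine ⟨i ≫ ψ, ModuleCat.hom_ext (LinearMap.ext fun x => ?_)⟩
    change ap (i ≫ ψ) x = f.hom x
    rw [ap_comp, ← evalT_coord hT, hψ]
    exact congrArg f.hom (evalT_retract hT i p hip x)

include hT hip in
theorem finite_projective_of_summand :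
    Module.Finite (O.obj.obj (op T)) ((pre E).obj (op T)) ∧
      Module.Projective (O.obj.obj (op T)) ((pre E).obj (op T)) := by
  let σ : (pre E).obj (op T) →ₗ[O.obj.obj (op T)] (ι → O.obj.obj (op T)) :=
    (coordEquiv (O := O) hT).toLinearMap.comp ((fgt.map i).app (op T)).hom
  refine ⟨Module.Finite.of_surjective (evalT hT p) fun x => ⟨σ x, evalT_retract hT i p hip x⟩,
    Module.Projective.of_split σ (evalT hT p) ?_⟩
  exact LinearMap.ext fun x => evalT_retract hT i p hip x

end Summand

include hT in
/-- Every finite projective module of functions is the module of global sections of a summand. -/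
theorem exists_summand_of_projective (M : Type u) [AddCommGroup M] [Module (O.obj.obj (op T)) M]
    [Module.Finite (O.obj.obj (op T)) M] [Module.Projective (O.obj.obj (op T)) M] :
    ∃ (n : ℕ) (E : ModSite.Mod O) (i : E ⟶ freeM (O := O) (ULift.{u} (Fin n)))
      (e : freeM (O := O) (ULift.{u} (Fin n)) ⟶ E), i ≫ e = 𝟙 E ∧
        Nonempty ((pre E).obj (op T) ≃ₗ[O.obj.obj (op T)] M) := by
  classical
  obtain ⟨n, f, s, hs⟩ : ∃ (n : ℕ) (f : (ULift.{u} (Fin n) → O.obj.obj (op T)) →ₗ[O.obj.obj (op T)] M)
      (s : M →ₗ[O.obj.obj (op T)] (ULift.{u} (Fin n) → O.obj.obj (op T))), f.comp s = LinearMap.id := by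
    obtain ⟨n, g, hg⟩ := Module.Finite.exists_fin' (O.obj.obj (op T)) M
    let f : (ULift.{u} (Fin n) → O.obj.obj (op T)) →ₗ[O.obj.obj (op T)] M :=
      g.comp (LinearEquiv.funCongrLeft _ _ Equiv.ulift.symm).toLinearMap
    have hf : Function.Surjective f := hg.comp (LinearEquiv.surjective _)
    exact ⟨n, f, Module.projective_lifting_property f LinearMap.id hf⟩
  have hfs : ∀ m, f (s m) = m := fun m => LinearMap.congr_fun hs m
  obtain ⟨φ, hφ⟩ := exists_evalT_eq hT
    ((coordEquiv (O := O) (ι := ULift.{u} (Fin n)) hT).symm.toLinearMap.comp (s.comp f))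
  have hφ' : ∀ z, coordEquiv hT (ap φ z) = s (f (coordEquiv hT z)) := fun z => by
    rw [← evalT_coord hT φ z, hφ]
    exact (coordEquiv hT).apply_symm_apply _
  have hidem : φ ≫ φ = φ := hom_ext_evalT hT (LinearMap.ext fun c => by
    refine (coordEquiv hT).injective ?_
    change coordEquiv hT (ap (φ ≫ φ) ((coordEquiv hT).symm c)) = coordEquiv hT (ap φ ((coordEquiv hT).symm c))
    rw [ap_comp, hφ', hφ', hfs])
  obtain ⟨E, i, e, hie, hei⟩ := IsIdempotentComplete.idempotents_split _ φ hidem
  refine ⟨n, E, i, e, hie, ⟨LinearEquiv.ofLinear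
    (f.comp ((coordEquiv (O := O) hT).toLinearMap.comp ((fgt.map i).app (op T)).hom))
    ((((fgt.map e).app (op T)).hom.comp (coordEquiv (O := O) hT).symm.toLinearMap).comp s) ?_ ?_⟩⟩
  · refine LinearMap.ext fun m => ?_
    change f (coordEquiv hT (ap i (ap e ((coordEquiv hT).symm (s m))))) = m
    rw [← ap_comp, hei, hφ', LinearEquiv.apply_symm_apply, hfs, hfs]
  · refine LinearMap.ext fun x => ?_
    change ap e ((coordEquiv hT).symm (s (f (coordEquiv hT (ap i x))))) = x
    have h2 : (coordEquiv hT).symm (s (f (coordEquiv hT (ap i x)))) = ap φ (ap i x) := by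
      rw [← hφ', LinearEquiv.symm_apply_apply]
    rw [h2, ← hei, ap_comp, ← ap_comp i e, hie]
    change ap e (ap i x) = x
    rw [← ap_comp, hie]
    rfl

end Groth.Agent.Mod48
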