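import Groth.Agent.Mod48.ProEtBaseChange
import Groth.Agent.Henz21.Henselian
import Groth.Agent.Henz21.IndEtale

/-!
Strict henselizations at a geometric point of an affine etale chart, presented as limits of etale schemes.
-/

universe u

open CategoryTheory CategoryTheory.Limits AlgebraicGeometry Opposite

namespace Groth.Agent.Mod48.ProLim

set_option backward.isDefEq.respectTransparency.types false

section Ring

variable (R k : Type u) [CommRing R] [Field k] [IsAlgClosed k] [Algebra R k]

/-- The residue field of the colimit of the pointed etale algebras is separably closed. -/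
theorem isSepClosed_residueField_H : IsSepClosed (IsLocalRing.ResidueField (Henz21.H R k)) := by
  let ι : IsLocalRing.ResidueField (Henz21.H R k) →+* k :=
    Ideal.Quotient.lift _ (Henz21.H.proj R k).toRingHom fun a ha => by
      rw [Henz21.H.maximalIdeal_eq] at ha
      exact ha
  refine IsSepClosed.of_exists_root _ fun p hp hirr hsep => ?_
  obtain ⟨β, hβ⟩ := IsAlgClosed.exists_root (p.map ι) (by
    rw [Polynomial.degree_map]; exact hirr.degree_pos.ne')
  obtain ⟨f, hf, -, hfm⟩ := Polynomial.lifts_and_degree_eq_and_monic
    (Polynomial.map_surjective _ IsLocalRing.residue_surjective p) hp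
  have e : f.map (Henz21.H.proj R k).toRingHom = p.map ι := by
    rw [← hf, Polynomial.map_map]
    rfl
  obtain ⟨a, ha, -⟩ := Henz21.H.exists_root f hfm β
    (by rw [← Polynomial.eval_map, e]; exact hβ)
    (by
      rw [← Polynomial.eval_map, ← Polynomial.derivative_map, e]
      refine isUnit_iff_ne_zero.2 fun h => ?_
      obtain ⟨c, d, hcd⟩ := hsep.map (f := ι)
      rw [Polynomial.derivative_map] at h
      simpa [Polynomial.derivative_map, h, Polynomial.IsRoot.eq_zero hβ] using congrArg (Polynomial.eval β) hcd)
  exact ⟨IsLocalRing.residue _ a, by rw [← hf, Polynomial.eval_map_apply, ha.eq_zero, map_zero]⟩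

end Ring

variable {Y : Scheme.{u}} {R : Type u} [CommRing R] (s : Spec (CommRingCat.of R) ⟶ Y) [Etale s]
  (k : Type u) [Field k] [IsAlgClosed k] [Algebra R k]

/-- The diagram of the pointed etale algebras, as etale schemes. -/
noncomputable def hensD : (Henz21.Pt R k)ᵒᵖ ⥤ Y.Etale where
  obj i := MorphismProperty.Over.mk ⊤ (Spec.map (CommRingCat.ofHom (algebraMap R i.unop.S)) ≫ s) (by
    have : Etale (Spec.map (CommRingCat.ofHom (algebraMap R i.unop.S))) := by
      rw [HasRingHomProperty.Spec_iff (P := @Etale)]
      exact RingHom.etale_algebraMap.2 inferInstance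
    exact inferInstanceAs (Etale (Spec.map (CommRingCat.ofHom (algebraMap R i.unop.S)) ≫ s)))
  map {i j} f := MorphismProperty.Over.homMk (Spec.map (CommRingCat.ofHom f.unop.φ.toRingHom)) (by
    show Spec.map (CommRingCat.ofHom f.unop.φ.toRingHom) ≫ Spec.map _ ≫ s = Spec.map _ ≫ s
    rw [← Category.assoc, ← Spec.map_comp]
    exact congrArg (fun q => Spec.map q ≫ s) (CommRingCat.hom_ext f.unop.φ.comp_algebraMap))
  map_id i := MorphismProperty.Over.Hom.ext (Spec.map_id _)
  map_comp f g := MorphismProperty.Over.Hom.ext (by
    show Spec.map _ = Spec.map _ ≫ Spec.map _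
    rw [← Spec.map_comp]
    rfl)

/-- The limit object. -/
noncomputable def hensObj : Y.ProEt :=
  haveI : WeaklyEtale (Spec.map (CommRingCat.ofHom (algebraMap R (Henz21.H R k)))) := by
    have := Ind91.weaklyEtale_of_isIndEtale (Henz21.H.isIndEtale_of_algEquiv R k (Henz21.H R k) AlgEquiv.refl)
    exact WE91.weaklyEtale_SpecMap_algebraMap _ _
  Scheme.ProEt.mk (Spec.map (CommRingCat.ofHom (algebraMap R (Henz21.H R k))) ≫ s)

/-- The cone. -/
noncomputable def hensCone : Cone (hensD s k ⋙ ProEtS.eps Y) where
  pt := hensObj s k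
  π :=
    { app := fun i => MorphismProperty.Over.homMk
        (Spec.map (CommRingCat.ofHom (Henz21.H.incl i.unop).toRingHom)) (by
          show Spec.map (CommRingCat.ofHom (Henz21.H.incl i.unop).toRingHom) ≫ Spec.map _ ≫ s = Spec.map _ ≫ s
          rw [← Category.assoc, ← Spec.map_comp]
          exact congrArg (fun q => Spec.map q ≫ s)
            (CommRingCat.hom_ext (Henz21.H.incl i.unop).comp_algebraMap))
      naturality := fun i j a => by
        refine (Category.id_comp _).trans (MorphismProperty.Over.Hom.ext ?_)
        show Spec.map _ = Spec.map _ ≫ Spec.map (CommRingCat.ofHom a.unop.φ.toRingHom)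
        rw [← Spec.map_comp]
        exact congrArg Spec.map (CommRingCat.hom_ext (RingHom.ext fun x => (Henz21.H.incl_φ a.unop x).symm)) }

theorem nonempty_isLimit_hensCone : Nonempty (IsLimit ((schP Y).mapCone (hensCone s k))) := by
  let h2 := isLimitOfPreserves Scheme.Spec (colimit.isColimit (Henz21.Pt.diagram R k)).op
  let η : (Henz21.Pt.diagram R k).op ⋙ Scheme.Spec ≅ (hensD s k ⋙ ProEtS.eps Y) ⋙ schP Y :=
    NatIso.ofComponents (fun _ => Iso.refl _) (fun a => (Category.comp_id _).trans (Category.id_comp _).symm)
  exact ⟨((IsLimit.postcomposeHomEquiv η _).symm h2).ofIsoLimit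
    (Cone.ext (Iso.refl _) (fun j => (Category.comp_id _).trans (Category.id_comp _).symm))⟩

/-- The presentation of the strict henselization. -/
noncomputable def hensPres : Pres Y where
  I := (Henz21.Pt R k)ᵒᵖ
  D := hensD s k
  c := hensCone s k
  isLimit := (nonempty_isLimit_hensCone s k).some
  affine _ _ a := inferInstanceAs (IsAffineHom (Spec.map (CommRingCat.ofHom a.unop.φ.toRingHom)))
  compact i := inferInstanceAs (CompactSpace ↥(Spec (CommRingCat.of i.unop.S)))
  qs i := inferInstanceAs (QuasiSeparatedSpace ↥(Spec (CommRingCat.of i.unop.S)))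

end Groth.Agent.Mod48.ProLim
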