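import Groth.Agent.SiteMod.Colim
import Groth.Agent.SiteMod.HomTensor

/-!
The internal hom out of a module of finite presentation commutes with filtered colimits, on any site.
-/

universe u

open CategoryTheory CategoryTheory.Limits Opposite MonoidalCategory

namespace Groth.Agent.Mod48

open SiteMod

variable {C : Type u} [SmallCategory C] {J : GrothendieckTopology C} {O : Sheaf J CommRingCat.{u}}

/-- Local statements compose. -/
lemma loc_bind {W : C} {S : Sieve W} (hS : S ∈ J W) {P : ∀ ⦃V : C⦄, (V ⟶ W) → Prop}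
    (h : ∀ ⦃V : C⦄ (v : V ⟶ W), S v → ∃ T ∈ J V, ∀ ⦃V' : C⦄ (t : V' ⟶ V), T t → P (t ≫ v)) :
    ∃ T ∈ J W, ∀ ⦃V : C⦄ (v : V ⟶ W), T v → P v := by
  choose T hT hP using h
  refine ⟨Sieve.bind S.1 fun V v hv => T v hv, J.bind_covering hS fun V v hv => hT v hv, ?_⟩
  rintro V _ ⟨V₁, t, v, hv, ht, rfl⟩
  exact hP v hv t ht

variable {K : Type u} [Category.{u} K] [IsFiltered K] {D : K ⥤ ModSite.Mod O} {c : Cocone D}

lemma exists_stage_homColim {ι : Type u} [Finite ι] (k₀ : K) (k : ι → K) :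
    ∃ (l : K) (_ : k₀ ⟶ l), ∀ i, Nonempty (k i ⟶ l) := by
  classical
  have := Fintype.ofFinite ι
  obtain ⟨l, hl⟩ := IsFiltered.sup_objs_exists (insert k₀ (Finset.univ.image k))
  exact ⟨l, (hl (Finset.mem_insert_self _ _)).some,
    fun i => hl (Finset.mem_insert_of_mem (Finset.mem_image_of_mem k (Finset.mem_univ i)))⟩

lemma exists_stage_factor {ι : Type u} [Finite ι] {k : K} (l : ι → K) (f : ∀ i, k ⟶ l i) :
    ∃ (m : K) (g : k ⟶ m), ∀ i, ∃ h : l i ⟶ m, g = f i ≫ h := by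
  classical
  have := Fintype.ofFinite ι
  suffices ∀ s : Finset ι, ∃ (m : K) (g : k ⟶ m), ∀ i ∈ s, ∃ h : l i ⟶ m, g = f i ≫ h by
    obtain ⟨m, g, h⟩ := this Finset.univ
    exact ⟨m, g, fun i => h i (Finset.mem_univ i)⟩
  intro s
  induction s using Finset.induction with
  | empty => exact ⟨k, 𝟙 k, fun i hi => absurd hi (Finset.notMem_empty i)⟩
  | insert a s _ ih =>
    obtain ⟨m, g, hm⟩ := ih
    refine ⟨IsFiltered.coeq (g ≫ IsFiltered.leftToMax m (l a)) (f a ≫ IsFiltered.rightToMax m (l a)),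
      g ≫ IsFiltered.leftToMax m (l a) ≫ IsFiltered.coeqHom _ _, fun i hi => ?_⟩
    rcases Finset.mem_insert.1 hi with rfl | hi
    · refine ⟨IsFiltered.rightToMax m (l i) ≫ IsFiltered.coeqHom _ _, ?_⟩
      rw [← Category.assoc, IsFiltered.coeq_condition, Category.assoc]
    · obtain ⟨h, rfl⟩ := hm i hi
      exact ⟨h ≫ IsFiltered.leftToMax m (l a) ≫ IsFiltered.coeqHom _ _, by simp⟩

/-- Finitely many sections of a filtered colimit come locally from one stage. -/
theorem exists_local_rep_fin (hc : IsColimit c) (k₀ : K) {W : C} {ι : Type u} [Finite ι]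
    (x : ι → (pre c.pt).obj (op W)) :
    ∃ T ∈ J W, ∀ ⦃V : C⦄ (v : V ⟶ W), T v → ∃ (k : K) (_ : k₀ ⟶ k) (y : ι → (pre (D.obj k)).obj (op V)),
      ∀ i, ap (c.ι.app k) (y i) = res (pre c.pt) v.op (x i) := by
  choose T hT hrep using fun i => exists_local_rep hc (x i)
  obtain ⟨T', hT', hle⟩ := exists_covering_forall T hT
  refine ⟨T', hT', fun V v hv => ?_⟩
  choose k y hy using fun i => hrep i v (hle i v hv)
  obtain ⟨l, g, hl⟩ := exists_stage_homColim k₀ k
  refine ⟨l, g, fun i => ap (D.map (hl i).some) (y i), fun i => ?_⟩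
  rw [← ap_comp, c.w, hy]

/-- Finitely many sections of a stage vanishing in the colimit vanish locally at one later stage. -/
theorem exists_local_zero_fin (hc : IsColimit c) {W : C} {k : K} {ι : Type u} [Finite ι]
    (y : ι → (pre (D.obj k)).obj (op W)) (hy : ∀ i, ap (c.ι.app k) (y i) = 0) :
    ∃ T ∈ J W, ∀ ⦃V : C⦄ (v : V ⟶ W), T v →
      ∃ (l : K) (f : k ⟶ l), ∀ i, ap (D.map f) (res (pre (D.obj k)) v.op (y i)) = 0 := by
  choose T hT hz using fun i => exists_local_zero hc (y i) (hy i)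
  obtain ⟨T', hT', hle⟩ := exists_covering_forall T hT
  refine ⟨T', hT', fun V v hv => ?_⟩
  choose l f hf using fun i => hz i v (hle i v hv)
  obtain ⟨m, g, hg⟩ := exists_stage_factor l f
  refine ⟨m, g, fun i => ?_⟩
  obtain ⟨h, hh⟩ := hg i
  rw [hh, D.map_comp, ap_comp, hf i]
  exact map_zero _

/-! ### The internal hom -/

variable (F : ModSite.Mod O) [ModSite.HasSheafHom F]

lemma evAt_map {N N' : ModSite.Mod O} (φ : N ⟶ N') {W : C}
    (s : (pre ((ModSite.sheafHom F).obj N)).obj (op W)) (x : (pre F).obj (op W)) :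
    evAt F N' (ap ((ModSite.sheafHom F).map φ) s) x = ap φ (evAt F N s x) := by
  have h : fgt.map ((ModSite.sheafHom F).map φ) ▷ pre F ≫ evp F N' = evp F N ≫ fgt.map φ := by
    rw [evp, evp, ← shfHomEquiv_naturality_left]
    refine Eq.trans (congrArg (shfHomEquiv _ N') ((homAdj F).counit.naturality φ)) ?_
    simp only [shfHomEquiv]
    exact Adjunction.homEquiv_naturality_right _ _ _
  exact congrArg (fun z => z.app (op W) (tp s x)) h

lemma evAt_zero_left (N : ModSite.Mod O) {W : C} (x : (pre F).obj (op W)) :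
    evAt F N (0 : (pre ((ModSite.sheafHom F).obj N)).obj (op W)) x = 0 :=
  (congrArg ((evp F N).app (op W)) (TensorProduct.zero_tmul _ _)).trans (map_zero _)

variable [SheafOfModules.IsFinitePresentation (R := ModSite.ringSh O) F]

variable {F}

lemma locally_hom_rep (hc : IsColimit c) {W : C} (s : (pre ((ModSite.sheafHom F).obj c.pt)).obj (op W)) :
    ∃ T ∈ J W, ∀ ⦃V : C⦄ (v : V ⟶ W), T v → ∃ (k : K) (t : (pre ((ModSite.sheafHom F).obj (D.obj k))).obj (op V)),
      ap ((ModSite.sheafHom F).map (c.ι.app k)) t = res (pre ((ModSite.sheafHom F).obj c.pt)) v.op s := by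
  classical
  obtain ⟨k₀⟩ := IsFiltered.nonempty (C := K)
  obtain ⟨S₀, hS₀, hd⟩ := exists_locPres_cover F W
  refine loc_bind hS₀ fun V₁ v₁ hv₁ => ?_
  obtain ⟨d⟩ := hd v₁ hv₁
  let x : d.ι → (pre c.pt).obj (op V₁) := fun i =>
    evAt F c.pt (res (pre ((ModSite.sheafHom F).obj c.pt)) v₁.op s) (d.a i)
  obtain ⟨T₁, hT₁, hrep⟩ := exists_local_rep_fin hc k₀ x
  refine loc_bind (P := fun V₂ t => ∃ (k : K) (z : (pre ((ModSite.sheafHom F).obj (D.obj k))).obj (op V₂)),
    ap ((ModSite.sheafHom F).map (c.ι.app k)) z = res (pre ((ModSite.sheafHom F).obj c.pt)) (t ≫ v₁).op s)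
    hT₁ fun V₂ v₂ hv₂ => ?_
  obtain ⟨k, -, y, hy⟩ := hrep v₂ hv₂
  let d₂ := d.pullback v₂
  obtain ⟨T₂, hT₂, hz⟩ := exists_local_zero_fin hc (fun r => ∑ i, d₂.r r i • y i) (fun r => by
    rw [ap_lincomb]
    have h0 := congrArg (fun a => evAt F c.pt
      (res (pre ((ModSite.sheafHom F).obj c.pt)) (v₂ ≫ v₁).op s) a) (d₂.rel r)
    refine Eq.trans ?_ ((h0.trans (congrArg ((evp F c.pt).app (op V₂)) (TensorProduct.tmul_zero _ _))).trans
      (map_zero _))
    refine Eq.trans ?_ ((congrArg ((evp F c.pt).app (op V₂)) (TensorProduct.tmul_sum _ _ _)).trans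
      (map_sum _ _ _)).symm
    refine Finset.sum_congr rfl fun i _ => ?_
    refine Eq.trans ?_ ((congrArg ((evp F c.pt).app (op V₂)) (tp_smul_right _ _ _)).trans (map_smul _ _ _)).symm
    refine congrArg (d₂.r r i • ·) ((hy i).trans ((res_evAt F c.pt v₂ _ _).trans ?_))
    rw [res_res, ← op_comp]
    rfl)
  refine ⟨T₂, hT₂, fun V v hv => ?_⟩
  obtain ⟨l, f, hf⟩ := hz v hv
  let d₃ := d₂.pullback v
  obtain ⟨t, ht⟩ := exists_sect_of_values (G := D.obj l) d₃
    (fun i => ap (D.map f) (res (pre (D.obj k)) v.op (y i))) (fun r => by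
      refine (ap_lincomb (D.map f) _ _).symm.trans (Eq.trans ?_ (hf r))
      refine congrArg (ap (D.map f)) ?_
      exact (res_lincomb (pre (D.obj k)) v _ _).symm)
  refine ⟨l, t, hom_sect_ext d₃.gen fun i => ?_⟩
  rw [evAt_map, ht, ← ap_comp, c.w]
  refine (res_ap _ _ _).symm.trans ((congrArg (res (pre c.pt) v.op) (hy i)).trans ?_)
  change _ = evAt F c.pt _ (res (pre F) v.op (res (pre F) v₂.op (d.a i)))
  rw [res_evAt, res_evAt, res_res, res_res, ← op_comp, ← op_comp]

lemma locally_hom_zero (hc : IsColimit c) {W : C} {k : K}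
    (s : (pre ((ModSite.sheafHom F).obj (D.obj k))).obj (op W))
    (hs : ap ((ModSite.sheafHom F).map (c.ι.app k)) s = 0) :
    ∃ T ∈ J W, ∀ ⦃V : C⦄ (v : V ⟶ W), T v → ∃ (l : K) (f : k ⟶ l),
      ap ((ModSite.sheafHom F).map (D.map f)) (res (pre ((ModSite.sheafHom F).obj (D.obj k))) v.op s) = 0 := by
  classical
  obtain ⟨S₀, hS₀, hd⟩ := exists_locPres_cover F W
  refine loc_bind hS₀ fun V₁ v₁ hv₁ => ?_
  obtain ⟨d⟩ := hd v₁ hv₁
  obtain ⟨T₁, hT₁, hz⟩ := exists_local_zero_fin hc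
    (fun i => evAt F (D.obj k) (res (pre ((ModSite.sheafHom F).obj (D.obj k))) v₁.op s) (d.a i)) (fun i => by
      rw [← evAt_map, ← res_ap, hs, res_zero, evAt_zero_left])
  refine ⟨T₁, hT₁, fun V v hv => ?_⟩
  obtain ⟨l, f, hf⟩ := hz v hv
  refine ⟨l, f, hom_sect_ext (d.pullback v).gen fun i => ?_⟩
  rw [evAt_map, evAt_zero_left]
  refine Eq.trans (congrArg (ap (D.map f)) ?_) (hf i)
  rw [res_evAt, res_res, ← op_comp]
  rfl

/-- The internal hom out of a module of finite presentation preserves filtered colimits. -/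
theorem preservesColimit_sheafHom : PreservesColimit D (ModSite.sheafHom F) := by
  refine ⟨fun {c} hc => ?_⟩
  let H := ModSite.sheafHom F
  let φ : colimit (D ⋙ H) ⟶ H.obj c.pt := colimit.desc (D ⋙ H) (H.mapCocone c)
  let hc' : IsColimit (colimit.cocone (D ⋙ H)) := colimit.isColimit _
  have hι : ∀ k, colimit.ι (D ⋙ H) k ≫ φ = H.map (c.ι.app k) := fun k => colimit.ι_desc _ k
  have : Epi φ := (epi_iff_locSurj φ).2 fun W s => by
    obtain ⟨T, hT, h⟩ := locally_hom_rep hc s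
    refine ⟨T, hT, fun V v hv => ?_⟩
    obtain ⟨k, t, ht⟩ := h v hv
    exact ⟨ap (colimit.ι (D ⋙ H) k) t, by rw [← ap_comp, hι]; exact ht⟩
  have hinj : ∀ {W : C} (x : (pre (colimit (D ⋙ H))).obj (op W)), ap φ x = 0 → x = 0 := by
    intro W x hx
    obtain ⟨T, hT, h⟩ := exists_local_rep hc' x
    obtain ⟨T', hT', h'⟩ := loc_bind (P := fun V v => res (pre (colimit (D ⋙ H))) v.op x = 0) hT
      fun V v hv => by
        obtain ⟨k, y, hy⟩ := h v hv
        obtain ⟨T₁, hT₁, hz⟩ := locally_hom_zero hc y (by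
          rw [← hι, ap_comp]
          exact (congrArg (ap φ) hy).trans ((res_ap φ v x).symm.trans (by rw [hx, res_zero])))
        refine ⟨T₁, hT₁, fun V' t ht => ?_⟩
        obtain ⟨l, f, hf⟩ := hz t ht
        rw [op_comp, ← res_res]
        refine (congrArg (res (pre (colimit (D ⋙ H))) t.op) hy.symm).trans ?_
        refine (res_ap (colimit.ι (D ⋙ H) k) t y).trans ?_
        rw [← colimit.w (D ⋙ H) f]
        exact (congrArg (ap (colimit.ι (D ⋙ H) l)) hf).trans (map_zero _)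
    exact ext_of_sieve (X := op W) hT' fun V v hv => (h' v hv).trans (res_zero _ _).symm
  have : Mono φ := Preadditive.mono_of_cancel_zero _ fun {A} g hg => by
    apply fgt.map_injective
    refine PresheafOfModules.hom_ext fun W => ModuleCat.hom_ext (LinearMap.ext fun z => ?_)
    exact hinj (W := W.unop) _ (congrArg (fun a : A ⟶ H.obj c.pt => ap a (W := W.unop) z) hg)
  have : IsIso φ := isIso_of_mono_of_epi φ
  exact ⟨IsColimit.ofPointIso (i := by exact this) hc'⟩

end Groth.Agent.Mod48
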