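import Groth.Agent.Mod48.ChartRep
import Groth.Agent.SiteMod.PullRel

/-!
Functions of the pulled back structure sheaf in charts.
-/

universe u

open CategoryTheory CategoryTheory.Limits Opposite

namespace Groth.Agent.Mod48

open SiteMod (rres rres_rres sig exists_common exists_equalize)
open RingPullback (toPull fromPull fromHom unitVal toPull_unit fromVal_unit ringPullIso Sec)

variable {C D : Type u} [SmallCategory C] [SmallCategory D] {J : GrothendieckTopology C}
  {K : GrothendieckTopology D} {O_C : Sheaf J CommRingCat.{u}} {O_D : Sheaf K CommRingCat.{u}}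
  (f : ModSite.RMor O_C O_D)

/-- A function pulled back along a chart. -/
noncomputable def invSig {X : D} {V : C} (g : V ⟶ f.fn.obj X) :
    O_D.obj.obj (op X) →+* f.invRing.obj.obj (op V) :=
  (rres g.op).comp (((f.fn.sheafAdjunctionContinuous CommRingCat.{u} K J).unit.app O_D).hom.app (op X)).hom

lemma invSharp_invSig {X : D} {V : C} (g : V ⟶ f.fn.obj X) (r : O_D.obj.obj (op X)) :
    (f.invSharp.hom.app (op V)).hom (invSig f g r) = sig f g r := by
  have h : ((f.fn.sheafAdjunctionContinuous CommRingCat.{u} K J).homEquiv O_D O_C) f.invSharp = f.sharp :=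
    Equiv.apply_symm_apply _ _
  rw [Adjunction.homEquiv_unit] at h
  refine (ConcreteCategory.congr_hom (f.invSharp.hom.naturality g.op) _).trans ?_
  exact congrArg (rres g.op) (congr(($h).hom.app (op X) r))

lemma rres_invSig {X X' : D} {V V' : C} {g : V ⟶ f.fn.obj X} {g' : V' ⟶ f.fn.obj X'} {v : V' ⟶ V}
    {k : X' ⟶ X} (e : v ≫ g = g' ≫ f.fn.map k) (r : O_D.obj.obj (op X)) :
    rres v.op (invSig f g r) = invSig f g' (rres k.op r) := by
  let η := ((f.fn.sheafAdjunctionContinuous CommRingCat.{u} K J).unit.app O_D).hom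
  change rres v.op (rres g.op ((η.app (op X)).hom r)) = rres g'.op ((η.app (op X')).hom (rres k.op r))
  let a : f.invRing.obj.obj (op (f.fn.obj X)) := (η.app (op X)).hom r
  refine Eq.trans ?_ (congrArg (rres g'.op) (ConcreteCategory.congr_hom (η.naturality k.op) r)).symm
  change rres v.op (rres g.op a) = rres g'.op (rres (f.fn.map k).op a)
  rw [rres_rres, rres_rres, ← op_comp, ← op_comp, e]

/-- Every function is locally pulled back along a chart. -/
lemma exists_invSig {V : C} (a : f.invRing.obj.obj (op V)) :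
    ∃ S ∈ J V, ∀ ⦃W : C⦄ (w : W ⟶ V), S w → ∃ (X : D) (g : W ⟶ f.fn.obj X) (r : O_D.obj.obj (op X)),
      rres w.op a = invSig f g r := by
  let e := ringPullIso J K f.fn O_D
  let b : Sec J K f.fn O_D (op V) := (e.hom.hom.app (op V)).hom a
  obtain ⟨S, hS, h⟩ := ChartRep.exists_rep (J := J) (K := K) (u := f.fn) (G := RingPullback.uR O_D) b
  refine ⟨S, hS, fun W w hw => ?_⟩
  obtain ⟨X, g, r, hr⟩ := h w hw
  refine ⟨X, g, r, ?_⟩
  have h1 : (e.inv.hom.app (op V)).hom b = a :=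
    congrArg (fun φ : f.invRing ⟶ f.invRing => (φ.hom.app (op V)).hom a) e.hom_inv_id
  rw [← h1]
  refine (ConcreteCategory.congr_hom (e.inv.hom.naturality w.op) b).symm.trans ?_
  refine (congrArg (e.inv.hom.app (op W)).hom hr).trans ?_
  refine (ConcreteCategory.congr_hom (e.inv.hom.naturality g.op) (unitVal J K f.fn O_D (op X) r)).trans ?_
  exact congrArg (rres g.op) (fromVal_unit (op X) r)

/-- A chart function which vanishes, vanishes locally on finer charts. -/
lemma exists_invSig_eq_zero {X : D} {V : C} (g : V ⟶ f.fn.obj X) (r : O_D.obj.obj (op X))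
    (h : invSig f g r = 0) :
    ∃ S ∈ J V, ∀ ⦃W : C⦄ (w : W ⟶ V), S w → ∃ (X' : D) (g' : W ⟶ f.fn.obj X') (k : X' ⟶ X),
      w ≫ g = g' ≫ f.fn.map k ∧ rres k.op r = 0 := by
  have h' : ∀ s, invSig f g s = 0 →
      ChartRep.rep (J := J) (K := K) (u := f.fn) (G := RingPullback.uR O_D) g s =
        (0 : Sec J K f.fn O_D (op V)) := fun s hs => by
    have h1 := congrArg ((toPull J K f.fn O_D).hom.app (op V)).hom hs
    rw [map_zero] at h1
    refine Eq.trans ?_ h1
    refine Eq.trans ?_ (ConcreteCategory.congr_hom ((toPull J K f.fn O_D).hom.naturality g.op) _).symm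
    exact congrArg (((RingPullback.ringPull J K f.fn O_D).obj.map g.op).hom) (toPull_unit (op X) s).symm
  obtain ⟨S, hS, h2⟩ := ChartRep.exists_eq_of_rep_eq (J := J) (K := K) (u := f.fn)
    (G := RingPullback.uR O_D) g r (0 : O_D.obj.obj (op X)) ((h' r h).trans (h' 0 (map_zero _)).symm)
  refine ⟨S, hS, fun W w hw => ?_⟩
  obtain ⟨X', g', k, hg, hk⟩ := h2 w hw
  exact ⟨X', g', k, hg, hk.trans (map_zero (rres k.op))⟩

/-- Finitely many functions are locally pulled back along one chart over a given one. -/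
lemma exists_invSigs {X : D} {V : C} (g : V ⟶ f.fn.obj X) : ∀ (n : ℕ) (a : Fin n → f.invRing.obj.obj (op V)),
    ∃ S ∈ J V, ∀ ⦃W : C⦄ (w : W ⟶ V), S w →
      ∃ (X' : D) (g' : W ⟶ f.fn.obj X') (k : X' ⟶ X) (r : Fin n → O_D.obj.obj (op X')),
        w ≫ g = g' ≫ f.fn.map k ∧ ∀ i, rres w.op (a i) = invSig f g' (r i)
  | 0, a => ⟨⊤, J.top_mem V, fun W w _ => ⟨X, w ≫ g, 𝟙 X, fun i => i.elim0, by simp, fun i => i.elim0⟩⟩
  | n + 1, a => by
    obtain ⟨S, hS, h⟩ := exists_invSigs g n (fun i => a i.succ)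
    choose X₁ g₁ k₁ r₁ hg₁ hr₁ using h
    choose S₂ hS₂ h₂ using fun (W : C) (w : W ⟶ V) (_ : S w) => exists_invSig f (rres w.op (a 0))
    choose X₂ g₂ r₂ hr₂ using h₂
    refine ⟨Sieve.bind S.1 fun W w hw => Sieve.bind (S₂ W w hw).1 fun W' v hv =>
        SiteMod.pairSieve f.fn (v ≫ g₁ w hw) (g₂ W w hw v hv),
      J.bind_covering hS fun W w hw => J.bind_covering (hS₂ W w hw) fun W' v hv =>
        SiteMod.pairSieve_mem J K f.fn _ _, ?_⟩
    rintro W₂ _ ⟨W, _, w, hw, ⟨W', z, v, hv, ⟨X', g', h₁, h₂', e₁, e₂⟩, rfl⟩, rfl⟩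
    refine ⟨X', g', h₁ ≫ k₁ w hw, Fin.cons (rres h₂'.op (r₂ W w hw v hv))
      (fun i => rres h₁.op (r₁ w hw i)), ?_, Fin.cases ?_ fun i => ?_⟩
    · rw [Category.assoc, Category.assoc, hg₁ w hw, f.fn.map_comp, ← Category.assoc g', ← e₁]
      simp only [Category.assoc]
    · rw [Fin.cons_zero, ← rres_invSig f e₂ (r₂ W w hw v hv), ← hr₂ W w hw v hv]
      simp only [rres_rres, ← op_comp, Category.assoc]
    · rw [Fin.cons_succ, ← rres_invSig f (v := z ≫ v) (g := g₁ w hw) (by rw [Category.assoc, e₁]),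
        ← hr₁ w hw i]
      simp only [rres_rres, ← op_comp, Category.assoc]

/-- Finitely many chart functions which vanish, vanish on one finer chart, locally. -/
lemma exists_invSigs_eq_zero : ∀ (n : ℕ) {X : D} {V : C} (g : V ⟶ f.fn.obj X) (r : Fin n → O_D.obj.obj (op X))
    (_ : ∀ i, invSig f g (r i) = 0),
    ∃ S ∈ J V, ∀ ⦃W : C⦄ (w : W ⟶ V), S w →
      ∃ (X' : D) (g' : W ⟶ f.fn.obj X') (k : X' ⟶ X),
        w ≫ g = g' ≫ f.fn.map k ∧ ∀ i, rres k.op (r i) = 0
  | 0, X, V, g, r, _ => ⟨⊤, J.top_mem V, fun W w _ => ⟨X, w ≫ g, 𝟙 X, by simp, fun i => i.elim0⟩⟩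
  | n + 1, X, V, g, r, hr => by
    obtain ⟨S, hS, h⟩ := exists_invSigs_eq_zero n g (fun i => r i.succ) (fun i => hr i.succ)
    choose X₁ g₁ k₁ hg₁ hr₁ using h
    have h0 : ∀ (W : C) (w : W ⟶ V) (hw : S w), invSig f (g₁ w hw) (rres (k₁ w hw).op (r 0)) = 0 :=
      fun W w hw => by rw [← rres_invSig f (hg₁ w hw), hr 0, map_zero]
    choose S₂ hS₂ h₂ using fun (W : C) (w : W ⟶ V) (hw : S w) =>
      exists_invSig_eq_zero f (g₁ w hw) _ (h0 W w hw)
    refine ⟨Sieve.bind S.1 fun W w hw => S₂ W w hw, J.bind_covering hS fun W w hw => hS₂ W w hw, ?_⟩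
    rintro W' _ ⟨W, v, w, hw, hv, rfl⟩
    obtain ⟨X', g', k, hg, hk⟩ := h₂ W w hw v hv
    refine ⟨X', g', k ≫ k₁ w hw, ?_, Fin.cases ?_ fun i => ?_⟩
    · rw [Category.assoc, hg₁ w hw, ← Category.assoc, hg, Category.assoc, f.fn.map_comp]
    · rw [op_comp, ← rres_rres, hk]
    · rw [op_comp, ← rres_rres, hr₁ w hw i, map_zero]

end Groth.Agent.Mod48
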