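import Groth.Agent.Mod48.Invertible
import Groth.Agent.Mod48.FreeSpace
import Groth.Agent.SiteMod.LocSurj

/-!
The pairing of an invertible module with an inverse, on sections and on stalks.
-/

universe u

open CategoryTheory CategoryTheory.Limits Opposite MonoidalCategory

namespace Groth.Agent.Mod48

open SiteMod

section General

variable {C : Type u} [SmallCategory C] {J : GrothendieckTopology C} {O : Sheaf J CommRingCat.{u}}
  {L N : ModSite.Mod O} (e : tens L N ≅ ModSite.unit O)

/-- The pairing, as a map of presheaves. -/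
noncomputable def pairHom : pre L ⊗ pre N ⟶ pre (ModSite.unit O) := shfU (pre L ⊗ pre N) ≫ fgt.map e.hom

/-- The pairing on sections. -/
noncomputable def pairS {W : C} (a : (pre L).obj (op W)) (b : (pre N).obj (op W)) : O.obj.obj (op W) :=
  ofU ((pairHom e).app (op W) (tp a b))

lemma rres_pairS {W V : C} (g : V ⟶ W) (a : (pre L).obj (op W)) (b : (pre N).obj (op W)) :
    rres g.op (pairS e a b) = pairS e (res (pre L) g.op a) (res (pre N) g.op b) :=
  (app_res (pairHom e) g.op (tp a b)).symm

lemma pairS_smul_left {W : C} (r : O.obj.obj (op W)) (a : (pre L).obj (op W)) (b : (pre N).obj (op W)) :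
    pairS e (r • a) b = r * pairS e a b := by
  rw [pairS, tp_smul_left]
  exact ((pairHom e).app (op W)).hom.map_smul r (tp a b)

lemma pairS_sum_left {W : C} {ι : Type*} (I : Finset ι) (a : ι → (pre L).obj (op W)) (b : (pre N).obj (op W)) :
    pairS e (∑ i ∈ I, a i) b = ∑ i ∈ I, pairS e (a i) b := by
  classical
  induction I using Finset.induction with
  | empty =>
    simp only [Finset.sum_empty]
    exact (congrArg (fun z => ofU ((pairHom e).app (op W) z)) (TensorProduct.zero_tmul _ b)).trans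
      (map_zero ((pairHom e).app (op W)).hom)
  | insert i s hi ih =>
    rw [Finset.sum_insert hi, Finset.sum_insert hi, pairS, tp_add_left, ← ih]
    exact map_add ((pairHom e).app (op W)).hom _ _

/-- The two contractions. -/
noncomputable def contr₁ : (pre L ⊗ pre N) ⊗ pre L ⟶ pre L :=
  (pairHom e ▷ pre L) ≫ (λ_ (pre L)).hom

/-- Exchange of the outer factors. -/
noncomputable def exch : (pre L ⊗ pre N) ⊗ pre L ≅ (pre L ⊗ pre N) ⊗ pre L :=
  β_ (pre L ⊗ pre N) (pre L) ≪≫ whiskerLeftIso (pre L) (β_ (pre L) (pre N)) ≪≫ (α_ (pre L) (pre N) (pre L)).symm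

lemma contr₁_tp {W : Cᵒᵖ} (a : (pre L).obj W) (b : (pre N).obj W) (y : (pre L).obj W) :
    (contr₁ e).app W (tp (tp a b) y) = pairS e (W := W.unop) a b • y := rfl

lemma exch_tp {W : Cᵒᵖ} (a : (pre L).obj W) (b : (pre N).obj W) (y : (pre L).obj W) :
    (exch (L := L) (N := N)).hom.app W (tp (tp a b) y) = tp (tp y b) a := rfl

lemma isIso_shf_contr₁ : IsIso (shf.map (contr₁ e)) := by
  have h1 : IsIso (shf.map (pairHom e)) := by
    rw [pairHom, Functor.map_comp]
    exact @IsIso.comp_isIso _ _ _ _ _ _ _ inferInstance (Functor.map_isIso shf (fgt.map e.hom))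
  rw [contr₁, Functor.map_comp]
  exact @IsIso.comp_isIso _ _ _ _ _ _ _ (isIso_shf_map_whiskerRight _ _) inferInstance

/-- The automorphism relating the two contractions. -/
noncomputable def twist : L ≅ L :=
  haveI := isIso_shf_contr₁ e
  (shf.mapIso (exch (L := L) (N := N)) ≪≫ asIso (shf.map (contr₁ e)) ≪≫ shfCounitIso.app L).symm ≪≫
    asIso (shf.map (contr₁ e)) ≪≫ shfCounitIso.app L

lemma twist_pairS {W : C} (a : (pre L).obj (op W)) (b : (pre N).obj (op W)) (y : (pre L).obj (op W)) :
    ap (twist e).hom (pairS e y b • a) = pairS e a b • y := by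
  haveI := isIso_shf_contr₁ e
  have h : ((exch (L := L) (N := N)).hom ≫ contr₁ e) ≫ fgt.map (twist e).hom = contr₁ e := by
    apply (shfHomEquiv _ L).symm.injective
    rw [shfHomEquiv, Adjunction.homEquiv_naturality_right_symm, Adjunction.homEquiv_symm_apply,
      Adjunction.homEquiv_symm_apply]
    change (shf.map ((exch (L := L) (N := N)).hom ≫ contr₁ e) ≫ shfCounitIso.hom.app L) ≫ (twist e).hom =
      shf.map (contr₁ e) ≫ shfCounitIso.hom.app L
    rw [Functor.map_comp]
    exact ((shf.mapIso (exch (L := L) (N := N)) ≪≫ asIso (shf.map (contr₁ e)) ≪≫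
      shfCounitIso.app L)).hom_inv_id_assoc _ ▸ rfl
  exact congr($(h).app (op W) (tp (tp a b) y))

/-- Locally a sum of pairings is one. -/
lemma exists_pairS_eq_one (W : C) : ∃ S ∈ J W, ∀ ⦃V : C⦄ (v : V ⟶ W), S v →
    ∃ (m : ℕ) (a : Fin m → (pre L).obj (op V)) (b : Fin m → (pre N).obj (op V)), ∑ i, pairS e (a i) (b i) = 1 := by
  have hiso : IsIso (shf.map (pairHom e)) := by
    rw [pairHom, Functor.map_comp]
    exact @IsIso.comp_isIso _ _ _ _ _ _ _ inferInstance (Functor.map_isIso shf (fgt.map e.hom))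
  obtain ⟨S, hS, hp⟩ := locally_preimage ((isIso_shf_map_iff_isLocalIso _).1 hiso) (op W)
    (toU (1 : O.obj.obj (op W)))
  refine ⟨S, hS, fun V v hv => ?_⟩
  obtain ⟨z, hz⟩ := hp v hv
  obtain ⟨s, hs⟩ : ∃ s : Finset ((pre L).obj (op V) × (pre N).obj (op V)), z = ∑ i ∈ s, tp i.1 i.2 :=
    TensorProduct.exists_finset z
  refine ⟨s.card, fun i => (s.equivFin.symm i).1.1, fun i => (s.equivFin.symm i).1.2, ?_⟩
  rw [Equiv.sum_comp s.equivFin.symm fun i : s => pairS e i.1.1 i.1.2,
    Finset.sum_coe_sort s fun i => pairS e i.1 i.2]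
  refine Eq.trans ?_ ((congrArg ofU hz).trans (map_one (O.obj.map v.op).hom))
  rw [hs]
  exact (map_sum ((pairHom e).app (op V)).hom _ _).symm

section Point

variable (p : GrothendieckTopology.Point.{u} J)

/-- Equal germs pair to equal germs. -/
lemma pair_germ_congr {V : C} (v : p.fiber.obj V) {a a' : (pre L).obj (op V)} (b : (pre N).obj (op V))
    (h : grm p L V v a = grm p L V v a') :
    ModSite.germRing p V v (pairS e a b) = ModSite.germRing p V v (pairS e a' b) := by
  obtain ⟨U, k, w, hw, hk⟩ := exists_res_eq_of_germ_eq p L v h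
  rw [← germRing_of_map p v hw, ← germRing_of_map p v hw, rres_pairS, rres_pairS, hk]

lemma pair_germ_smul_sum {V : C} (v : p.fiber.obj V) {ι : Type*} [Fintype ι] (r : ι → O.obj.obj (op V))
    (m : ι → (pre L).obj (op V)) {a : (pre L).obj (op V)} (b : (pre N).obj (op V))
    (h : grm p L V v a = ∑ i, ModSite.germRing p V v (r i) • grm p L V v (m i)) :
    ModSite.germRing p V v (pairS e a b) =
      ∑ i, ModSite.germRing p V v (r i) * ModSite.germRing p V v (pairS e (m i) b) := by
  rw [pair_germ_congr e p v b (h.trans (grm_sum_smul p v r m).symm), pairS_sum_left, germRing_sum]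
  exact Finset.sum_congr rfl fun i _ => by rw [pairS_smul_left, germRing_mul]

/-- A section in `m L_p` pairs into `m`. -/
lemma pair_mem_of_mem_smul (I : Ideal (ModSite.stalkRing p O)) {m : ModSite.stalkMod p L}
    (hm : m ∈ I • (⊤ : Submodule (ModSite.stalkRing p O) (ModSite.stalkMod p L))) :
    ∀ {V : C} (v : p.fiber.obj V) (a : (pre L).obj (op V)) (b : (pre N).obj (op V)),
      grm p L V v a = m → ModSite.germRing p V v (pairS e a b) ∈ I := by
  refine Submodule.smul_induction_on (p := fun m => ∀ {V : C} (v : p.fiber.obj V) (a : (pre L).obj (op V))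
    (b : (pre N).obj (op V)), grm p L V v a = m → ModSite.germRing p V v (pairS e a b) ∈ I) hm
    (fun r hr n _ => ?_) (fun x y hx hy => ?_)
  · intro V v a b ha
    obtain ⟨U, k, w, hw, ⟨s, hs⟩, ⟨f, hf⟩⟩ := exists_lift_near (F := L) p v (fun _ : PUnit.{u + 1} => n)
      (fun _ : PUnit.{u + 1} => r)
    rw [← germRing_of_map p v hw, rres_pairS, pair_germ_smul_sum e p w f s _ (by
      rw [grm_of_map p v hw, ha, Fintype.sum_unique]
      exact (congrArg₂ (· • ·) (hf _) (hs _)).symm), Fintype.sum_unique]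
    exact Ideal.mul_mem_right _ _ ((hf _).symm ▸ hr)
  · intro V v a b ha
    obtain ⟨U, k, w, hw, ⟨s, hs⟩, -⟩ := exists_lift_near (F := L) p v
      (fun i : ULift.{u} Bool => if i.down then x else y) (fun i : PEmpty.{u + 1} => i.elim)
    have e1 : grm p L U w (s ⟨true⟩ + s ⟨false⟩) = grm p L U w (res (pre L) k.op a) := by
      rw [grm_of_map p v hw, ha]
      refine (map_add (p.toPresheafFiber U w (ModSite.toAb L).obj).hom _ _).trans ?_
      exact congrArg₂ (· + ·) (hs ⟨true⟩) (hs ⟨false⟩)
    rw [← germRing_of_map p v hw, rres_pairS, ← pair_germ_congr e p w _ e1]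
    have e2 : pairS e (s ⟨true⟩ + s ⟨false⟩) (res (pre N) k.op b) =
        pairS e (s ⟨true⟩) (res (pre N) k.op b) + pairS e (s ⟨false⟩) (res (pre N) k.op b) := by
      rw [pairS, tp_add_left]
      exact map_add ((pairHom e).app (op U)).hom _ _
    rw [e2]
    rw [show ModSite.germRing p U w (_ + _) = ModSite.germRing p U w _ + ModSite.germRing p U w _ from
      map_add (p.toPresheafFiber U w O.obj).hom _ _]
    refine I.add_mem ?_ ?_
    · exact hx w _ _ (hs ⟨true⟩)
    · exact hy w _ _ (hs ⟨false⟩)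

variable {Y : C} (y : p.fiber.obj Y) {s : (pre L).obj (op Y)}

include e in
/-- The stalk of an invertible module over a local ring is generated by any section outside `m L_p`. -/
theorem exists_generator (hR : IsLocalRing (ModSite.stalkRing p O))
    (hs : grm p L Y y s ∉ (@IsLocalRing.maximalIdeal (ModSite.stalkRing p O) _ hR) •
      (⊤ : Submodule (ModSite.stalkRing p O) (ModSite.stalkMod p L)))
    (m : ModSite.stalkMod p L) : ∃ r : ModSite.stalkRing p O, m = r • grm p L Y y s := by
  obtain ⟨S, hS, hp⟩ := exists_pairS_eq_one e Y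
  obtain ⟨V, g, hg, v, hv⟩ := p.jointly_surjective S hS y
  obtain ⟨n, a, b, hab⟩ := hp g hg
  have h1 : ∑ i, ModSite.germRing p V v (pairS e (a i) (b i)) = 1 := by
    rw [← germRing_sum, hab]
    exact map_one (p.toPresheafFiber V v O.obj).hom
  obtain ⟨i, hi⟩ : ∃ i, IsUnit (ModSite.germRing p V v (pairS e (a i) (b i))) := by
    by_contra! hcon
    have : (1 : ModSite.stalkRing p O) ∈ IsLocalRing.maximalIdeal (ModSite.stalkRing p O) :=
      h1 ▸ Ideal.sum_mem _ fun i _ => (hcon i)
    exact (IsLocalRing.maximalIdeal.isMaximal _).ne_top ((Ideal.eq_top_iff_one _).2 this)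
  have key : ∀ m : ModSite.stalkMod p L, ∃ r : ModSite.stalkRing p O,
      m = r • grm p L V v (ap (twist e).hom (a i)) := by
    intro m
    obtain ⟨U, k, w, hw, ⟨z, hz⟩, -⟩ := exists_lift_near (F := L) p v (fun _ : PUnit.{u + 1} => m)
      (fun i : PEmpty.{u + 1} => i.elim)
    obtain ⟨t, ht⟩ := hi.exists_left_inv
    refine ⟨t * ModSite.germRing p U w (pairS e (z PUnit.unit) (res (pre N) k.op (b i))), ?_⟩
    have h2 := congrArg (grm p L U w) (twist_pairS e (res (pre L) k.op (a i)) (res (pre N) k.op (b i)) (z PUnit.unit))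
    rw [show ap (twist e).hom (_ • _) = _ • ap (twist e).hom _ from map_smul _ _ _, ← res_ap, grm_smul, grm_smul,
      grm_of_map p v hw, hz, ← rres_pairS, germRing_of_map p v hw] at h2
    rw [mul_smul, h2, ← mul_smul, ht, one_smul]
  obtain ⟨r, hr⟩ := key (grm p L Y y s)
  have hru : IsUnit r := by
    by_contra hcon
    exact hs (hr ▸ Submodule.smul_mem_smul ((IsLocalRing.mem_maximalIdeal _).2 hcon) Submodule.mem_top)
  obtain ⟨r', hr'⟩ := hru.exists_left_inv
  obtain ⟨c, hc⟩ := key m
  refine ⟨c * r', ?_⟩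
  rw [mul_smul, hr, ← mul_smul r' r, hr', one_smul]
  exact hc

include e in
/-- A generator of the stalk is free. -/
theorem injective_smul_generator (h : ∀ m : ModSite.stalkMod p L, ∃ r : ModSite.stalkRing p O, m = r • grm p L Y y s) :
    Function.Injective fun a : ModSite.stalkRing p O => a • grm p L Y y s := by
  intro r₁ r₂ h12
  obtain ⟨S, hS, hp⟩ := exists_pairS_eq_one e Y
  obtain ⟨V, g, hg, v, hv⟩ := p.jointly_surjective S hS y
  obtain ⟨n, a, b, hab⟩ := hp g hg
  choose c hc using fun i => h (grm p L V v (a i))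
  obtain ⟨U, k, w, hw, -, ⟨f, hf⟩⟩ := exists_lift_near (F := L) p v (fun i : PEmpty.{u + 1} => i.elim)
    (fun i : ULift.{u} (Fin n) ⊕ ULift.{u} Bool => i.elim (fun j => c j.down) fun j => if j.down then r₁ else r₂)
  let s' := res (pre L) (k ≫ g).op s
  have hs' : grm p L U w s' = grm p L Y y s := by
    refine grm_of_map p y ?_ s
    rw [Functor.map_comp_apply, hw, hv]
  have hj : ∀ j : Fin n, ModSite.germRing p U w (rres k.op (pairS e (a j) (b j))) =
      c j * ModSite.germRing p U w (pairS e s' (res (pre N) k.op (b j))) := fun j => by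
    rw [rres_pairS, pair_germ_smul_sum e p w (fun _ : PUnit.{u + 1} => f (Sum.inl ⟨j⟩)) (fun _ => s') _ (by
      rw [grm_of_map p v hw, hc j, Fintype.sum_unique, hf, hs']; rfl), Fintype.sum_unique, hf]
    rfl
  have hmul : ∀ (q : ULift.{u} Bool) (j : Fin n), (if q.down then r₁ else r₂) *
      ModSite.germRing p U w (pairS e s' (res (pre N) k.op (b j))) =
        ModSite.germRing p U w (pairS e (f (Sum.inr q) • s') (res (pre N) k.op (b j))) := fun q j => by
    rw [pairS_smul_left, germRing_mul, hf]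
    rfl
  have h1 : ∑ j, ModSite.germRing p U w (rres k.op (pairS e (a j) (b j))) = 1 := by
    simp only [germRing_of_map p v hw]
    rw [← germRing_sum, hab]
    exact map_one (p.toPresheafFiber V v O.obj).hom
  have hr : ∀ r : ModSite.stalkRing p O, r = ∑ j, c j * (r * ModSite.germRing p U w (pairS e s' (res (pre N) k.op (b j)))) :=
    fun r => by
      refine (mul_one r).symm.trans ?_
      rw [← h1, Finset.mul_sum]
      exact Finset.sum_congr rfl fun j _ => by rw [hj j, mul_left_comm]
  rw [hr r₁, hr r₂]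
  refine Finset.sum_congr rfl fun j _ => congrArg (c j * ·) ?_
  refine (hmul ⟨true⟩ j).trans (Eq.trans ?_ (hmul ⟨false⟩ j).symm)
  refine pair_germ_congr e p w _ ?_
  rw [grm_smul, grm_smul, hf, hf, hs']
  exact h12

end Point

end General

section Space

open TopologicalSpace

variable {X : TopCat.{u}} {O : TopCat.Sheaf CommRingCat.{u} X} {L N : ModSite.Mod O}
  (e : tens L N ≅ ModSite.unit O)

include e in
/-- The locus where a section generates is open. -/
theorem isOpen_generating (hO : ∀ x : X, IsLocalRing (ModSite.stalkRing (Opens.pointGrothendieckTopology x) O))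
    {U : Opens X} (s : (pre L).obj (op U)) :
    IsOpen {x : X | ∃ hx : x ∈ U, grm (Opens.pointGrothendieckTopology x) L U ⟨⟨hx⟩⟩ s ∉
      (@IsLocalRing.maximalIdeal (ModSite.stalkRing (Opens.pointGrothendieckTopology x) O) _ (hO x)) •
        (⊤ : Submodule (ModSite.stalkRing (Opens.pointGrothendieckTopology x) O)
          (ModSite.stalkMod (Opens.pointGrothendieckTopology x) L))} := by
  rw [isOpen_iff_forall_mem_open]
  rintro x ⟨hx, hs⟩
  let p := Opens.pointGrothendieckTopology x
  obtain ⟨S, hS, hp⟩ := exists_pairS_eq_one e U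
  obtain ⟨V, g, hg, hxV⟩ := hS x hx
  obtain ⟨n, a, b, hab⟩ := hp g hg
  choose c hc using fun i : ULift.{u} (Fin n) => exists_generator e p (⟨⟨hx⟩⟩ : p.fiber.obj U) (hO x) hs
    (grm p L V ⟨⟨hxV⟩⟩ (a i.down))
  obtain ⟨V', k, w, -, -, ⟨f, hf⟩⟩ := exists_lift_near (F := L) (Y := V) p ⟨⟨hxV⟩⟩
    (fun i : PEmpty.{u + 1} => i.elim) c
  have he : ∀ i : ULift.{u} (Fin n), grm p L V' w (res (pre L) k.op (a i.down)) =
      grm p L V' w (f i • res (pre L) (k ≫ g).op s) := fun i => by
    rw [grm_smul, hf, grm_of_map p (⟨⟨hxV⟩⟩ : p.fiber.obj V) rfl, grm_of_map p (⟨⟨hx⟩⟩ : p.fiber.obj U) rfl]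
    exact hc i
  obtain ⟨W, l, z, -, hW⟩ := exists_res_eq_near p w _ _ he
  refine ⟨W, fun y hy => ?_, W.2, z.down.down⟩
  have hyU : y ∈ U := leOfHom (l ≫ k ≫ g) hy
  refine ⟨hyU, fun hmem => ?_⟩
  let q := Opens.pointGrothendieckTopology y
  let zy : q.fiber.obj W := ⟨⟨hy⟩⟩
  have h1 : (1 : ModSite.stalkRing q O) =
      ∑ i : Fin n, ModSite.germRing q W zy (rres l.op (f ⟨i⟩)) *
        ModSite.germRing q W zy (pairS e (res (pre L) (l ≫ k ≫ g).op s) (res (pre N) (l ≫ k).op (b i))) := by
    refine Eq.trans ?_ (Finset.sum_congr rfl fun i _ => ?_)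
      (b := ∑ i : Fin n, ModSite.germRing q W zy (rres (l ≫ k).op (pairS e (a i) (b i))))
    · rw [← germRing_sum, ← map_sum, hab]
      exact ((congrArg (ModSite.germRing q W zy) (map_one (O.obj.map (l ≫ k).op).hom)).trans
        (map_one (q.toPresheafFiber W zy O.obj).hom)).symm
    · rw [← germRing_mul, ← pairS_smul_left, rres_pairS]
      refine congrArg (fun t => ModSite.germRing q W zy (pairS e t _)) ?_
      rw [op_comp, ← res_res, hW ⟨i⟩, res_smul, res_res, ← op_comp]
  have h2 : (1 : ModSite.stalkRing q O) ∈ @IsLocalRing.maximalIdeal (ModSite.stalkRing q O) _ (hO y) := by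
    rw [h1]
    refine Ideal.sum_mem _ fun i _ => Ideal.mul_mem_left _ _ ?_
    exact pair_mem_of_mem_smul e q _ hmem zy _ _ (grm_of_map q (⟨⟨hyU⟩⟩ : q.fiber.obj U) rfl s)
  have := hO y
  exact (IsLocalRing.maximalIdeal.isMaximal _).ne_top ((Ideal.eq_top_iff_one _).2 h2)

end Space

end Groth.Agent.Mod48
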