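import Groth.Agent.Mod48.KFlat
import Mathlib.Algebra.Homology.HomotopyCategory.ShiftSequence

/-!
K-flatness, shifts and mapping cones.
-/

universe u

open CategoryTheory CategoryTheory.Limits Opposite MonoidalCategory HomologicalComplex

namespace Groth.Agent.Mod48

variable {C : Type u} [SmallCategory C] {J : GrothendieckTopology C} {O : Sheaf J CommRingCat.{u}}

lemma acyclic_shift {A : Type*} [Category* A] [Abelian A] {K : CochainComplex A ℤ} (h : K.Acyclic) (a : ℤ) :
    (K⟦a⟧).Acyclic :=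
  acyclic_of_isZero_homology fun i =>
    (isZero_homology_of_acyclic h (i + a)).of_iso
      (((HomologicalComplex.homologyFunctor A (ComplexShape.up ℤ) 0).shiftIso a i (i + a) (by lia)).app K)

lemma isKFlat_shift {K : CC O} (h : ModSite.IsKFlat K) (a : ℤ) : ModSite.IsKFlat (K⟦a⟧) := by
  rw [isKFlat_iff] at *
  exact fun F hF => acyclic_of_iso
    (CochainComplex.mapBifunctorShift₂Iso F K (ModSite.tensorBi O) a).symm (acyclic_shift (h F hF) a)

lemma isKFlat_of_shift {K : CC O} (a : ℤ) (h : ModSite.IsKFlat (K⟦a⟧)) : ModSite.IsKFlat K :=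
  isKFlat_of_iso ((shiftFunctorCompIsoId (CC O) a (-a) (add_neg_cancel a)).app K) (isKFlat_shift h (-a))

/-- The boundary map of a mapping cone. -/
noncomputable def coneδ {K₁ K₂ : CC O} (φ : K₁ ⟶ K₂) : CochainComplex.mappingCone φ ⟶ K₁⟦(1 : ℤ)⟧ :=
  (CochainComplex.mappingCone.triangle φ).mor₃

/-- The inverse of the canonical iso `(K⟦1⟧).X n ≅ K.X (n + 1)`. -/
noncomputable def shiftXHom (K : CC O) (n : ℤ) : K.X (n + 1) ⟶ (K⟦(1 : ℤ)⟧).X n :=
  (CochainComplex.shiftFunctorObjXIso K 1 n (n + 1) rfl).inv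

/-- The canonical map `(K⟦1⟧).X n ⟶ K.X (n + 1)`. -/
noncomputable def shiftXInv (K : CC O) (n : ℤ) : (K⟦(1 : ℤ)⟧).X n ⟶ K.X (n + 1) :=
  (CochainComplex.shiftFunctorObjXIso K 1 n (n + 1) rfl).hom

lemma inl_v_coneδ {K₁ K₂ : CC O} (φ : K₁ ⟶ K₂) (n : ℤ) :
    (CochainComplex.mappingCone.inl φ).v (n + 1) n (by lia) ≫ (coneδ φ).f n = -shiftXHom K₁ n :=
  CochainComplex.mappingCone.inl_v_triangle_mor₃_f φ (n + 1) n (by lia)

lemma inr_f_coneδ {K₁ K₂ : CC O} (φ : K₁ ⟶ K₂) (n : ℤ) :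
    (CochainComplex.mappingCone.inr φ).f n ≫ (coneδ φ).f n = 0 :=
  CochainComplex.mappingCone.inr_f_triangle_mor₃_f φ n

/-- The short complex of a mapping cone. -/
noncomputable def coneSC {K₁ K₂ : CC O} (φ : K₁ ⟶ K₂) : ShortComplex (CC O) :=
  ShortComplex.mk (CochainComplex.mappingCone.inr φ) (coneδ φ)
    (CochainComplex.mappingCone.inr_triangleδ φ)

lemma coneSC_splitting {K₁ K₂ : CC O} (φ : K₁ ⟶ K₂) (n : ℤ) :
    Nonempty ((coneSC φ).map (ev n)).Splitting :=
  ⟨{ r := (CochainComplex.mappingCone.snd φ).v n n (add_zero n)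
     s := -(shiftXInv K₁ n ≫ (CochainComplex.mappingCone.inl φ).v (n + 1) n (by lia))
     f_r := CochainComplex.mappingCone.inr_f_snd_v φ n
     s_g := by
      change (-(shiftXInv K₁ n ≫ (CochainComplex.mappingCone.inl φ).v (n + 1) n _)) ≫ (coneδ φ).f n = 𝟙 _
      rw [Preadditive.neg_comp, Category.assoc, inl_v_coneδ, Preadditive.comp_neg, neg_neg]
      exact (CochainComplex.shiftFunctorObjXIso K₁ 1 n (n + 1) rfl).hom_inv_id
     id := by
      change (CochainComplex.mappingCone.snd φ).v n n (add_zero n) ≫ (CochainComplex.mappingCone.inr φ).f n +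
        (coneδ φ).f n ≫ (-(shiftXInv K₁ n ≫ (CochainComplex.mappingCone.inl φ).v (n + 1) n _)) = 𝟙 _
      rw [CochainComplex.mappingCone.ext_from_iff _ (n + 1) n rfl]
      constructor
      · rw [Preadditive.comp_add, CochainComplex.mappingCone.inl_v_snd_v_assoc, zero_comp, zero_add,
          reassoc_of% (inl_v_coneδ φ n), Preadditive.comp_neg, Preadditive.neg_comp, neg_neg,
          Category.comp_id, ← Category.assoc]
        exact (congrArg (· ≫ _) (CochainComplex.shiftFunctorObjXIso K₁ 1 n (n + 1) rfl).inv_hom_id).trans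
          (Category.id_comp _)
      · rw [Preadditive.comp_add, CochainComplex.mappingCone.inr_f_snd_v_assoc,
          reassoc_of% (inr_f_coneδ φ n), zero_comp, add_zero, Category.comp_id] }⟩

lemma isKFlat_cone_two_out_of_three {K₁ K₂ : CC O} (φ : K₁ ⟶ K₂) :
    (ModSite.IsKFlat K₁ → ModSite.IsKFlat K₂ → ModSite.IsKFlat (CochainComplex.mappingCone φ)) ∧
    (ModSite.IsKFlat K₁ → ModSite.IsKFlat (CochainComplex.mappingCone φ) → ModSite.IsKFlat K₂) ∧
    (ModSite.IsKFlat K₂ → ModSite.IsKFlat (CochainComplex.mappingCone φ) → ModSite.IsKFlat K₁) :=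
  have h := isKFlat_two_out_of_three (coneSC φ) fun F =>
    shortExact_tensorCx_obj_of_split F _ (coneSC_splitting φ)
  ⟨fun h1 h2 => h.2.1 h2 (isKFlat_shift h1 1), fun h1 h2 => h.2.2 h2 (isKFlat_shift h1 1),
    fun h1 h2 => isKFlat_of_shift 1 (h.1 h1 h2)⟩

end Groth.Agent.Mod48
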