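import Groth.Agent.SiteMod.RestrTensor
import Groth.Agent.Mod48.MapTot
import Groth.Agent.Mod48.KFlat

/-!
Restriction of K-flat complexes to a localised site: projection formula for complexes.
-/

universe u

open CategoryTheory CategoryTheory.Limits Opposite MonoidalCategory
open scoped TensorProduct

set_option backward.isDefEq.respectTransparency false

namespace Groth.Agent.Mod48

open SiteMod

variable {C : Type u} [SmallCategory C] {J : GrothendieckTopology C} {O : Sheaf J CommRingCat.{u}} (U : C)

/-- The projection morphism is natural in the second factor. -/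
lemma projP_natural_right (P : PreM (O.over U)) {Q Q' : PreM O} (g : Q ⟶ Q') :
    (extP U).map (P ◁ (preR U).map g) ≫ projP U Q' P = projP U Q P ≫ (extP U).obj P ◁ g := by
  apply ((extPAdj U).homEquiv _ _).injective
  rw [Adjunction.homEquiv_naturality_left, Adjunction.homEquiv_naturality_right, projP, projP,
    Equiv.apply_symm_apply, Equiv.apply_symm_apply]
  exact tensor_hom_ext (M := P) (N := (preR U).obj Q) fun _ _ _ => rfl

/-- `j_! (M ⊗ N|_U) ≅ j_! M ⊗ N`. -/
noncomputable def projTensIso (M : ModSite.Mod (O.over U)) (N : ModSite.Mod O) :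
    (ModSite.extZero O U).obj ((tR ((ModSite.restr O U).obj N)).obj M) ≅
      (tR N).obj ((ModSite.extZero O U).obj M) :=
  ((extShfIso U).app (pre M ⊗ (preR U).obj (pre N))).symm ≪≫
    (projShfIso U (pre N)).app (pre M) ≪≫
    (tensShfLeft N).app ((extP U).obj (pre M)) ≪≫
    (tR N).mapIso ((extShfIso U).app (pre M) ≪≫ (ModSite.extZero O U).mapIso (shfCounitIso.app M))

/-- The component of `j_! M` at the first factor. -/
noncomputable abbrev extCounit (M : ModSite.Mod (O.over U)) :
    shf.obj ((extP U).obj (pre M)) ⟶ (ModSite.extZero O U).obj M :=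
  (extShfIso U).hom.app (pre M) ≫ (ModSite.extZero O U).map (shfCounitIso.hom.app M)

lemma projTensIso_hom (M : ModSite.Mod (O.over U)) (N : ModSite.Mod O) :
    (projTensIso U M N).hom = (extShfIso U).inv.app (pre M ⊗ (preR U).obj (pre N)) ≫
      shf.map (projP U (pre N) (pre M)) ≫ shf.map (shfU ((extP U).obj (pre M)) ▷ pre N) ≫
        (tR N).map (extCounit U M) := rfl

lemma projTensIso_natural_left {M M' : ModSite.Mod (O.over U)} (f : M ⟶ M') (N : ModSite.Mod O) :
    (ModSite.extZero O U).map ((tR ((ModSite.restr O U).obj N)).map f) ≫ (projTensIso U M' N).hom =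
      (projTensIso U M N).hom ≫ (tR N).map ((ModSite.extZero O U).map f) := by
  have h1 : (ModSite.extZero O U).map ((tR ((ModSite.restr O U).obj N)).map f) ≫
      (extShfIso U).inv.app (pre M' ⊗ (preR U).obj (pre N)) =
      (extShfIso U).inv.app (pre M ⊗ (preR U).obj (pre N)) ≫
        shf.map ((extP U).map (fgt.map f ▷ (preR U).obj (pre N))) :=
    (extShfIso U).inv.naturality (fgt.map f ▷ (preR U).obj (pre N))
  have h2 := congrArg shf.map (projP_natural U (pre N) (fgt.map f))
  rw [Functor.map_comp, Functor.map_comp] at h2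
  have h3 : shf.map ((extP U).map (fgt.map f) ▷ pre N) ≫ shf.map (shfU ((extP U).obj (pre M')) ▷ pre N) =
      shf.map (shfU ((extP U).obj (pre M)) ▷ pre N) ≫ (tR N).map (shf.map ((extP U).map (fgt.map f))) :=
    (tensShfLeft N).hom.naturality ((extP U).map (fgt.map f))
  have h4 : shf.map ((extP U).map (fgt.map f)) ≫ extCounit U M' =
      extCounit U M ≫ (ModSite.extZero O U).map f := by
    have a : shf.map ((extP U).map (fgt.map f)) ≫ (extShfIso U).hom.app (pre M') =
        (extShfIso U).hom.app (pre M) ≫ (ModSite.extZero O U).map (shf.map (fgt.map f)) :=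
      (extShfIso U).hom.naturality (fgt.map f)
    have b : shf.map (fgt.map f) ≫ shfCounitIso.hom.app M' = shfCounitIso.hom.app M ≫ f :=
      shfCounitIso.hom.naturality f
    rw [extCounit, extCounit, reassoc_of% a, Category.assoc, ← Functor.map_comp, ← Functor.map_comp, b]
  rw [projTensIso_hom, projTensIso_hom]
  refine ((Category.assoc _ _ _).symm.trans (h1 =≫ _)).trans ?_
  simp only [Category.assoc]
  refine congrArg ((extShfIso U).inv.app (pre M ⊗ (preR U).obj (pre N)) ≫ ·) ?_
  refine ((Category.assoc _ _ _).symm.trans (h2 =≫ _)).trans ((Category.assoc _ _ _).trans ?_)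
  refine congrArg (shf.map (projP U (pre N) (pre M)) ≫ ·) ?_
  refine ((Category.assoc _ _ _).symm.trans (h3 =≫ _)).trans ((Category.assoc _ _ _).trans ?_)
  refine congrArg (shf.map (shfU ((extP U).obj (pre M)) ▷ pre N) ≫ ·) ?_
  exact ((tR N).map_comp _ _).symm.trans ((congrArg (tR N).map h4).trans ((tR N).map_comp _ _))

lemma projTensIso_natural_right (M : ModSite.Mod (O.over U)) {N N' : ModSite.Mod O} (g : N ⟶ N') :
    (ModSite.extZero O U).map ((tL M).map ((ModSite.restr O U).map g)) ≫ (projTensIso U M N').hom =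
      (projTensIso U M N).hom ≫ (tL ((ModSite.extZero O U).obj M)).map g := by
  have h1 : (ModSite.extZero O U).map ((tL M).map ((ModSite.restr O U).map g)) ≫
      (extShfIso U).inv.app (pre M ⊗ (preR U).obj (pre N')) =
      (extShfIso U).inv.app (pre M ⊗ (preR U).obj (pre N)) ≫
        shf.map ((extP U).map (pre M ◁ (preR U).map (fgt.map g))) :=
    (extShfIso U).inv.naturality (pre M ◁ (preR U).map (fgt.map g))
  have h2 := congrArg shf.map (projP_natural_right U (pre M) (fgt.map g))
  rw [Functor.map_comp, Functor.map_comp] at h2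
  have h3 : shf.map ((extP U).obj (pre M) ◁ fgt.map g) ≫ shf.map (shfU ((extP U).obj (pre M)) ▷ pre N') =
      shf.map (shfU ((extP U).obj (pre M)) ▷ pre N) ≫ (tL (shf.obj ((extP U).obj (pre M)))).map g := by
    rw [← Functor.map_comp, whisker_exchange]
    exact Functor.map_comp _ _ _
  have h4 : (tL (shf.obj ((extP U).obj (pre M)))).map g ≫ (tR N').map (extCounit U M) =
      (tR N).map (extCounit U M) ≫ (tL ((ModSite.extZero O U).obj M)).map g := by
    change shf.map (_ ◁ fgt.map g) ≫ shf.map (fgt.map (extCounit U M) ▷ pre N') =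
      shf.map (fgt.map (extCounit U M) ▷ pre N) ≫ shf.map (_ ◁ fgt.map g)
    rw [← Functor.map_comp, ← Functor.map_comp, whisker_exchange]
  rw [projTensIso_hom, projTensIso_hom]
  refine ((Category.assoc _ _ _).symm.trans (h1 =≫ _)).trans ?_
  simp only [Category.assoc]
  refine congrArg ((extShfIso U).inv.app (pre M ⊗ (preR U).obj (pre N)) ≫ ·) ?_
  refine ((Category.assoc _ _ _).symm.trans (h2 =≫ _)).trans ((Category.assoc _ _ _).trans ?_)
  refine congrArg (shf.map (projP U (pre N) (pre M)) ≫ ·) ?_
  refine ((Category.assoc _ _ _).symm.trans (h3 =≫ _)).trans ((Category.assoc _ _ _).trans ?_)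
  exact congrArg (shf.map (shfU ((extP U).obj (pre M)) ▷ pre N) ≫ ·) h4

/-- `M ⊗ N|_U` as a bifunctor. -/
noncomputable abbrev tensRestrBi : ModSite.Mod (O.over U) ⥤ ModSite.Mod O ⥤ ModSite.Mod (O.over U) :=
  ModSite.tensorBi (O.over U) ⋙ (Functor.whiskeringLeft _ _ _).obj (ModSite.restr O U)

/-- Extension by zero detects zero objects. -/
lemma isZero_of_isZero_extZero {M : ModSite.Mod (O.over U)} (h : IsZero ((ModSite.extZero O U).obj M)) :
    IsZero M := by
  have := ((SGA45.ExtByZero.main J U (ModSite.ringSh O)).2 (ModSite.extZero O U) (ModSite.extZeroAdj O U)).2.2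
  exact (IsZero.iff_id_eq_zero M).2 ((ModSite.extZero O U).map_injective (h.eq_of_src _ _))

/-- Restriction of a K-flat complex is K-flat. -/
theorem isKFlat_restr (K : CC O) (hK : ModSite.IsKFlat K) :
    ModSite.IsKFlat (((ModSite.restr O U).mapHomologicalComplex (ComplexShape.up ℤ)).obj K) := by
  rw [isKFlat_iff]
  intro F hF
  have := extZero_preservesFiniteLimits (O := O) U
  have := (ModSite.extZeroAdj O U).isLeftAdjoint
  have : PreservesColimitsOfSize.{u, u} (ModSite.extZero O U) := (ModSite.extZeroAdj O U).leftAdjoint_preservesColimits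
  have : (ModSite.extZero O U).Additive := Functor.additive_of_preserves_binary_products _
  have : PreservesFiniteColimits (ModSite.extZero O U) := inferInstance
  have : (ModSite.extZero O U).PreservesHomology := inferInstance
  have : (ModSite.restr O U).Additive :=
    (ModSite.extZeroAdj O U).right_adjoint_additive
  have : ∀ X, ((tensRestrBi (O := O) U).obj X).PreservesZeroMorphisms := fun X => by
    exact inferInstanceAs (ModSite.restr O U ⋙ (ModSite.tensorBi (O.over U)).obj X).PreservesZeroMorphisms
  have : (tensRestrBi (O := O) U).PreservesZeroMorphisms :=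
    ⟨fun X Y => by
      apply NatTrans.ext
      funext Z
      exact congrArg (fun t : (ModSite.tensorBi (O.over U)).obj X ⟶ (ModSite.tensorBi (O.over U)).obj Y =>
        t.app ((ModSite.restr O U).obj Z)) (Functor.map_zero _ _ _)⟩
  have : HomologicalComplex.HasMapBifunctor F K (tensRestrBi (O := O) U) (ComplexShape.up ℤ) :=
    fun _ => inferInstance
  have : HomologicalComplex.HasMapBifunctor
      (((ModSite.extZero O U).mapHomologicalComplex (ComplexShape.up ℤ)).obj F)
      (((𝟭 (ModSite.Mod O)).mapHomologicalComplex (ComplexShape.up ℤ)).obj K)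
      (ModSite.tensorBi O) (ComplexShape.up ℤ) := fun _ => inferInstance
  have : ∀ n : ℤ, PreservesColimit (Discrete.functor fun p :
      ((ComplexShape.π (ComplexShape.up ℤ) (ComplexShape.up ℤ) (ComplexShape.up ℤ)) ⁻¹' {n} : Set (ℤ × ℤ)) =>
        ((tensRestrBi (O := O) U).obj (F.X p.1.1)).obj (K.X p.1.2)) (ModSite.extZero O U) :=
    fun n => inferInstance
  obtain ⟨e⟩ := nonempty_mapTotIso (tensRestrBi (O := O) U) (ModSite.tensorBi O) (ModSite.extZero O U) (𝟭 _)
    (ModSite.extZero O U) (fun X Y => (projTensIso U X Y).symm)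
    (fun {X X'} f Y => by
      refine (cancel_mono (projTensIso U X' Y).hom).1 ?_
      simp only [Iso.symm_hom, Category.assoc, Iso.inv_hom_id, Category.comp_id]
      refine Eq.trans ?_ (congrArg ((projTensIso U X Y).inv ≫ ·) (projTensIso_natural_left U f Y)).symm
      rw [Iso.inv_hom_id_assoc]
      rfl)
    (fun X {Y Y'} g => by
      refine (cancel_mono (projTensIso U X Y').hom).1 ?_
      simp only [Iso.symm_hom, Category.assoc, Iso.inv_hom_id, Category.comp_id]
      refine Eq.trans ?_ (congrArg ((projTensIso U X Y).inv ≫ ·) (projTensIso_natural_right U X g)).symm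
      rw [Iso.inv_hom_id_assoc]
      rfl)
    F K
  have hF' : (((ModSite.extZero O U).mapHomologicalComplex (ComplexShape.up ℤ)).obj F).Acyclic :=
    fun i => (hF i).map _
  have h := acyclic_of_iso e ((isKFlat_iff K).1 hK _ hF')
  intro i
  rw [HomologicalComplex.exactAt_iff_isZero_homology]
  refine isZero_of_isZero_extZero U ?_
  exact ((HomologicalComplex.exactAt_iff_isZero_homology _ _).1 (h i)).of_iso
    (((ShortComplex.mapHomologyIso _ (ModSite.extZero O U))).symm)

end Groth.Agent.Mod48
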