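import Groth.Agent.Mod48.LocGen

/-!
Local presentations of functors by morphisms out of test objects, and the criterion for a morphism to
induce an isomorphism.
-/

universe w v u v₀ u₀ v₁ u₁ t

open CategoryTheory CategoryTheory.Limits DerivedCategory

namespace Groth.Agent.Mod48

namespace LocGen

variable {C : Type u₀} [Category.{v₀} C] {J : GrothendieckTopology C} {A : Type u} [Category.{v} A] [Abelian A]

/-- A functor `H` whose sections are locally given by morphisms out of test objects `T U`. -/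
structure LocPres (G : LocGen J A) {E : Type u₁} [Category.{v₁} E] [HasZeroMorphisms E] (H : E ⥤ A) where
  /-- The test objects. -/
  T : C → E
  /-- Functoriality of the test objects. -/
  res : ∀ {V U : C}, (V ⟶ U) → (T V ⟶ T U)
  /-- The section given by a morphism out of a test object. -/
  sec : ∀ {U : C} {X : E}, (T U ⟶ X) → (G.P U ⟶ H.obj X)
  sec_comp : ∀ {U : C} {X Y : E} (x : T U ⟶ X) (f : X ⟶ Y), sec (x ≫ f) = sec x ≫ H.map f
  sec_res : ∀ {V U : C} (g : V ⟶ U) {X : E} (x : T U ⟶ X), sec (res g ≫ x) = G.r g ≫ sec x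
  surj : ∀ {U : C} {X : E} (a : G.P U ⟶ H.obj X), ∃ S ∈ J U, ∀ ⦃V : C⦄ (g : V ⟶ U), S g →
    ∃ x : T V ⟶ X, sec x = G.r g ≫ a
  inj : ∀ {U : C} {X : E} (x : T U ⟶ X), sec x = 0 → ∃ S ∈ J U, ∀ ⦃V : C⦄ (g : V ⟶ U), S g → res g ≫ x = 0

namespace LocPres

variable {G : LocGen J A} {E : Type u₁} [Category.{v₁} E] [HasZeroMorphisms E] {H : E ⥤ A}
  [H.PreservesZeroMorphisms] (Φ : G.LocPres H)

lemma sec_zero (U : C) (X : E) : Φ.sec (0 : Φ.T U ⟶ X) = 0 := by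
  rw [← comp_zero (f := (0 : Φ.T U ⟶ X)) (Z := X), Φ.sec_comp, Functor.map_zero, comp_zero]

/-- A morphism is sent to an isomorphism when, locally, it can be factored as a locally bijective map
followed by a map sent to an isomorphism. -/
theorem isIso_map {L Z : E} (b : L ⟶ Z)
    (hloc : ∀ U : C, ∃ (ι : Type t) (Y : ι → C) (g : ∀ i, Y i ⟶ U), Sieve.ofArrows Y g ∈ J U ∧
      ∀ i, ∃ (Z' : E) (a : L ⟶ Z') (τ : Z' ⟶ Z), a ≫ τ = b ∧ IsIso (H.map τ) ∧
        ∀ S ∈ J (Y i), ∃ (κ : Type t) (W : κ → C) (h : ∀ k, W k ⟶ Y i),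
          (∀ k, S.arrows (h k)) ∧ Sieve.ofArrows W h ∈ J (Y i) ∧
            ∀ k, Function.Bijective fun x : Φ.T (W k) ⟶ L => x ≫ a) :
    IsIso (H.map b) := by
  have hmono : Mono (H.map b) := by
    refine G.mono_of_sep _ fun U s hs => ?_
    obtain ⟨S₁, hS₁, hx₁⟩ := Φ.surj s
    refine G.sep s S₁ hS₁ fun V' g₁ hg₁ => ?_
    obtain ⟨x, hx⟩ := hx₁ g₁ hg₁
    obtain ⟨ι₂, Y₂, g₂, hcov₂, hmem⟩ := hloc V'
    refine G.sep_ofArrows _ Y₂ g₂ hcov₂ fun i => ?_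
    obtain ⟨Z', a, τ, hfac, hτ, hT⟩ := hmem i
    have hsec : Φ.sec ((Φ.res (g₂ i) ≫ x) ≫ a) = 0 := by
      rw [Φ.sec_comp, Φ.sec_res, hx, ← cancel_mono (H.map τ), zero_comp]
      simp only [Category.assoc]
      rw [← H.map_comp, hfac, hs, comp_zero, comp_zero]
    obtain ⟨S₃, hS₃, hz₃⟩ := Φ.inj _ hsec
    obtain ⟨κ, W, h, h₄, hcov₄, hbij⟩ := hT S₃ hS₃
    refine G.sep_ofArrows _ W h hcov₄ fun k => ?_
    have hzero : Φ.res (h k) ≫ Φ.res (g₂ i) ≫ x = 0 := by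
      refine (hbij k).1 ?_
      change (Φ.res (h k) ≫ Φ.res (g₂ i) ≫ x) ≫ a = 0 ≫ a
      rw [zero_comp, ← hz₃ (h k) (h₄ k)]
      simp only [Category.assoc]
    have h' := congrArg Φ.sec hzero
    rw [Φ.sec_res, Φ.sec_res, hx, Φ.sec_zero] at h'
    exact h'
  have hepi : Epi (H.map b) := by
    refine G.epi_of_sep _ fun U s Q q hq => ?_
    obtain ⟨ι₂, Y₂, g₂, hcov₂, hmem⟩ := hloc U
    refine G.sep_ofArrows _ Y₂ g₂ hcov₂ fun i => ?_
    obtain ⟨Z', a, τ, hfac, hτ, hT⟩ := hmem i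
    obtain ⟨S₁, hS₁, hx₁⟩ := Φ.surj (G.r (g₂ i) ≫ s ≫ inv (H.map τ))
    obtain ⟨κ, W, h, h₄, hcov₄, hbij⟩ := hT S₁ hS₁
    refine G.sep_ofArrows _ W h hcov₄ fun k => ?_
    obtain ⟨x, hx⟩ := hx₁ (h k) (h₄ k)
    obtain ⟨y, hy⟩ := (hbij k).2 x
    change y ≫ a = x at hy
    have h' : G.r (h k) ≫ G.r (g₂ i) ≫ s = Φ.sec y ≫ H.map b := by
      rw [← hfac, H.map_comp, ← Category.assoc (Φ.sec y), ← Φ.sec_comp, hy, hx]
      simp only [Category.assoc, IsIso.inv_hom_id, Category.comp_id]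
    calc G.r (h k) ≫ G.r (g₂ i) ≫ s ≫ q = (G.r (h k) ≫ G.r (g₂ i) ≫ s) ≫ q := by
          simp only [Category.assoc]
      _ = 0 := by rw [h', Category.assoc, hq, comp_zero]
  exact isIso_of_mono_of_epi _

/-- The value of the functor vanishes when, locally, the test objects map trivially. -/
theorem isZero_obj {X : E}
    (hloc : ∀ U : C, ∃ (ι : Type t) (Y : ι → C) (g : ∀ i, Y i ⟶ U), Sieve.ofArrows Y g ∈ J U ∧
      ∀ i, ∀ S ∈ J (Y i), ∃ (κ : Type t) (W : κ → C) (h : ∀ k, W k ⟶ Y i),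
          (∀ k, S.arrows (h k)) ∧ Sieve.ofArrows W h ∈ J (Y i) ∧ ∀ k, ∀ x : Φ.T (W k) ⟶ X, x = 0) :
    IsZero (H.obj X) := by
  refine G.detect fun U s => ?_
  obtain ⟨ι, Y, g, hcov, hT⟩ := hloc U
  refine G.sep_ofArrows _ Y g hcov fun i => ?_
  obtain ⟨S, hS, hx⟩ := Φ.surj (G.r (g i) ≫ s)
  obtain ⟨κ, W, h, h₄, hcov₄, hzero⟩ := hT i S hS
  refine G.sep_ofArrows _ W h hcov₄ fun k => ?_
  obtain ⟨x, hx'⟩ := hx (h k) (h₄ k)
  rw [← hx', hzero k x, Φ.sec_zero]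

end LocPres

variable [HasDerivedCategory.{w} A]

/-- Cohomology objects are locally presented by morphisms out of free objects. -/
noncomputable def homologyPres (G : LocGen J A) (m : ℤ) : G.LocPres (homologyFunctor A m) where
  T U := Pd (G.P U) m
  res g := Pm (G.r g) m
  sec x := ev x
  sec_comp x f := ev_comp x f
  sec_res := fun g _ x => ev_precomp (G.r g) x
  surj a := G.ev_locally_surjective a
  inj x hx := G.ev_locally_injective x hx

end LocGen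

end Groth.Agent.Mod48
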