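import Groth.Prelude.Def_ModSite2
import Mathlib.CategoryTheory.Sites.Point.Conservative

/-!
Locally ringed sites: covers inverting a generator, and stalks at points.
-/

universe u

open CategoryTheory Opposite

namespace Groth.Agent.Mod48

variable {C : Type u} [SmallCategory C] {J : GrothendieckTopology C} (O : Sheaf J CommRingCat.{u})

/-- Locally, `f` or `1 - f` is a unit. -/
def LocUnit : Prop :=
  ∀ (U : C) (f : O.obj.obj (op U)), ∃ S ∈ J U, ∀ ⦃V : C⦄ (g : V ⟶ U), S g →
    IsUnit ((O.obj.map g.op).hom f) ∨ IsUnit ((O.obj.map g.op).hom (1 - f))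

variable {O}

lemma map_comp_apply' {U V W : C} (h : W ⟶ V) (g : V ⟶ U) (f : O.obj.obj (op U)) :
    (O.obj.map (h ≫ g).op).hom f = (O.obj.map h.op).hom ((O.obj.map g.op).hom f) := by
  rw [op_comp, O.obj.map_comp]; rfl

/-- If a finite sum is a unit then locally some summand is a unit (or the ring is zero). -/
lemma LocUnit.sum (h : LocUnit O) {ι : Type*} (s : Finset ι) :
    ∀ (U : C) (g : ι → O.obj.obj (op U)), IsUnit (∑ i ∈ s, g i) →
      ∃ S ∈ J U, ∀ ⦃V : C⦄ (a : V ⟶ U), S a →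
        Subsingleton (O.obj.obj (op V)) ∨ ∃ i ∈ s, IsUnit ((O.obj.map a.op).hom (g i)) := by
  classical
  induction s using Finset.induction with
  | empty =>
    intro U g hg
    rw [Finset.sum_empty, isUnit_zero_iff] at hg
    refine ⟨⊤, J.top_mem U, fun V a _ => Or.inl ?_⟩
    apply subsingleton_of_zero_eq_one
    simpa using congrArg (O.obj.map a.op).hom hg
  | insert j s hj ih =>
    intro U g hg
    rw [Finset.sum_insert hj] at hg
    obtain ⟨c, hc⟩ := hg.exists_right_inv
    obtain ⟨S, hS, hS'⟩ := h U (g j * c)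
    have e : 1 - g j * c = (∑ i ∈ s, g i) * c := by
      rw [← hc]; ring
    have key : ∀ ⦃V : C⦄ (a : V ⟶ U), S a →
        ∃ T ∈ J V, ∀ ⦃W : C⦄ (b : W ⟶ V), T b →
          Subsingleton (O.obj.obj (op W)) ∨
            ∃ i ∈ insert j s, IsUnit ((O.obj.map (b ≫ a).op).hom (g i)) := by
      intro V a ha
      rcases hS' a ha with h1 | h1
      · rw [map_mul] at h1
        refine ⟨⊤, J.top_mem V, fun W b _ => Or.inr ⟨j, Finset.mem_insert_self j s, ?_⟩⟩
        rw [map_comp_apply']
        exact (isUnit_of_mul_isUnit_left h1).map _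
      · rw [e, map_mul, map_sum] at h1
        obtain ⟨T, hT, hT'⟩ := ih V (fun i => (O.obj.map a.op).hom (g i)) (isUnit_of_mul_isUnit_left h1)
        refine ⟨T, hT, fun W b hb => ?_⟩
        rcases hT' b hb with h2 | ⟨i, hi, h2⟩
        · exact Or.inl h2
        · exact Or.inr ⟨i, Finset.mem_insert_of_mem hi, by rw [map_comp_apply']; exact h2⟩
    choose T hT hT' using key
    refine ⟨Sieve.bind S fun V a ha => T a ha, J.bind_covering hS fun V a ha => hT a ha, ?_⟩
    rintro W a' ⟨V, b, a, ha, hb, rfl⟩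
    exact hT' a ha b hb

lemma LocUnit.iff_cover_inverts :
    LocUnit O ↔
    ∀ (U : C) (n : ℕ) (f : Fin n → O.obj.obj (op U)), 1 ≤ n → Ideal.span (Set.range f) = ⊤ →
        ∃ S ∈ J U, ∀ ⦃V : C⦄ (g : V ⟶ U), S g → ∃ i, IsUnit ((O.obj.map g.op).hom (f i)) := by
  constructor
  · intro h U n f hn hf
    obtain ⟨c, hc⟩ := (Ideal.mem_span_range_iff_exists_fun).1
      (show (1 : O.obj.obj (op U)) ∈ Ideal.span (Set.range f) by rw [hf]; trivial)
    obtain ⟨S, hS, hS'⟩ := h.sum Finset.univ U (fun i => c i * f i) (by rw [hc]; exact isUnit_one)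
    refine ⟨S, hS, fun V g hg => ?_⟩
    rcases hS' g hg with h1 | ⟨i, _, h1⟩
    · exact ⟨⟨0, hn⟩, isUnit_of_subsingleton _⟩
    · rw [map_mul] at h1
      exact ⟨i, isUnit_of_mul_isUnit_right h1⟩
  · intro h U f
    obtain ⟨S, hS, hS'⟩ := h U 2 ![f, 1 - f] (by omega) (by
      rw [Ideal.eq_top_iff_one, Ideal.mem_span_range_iff_exists_fun]
      exact ⟨![1, 1], by simp [Fin.sum_univ_two]⟩)
    refine ⟨S, hS, fun V g hg => ?_⟩
    obtain ⟨i, hi⟩ := hS' g hg
    fin_cases i
    · exact Or.inl hi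
    · exact Or.inr hi

theorem LocUnit.stalk (h : LocUnit O) (p : GrothendieckTopology.Point.{u} J) :
    Subsingleton (ModSite.stalkRing p O) ∨ IsLocalRing (ModSite.stalkRing p O) := by
  rcases subsingleton_or_nontrivial (ModSite.stalkRing p O) with h1 | h1
  · exact Or.inl h1
  · refine Or.inr (IsLocalRing.of_isUnit_or_isUnit_one_sub_self fun a => ?_)
    obtain ⟨X, x, f, rfl⟩ := p.toPresheafFiber_jointly_surjective (P := O.obj) a
    obtain ⟨S, hS, hS'⟩ := h X f
    obtain ⟨V, g, hg, y, rfl⟩ := p.jointly_surjective S hS x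
    have key : ∀ t : O.obj.obj (op X), IsUnit ((O.obj.map g.op).hom t) →
        IsUnit ((p.toPresheafFiber X (p.fiber.map g y) O.obj).hom t) := fun t ht => by
      rw [← p.toPresheafFiber_w_apply g y O.obj t]
      exact ht.map (p.toPresheafFiber V y O.obj).hom
    rcases hS' g hg with h2 | h2
    · exact Or.inl (key f h2)
    · refine Or.inr ?_
      have := key (1 - f) h2
      rw [map_sub, map_one] at this
      exact this

/-- If the germ of `f` is a unit then `f` is a unit near the point. -/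
lemma exists_isUnit_of_germ (p : GrothendieckTopology.Point.{u} J) {U : C} (x : p.fiber.obj U)
    (f : O.obj.obj (op U)) (hf : IsUnit ((p.toPresheafFiber U x O.obj).hom f)) :
    ∃ (V : C) (g : V ⟶ U) (y : p.fiber.obj V), p.fiber.map g y = x ∧
      IsUnit ((O.obj.map g.op).hom f) := by
  obtain ⟨b, hb⟩ := hf.exists_right_inv
  obtain ⟨W, w, r, rfl⟩ := p.toPresheafFiber_jointly_surjective (P := O.obj) b
  let Z := IsCofiltered.min (Functor.elementsMk p.fiber U x) (Functor.elementsMk p.fiber W w)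
  let gU := IsCofiltered.minToLeft (Functor.elementsMk p.fiber U x) (Functor.elementsMk p.fiber W w)
  let gW := IsCofiltered.minToRight (Functor.elementsMk p.fiber U x) (Functor.elementsMk p.fiber W w)
  have hU : (p.toPresheafFiber U x O.obj).hom f =
      (p.toPresheafFiber Z.1 Z.2 O.obj).hom ((O.obj.map gU.1.op).hom f) :=
    ((congrArg (fun t => (p.toPresheafFiber U t O.obj).hom f) gU.2).symm).trans
      (p.toPresheafFiber_w_apply gU.1 Z.2 O.obj f).symm
  have hW : (p.toPresheafFiber W w O.obj).hom r =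
      (p.toPresheafFiber Z.1 Z.2 O.obj).hom ((O.obj.map gW.1.op).hom r) :=
    ((congrArg (fun t => (p.toPresheafFiber W t O.obj).hom r) gW.2).symm).trans
      (p.toPresheafFiber_w_apply gW.1 Z.2 O.obj r).symm
  have h1 : (p.toPresheafFiber Z.1 Z.2 O.obj).hom
      ((O.obj.map gU.1.op).hom f * (O.obj.map gW.1.op).hom r) =
        (p.toPresheafFiber Z.1 Z.2 O.obj).hom 1 := by
    rw [map_mul, map_one, ← hU, ← hW]; exact hb
  obtain ⟨V, k, y, hy, hk⟩ := (p.toPresheafFiber_eq_iff' Z.1 Z.2 _ _).1 h1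
  refine ⟨V, k ≫ gU.1, y, ?_, ?_⟩
  · rw [p.fiber.map_comp]
    exact (congrArg (p.fiber.map gU.1) hy).trans gU.2
  · rw [map_comp_apply']
    refine IsUnit.of_mul_eq_one ((O.obj.map k.op).hom ((O.obj.map gW.1.op).hom r)) ?_
    rw [← map_mul]
    exact hk.trans (map_one _)

theorem locUnit_of_stalks [GrothendieckTopology.HasEnoughPoints.{u} J]
    (h : ∀ p : GrothendieckTopology.Point.{u} J,
      Subsingleton (ModSite.stalkRing p O) ∨ IsLocalRing (ModSite.stalkRing p O)) :
    LocUnit O := by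
  intro U f
  obtain ⟨P, hsmall, hP⟩ := GrothendieckTopology.HasEnoughPoints.exists_objectProperty.{u} J
  let good : ∀ V : C, (V ⟶ U) → Prop := fun V g =>
    IsUnit ((O.obj.map g.op).hom f) ∨ IsUnit ((O.obj.map g.op).hom (1 - f))
  let fam : (i : Σ V : C, {g : V ⟶ U // good V g}) → (i.1 ⟶ U) := fun i => i.2.1
  refine ⟨Sieve.ofArrows _ fam, (hP.jointly_reflect_ofArrows_mem fam).2 fun Φ x => ?_, ?_⟩
  · have : IsUnit ((Φ.obj.toPresheafFiber U x O.obj).hom f) ∨
        IsUnit ((Φ.obj.toPresheafFiber U x O.obj).hom (1 - f)) := by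
      rcases h Φ.obj with h1 | h1
      · exact Or.inl (@isUnit_of_subsingleton _ _ h1 _)
      · rw [map_sub, map_one]
        exact @IsLocalRing.isUnit_or_isUnit_one_sub_self _ _ h1 _
    rcases this with h2 | h2
    · obtain ⟨V, g, y, hy, hu⟩ := exists_isUnit_of_germ Φ.obj x f h2
      exact ⟨⟨V, g, Or.inl hu⟩, y, hy⟩
    · obtain ⟨V, g, y, hy, hu⟩ := exists_isUnit_of_germ Φ.obj x (1 - f) h2
      exact ⟨⟨V, g, Or.inr hu⟩, y, hy⟩
  · rintro V g ⟨Z, a, b, ⟨i⟩, rfl⟩
    rw [map_comp_apply', map_comp_apply']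
    exact i.2.2.imp (fun h => h.map _) (fun h => h.map _)

end Groth.Agent.Mod48
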