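import Groth.Agent.Mod48.RingPullback
import Mathlib.CategoryTheory.Sites.Subsheaf
import Mathlib.CategoryTheory.Sites.LocallySurjective
import Mathlib.CategoryTheory.Limits.Preserves.Shapes.Equalizers

/-!
The inverse image of a locally ringed structure sheaf is locally ringed.
-/

universe u

open CategoryTheory CategoryTheory.Limits Opposite

namespace Groth.Agent.Mod48.RingPullback

open SiteCoh.TypeExact (evS evF pt subsingleton_terminal hom_ext_app congr_app_apply
  mkPair mkPair_fst mkPair_snd eq_mkPair adjT)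

lemma exists_equalizer_lift {E : Type*} [Category E] (G : E ⥤ Type u) {X Y : E} (f g : X ⟶ Y)
    [HasEqualizer f g] [PreservesLimit (parallelPair f g) G] (x : G.obj X)
    (h : G.map f x = G.map g x) :
    ∃ e : G.obj (equalizer f g), G.map (equalizer.ι f g) e = x := by
  obtain ⟨l, hl⟩ := Fork.IsLimit.lift' (isLimitOfHasEqualizerOfPreservesLimit G f g)
    (↾fun _ : PUnit.{u + 1} => x) (by ext _; exact h)
  exact ⟨l PUnit.unit, ConcreteCategory.congr_hom hl PUnit.unit⟩

variable {C D : Type u} [SmallCategory C] [SmallCategory D] {J : GrothendieckTopology C}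
  {K : GrothendieckTopology D} {u : D ⥤ C} [u.IsContinuous K J]
  [hu : PreservesFiniteLimits (u.sheafPullback (Type u) K J)] {R : Sheaf K CommRingCat.{u}}

omit hu in
lemma ev_map {Y : Sheaf K (Type u)} (f : Y ⟶ uR R) (V : Dᵒᵖ) (y : Y.obj.obj V) :
    (evS K V).map f y = el f V y := rfl

/-- Pairs of inverse elements. -/
noncomputable abbrev invPairs (R : Sheaf K CommRingCat.{u}) : Sheaf K (Type u) :=
  equalizer (prod.fst * prod.snd : uR R ⨯ uR R ⟶ uR R) 1

variable (R) in
/-- The first of a pair of inverse elements. -/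
noncomputable def unitA : invPairs R ⟶ uR R :=
  equalizer.ι (prod.fst * prod.snd : uR R ⨯ uR R ⟶ uR R) 1 ≫ prod.fst

variable (R) in
/-- The second of a pair of inverse elements. -/
noncomputable def unitB : invPairs R ⟶ uR R :=
  equalizer.ι (prod.fst * prod.snd : uR R ⨯ uR R ⟶ uR R) 1 ≫ prod.snd

lemma unitA_mul_unitB : unitA R * unitB R = 1 := by
  rw [unitA, unitB, ← comp_mul, equalizer.condition, comp_one]

lemma exists_el_unitA {V : Dᵒᵖ} {a : R.obj.obj V} (ha : IsUnit a) :
    ∃ e, el (unitA R) V e = a := by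
  obtain ⟨b, hb⟩ := ha.exists_right_inv
  let p := mkPair (evS K V) (uR R) (uR R) a b
  have h1 : el (prod.fst : uR R ⨯ uR R ⟶ uR R) V p = a := mkPair_fst (evS K V) (uR R) (uR R) a b
  have h2 : el (prod.snd : uR R ⨯ uR R ⟶ uR R) V p = b := mkPair_snd (evS K V) (uR R) (uR R) a b
  have h3 : el (prod.fst * prod.snd : uR R ⨯ uR R ⟶ uR R) V p = el 1 V p := by
    rw [el_mul, el_one, h1, h2, hb]
  obtain ⟨e, he⟩ := exists_equalizer_lift (evS K V) (prod.fst * prod.snd : uR R ⨯ uR R ⟶ uR R) 1 p
    ((ev_map _ V p).trans (h3.trans (ev_map _ V p).symm))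
  exact ⟨e, (congrArg (el (prod.fst : uR R ⨯ uR R ⟶ uR R) V) he).trans h1⟩

variable (R) in
/-- `a` or `1 - a`, for a unit `a`. -/
noncomputable def unitDesc : invPairs R ⨿ invPairs R ⟶ uR R :=
  coprod.desc (unitA R) (1 - unitA R)

lemma el_sub {Y : Sheaf K (Type u)} (f g : Y ⟶ uR R) (V : Dᵒᵖ) (y : Y.obj.obj V) :
    el (f - g) V y = el f V y - el g V y := by
  rw [sub_eq_add_neg, el_add, el_neg, sub_eq_add_neg]

lemma epi_unitDesc (hR : ModSite.IsLocallyRinged K R) : Epi (unitDesc R) := by
  rw [← Sheaf.isLocallySurjective_iff_epi]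
  refine ⟨fun {V} s => ?_⟩
  obtain ⟨S, hS, hS'⟩ := hR.1 V s
  refine K.superset_covering (fun W g hg => ?_) hS
  rcases hS' g hg with h | h
  · obtain ⟨e, he⟩ := exists_el_unitA h
    exact ⟨(coprod.inl : invPairs R ⟶ invPairs R ⨿ invPairs R).hom.app (op W) e,
      (congr_app_apply (coprod.inl_desc (unitA R) (1 - unitA R)) (op W) e).trans he⟩
  · obtain ⟨e, he⟩ := exists_el_unitA h
    refine ⟨(coprod.inr : invPairs R ⟶ invPairs R ⨿ invPairs R).hom.app (op W) e,
      (congr_app_apply (coprod.inr_desc (unitA R) (1 - unitA R)) (op W) e).trans ?_⟩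
    refine (el_sub _ _ _ _).trans ?_
    rw [he, el_one]
    let s' : R.obj.obj (op V) := s
    refine (congrArg (1 - ·) ((map_sub (R.obj.map g.op).hom 1 s').trans
      (congrArg (· - (R.obj.map g.op).hom s') (map_one _)))).trans ?_
    exact sub_sub_cancel (1 : R.obj.obj (op W)) ((R.obj.map g.op).hom s')

lemma app_sub {U : Cᵒᵖ} {Y : Sheaf K (Type u)} (f g : Y ⟶ uR R) (w : (evF J K u U).obj Y) :
    app (f - g) w = app f w - app g w := by
  rw [sub_eq_add_neg, app_add, app_neg, sub_eq_add_neg]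

variable (J u R) in
/-- Sections which are, or have complement, a unit. -/
def unitOr : Subfunctor ((u.sheafPullback (Type u) K J).obj (uR R)).obj where
  obj U := {x | let x' : Sec J K u R U := x; IsUnit x' ∨ IsUnit (1 - x')}
  map {U V} r x hx := by
    rcases hx with h | h
    · exact Or.inl (h.map (resHom J K u R r))
    · refine Or.inr ?_
      have h' := h.map (resHom J K u R r)
      let x' : Sec J K u R U := x
      exact ((map_sub (resHom J K u R r) 1 x').trans
        (congrArg (· - resHom J K u R r x') (map_one _))) ▸ h'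

variable (J u R) in
/-- The sheaf of sections which are locally units or have unit complement. -/
noncomputable def unitOrSheaf : Sheaf J (Type u) :=
  ⟨((unitOr J u R).sheafify J).toFunctor, (isSheaf_iff_isSheaf_of_type J _).2
    (Subfunctor.sheafify_isSheaf _
      ((isSheaf_iff_isSheaf_of_type J _).1 ((u.sheafPullback (Type u) K J).obj (uR R)).property))⟩

variable (J u R) in
/-- Its inclusion. -/
noncomputable def unitOrι : unitOrSheaf J u R ⟶ (u.sheafPullback (Type u) K J).obj (uR R) :=
  ⟨((unitOr J u R).sheafify J).ι⟩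

lemma exists_lift_unitOr {Y : Sheaf K (Type u)} (m : Y ⟶ uR R)
    (h : ∀ (U : Cᵒᵖ) (w : (evF J K u U).obj Y), IsUnit (app m w) ∨ IsUnit (1 - app m w)) :
    ∃ g : (u.sheafPullback (Type u) K J).obj Y ⟶ unitOrSheaf J u R,
      g ≫ unitOrι J u R = (u.sheafPullback (Type u) K J).map m :=
  ⟨⟨Subfunctor.lift ((u.sheafPullback (Type u) K J).map m).hom (by
      rintro U x ⟨w, rfl⟩
      exact Subfunctor.le_sheafify J _ U (h U w))⟩, rfl⟩

lemma epi_unitOrι (hR : ModSite.IsLocallyRinged K R) : Epi (unitOrι J u R) := by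
  have := epi_unitDesc hR
  refine ⟨fun {Z} α β h => (adjT.homEquiv _ _).injective ?_⟩
  have hm : ∀ {Y : Sheaf K (Type u)} (m : Y ⟶ uR R),
      (∀ (U : Cᵒᵖ) (w : (evF J K u U).obj Y), IsUnit (app m w) ∨ IsUnit (1 - app m w)) →
      m ≫ adjT.homEquiv _ _ α = m ≫ adjT.homEquiv _ _ β := fun {Y} m hm => by
    obtain ⟨g, hg⟩ := exists_lift_unitOr m hm
    rw [← Adjunction.homEquiv_naturality_left, ← Adjunction.homEquiv_naturality_left, ← hg,
      Category.assoc, Category.assoc, h]
  have hu1 : ∀ (U : Cᵒᵖ) (w : (evF J K u U).obj (invPairs R)), IsUnit (app (unitA R) w) := fun U w =>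
    IsUnit.of_mul_eq_one (app (unitB R) w) (by rw [← app_mul, unitA_mul_unitB, app_one])
  rw [← cancel_epi (unitDesc R)]
  apply coprod.hom_ext
  · rw [unitDesc, coprod.inl_desc_assoc, coprod.inl_desc_assoc]
    exact hm (unitA R) fun U w => Or.inl (hu1 U w)
  · rw [unitDesc, coprod.inr_desc_assoc, coprod.inr_desc_assoc]
    refine hm (1 - unitA R) fun U w => Or.inr ?_
    rw [app_sub, app_one, sub_sub_cancel]
    exact hu1 U w

/-- Part (a) for the inverse image computed on sets. -/
theorem locUnit_ringPull (hR : ModSite.IsLocallyRinged K R) (U : C) (x : Sec J K u R (op U)) :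
    ∃ S ∈ J U, ∀ ⦃V : C⦄ (g : V ⟶ U), S g → IsUnit (res g.op x) ∨ IsUnit (1 - res g.op x) := by
  have := epi_unitOrι (J := J) (u := u) hR
  have hls : Sheaf.IsLocallySurjective (unitOrι J u R) := (Sheaf.isLocallySurjective_iff_epi _).2 this
  have hF := (isSheaf_iff_isSheaf_of_type J _).1 ((u.sheafPullback (Type u) K J).obj (uR R)).property
  refine ⟨(unitOr J u R).sieveOfSection (U := op U) x, ?_, fun V g hg => hg⟩
  refine (Subfunctor.isSheaf_iff _ hF).1 (Subfunctor.sheafify_isSheaf _ hF) (op U) x ?_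
  refine J.superset_covering ?_ (hls.imageSieve_mem x)
  rintro V g ⟨t, ht⟩
  exact (congrArg (fun z => z ∈ ((unitOr J u R).sheafify J).obj (op V)) ht).mp t.2

/-- An empty sheaf. -/
noncomputable abbrev emptySheaf (J : GrothendieckTopology C) : Sheaf J (Type u) :=
  (presheafToSheaf J (Type u)).obj ((Functor.const Cᵒᵖ).obj PEmpty)

lemma bot_mem_of_emptySheaf {U : C} (t : (emptySheaf J).obj.obj (op U)) : (⊥ : Sieve U) ∈ J U := by
  refine J.superset_covering ?_
    (Presheaf.imageSieve_mem J (toSheafify J ((Functor.const Cᵒᵖ).obj PEmpty.{u + 1})) t)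
  rintro V g ⟨x, -⟩
  exact PEmpty.elim x

variable (R) in
/-- Where `0 = 1`. -/
noncomputable abbrev zeroOne : Sheaf K (Type u) :=
  equalizer (0 : (⊤_ Sheaf K (Type u)) ⟶ uR R) 1

lemma bot_mem_of_zeroOne (hR : ModSite.IsLocallyRinged K R) {V : Dᵒᵖ} (e : (zeroOne R).obj.obj V) :
    (⊥ : Sieve V.unop) ∈ K V.unop :=
  hR.2 V.unop (congr_app_apply (equalizer.condition (0 : (⊤_ Sheaf K (Type u)) ⟶ uR R) 1) V e)

lemma subsingleton_push_of_bot (B : Sheaf J (Type u)) {V : D} (h : (⊥ : Sieve V) ∈ K V) :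
    ∃! _x : B.obj.obj (op (u.obj V)), True := by
  have hs := (isSheaf_iff_isSheaf_of_type K _).1
    ((u.sheafPushforwardContinuous (Type u) K J).obj B).property ⊥ h
    (fun W g hg => False.elim hg) (fun W₁ W₂ Z g₁ g₂ f₁ f₂ h₁ => False.elim h₁)
  obtain ⟨t, -, huniq⟩ := hs
  exact ⟨t, trivial, fun y _ => huniq y (fun W g hg => False.elim hg)⟩

/-- The map to the empty sheaf. -/
lemma exists_zeroOne_hom (hR : ModSite.IsLocallyRinged K R) :
    Nonempty (zeroOne R ⟶ (u.sheafPushforwardContinuous (Type u) K J).obj (emptySheaf J)) := by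
  refine ⟨⟨{ app := fun V => ↾fun e =>
      (subsingleton_push_of_bot (emptySheaf J) (bot_mem_of_zeroOne hR e)).choose
             naturality := fun V W r => ?_ }⟩⟩
  ext e
  exact (subsingleton_push_of_bot (emptySheaf J)
    (bot_mem_of_zeroOne hR ((zeroOne R).obj.map r e))).unique trivial trivial

/-- Part (b) for the inverse image computed on sets. -/
theorem bot_mem_ringPull (hR : ModSite.IsLocallyRinged K R) (U : C)
    (h : (0 : Sec J K u R (op U)) = 1) : (⊥ : Sieve U) ∈ J U := by
  obtain ⟨e, -⟩ := exists_equalizer_lift (evF J K u (op U)) (0 : (⊤_ Sheaf K (Type u)) ⟶ uR R) 1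
    (pt J K u (op U)) h
  obtain ⟨g⟩ := exists_zeroOne_hom (J := J) (u := u) hR
  exact bot_mem_of_emptySheaf (((adjT.homEquiv _ _).symm g).hom.app (op U) e)

lemma map_sub_one {A B : CommRingCat.{u}} (φ : A ⟶ B) (a : A) : φ.hom (1 - a) = 1 - φ.hom a := by
  rw [map_sub, map_one]

/-- The inverse image of a locally ringed structure sheaf is locally ringed. -/
theorem isLocallyRinged_sheafPullback (hR : ModSite.IsLocallyRinged K R) :
    ModSite.IsLocallyRinged J ((u.sheafPullback CommRingCat.{u} K J).obj R) := by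
  let e := ringPullIso J K u R
  refine ⟨fun U t => ?_, fun U h => ?_⟩
  · obtain ⟨S, hS, hS'⟩ := locUnit_ringPull hR U ((e.hom.hom.app (op U)).hom t)
    refine ⟨S, hS, fun V g hg => ?_⟩
    have hn : res g.op ((e.hom.hom.app (op U)).hom t) =
        (e.hom.hom.app (op V)).hom ((((u.sheafPullback CommRingCat.{u} K J).obj R).obj.map g.op).hom t) :=
      (ConcreteCategory.congr_hom (e.hom.hom.naturality g.op) t).symm
    have hinv : ∀ s, (e.inv.hom.app (op V)).hom ((e.hom.hom.app (op V)).hom s) = s := fun s =>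
      congrArg (fun φ : _ ⟶ (u.sheafPullback CommRingCat.{u} K J).obj R => (φ.hom.app (op V)).hom s)
        e.hom_inv_id
    rcases hS' g hg with h | h
    · refine Or.inl ?_
      have h' := (congrArg IsUnit hn).mp h
      exact (congrArg IsUnit (hinv _)).mp (h'.map (e.inv.hom.app (op V)).hom)
    · refine Or.inr ?_
      rw [map_sub, map_one]
      have h' : IsUnit ((e.hom.hom.app (op V)).hom
          (1 - (((u.sheafPullback CommRingCat.{u} K J).obj R).obj.map g.op).hom t)) := by
        refine (congrArg IsUnit ?_).mp h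
        rw [hn]
        exact (map_sub_one (e.hom.hom.app (op V)) _).symm
      exact (congrArg IsUnit (hinv _)).mp (h'.map (e.inv.hom.app (op V)).hom)
  · refine bot_mem_ringPull (J := J) (u := u) hR U ?_
    have h' := congrArg (e.hom.hom.app (op U)).hom h
    rw [map_zero, map_one] at h'
    exact h'

end Groth.Agent.Mod48.RingPullback
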