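import Groth.Agent.Mod48.LocalLift
import Groth.Agent.Mod48.ModGen
import Mathlib.Algebra.Homology.HomotopyCategory.MappingCone
import Mathlib.Algebra.Homology.DerivedCategory.HomologySequence

/-!
Local lifting up to homotopy of maps out of strictly perfect complexes.
-/

universe u

open CategoryTheory CategoryTheory.Limits Opposite

namespace Groth.Agent.Mod48

open SiteMod

set_option backward.isDefEq.respectTransparency false

variable {C : Type u} [SmallCategory C] {J : GrothendieckTopology C} {O : Sheaf J CommRingCat.{u}}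

/-- Sums of functions of direct summands of finite free modules. -/
lemma exists_coord {E : ModSite.Mod O} (hE : DCoh.IsFinFreeSummandMod (ModSite.ringSh O) E) :
    ∃ (n : ℕ) (q : Fin n → (E ⟶ ModSite.unit O)) (e : Fin n → (ModSite.unit O ⟶ E)),
      ∑ j, q j ≫ e j = 𝟙 E := by
  classical
  obtain ⟨n, inc, pr, hip⟩ := hE
  let ι := ULift.{u} (Fin n)
  let π : Fin n → (SheafOfModules.free (R := ModSite.ringSh O) ι ⟶ ModSite.unit O) :=
    fun j => Sigma.desc fun k => if k.down = j then 𝟙 _ else 0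
  let c : Fin n → (ModSite.unit O ⟶ SheafOfModules.free (R := ModSite.ringSh O) ι) :=
    fun j => Sigma.ι (fun _ : ι => ModSite.unit O) ⟨j⟩
  have hid : ∑ j, π j ≫ c j = 𝟙 _ := by
    refine Sigma.hom_ext _ _ fun k => ?_
    refine ((Preadditive.comp_sum _ _ _).trans ?_).trans (Category.comp_id _).symm
    rw [Finset.sum_eq_single k.down]
    · obtain ⟨k⟩ := k
      simp [π, c]
    · intro j _ hj
      simp [π, c, Ne.symm hj]
    · simp
  refine ⟨n, fun j => inc ≫ π j, fun j => c j ≫ pr, ?_⟩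
  calc ∑ j, (inc ≫ π j) ≫ c j ≫ pr = ∑ j, inc ≫ (π j ≫ c j) ≫ pr :=
        Finset.sum_congr rfl fun j _ => by simp only [Category.assoc]
    _ = inc ≫ (∑ j, π j ≫ c j) ≫ pr := by rw [Preadditive.sum_comp, Preadditive.comp_sum]
    _ = 𝟙 E := (congrArg (fun t => inc ≫ t ≫ pr) hid).trans ((congrArg (inc ≫ ·) (Category.id_comp pr)).trans hip)

section Values

variable {E M N : ModSite.Mod O}

/-- The value of a function at a section. -/
noncomputable abbrev coef (q : E ⟶ ModSite.unit O) {W : C} (x : (pre E).obj (op W)) : O.obj.obj (op W) :=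
  (fgt.map q).app (op W) x

/-- The value at `1` of a map out of the structure sheaf. -/
noncomputable abbrev basis (e : ModSite.unit O ⟶ E) (W : C) : (pre E).obj (op W) :=
  (fgt.map e).app (op W) (1 : O.obj.obj (op W))

lemma res_basis (e : ModSite.unit O ⟶ E) {W W' : C} (h : W' ⟶ W) :
    res (pre E) h.op (basis e W) = basis e W' :=
  (app_res (fgt.map e) h.op (1 : O.obj.obj (op W))).symm.trans
    (congrArg ((fgt.map e).app (op W')) (map_one (O.obj.map h.op).hom))

lemma coef_res (q : E ⟶ ModSite.unit O) {W W' : C} (h : W' ⟶ W) (x : (pre E).obj (op W)) :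
    coef q (res (pre E) h.op x) = (O.obj.map h.op).hom (coef q x) :=
  app_res (fgt.map q) h.op x

variable {n : ℕ} (q : Fin n → (E ⟶ ModSite.unit O)) (e : Fin n → (ModSite.unit O ⟶ E))

lemma expand (he : ∑ j, q j ≫ e j = 𝟙 E) {W : C} (x : (pre E).obj (op W)) :
    x = ∑ j, coef (q j) x • basis (e j) W := by
  let φ : (E ⟶ E) →+ (pre E).obj (op W) :=
    AddMonoidHom.mk' (fun a => (fgt.map a).app (op W) x) (fun a b => rfl)
  have h := congrArg φ he
  rw [map_sum] at h
  refine (h.trans ?_).symm.trans (Finset.sum_congr rfl fun j _ => ?_)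
  · rfl
  · change (fgt.map (e j)).app (op W) (coef (q j) x) = coef (q j) x • basis (e j) W
    rw [basis, ← map_smul]
    exact congrArg ((fgt.map (e j)).app (op W)) (mul_one (M := O.obj.obj (op W)) _).symm

/-- The combination of given sections. -/
noncomputable def Lv {W : C} (σ : Fin n → (pre M).obj (op W)) :
    (pre E).obj (op W) →ₗ[O.obj.obj (op W)] (pre M).obj (op W) where
  toFun x := ∑ i, coef (q i) x • σ i
  map_add' x y := by simp [coef, map_add, add_smul, Finset.sum_add_distrib]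
  map_smul' r x := by
    simp only [coef, map_smul, RingHom.id_apply, Finset.smul_sum, smul_smul]
    rfl

lemma Lv_res {W W' : C} (h : W' ⟶ W) (σ : Fin n → (pre M).obj (op W)) (x : (pre E).obj (op W)) :
    Lv q (fun i => res (pre M) h.op (σ i)) (res (pre E) h.op x) = res (pre M) h.op (Lv q σ x) := by
  change (∑ i, coef (q i) (res (pre E) h.op x) • res (pre M) h.op (σ i) : (pre M).obj (op W')) =
    res (pre M) h.op (∑ i, coef (q i) x • σ i)
  have h2 : res (pre M) h.op (∑ i, coef (q i) x • σ i) = ∑ i, res (pre M) h.op (coef (q i) x • σ i) :=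
    map_sum ((pre M).map h.op).hom _ _
  rw [h2]
  simp only [coef_res, Mod48.res_smul]

lemma Lv_app (p : M ⟶ N) {W : C} (σ : Fin n → (pre M).obj (op W)) (x : (pre E).obj (op W)) :
    (fgt.map p).app (op W) (Lv q σ x) = Lv q (fun i => (fgt.map p).app (op W) (σ i)) x :=
  ((map_sum ((fgt.map p).app (op W)).hom (fun i => coef (q i) x • σ i) Finset.univ).trans
    (Finset.sum_congr rfl fun i _ => ((fgt.map p).app (op W)).hom.map_smul (coef (q i) x) (σ i)) :)

/-- The map with given values. -/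
noncomputable def Lhom {W : C} [(ModSite.restr O W).Additive] (σ : Fin n → (pre M).obj (op W)) :
    (ModSite.restr O W).obj E ⟶ (ModSite.restr O W).obj M :=
  ∑ i, (ModSite.restr O W).map (q i) ≫ restrUnitHom M (σ i)

lemma Lhom_app {W : C} [(ModSite.restr O W).Additive] (σ : Fin n → (pre M).obj (op W)) (T : Over W)
    (x : (pre E).obj (op T.left)) :
    (fgt.map (Lhom q σ)).app (op T) x = Lv q (fun i => res (pre M) T.hom.op (σ i)) x := by
  let φ : ((ModSite.restr O W).obj E ⟶ (ModSite.restr O W).obj M) →+ (pre M).obj (op T.left) :=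
    AddMonoidHom.mk' (fun a => (fgt.map a).app (op T) x) (fun a b => rfl)
  refine ((map_sum φ _ _).trans ?_)
  exact Finset.sum_congr rfl fun i _ => rfl

end Values

/-- Sections killed by the second map of an exact sequence come locally from the first term. -/
lemma exists_local_preimage {S : ShortComplex (ModSite.Mod O)} (hS : S.Exact) {W : C}
    (z : (pre S.X₂).obj (op W)) (hz : (fgt.map S.g).app (op W) z = 0) :
    ∃ T ∈ J W, ∀ ⦃W' : C⦄ (h : W' ⟶ W), T h →
      ∃ t : (pre S.X₁).obj (op W'), (fgt.map S.f).app (op W') t = res (pre S.X₂) h.op z := by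
  let φ := (freeOnEquiv W S.X₂).symm z
  have hφ : φ ≫ S.g = 0 := by
    apply (freeOnEquiv W S.X₃).injective
    rw [freeOnEquiv_comp, Equiv.apply_symm_apply, freeOnEquiv_zero]
    exact hz
  let c : (pre S.cycles).obj (op W) := freeOnEquiv W S.cycles (S.liftCycles φ hφ)
  have hc : (fgt.map S.iCycles).app (op W) c = z := by
    refine (freeOnEquiv_comp W _ S.iCycles).symm.trans ?_
    rw [ShortComplex.liftCycles_i, Equiv.apply_symm_apply]
  have := toSheaf_preservesColimits (O := O)
  have : PreservesFiniteColimits (SheafOfModules.toSheaf.{u} (ModSite.ringSh O)) :=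
    PreservesColimitsOfSize.preservesFiniteColimits _
  have := hS.epi_toCycles
  obtain ⟨T, hT⟩ := SiteCoh.exists_local_lift ((SheafOfModules.toSheaf (ModSite.ringSh O)).map S.toCycles) c
  refine ⟨T.1, T.2, fun W' h hh => ?_⟩
  obtain ⟨t, ht⟩ := hT ⟨W', h, hh⟩
  refine ⟨t, ?_⟩
  rw [← hc, ← app_res, ← S.toCycles_i, Functor.map_comp]
  exact congrArg ((fgt.map S.iCycles).app (op W')) ht

section Induction

variable {E D : CochainComplex (ModSite.Mod O) ℤ} (γ : E ⟶ D) {n : ℤ → ℕ}
  (q : ∀ m, Fin (n m) → (E.X m ⟶ ModSite.unit O)) (e : ∀ m, Fin (n m) → (ModSite.unit O ⟶ E.X m))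

/-- Local data of a contraction: values at the generators. -/
abbrev HData (W : C) : Type u := ∀ m : ℤ, Fin (n (m + 1)) → (pre (D.X m)).obj (op W)

/-- The contraction equation in degree `m + 1`. -/
def HEq {W : C} (σ : HData (D := D) (n := n) W) (m : ℤ) : Prop :=
  ∀ ⦃W' : C⦄ (h : W' ⟶ W) (x : (pre (E.X (m + 1))).obj (op W')),
    (fgt.map (γ.f (m + 1))).app (op W') x =
      (fgt.map (D.d m (m + 1))).app (op W') (Lv (q (m + 1)) (fun i => res (pre (D.X m)) h.op (σ m i)) x) +
        Lv (q (m + 1 + 1)) (fun i => res (pre (D.X (m + 1))) h.op (σ (m + 1) i))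
          ((fgt.map (E.d (m + 1) (m + 1 + 1))).app (op W') x)

variable {γ q}

lemma HEq.restrict {W : C} {σ : HData (D := D) (n := n) W} {m : ℤ} (hσ : HEq γ q σ m) {W' : C} (g : W' ⟶ W) :
    HEq γ q (fun k i => res (pre (D.X k)) g.op (σ k i)) m := by
  intro W'' h x
  simp only [res_res, ← op_comp]
  exact hσ (h ≫ g) x

variable (γ q)

lemma exists_contraction (he : ∀ m, ∑ j, q m j ≫ e m j = 𝟙 (E.X m)) (a b : ℤ)
    (hEa : ∀ j : ℤ, j < a → IsZero (E.X j)) (hEb : ∀ j : ℤ, b < j → IsZero (E.X j))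
    (hD : ∀ j : ℤ, a ≤ j → D.ExactAt j) (V : C) :
    ∀ N : ℕ, ∃ R ∈ J V, ∀ ⦃W : C⦄ (g : W ⟶ V), R g →
      ∃ σ : HData (D := D) (n := n) W, ∀ m : ℤ, b - (N : ℤ) ≤ m → HEq γ q σ m := by
  have hzero : ∀ (k : ℤ), IsZero (E.X k) → ∀ {W : C} (x : (pre (E.X k)).obj (op W)), x = 0 := fun k hk {W} x => by
    change (fgt.map (𝟙 (E.X k))).app (op W) x = 0
    rw [hk.eq_of_src (𝟙 (E.X k)) 0]
    rfl
  intro N
  induction N with
  | zero =>
    refine ⟨⊤, J.top_mem V, fun W g _ => ⟨fun _ _ => 0, fun m hm W' h x => ?_⟩⟩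
    rw [hzero (m + 1) (hEb _ (by omega)) x]
    simp only [map_zero, add_zero]
  | succ N ih =>
    obtain ⟨R, hR, hRσ⟩ := ih
    let m₀ : ℤ := b - ((N : ℤ) + 1)
    by_cases hlt : m₀ + 1 < a
    · refine ⟨R, hR, fun W g hg => ?_⟩
      obtain ⟨σ, hσ⟩ := hRσ g hg
      refine ⟨σ, fun m hm => ?_⟩
      by_cases h : b - (N : ℤ) ≤ m
      · exact hσ m h
      · intro W' h' x
        rw [hzero (m + 1) (hEa _ (by push_cast at hm h; omega)) x]
        simp only [map_zero, add_zero]
    choose σ hσ using hRσ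
    have hex : D.ExactAt (m₀ + 1) := hD _ (by omega)
    have hd : ∀ (W : C) (g : W ⟶ V) (hg : R g) (j : Fin (n (m₀ + 1))),
        ∃ S ∈ J W, ∀ ⦃W' : C⦄ (h : W' ⟶ W), S h → ∃ t : (pre (D.X m₀)).obj (op W'),
          (fgt.map (D.d m₀ (m₀ + 1))).app (op W') t = res (pre (D.X (m₀ + 1))) h.op
            ((fgt.map (γ.f (m₀ + 1))).app (op W) (basis (e _ j) W) -
              Lv (q (m₀ + 1 + 1)) (σ g hg (m₀ + 1))
                ((fgt.map (E.d (m₀ + 1) (m₀ + 1 + 1))).app (op W) (basis (e _ j) W))) := by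
      intro W g hg j
      let z := (fgt.map (E.d (m₀ + 1) (m₀ + 1 + 1))).app (op W) (basis (e _ j) W)
      have h1 : (fgt.map (D.d (m₀ + 1) (m₀ + 1 + 1))).app (op W)
          ((fgt.map (γ.f (m₀ + 1))).app (op W) (basis (e _ j) W) - Lv (q (m₀ + 1 + 1)) (σ g hg (m₀ + 1)) z) = 0 := by
        have h2 := hσ g hg (m₀ + 1) (by omega) (𝟙 W) z
        have hdd : (fgt.map (E.d (m₀ + 1 + 1) (m₀ + 1 + 1 + 1))).app (op W) z = 0 :=
          (congrArg (fun t : E.X (m₀ + 1) ⟶ E.X (m₀ + 1 + 1 + 1) => (fgt.map t).app (op W) (basis (e _ j) W))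
            (E.d_comp_d _ _ _)).trans rfl
        rw [hdd, map_zero, add_zero] at h2
        have hid : ∀ (M : PreM O) (y : M.obj (op W)), res M (𝟙 W).op y = y := fun M y =>
          congr($(M.map_id (op W)) y)
        simp only [hid] at h2
        rw [map_sub, sub_eq_zero, ← h2]
        exact congrArg (fun t : E.X (m₀ + 1) ⟶ D.X (m₀ + 1 + 1) => (fgt.map t).app (op W) (basis (e _ j) W))
          (γ.comm (m₀ + 1) (m₀ + 1 + 1))
      exact exists_local_preimage
        ((D.exactAt_iff' m₀ (m₀ + 1) (m₀ + 1 + 1) (by simp) (by simp)).1 hex) _ h1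
    choose S hS ht using hd
    refine ⟨Sieve.bind R.1 fun W g hg => Finset.univ.inf (S W g hg), J.bind_covering hR fun W g hg =>
      Finset.inf_induction (J.top_mem W) (fun x hx y hy => J.intersection_covering hx hy)
        (fun j _ => hS W g hg j), ?_⟩
    rintro W' _ ⟨W, h, g, hg, hh, rfl⟩
    choose t ht' using fun j => ht W g hg j h
      ((Finset.inf_le (f := S W g hg) (Finset.mem_univ j)) _ hh)
    let τ : HData (D := D) (n := n) W' :=
      Function.update (fun k i => res (pre (D.X k)) h.op (σ g hg k i)) m₀ t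
    have hτ₀ : τ m₀ = t := Function.update_self _ _ _
    have hτ : ∀ k, k ≠ m₀ → τ k = fun i => res (pre (D.X k)) h.op (σ g hg k i) :=
      fun k hk => Function.update_of_ne hk _ _
    refine ⟨τ, fun m hm => ?_⟩
    rcases eq_or_ne m m₀ with rfl | hne
    · intro W'' k x
      rw [hτ₀, hτ (m₀ + 1) (by omega)]
      simp only [res_res, ← op_comp]
      let y : Fin (n (m₀ + 1)) → (pre (D.X (m₀ + 1))).obj (op W) := fun j =>
        (fgt.map (γ.f (m₀ + 1))).app (op W) (basis (e _ j) W) -
          Lv (q (m₀ + 1 + 1)) (σ g hg (m₀ + 1))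
            ((fgt.map (E.d (m₀ + 1) (m₀ + 1 + 1))).app (op W) (basis (e _ j) W))
      let A : (pre (E.X (m₀ + 1))).obj (op W'') → (pre (D.X (m₀ + 1))).obj (op W'') :=
        fun z => (fgt.map (γ.f (m₀ + 1))).app (op W'') z
      let B : (pre (E.X (m₀ + 1))).obj (op W'') → (pre (D.X (m₀ + 1))).obj (op W'') := fun z =>
        Lv (q (m₀ + 1 + 1)) (fun i => res (pre (D.X (m₀ + 1))) (k ≫ h).op (σ g hg (m₀ + 1) i))
          ((fgt.map (E.d (m₀ + 1) (m₀ + 1 + 1))).app (op W'') z)
      let F₀ : (pre (E.X (m₀ + 1))).obj (op W'') →ₗ[O.obj.obj (op W'')] (pre (D.X (m₀ + 1))).obj (op W'') :=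
        { toFun := fun z => A z - B z
          map_add' := fun z w => by simp only [A, B, map_add]; abel
          map_smul' := fun r z => by
            simp only [A, B, RingHom.id_apply]
            rw [smul_sub]
            exact congrArg₂ (· - ·) (((fgt.map (γ.f (m₀ + 1))).app (op W'')).hom.map_smul r z)
              ((congrArg _ (((fgt.map (E.d (m₀ + 1) (m₀ + 1 + 1))).app (op W'')).hom.map_smul r z)).trans
                ((Lv (q (m₀ + 1 + 1)) _).map_smul r _)) }
      have hy : ∀ j, res (pre (D.X (m₀ + 1))) (k ≫ h).op (y j) = F₀ (basis (e _ j) W'') := fun j => by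
        refine (map_sub ((pre (D.X (m₀ + 1))).map (k ≫ h).op).hom _ _).trans ?_
        refine congrArg₂ (· - ·) ?_ ?_
        · exact ((app_res (fgt.map (γ.f (m₀ + 1))) (k ≫ h).op _).symm).trans
            (congrArg ((fgt.map (γ.f (m₀ + 1))).app (op W'')) (res_basis (e _ j) (k ≫ h)))
        · exact ((Lv_res (q (m₀ + 1 + 1)) (k ≫ h) (σ g hg (m₀ + 1)) _).symm).trans
            (congrArg (Lv (q (m₀ + 1 + 1)) _) (((app_res (fgt.map (E.d (m₀ + 1) (m₀ + 1 + 1))) (k ≫ h).op _).symm).trans
              (congrArg ((fgt.map (E.d (m₀ + 1) (m₀ + 1 + 1))).app (op W'')) (res_basis (e _ j) (k ≫ h)))))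
      have hF : F₀ x = Lv (q (m₀ + 1)) (fun j => F₀ (basis (e _ j) W'')) x := by
        conv_lhs => rw [expand (q (m₀ + 1)) (e (m₀ + 1)) (he _) x]
        rw [map_sum]
        exact Finset.sum_congr rfl fun j _ => map_smul _ _ _
      have hL : (fgt.map (D.d m₀ (m₀ + 1))).app (op W'')
          (Lv (q (m₀ + 1)) (fun i => res (pre (D.X m₀)) k.op (t i)) x) =
            Lv (q (m₀ + 1)) (fun j => F₀ (basis (e _ j) W'')) x := by
        rw [Lv_app]
        refine congrArg (fun s => Lv (q (m₀ + 1)) s x) (funext fun i => ?_)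
        rw [app_res, ht' i, res_res, ← op_comp]
        exact hy i
      exact ((eq_add_of_sub_eq (hF.trans hL.symm)).trans rfl)
    · have hm' : b - (N : ℤ) ≤ m := by push_cast at hm; omega
      intro W'' k x
      rw [hτ m hne, hτ (m + 1) (by omega)]
      exact (hσ g hg m hm').restrict h k x

end Induction

end Groth.Agent.Mod48
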