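import Groth.Agent.Mod48.Exact
import Groth.Agent.SiteCoh.Free
import Groth.Agent.SiteMod.FlatOps
import Groth.Agent.SiteMod.ExtZero
import Groth.Prelude.Def_AlgSpPerf

/-!
Local lifting of maps out of direct summands of finite free modules.
-/

universe u

open CategoryTheory CategoryTheory.Limits Opposite

namespace Groth.Agent.Mod48

open SiteMod

set_option backward.isDefEq.respectTransparency false

variable {C : Type u} [SmallCategory C] {J : GrothendieckTopology C} {O : Sheaf J CommRingCat.{u}}

/-- The section of a restricted module given by a section over the base. -/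
noncomputable def restrSection (M : ModSite.Mod O) {W : C} (t : (pre M).obj (op W)) :
    ((ModSite.restr O W).obj M).sections :=
  PresheafOfModules.sectionsMk (fun T => res (pre M) T.unop.hom.op t)
    (fun T T' h => by
      change res (pre M) h.unop.left.op (res (pre M) T.unop.hom.op t) = res (pre M) T'.unop.hom.op t
      rw [res_res, ← op_comp, Over.w h.unop])

/-- A map out of the restricted structure sheaf given by a section. -/
noncomputable def restrUnitHom (M : ModSite.Mod O) {W : C} (t : (pre M).obj (op W)) :
    (ModSite.restr O W).obj (ModSite.unit O) ⟶ (ModSite.restr O W).obj M :=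
  ((ModSite.restr O W).obj M).unitHomEquiv.symm (restrSection M t)

lemma restrUnitHom_comp {M N : ModSite.Mod O} (p : M ⟶ N) (a : ModSite.unit O ⟶ N) {W : C}
    (t : (pre M).obj (op W)) (h : (fgt.map p).app (op W) t = res (pre N) (𝟙 W).op ((fgt.map a).app (op W) (1 : O.obj.obj (op W)))) :
    restrUnitHom M t ≫ (ModSite.restr O W).map p = (ModSite.restr O W).map a := by
  apply ((ModSite.restr O W).obj N).unitHomEquiv.injective
  rw [restrUnitHom, SheafOfModules.unitHomEquiv_symm_comp, Equiv.apply_symm_apply]
  refine PresheafOfModules.sections_ext _ _ fun T => ?_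
  change (fgt.map p).app (op T.unop.left) (res (pre M) T.unop.hom.op t) =
    (fgt.map a).app (op T.unop.left) (1 : O.obj.obj (op T.unop.left))
  rw [app_res, h, res_res, ← op_comp, Category.comp_id, ← app_res]
  refine congrArg _ ?_
  exact map_one (O.obj.map T.unop.hom.op).hom

/-- Local lifts of maps out of direct summands of finite free modules. -/
theorem exists_local_lift_summand {E F G : ModSite.Mod O}
    (hE : DCoh.IsFinFreeSummandMod (ModSite.ringSh O) E) (p : G ⟶ F) [Epi p] (φ : E ⟶ F) (V : C) :
    ∃ R ∈ J V, ∀ ⦃W : C⦄ (g : W ⟶ V), R g →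
      ∃ l : (ModSite.restr O W).obj E ⟶ (ModSite.restr O W).obj G,
        l ≫ (ModSite.restr O W).map p = (ModSite.restr O W).map φ := by
  classical
  obtain ⟨n, inc, pr, hip⟩ := hE
  let ι := ULift.{u} (Fin n)
  let π : ι → (SheafOfModules.free (R := ModSite.ringSh O) ι ⟶ ModSite.unit O) :=
    fun j => Sigma.desc fun k => if k = j then 𝟙 _ else 0
  let c : ι → (ModSite.unit O ⟶ SheafOfModules.free (R := ModSite.ringSh O) ι) :=
    fun j => Sigma.ι (fun _ : ι => ModSite.unit O) j
  have hid : ∑ j, π j ≫ c j = 𝟙 _ := by
    refine Sigma.hom_ext _ _ fun k => ?_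
    refine ((Preadditive.comp_sum _ _ _).trans ?_).trans (Category.comp_id _).symm
    rw [Finset.sum_eq_single k]
    · simp [π, c]
    · intro j _ hj
      simp [π, c, Ne.symm hj]
    · simp
  let a : ι → (ModSite.unit O ⟶ F) := fun j => c j ≫ pr ≫ φ
  have := toSheaf_preservesColimits (O := O)
  have : PreservesFiniteColimits (SheafOfModules.toSheaf.{u} (ModSite.ringSh O)) :=
    PreservesColimitsOfSize.preservesFiniteColimits _
  choose S hS using fun j => SiteCoh.exists_local_lift ((SheafOfModules.toSheaf (ModSite.ringSh O)).map p)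
    ((fgt.map (a j)).app (op V) (1 : O.obj.obj (op V)))
  refine ⟨Finset.univ.inf fun j => (S j).1, Finset.inf_induction (J.top_mem V)
    (fun x hx y hy => J.intersection_covering hx hy) (fun j _ => (S j).2), fun W g hg => ?_⟩
  have hle : ∀ j, (S j).1 g := fun j => (Finset.inf_le (f := fun j => (S j).1) (Finset.mem_univ j)) _ hg
  choose t ht using fun j => hS j ⟨W, g, hle j⟩
  have : (ModSite.restr O W).Additive :=
    have := SiteMod.extZero_preservesFiniteLimits (O := O) W
    have : (ModSite.extZero O W).Additive := Functor.additive_of_preserves_binary_products _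
    (ModSite.extZeroAdj O W).right_adjoint_additive
  refine ⟨(ModSite.restr O W).map inc ≫ ∑ j, (ModSite.restr O W).map (π j) ≫ restrUnitHom G (t j), ?_⟩
  have key : ∀ j, restrUnitHom G (t j) ≫ (ModSite.restr O W).map p = (ModSite.restr O W).map (a j) := by
    intro j
    refine restrUnitHom_comp p (a j) (t j) ?_
    refine (ht j).trans ?_
    change res (pre F) g.op ((fgt.map (a j)).app (op V) (1 : O.obj.obj (op V))) = _
    rw [← app_res, ← app_res]
    refine congrArg _ ?_
    exact (map_one (O.obj.map g.op).hom).trans (map_one (O.obj.map (𝟙 W).op).hom).symm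
  simp only [Category.assoc, Preadditive.sum_comp, key, ← Functor.map_comp, ← Functor.map_sum]
  refine congrArg (ModSite.restr O W).map ?_
  have : ∑ j, π j ≫ a j = pr ≫ φ := by
    simp only [a, ← Category.assoc, ← Preadditive.sum_comp, hid, Category.id_comp]
  rw [this, ← Category.assoc, hip, Category.id_comp]

end Groth.Agent.Mod48
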