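import Groth.Agent.Mod48.ModEquiv
import Mathlib.Algebra.Category.ModuleCat.Sheaf.Abelian

/-!
Comparison of two topologies: modules which are acyclic on a basis for the coarser topology.
-/

universe w w' v v' u u'

open CategoryTheory CategoryTheory.Limits Opposite DerivedCategory
attribute [local instance] HasDerivedCategory.standard

namespace Groth.Agent.Mod48

lemma postcomp_bijective_of_isIso {D : Type*} [Category D] {X Y Z : D} (f : Y ⟶ Z) [IsIso f] :
    Function.Bijective fun k : X ⟶ Y => k ≫ f :=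
  ⟨fun _ _ h => (cancel_mono f).1 h, fun y => ⟨y ≫ inv f, by simp⟩⟩

section Heart

variable {A : Type u} [Category.{v} A] [Abelian A] [HasDerivedCategory.{w} A]
  {B : Type u'} [Category.{v'} B] [Abelian B] [HasDerivedCategory.{w'} B]
  {L : A ⥤ B} [L.Additive] [PreservesFiniteLimits L] [PreservesFiniteColimits L]

/-- The unit of a derived adjunction at an object of the heart is invertible when the exact functor is fully
faithful towards it and the value of the composite is in the heart. -/
lemma isIso_unit_app_single {R : DerivedCategory B ⥤ DerivedCategory A} (adj : L.mapDerivedCategory ⊣ R) (F' : A)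
    (hbij : ∀ G' : A, Function.Bijective fun g : G' ⟶ F' => L.map g)
    (hheart : ∀ i : ℤ, i ≠ 0 →
      IsZero ((homologyFunctor A i).obj (R.obj (L.mapDerivedCategory.obj ((singleFunctor A 0).obj F'))))) :
    IsIso (adj.unit.app ((singleFunctor A 0).obj F')) := by
  let Z := R.obj (L.mapDerivedCategory.obj ((singleFunctor A 0).obj F'))
  have hge : TStructure.t.IsGE Z 0 := (DerivedCategory.isGE_iff _ _).2 fun i hi => hheart i (by omega)
  have hle : TStructure.t.IsLE Z 0 := (DerivedCategory.isLE_iff _ _).2 fun i hi => hheart i (by omega)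
  obtain ⟨M, ⟨e⟩⟩ := exists_iso_singleFunctor_obj_of_isGE_of_isLE Z 0
  obtain ⟨h, hh⟩ := (singleFunctor A 0).map_surjective
    (adj.unit.app ((singleFunctor A 0).obj F') ≫ e.hom)
  have hpull : ∀ G' : A, Function.Bijective fun g : G' ⟶ F' => L.mapDerivedCategory.map ((singleFunctor A 0).map g) := by
    intro G'
    have hb : Function.Bijective fun g : G' ⟶ F' => (singleFunctor B 0).map (L.map g) :=
      Function.Bijective.comp ((Functor.FullyFaithful.ofFullyFaithful (singleFunctor B 0)).map_bijective _ _) (hbij G')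
    let η := L.mapDerivedCategorySingleFunctor 0
    have heq : (fun g : G' ⟶ F' => L.mapDerivedCategory.map ((singleFunctor A 0).map g)) =
        (fun k => (η.app G').hom ≫ k ≫ (η.app F').inv) ∘ fun g : G' ⟶ F' => (singleFunctor B 0).map (L.map g) := by
      funext g
      exact (NatIso.naturality_2 η g).symm
    rw [heq]
    refine Function.Bijective.comp ⟨fun k k' hk => ?_, fun k => ⟨(η.app G').inv ≫ k ≫ (η.app F').hom, ?_⟩⟩ hb
    · exact (cancel_mono (η.app F').inv).1 ((cancel_epi (η.app G').hom).1 hk)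
    · change (η.app G').hom ≫ ((η.app G').inv ≫ k ≫ (η.app F').hom) ≫ (η.app F').inv = k
      simp only [Category.assoc, Iso.hom_inv_id, Category.comp_id, Iso.hom_inv_id_assoc]
  have hiso : IsIso h := by
    rw [isIso_iff_yoneda_map_bijective]
    intro G'
    have heq : (fun g : G' ⟶ F' => (singleFunctor A 0).map (g ≫ h)) =
        (fun k => adj.homEquiv _ _ k ≫ e.hom) ∘
          fun g : G' ⟶ F' => L.mapDerivedCategory.map ((singleFunctor A 0).map g) := by
      funext g
      simp only [Function.comp_apply, Functor.map_comp, hh, Adjunction.homEquiv_unit]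
      exact (Category.assoc _ _ _).symm.trans (congrArg (· ≫ e.hom) (adj.unit.naturality ((singleFunctor A 0).map g)))
    refine (Function.Bijective.of_comp_iff'
      ((Functor.FullyFaithful.ofFullyFaithful (singleFunctor A 0)).map_bijective _ _) _).1 ?_
    change Function.Bijective fun g : G' ⟶ F' => (singleFunctor A 0).map (g ≫ h)
    rw [heq]
    refine Function.Bijective.comp ?_ (hpull G')
    exact Function.Bijective.comp
      (⟨fun a b hab => (cancel_mono e.hom).1 hab, fun y => ⟨y ≫ e.inv, by simp⟩⟩ : Function.Bijective fun y => y ≫ e.hom)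
      (adj.homEquiv _ _).bijective
  have : IsIso (adj.unit.app ((singleFunctor A 0).obj F') ≫ e.hom) := by
    rw [← hh]
    infer_instance
  exact IsIso.of_isIso_comp_right _ e.hom

end Heart

variable {C : Type u} [SmallCategory C] {J J' : GrothendieckTopology C} (h : J' ≤ J) (O : Sheaf J CommRingCat.{u})

/-- The inverse of the direct image on morphisms for the comparison of topologies. -/
noncomputable def epsPreimage {F G : ModSite.Mod O}
    (φ : (SiteCmp.eps h O).push.obj F ⟶ (SiteCmp.eps h O).push.obj G) : F ⟶ G :=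
  ⟨PresheafOfModules.homMk ((PresheafOfModules.toPresheaf _).map φ.val |> fun t =>
    { app := fun U => t.app U
      naturality := fun U V g => t.naturality g }) fun U r m => (φ.val.app U).hom.map_smul r m⟩

instance full_eps_push : (SiteCmp.eps h O).push.Full where
  map_surjective φ := ⟨epsPreimage h O φ, by
    apply SheafOfModules.hom_ext
    refine PresheafOfModules.hom_ext fun U => ?_
    rfl⟩

instance faithful_eps_push : (SiteCmp.eps h O).push.Faithful where
  map_injective {F G} a b hab := by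
    apply SheafOfModules.hom_ext
    refine PresheafOfModules.hom_ext fun U => ?_
    ext x
    exact congrArg (fun t : (SiteCmp.eps h O).push.obj F ⟶ (SiteCmp.eps h O).push.obj G => t.val.app U x) hab

instance isIso_eps_counit : IsIso (SiteCmp.eps h O).adj.counit :=
  (SiteCmp.eps h O).adj.counit_isIso_of_R_fully_faithful

variable (A : ObjectProperty (ModSite.Mod O)) [WSerre.IsWeakSerre A] (B : Set C)
  (h3 : ∀ U : C, ∃ (ι : Type u) (Y : ι → C) (g : ∀ i, Y i ⟶ U), Sieve.ofArrows Y g ∈ J' U ∧ ∀ i, Y i ∈ B)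
  (h4 : ∀ U ∈ B, ∀ F : ModSite.Mod O, A F → ∀ p : ℕ, 0 < p → Subsingleton (ModSite.HU O F p U))

lemma eps_pull_push_prop (F' : ModSite.Mod (SiteCmp.epsRing h O)) (hF' : (A.map (SiteCmp.eps h O).push) F') :
    A ((SiteCmp.eps h O).pull.obj F') := by
  obtain ⟨F, hF, ⟨e⟩⟩ := hF'
  exact A.prop_of_iso ((asIso ((SiteCmp.eps h O).adj.counit.app F)).symm ≪≫ (SiteCmp.eps h O).pull.mapIso e) hF

lemma eps_pull_map_bijective (F' : ModSite.Mod (SiteCmp.epsRing h O)) (hF' : (A.map (SiteCmp.eps h O).push) F')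
    (G' : ModSite.Mod (SiteCmp.epsRing h O)) : Function.Bijective fun g : G' ⟶ F' => (SiteCmp.eps h O).pull.map g := by
  obtain ⟨F, hF, ⟨e⟩⟩ := hF'
  let f := SiteCmp.eps h O
  have heq : (fun g : G' ⟶ F' => f.pull.map g) =
      (fun k => (f.adj.homEquiv G' F).symm k ≫ inv (f.adj.counit.app F) ≫ f.pull.map e.hom) ∘ fun g => g ≫ e.inv := by
    funext g
    simp only [Function.comp_apply]
    rw [Adjunction.homEquiv_counit, Functor.map_comp, Category.assoc, Category.assoc, IsIso.hom_inv_id_assoc,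
      ← Functor.map_comp, Iso.inv_hom_id, CategoryTheory.Functor.map_id, Category.comp_id]
  rw [heq]
  refine Function.Bijective.comp ?_ (postcomp_bijective_of_isIso e.inv)
  exact Function.Bijective.comp (g := fun y => y ≫ inv (f.adj.counit.app F) ≫ f.pull.map e.hom)
    (postcomp_bijective_of_isIso _) (f.adj.homEquiv G' F).symm.bijective

variable [SiteCmp.HasRpushD (SiteCmp.eps h O)]

include h3 h4 in
omit [WSerre.IsWeakSerre A] in
lemma isZero_homology_eps_rpushD (F : ModSite.Mod O) (hF : A F) (i : ℤ) (hi : 0 < i) :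
    IsZero ((homologyFunctor (ModSite.Mod (SiteCmp.epsRing h O)) i).obj
      ((SiteCmp.RpushD (SiteCmp.eps h O)).obj (SiteCmp.inD O F))) := by
  let f := SiteCmp.eps h O
  have := LocGen.preservesZeroMorphisms_push (SiteCmp.RpushD f) (pushUnit f) (isIso_pushUnit f) (enoughKInj_mod O) i
  refine ((modGen _).pushPres f.adj (SiteCmp.RpushD f) (pushUnit f) (enoughKInj_mod O) (isIso_pushUnit f) i).isZero_obj
    fun U => ?_
  obtain ⟨ι, Y, g, hcov, hmem⟩ := h3 U
  refine ⟨ι, Y, g, hcov, fun k S hS => ?_⟩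
  obtain ⟨κ, W, m, h₁, h₂, hW⟩ := exists_refinement B h3 S hS
  exact ⟨κ, W, m, h₁, h₂, fun l x => vanishAbove_pull f (W l) (P := A) (d := 0)
    (fun G hG p hp => h4 (W l) (hW l) G hG p hp) F hF i 0 (by omega) x⟩

include h3 h4 in
/-- The direct image is exact on sequences with kernel in `A`. -/
lemma epi_eps_push_map {S : ShortComplex (ModSite.Mod O)} (hS : S.ShortExact) (hS₁ : A S.X₁) :
    Epi ((SiteCmp.eps h O).push.map S.g) := by
  refine (modGen _).epi_of_sep _ fun U a Q q hq => ?_
  obtain ⟨ι, Y, g, hcov, hmem⟩ := h3 U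
  refine (modGen _).sep_ofArrows _ Y g hcov fun k => ?_
  let f := SiteCmp.eps h O
  let P := ModSite.freeOn (SiteCmp.epsRing h O) (Y k)
  let y : f.pull.obj P ⟶ S.X₃ := (f.adj.homEquiv P S.X₃).symm ((modGen _).r (g k) ≫ a)
  have : Subsingleton (Abelian.Ext.{u} (ModSite.freeOn O (Y k)) S.X₁ 1) :=
    (huExtEquiv (Y k) S.X₁ 1).toEquiv.subsingleton_congr.2 (h4 _ (hmem k) _ hS₁ 1 Nat.one_pos)
  obtain ⟨z, hz⟩ := Abelian.Ext.covariant_sequence_exact₃ (ModSite.freeOn O (Y k)) hS
    (Abelian.Ext.mk₀ ((pullFreeIso f (Y k)).inv ≫ y)) (zero_add 1) (Subsingleton.elim _ _)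
  obtain ⟨z, rfl⟩ := (Abelian.Ext.mk₀_bijective _ _).2 z
  rw [Abelian.Ext.mk₀_comp_mk₀] at hz
  have hz' := (Abelian.Ext.mk₀_bijective _ _).1 hz
  let w : P ⟶ f.push.obj S.X₂ := f.adj.homEquiv P S.X₂ ((pullFreeIso f (Y k)).hom ≫ z)
  have hw : w ≫ f.push.map S.g = (modGen _).r (g k) ≫ a := by
    refine (f.adj.homEquiv_naturality_right _ _).symm.trans ?_
    refine (congrArg (f.adj.homEquiv P S.X₃) ((Category.assoc _ _ _).trans
      ((congrArg (_ ≫ ·) hz').trans (Iso.hom_inv_id_assoc _ _)))).trans ?_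
    exact (f.adj.homEquiv P S.X₃).apply_symm_apply _
  exact (Category.assoc _ _ _).symm.trans ((congrArg (· ≫ q) hw.symm).trans
    ((Category.assoc _ _ _).trans ((congrArg (w ≫ ·) hq).trans comp_zero)))

include h3 h4 in
/-- The essential image of `A` under the direct image is weak Serre. -/
theorem isWeakSerre_map_eps [PreservesFiniteLimits (SiteCmp.eps h O).pull] :
    WSerre.IsWeakSerre (A.map (SiteCmp.eps h O).push) := by
  let f := SiteCmp.eps h O
  have hR : f.push.IsRightAdjoint := inferInstance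
  have : PreservesFiniteLimits f.push := ⟨fun K _ _ => f.adj.rightAdjoint_preservesLimits.preservesLimitsOfShape⟩
  refine @WSerre.IsWeakSerre.mk _ _ _ _ ?_ ?_ ?_ ?_
  · refine ⟨?_⟩
    obtain ⟨Z, hZ, hP⟩ := A.exists_prop_of_containsZero
    exact ⟨_, f.push.map_isZero hZ, A.prop_map_obj f.push hP⟩
  · refine ⟨?_⟩
    rintro _ ⟨φ, k, hk, hφ₁, hφ₂⟩
    obtain ⟨F, hF, ⟨eF⟩⟩ := hφ₁
    obtain ⟨G, hG, ⟨eG⟩⟩ := hφ₂
    obtain ⟨ψ, hψ⟩ := f.push.map_surjective (eF.hom ≫ φ ≫ eG.inv)
    exact ⟨kernel ψ, A.prop_kernel ψ hF hG, ⟨PreservesKernel.iso f.push ψ ≪≫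
      kernel.mapIso (f.push.map ψ) φ eF eG (by rw [hψ]; simp) ≪≫
        (limit.isLimit (parallelPair φ 0)).conePointUniqueUpToIso hk⟩⟩
  · refine ⟨?_⟩
    rintro _ ⟨φ, k, hk', hφ₁, hφ₂⟩
    obtain ⟨F, hF, ⟨eF⟩⟩ := hφ₁
    obtain ⟨G, hG, ⟨eG⟩⟩ := hφ₂
    obtain ⟨ψ, hψ⟩ := f.push.map_surjective (eF.hom ≫ φ ≫ eG.inv)
    have hI : A (Abelian.image ψ) := A.prop_kernel _ hG (A.prop_cokernel ψ hF hG)
    have hK : A (kernel ψ) := A.prop_kernel ψ hF hG
    let S₁ : ShortComplex (ModSite.Mod O) :=
      ShortComplex.mk (kernel.ι (cokernel.π ψ)) (cokernel.π ψ) (kernel.condition _)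
    have hS₁ : S₁.ShortExact := { exact := ShortComplex.exact_kernel _ }
    let S₂ : ShortComplex (ModSite.Mod O) :=
      ShortComplex.mk (kernel.ι ψ) (Abelian.factorThruImage ψ) (by
        rw [← cancel_mono (Abelian.image.ι ψ), Category.assoc, Abelian.image.fac, kernel.condition, zero_comp])
    have hS₂ : S₂.ShortExact :=
      { exact := ShortComplex.exact_of_f_is_kernel _ (KernelFork.IsLimit.ofι' _ _ fun {W} k hk =>
          ⟨kernel.lift ψ k (by rw [← Abelian.image.fac ψ, ← Category.assoc, hk, zero_comp]), kernel.lift_ι _ _ _⟩) }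
    have hepi₁ : Epi (f.push.map S₁.g) := epi_eps_push_map h O A B h3 h4 hS₁ hI
    have hepi₂ : Epi (f.push.map S₂.g) := epi_eps_push_map h O A B h3 h4 hS₂ hK
    have hex : (S₁.map f.push).Exact :=
      (ShortComplex.Exact.map_of_mono_of_preservesKernel hS₁.exact f.push hS₁.mono_f inferInstance)
    have : Epi (f.push.map (Abelian.factorThruImage ψ)) := hepi₂
    have : Epi (S₁.map f.push).g := hepi₁
    have hc : IsColimit (CokernelCofork.ofπ (f.push.map (cokernel.π ψ))
        (show f.push.map ψ ≫ f.push.map (cokernel.π ψ) = 0 by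
          rw [← f.push.map_comp, cokernel.condition, Functor.map_zero])) :=
      CokernelCofork.IsColimit.ofπ' _ _ fun {W} k hk => by
        have hk' : (S₁.map f.push).f ≫ k = 0 := by
          have h' : f.push.map (Abelian.factorThruImage ψ) ≫ f.push.map (Abelian.image.ι ψ) ≫ k = 0 := by
            rw [← f.push.map_comp_assoc, Abelian.image.fac, hk]
          exact hepi₂.left_cancellation _ _ (h'.trans comp_zero.symm)
        exact ⟨hex.desc k hk', hex.g_desc k hk'⟩
    exact ⟨cokernel ψ, A.prop_cokernel ψ hF hG,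
      ⟨IsColimit.coconePointUniqueUpToIso hc (cokernelIsCokernel _) ≪≫
        cokernel.mapIso (f.push.map ψ) φ eF eG (by rw [hψ]; simp) ≪≫
          (colimit.isColimit (parallelPair φ 0)).coconePointUniqueUpToIso hk'⟩⟩
  · refine ⟨fun {S} hS h₁ h₃ => ?_⟩
    have hpull := hS.map_of_exact f.pull
    have hE : A (f.pull.obj S.X₂) :=
      A.prop_X₂_of_shortExact hpull (eps_pull_push_prop h O A _ h₁) (eps_pull_push_prop h O A _ h₃)
    have hu : ∀ T, (A.map f.push) T → IsIso (f.adj.unit.app T) := by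
      rintro T ⟨F, hF, ⟨e⟩⟩
      have : IsIso (f.adj.unit.app (f.push.obj F)) := by
        have := f.adj.right_triangle_components F
        have hi : f.adj.unit.app (f.push.obj F) = inv (f.push.map (f.adj.counit.app F)) :=
          IsIso.eq_inv_of_inv_hom_id this
        rw [hi]
        infer_instance
      exact (NatTrans.isIso_app_iff_of_iso f.adj.unit e).1 this
    have := hu _ h₁
    have := hu _ h₃
    let T : ShortComplex (ModSite.Mod (SiteCmp.epsRing h O)) := (S.map f.pull).map f.push
    have hT : T.Exact ∧ Mono T.f := by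
      have : Mono (f.pull.map S.f) := hpull.mono_f
      exact ⟨ShortComplex.Exact.map_of_mono_of_preservesKernel hpull.exact f.push hpull.mono_f inferInstance,
        inferInstanceAs (Mono (f.push.map (f.pull.map S.f)))⟩
    have : Mono T.f := hT.2
    have := hS.mono_f
    have := hS.epi_g
    have : Epi T.g := by
      have : Epi (f.adj.unit.app S.X₂ ≫ T.g) := by
        have e : S.g ≫ f.adj.unit.app S.X₃ = f.adj.unit.app S.X₂ ≫ T.g := f.adj.unit.naturality S.g
        rw [← e]
        exact @epi_comp _ _ _ _ _ S.g hS.epi_g (f.adj.unit.app S.X₃) (IsIso.epi_of_iso _)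
      exact epi_of_epi (f.adj.unit.app S.X₂) T.g
    have : IsIso (f.adj.unit.app S.X₂) := by
      let φ : S ⟶ T :=
        { τ₁ := f.adj.unit.app S.X₁
          τ₂ := f.adj.unit.app S.X₂
          τ₃ := f.adj.unit.app S.X₃
          comm₁₂ := (f.adj.unit.naturality S.f).symm
          comm₂₃ := (f.adj.unit.naturality S.g).symm }
      have : IsIso φ.τ₁ := inferInstanceAs (IsIso (f.adj.unit.app S.X₁))
      have : IsIso φ.τ₃ := inferInstanceAs (IsIso (f.adj.unit.app S.X₃))
      exact ShortComplex.isIso₂_of_shortExact_of_isIso₁₃ φ hS { exact := hT.1 }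
    exact ⟨f.pull.obj S.X₂, hE, ⟨(asIso (f.adj.unit.app S.X₂)).symm⟩⟩

include h3 h4 in
omit [WSerre.IsWeakSerre A] in
/-- The unit at an object of the essential image of `A`. -/
theorem isIso_eps_unit [PreservesFiniteLimits (SiteCmp.eps h O).pull] [WSerre.IsWeakSerre A]
    (adj : SiteCmp.pullD (SiteCmp.eps h O) ⊣ SiteCmp.RpushD (SiteCmp.eps h O))
    (F' : ModSite.Mod (SiteCmp.epsRing h O)) (hF' : (A.map (SiteCmp.eps h O).push) F') :
    IsIso (adj.unit.app (SiteCmp.inD _ F')) := by
  refine isIso_unit_app_single (L := (SiteCmp.eps h O).pull) adj F' (eps_pull_map_bijective h O A F' hF') fun i hi => ?_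
  let e := ((SiteCmp.eps h O).pull.mapDerivedCategorySingleFunctor 0).app F'
  refine IsZero.of_iso ?_ ((homologyFunctor _ i).mapIso ((SiteCmp.RpushD (SiteCmp.eps h O)).mapIso e))
  rcases lt_or_gt_of_ne hi with hi | hi
  · exact isZero_homology_rpushD_single_of_neg _ _ i hi
  · exact isZero_homology_eps_rpushD h O A B h3 h4 _ (eps_pull_push_prop h O A F' hF') i hi

end Groth.Agent.Mod48
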