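import Groth.Agent.Mod48.EquivCohIn

/-!
The equivalence `D_{A'}(O_D) ≅ D_A(O_C)` for a flat morphism of ringed sites.
-/

universe u

open CategoryTheory CategoryTheory.Limits Opposite DerivedCategory
attribute [local instance] HasDerivedCategory.standard

namespace Groth.Agent.Mod48

variable {C : Type u} [SmallCategory C] {J : GrothendieckTopology C} {O_C : Sheaf J CommRingCat.{u}}
  {D : Type u} [SmallCategory D] {K : GrothendieckTopology D} {O_D : Sheaf K CommRingCat.{u}}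
  (f : ModSite.RMor O_C O_D) [PreservesFiniteLimits f.pull] [SiteCmp.HasRpushD f]
  (adj : SiteCmp.pullD f ⊣ SiteCmp.RpushD f)
  (A : ObjectProperty (ModSite.Mod O_C))
  (A' : ObjectProperty (ModSite.Mod O_D))
  (h2c : ∀ F : ModSite.Mod O_C, A F → ∃ F' : ModSite.Mod O_D, A' F' ∧ Nonempty (f.pull.obj F' ≅ F))
  (h3 : ∀ F' : ModSite.Mod O_D, A' F' → IsIso (adj.unit.app (SiteCmp.inD O_D F')))

include h2c h3 in
lemma rpushD_single_iso (F : ModSite.Mod O_C) (hF : A F) :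
    ∃ F' : ModSite.Mod O_D, A' F' ∧ Nonempty ((SiteCmp.RpushD f).obj (SiteCmp.inD O_C F) ≅ SiteCmp.inD O_D F') := by
  obtain ⟨F', hF', ⟨e⟩⟩ := h2c F hF
  have := h3 F' hF'
  exact ⟨F', hF', ⟨(SiteCmp.RpushD f).mapIso
    (((f.pull.mapDerivedCategorySingleFunctor 0).app F') ≪≫ (singleFunctor _ 0).mapIso e).symm ≪≫
      (asIso (adj.unit.app (SiteCmp.inD O_D F'))).symm⟩⟩

include h2c h3 in
lemma isZero_homology_rpushD_single_pos (F : ModSite.Mod O_C) (hF : A F) (i : ℤ) (hi : 0 < i) :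
    IsZero ((homologyFunctor (ModSite.Mod O_D) i).obj ((SiteCmp.RpushD f).obj (SiteCmp.inD O_C F))) := by
  obtain ⟨F', hF', ⟨e⟩⟩ := rpushD_single_iso f adj A A' h2c h3 F hF
  exact (DerivedCategory.isZero_of_isLE (SiteCmp.inD O_D F') 0 i hi).of_iso ((homologyFunctor _ i).mapIso e)

include h2c h3 in
lemma homology_rpushD_single_prop [A'.IsClosedUnderIsomorphisms] [A'.ContainsZero] (F : ModSite.Mod O_C) (hF : A F) (i : ℤ) :
    A' ((homologyFunctor (ModSite.Mod O_D) i).obj ((SiteCmp.RpushD f).obj (SiteCmp.inD O_C F))) := by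
  obtain ⟨F', hF', ⟨e⟩⟩ := rpushD_single_iso f adj A A' h2c h3 F hF
  refine A'.prop_of_iso ((homologyFunctor _ i).mapIso e).symm ?_
  by_cases h : i = 0
  · subst h
    exact A'.prop_of_iso ((singleFunctorCompHomologyFunctorIso _ 0).app F').symm hF'
  · obtain ⟨Z₀, hZ₀, hP⟩ := A'.exists_prop_of_containsZero
    refine A'.prop_of_iso (hZ₀.iso ?_) hP
    rcases lt_or_gt_of_ne h with h | h
    · exact DerivedCategory.isZero_of_isGE (SiteCmp.inD O_D F') 0 i h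
    · exact DerivedCategory.isZero_of_isLE (SiteCmp.inD O_D F') 0 i h

include h2c h3 in
/-- The equivalence `D_{A'}(O_D) ≅ D_A(O_C)`. -/
theorem mod_equivalence_cohIn [WSerre.IsWeakSerre A] [WSerre.IsWeakSerre A']
    (h2a : ∀ F' : ModSite.Mod O_D, A' F' → A (f.pull.obj F')) (B : Set C) (B' : Set D)
    (hB : ∀ U : C, ∃ (ι : Type u) (Y : ι → C) (g : ∀ i, Y i ⟶ U), Sieve.ofArrows Y g ∈ J U ∧ ∀ i, Y i ∈ B)
    (hA : ∀ V ∈ B, ∃ d : ℕ, ∀ T ∈ J V, ∃ (ι : Type u) (Y : ι → C) (g : ∀ i, Y i ⟶ V),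
      (∀ i, T.arrows (g i)) ∧ Sieve.ofArrows Y g ∈ J V ∧
      ∀ (i : ι) (F : ModSite.Mod O_C), A F → ∀ k : ℕ, d < k → Subsingleton (ModSite.HU O_C F k (Y i)))
    (hB' : ∀ U : D, ∃ (ι : Type u) (Y : ι → D) (g : ∀ i, Y i ⟶ U), Sieve.ofArrows Y g ∈ K U ∧ ∀ i, Y i ∈ B')
    (hA' : ∀ V ∈ B', ∃ d : ℕ, ∀ T ∈ K V, ∃ (ι : Type u) (Y : ι → D) (g : ∀ i, Y i ⟶ V),
      (∀ i, T.arrows (g i)) ∧ Sieve.ofArrows Y g ∈ K V ∧
      ∀ (i : ι) (F : ModSite.Mod O_C), A F → ∀ k : ℕ, d < k → Subsingleton (ModSite.HU O_C F k (f.fn.obj (Y i)))) :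
    (∀ Y : DerivedCategory (ModSite.Mod O_D), WSerre.cohIn A' Y →
      WSerre.cohIn A ((SiteCmp.pullD f).obj Y) ∧ IsIso (adj.unit.app Y)) ∧
    (∀ X : DerivedCategory (ModSite.Mod O_C), WSerre.cohIn A X →
      WSerre.cohIn A' ((SiteCmp.RpushD f).obj X) ∧ IsIso (adj.counit.app X)) :=
  equivalence_cohIn (L := f.pull) adj A A' h2a h2c h3 fun X hX n j hj =>
    isIso_homology_rpushD_truncGEπ f A B B' hB hA hB' hA' 0
      (fun F hF i hi => isZero_homology_rpushD_single_pos f adj A A' h2c h3 F hF i hi) X hX n j (by omega)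

end Groth.Agent.Mod48
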