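import Groth.Agent.Fib44.CechToAcyclic
import Groth.Agent.Fib44.PushTotallyAcyclic
import Mathlib.CategoryTheory.Limits.Constructions.Over.Basic
import Mathlib.CategoryTheory.Limits.Preserves.Shapes.Products
import Mathlib.CategoryTheory.Limits.Constructions.FiniteProductsOfBinaryProducts

/-!
Čech nerves are preserved by functors commuting with fibre products; consequently inverse image along a
functor whose sheaf pullback commutes with fibre products preserves total acyclicity.
-/

set_option autoImplicit false

universe w v v' u u'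

open CategoryTheory CategoryTheory.Limits Opposite AlgebraicTopology Simplicial

namespace Groth.Agent.Mod48.NerveTransport

section Nerve

variable {A : Type u} [Category.{v} A] [HasPullbacks A] {B : Type u'} [Category.{v'} B]
  (F : A ⥤ B) [PreservesLimitsOfShape WalkingCospan F]

lemma overPost_preservesFiniteLimits (K : A) : PreservesFiniteLimits (Over.post (X := K) F) := by
  have : HasFiniteLimits (Over K) := hasFiniteLimits_of_hasTerminal_and_pullbacks
  have h1 : PreservesLimitsOfShape WalkingCospan (Over.post (X := K) F) := by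
    have : PreservesLimitsOfShape WalkingCospan (Over.post (X := K) F ⋙ Over.forget _) :=
      inferInstanceAs (PreservesLimitsOfShape WalkingCospan (Over.forget K ⋙ F))
    exact preservesLimitsOfShape_of_reflects_of_preserves _ (Over.forget _)
  have h2 : PreservesLimitsOfShape (Discrete PEmpty.{1}) (Over.post (X := K) F) := by
    constructor
    intro E
    have e : E ≅ Functor.empty.{0} (Over K) := Functor.uniqueFromEmpty E
    refine @preservesLimit_of_iso_diagram _ _ _ _ _ _ _ _ (Over.post (X := K) F) e.symm ?_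
    exact preservesLimit_of_preserves_limit_cone (F := Over.post (X := K) F)
      (show IsLimit (asEmptyCone (Over.mk (𝟙 K))) from Over.mkIdTerminal)
      ((isLimitMapConeEmptyConeEquiv _ _).symm
        (Over.mkIdTerminal.ofIso (Over.isoMk (Iso.refl _) ((Category.id_comp _).trans (F.map_id K)))))
  exact preservesFiniteLimits_of_preservesTerminal_and_pullbacks _

variable {X K : A} (f : X ⟶ K)
  [∀ n : ℕ, HasWidePullback K (fun _ : Fin (n + 1) => X) (fun _ => f)]
  [∀ n : ℕ, HasWidePullback (F.obj K) (fun _ : Fin (n + 1) => F.obj X) (fun _ => F.map f)]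

/-- The comparison from the image of a wide pullback. -/
noncomputable def cmp (n : ℕ) :
    F.obj (widePullback K (fun _ : Fin (n + 1) => X) (fun _ => f)) ⟶
      widePullback (F.obj K) (fun _ : Fin (n + 1) => F.obj X) (fun _ => F.map f) :=
  WidePullback.lift (F.map (WidePullback.base _)) (fun i => F.map (WidePullback.π _ i))
    (fun i => by rw [← F.map_comp, WidePullback.π_arrow])

lemma cmp_π (n : ℕ) (i : Fin (n + 1)) :
    cmp F f n ≫ WidePullback.π _ i = F.map (WidePullback.π (fun _ : Fin (n + 1) => f) i) :=
  WidePullback.lift_π _ _ _ _ _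

lemma cmp_base (n : ℕ) :
    cmp F f n ≫ WidePullback.base _ = F.map (WidePullback.base (fun _ : Fin (n + 1) => f)) :=
  WidePullback.lift_base _ _ _ _

set_option backward.isDefEq.respectTransparency false in
set_option backward.isDefEq.respectTransparency.types false in
lemma isIso_cmp (n : ℕ) : IsIso (cmp F f n) := by
  let P := Over.post (X := K) F
  have := overPost_preservesFiniteLimits F K
  let W : Over K := Over.mk (WidePullback.base (fun _ : Fin (n + 1) => f))
  let p : Fin (n + 1) → (W ⟶ Over.mk f) := fun i =>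
    Over.homMk (WidePullback.π (fun _ : Fin (n + 1) => f) i) (WidePullback.π_arrow _ i)
  have hlim : IsLimit (Fan.mk W p) := mkFanLimit _
    (fun s => Over.homMk (WidePullback.lift (objs := fun _ : Fin (n + 1) => X) (arrows := fun _ => f) s.pt.hom (fun i => (s.proj i).left) (fun i => Over.w _))
      (WidePullback.lift_base _ _ _ _))
    (fun s i => Over.OverMorphism.ext (WidePullback.lift_π _ _ _ _ _))
    (fun s m hm => Over.OverMorphism.ext (WidePullback.hom_ext _ _ _
      (fun i => by
        refine (congrArg CommaMorphism.left (hm i)).trans ?_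
        exact (WidePullback.lift_π (fun _ : Fin (n + 1) => f) s.pt.hom (fun i => (s.proj i).left) (fun i => Over.w _) i).symm)
      (by
        refine (Over.w m).trans ?_
        exact (WidePullback.lift_base (fun _ : Fin (n + 1) => f) s.pt.hom (fun i => (s.proj i).left) (fun i => Over.w _)).symm)))
  let hP := isLimitFanMkObjOfIsLimit P _ _ hlim
  let W' : Over (F.obj K) := Over.mk (WidePullback.base (fun _ : Fin (n + 1) => F.map f))
  let l : W' ⟶ P.obj W := Fan.IsLimit.lift hP fun i =>
    Over.homMk (WidePullback.π (fun _ : Fin (n + 1) => F.map f) i) (WidePullback.π_arrow _ i)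
  have hl : ∀ i, l.left ≫ F.map (WidePullback.π (fun _ : Fin (n + 1) => f) i) =
      WidePullback.π (fun _ : Fin (n + 1) => F.map f) i :=
    fun i => congrArg CommaMorphism.left (Fan.IsLimit.fac hP _ i)
  have hb : l.left ≫ F.map (WidePullback.base (fun _ : Fin (n + 1) => f)) =
      WidePullback.base (fun _ : Fin (n + 1) => F.map f) := Over.w l
  refine ⟨l.left, ?_, ?_⟩
  · let e : P.obj W ⟶ P.obj W := Over.homMk (cmp F f n ≫ l.left) (by
      refine (Category.assoc _ _ _).trans ((congrArg (cmp F f n ≫ ·) hb).trans ?_)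
      exact cmp_base F f n)
    have he : e = 𝟙 _ := by
      refine Fan.IsLimit.hom_ext hP _ _ fun i => Over.OverMorphism.ext ?_
      show (cmp F f n ≫ l.left) ≫ F.map (WidePullback.π (fun _ : Fin (n + 1) => f) i) = 𝟙 _ ≫ F.map (WidePullback.π (fun _ : Fin (n + 1) => f) i)
      rw [Category.assoc, hl, cmp_π, Category.id_comp]
    exact congrArg CommaMorphism.left he
  · refine WidePullback.hom_ext _ _ _ (fun i => ?_) ?_
    · rw [Category.assoc, cmp_π, hl, Category.id_comp]
    · rw [Category.assoc, cmp_base, hb, Category.id_comp]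

/-- A functor commuting with fibre products commutes with Čech nerves. -/
noncomputable def nerveIso
    [∀ n : ℕ, HasWidePullback (Arrow.mk f).right (fun _ : Fin (n + 1) => (Arrow.mk f).left) (fun _ => (Arrow.mk f).hom)]
    [∀ n : ℕ, HasWidePullback (Arrow.mk (F.map f)).right (fun _ : Fin (n + 1) => (Arrow.mk (F.map f)).left)
      (fun _ => (Arrow.mk (F.map f)).hom)] :
    (Arrow.mk f).cechNerve ⋙ F ≅ (Arrow.mk (F.map f)).cechNerve :=
  NatIso.ofComponents (fun n => @asIso _ _ _ _ (cmp F f n.unop.len) (isIso_cmp F f _)) (fun {n m} g => by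
    show F.map ((Arrow.mk f).cechNerve.map g) ≫ cmp F f m.unop.len =
      cmp F f n.unop.len ≫ (Arrow.mk (F.map f)).cechNerve.map g
    refine WidePullback.hom_ext _ _ _ (fun i => ?_) ?_
    · rw [Category.assoc, cmp_π, ← F.map_comp, Category.assoc]
      erw [WidePullback.lift_π, WidePullback.lift_π]
      exact (cmp_π F f _ _).symm
    · rw [Category.assoc, cmp_base, ← F.map_comp, Category.assoc]
      erw [WidePullback.lift_base, WidePullback.lift_base]
      exact (cmp_base F f _).symm)

end Nerve

section Acyclic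

open Fib44

variable {C D : Type w} [SmallCategory C] [SmallCategory D] {J : GrothendieckTopology C}
  {K : GrothendieckTopology D} (u : C ⥤ D) [u.IsContinuous J K]

/-- The sheaf pullback of sheaves of sets. -/
noncomputable abbrev gs (J : GrothendieckTopology C) (K : GrothendieckTopology D) (u : C ⥤ D) [u.IsContinuous J K] : Sheaf J (Type w) ⥤ Sheaf K (Type w) := u.sheafPullback (Type w) J K

/-- The transpose of the identity of the free sheaf on the pullback. -/
noncomputable def unitFree (Z : Sheaf J (Type w)) :
    (SiteCoh.freeAb J).obj Z ⟶ (CohSite.push K J u).obj ((SiteCoh.freeAb K).obj ((gs J K u).obj Z)) :=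
  (homPushEquiv K J u Z _).symm (𝟙 _)

lemma homPushEquiv_unitFree (Z : Sheaf J (Type w)) {G : Sheaf K AddCommGrpCat.{w}}
    (y : (SiteCoh.freeAb K).obj ((gs J K u).obj Z) ⟶ G) :
    homPushEquiv K J u Z G (unitFree u Z ≫ (CohSite.push K J u).map y) = y := by
  rw [homPushEquiv_comp, unitFree, Equiv.apply_symm_apply, Category.id_comp]

lemma unitFree_bijective (Z : Sheaf J (Type w)) (G : Sheaf K AddCommGrpCat.{w}) :
    Function.Bijective fun y : (SiteCoh.freeAb K).obj ((gs J K u).obj Z) ⟶ G =>
      unitFree u Z ≫ (CohSite.push K J u).map y := by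
  have e : (fun y : (SiteCoh.freeAb K).obj ((gs J K u).obj Z) ⟶ G =>
      unitFree u Z ≫ (CohSite.push K J u).map y) = (homPushEquiv K J u Z G).symm :=
    funext fun y => (homPushEquiv K J u Z G).injective
      ((homPushEquiv_unitFree u Z y).trans ((homPushEquiv K J u Z G).apply_symm_apply y).symm)
  rw [e]
  exact Equiv.bijective _

set_option backward.isDefEq.respectTransparency.types false in
lemma homPushEquiv_naturality_left {Z Z' : Sheaf J (Type w)} (t : Z' ⟶ Z) {G : Sheaf K AddCommGrpCat.{w}}
    (x : (SiteCoh.freeAb J).obj Z ⟶ (CohSite.push K J u).obj G) :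
    homPushEquiv K J u Z' G ((SiteCoh.freeAb J).map t ≫ x) =
      (SiteCoh.freeAb K).map ((gs J K u).map t) ≫ homPushEquiv K J u Z G x := by
  change ((SiteCoh.freeAbAdj K).homEquiv _ G).symm
      (((u.sheafAdjunctionContinuous (Type w) J K).homEquiv Z' _).symm
        ((SiteCoh.freeAbAdj J).homEquiv Z' _ ((SiteCoh.freeAb J).map t ≫ x))) = _
  rw [(SiteCoh.freeAbAdj J).homEquiv_naturality_left]
  refine (congrArg ((SiteCoh.freeAbAdj K).homEquiv _ G).symm
    ((u.sheafAdjunctionContinuous (Type w) J K).homEquiv_naturality_left_symm t _)).trans ?_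
  exact (SiteCoh.freeAbAdj K).homEquiv_naturality_left_symm _ _

lemma unitFree_naturality {Z Z' : Sheaf J (Type w)} (t : Z' ⟶ Z) :
    (SiteCoh.freeAb J).map t ≫ unitFree u Z =
      unitFree u Z' ≫ (CohSite.push K J u).map ((SiteCoh.freeAb K).map ((gs J K u).map t)) := by
  apply (homPushEquiv K J u Z' _).injective
  rw [homPushEquiv_naturality_left, homPushEquiv_unitFree, unitFree, Equiv.apply_symm_apply,
    Category.comp_id]

variable [PreservesLimitsOfShape WalkingCospan (gs J K u)]

variable {K' L : Sheaf J (Type w)} (f : K' ⟶ L)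

/-- The comparison on the terms of the free Čech resolutions. -/
noncomputable def theta (n : SimplexCategoryᵒᵖ) :
    (SiteCoh.freeAb J).obj ((Arrow.mk f).cechNerve.obj n) ⟶
      (CohSite.push K J u).obj ((SiteCoh.freeAb K).obj ((Arrow.mk ((gs J K u).map f)).cechNerve.obj n)) :=
  unitFree u _ ≫ (CohSite.push K J u).map ((SiteCoh.freeAb K).map ((nerveIso (gs J K u) f).hom.app n))

lemma theta_naturality {n m : SimplexCategoryᵒᵖ} (g : n ⟶ m) :
    (SiteCoh.freeAb J).map ((Arrow.mk f).cechNerve.map g) ≫ theta (K := K) u f m =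
      theta (K := K) u f n ≫ (CohSite.push K J u).map ((SiteCoh.freeAb K).map
        ((Arrow.mk ((gs J K u).map f)).cechNerve.map g)) := by
  unfold theta
  rw [← Category.assoc, unitFree_naturality, Category.assoc, Category.assoc, ← Functor.map_comp,
    ← Functor.map_comp, ← Functor.map_comp, ← Functor.map_comp]
  exact congrArg (fun t => _ ≫ (CohSite.push K J u).map ((SiteCoh.freeAb K).map t))
    ((nerveIso (gs J K u) f).hom.naturality g)

lemma theta_bijective (n : SimplexCategoryᵒᵖ) (G : Sheaf K AddCommGrpCat.{w}) :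
    Function.Bijective fun y : (SiteCoh.freeAb K).obj ((Arrow.mk ((gs J K u).map f)).cechNerve.obj n) ⟶ G =>
      theta u f n ≫ (CohSite.push K J u).map y := by
  let φ := (SiteCoh.freeAb K).mapIso ((nerveIso (gs J K u) f).app n)
  have h := (unitFree_bijective (K := K) u ((Arrow.mk f).cechNerve.obj n) G).comp φ.homFromEquiv.symm.bijective
  convert h using 1
  funext y
  simp only [theta, Category.assoc, ← Functor.map_comp, Function.comp_apply]
  rfl

lemma theta_d (n : ℕ) :
    (freeNerveCx f).d (n + 1) n ≫ theta (K := K) u f (op ⦋n⦌) =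
      theta (K := K) u f (op ⦋n + 1⦌) ≫
        (CohSite.push K J u).map ((freeNerveCx ((gs J K u).map f)).d (n + 1) n) := by
  have : (CohSite.push K J u).Additive := by
    have := (u.sheafAdjunctionContinuous AddCommGrpCat.{w} J K).isRightAdjoint
    exact Functor.additive_of_preserves_binary_products _
  rw [AlternatingFaceMapComplex.obj_d_eq, AlternatingFaceMapComplex.obj_d_eq]
  refine Eq.trans ?_ (congrArg (theta (K := K) u f (op ⦋n + 1⦌) ≫ ·)
    ((CohSite.push K J u).map_sum _ _)).symm
  refine (Preadditive.sum_comp _ _ _).trans (Eq.trans ?_ (Preadditive.comp_sum _ _ _).symm)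
  refine Finset.sum_congr rfl fun i _ => ?_
  refine (Preadditive.zsmul_comp _ _ _).trans (Eq.trans ?_
    (congrArg (theta (K := K) u f (op ⦋n + 1⦌) ≫ ·) (Functor.map_zsmul _)).symm)
  refine Eq.trans ?_ (Preadditive.comp_zsmul _ _ _).symm
  exact congrArg _ (theta_naturality u f _)

theorem cechAcyclic_push {F : Sheaf K AddCommGrpCat.{w}} (hF : CohCx.IsTotallyAcyclic F) :
    CechAcyclic ((CohSite.push K J u).obj F) := by
  intro K' L f hf n x hx
  have : (gs J K u).IsLeftAdjoint :=
    (u.sheafAdjunctionContinuous (Type w) J K).isLeftAdjoint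
  have : Epi ((gs J K u).map f) := inferInstance
  obtain ⟨y, hy⟩ := (theta_bijective u f (op ⦋n + 1⦌) F).2 x
  have h1 : (freeNerveCx ((gs J K u).map f)).d (n + 2) (n + 1) ≫ y = 0 := by
    apply (theta_bijective u f (op ⦋n + 2⦌) F).1
    have e : theta (K := K) u f (op ⦋n + 2⦌) ≫ (CohSite.push K J u).map
        ((freeNerveCx ((gs J K u).map f)).d (n + 2) (n + 1) ≫ y) = (freeNerveCx f).d (n + 2) (n + 1) ≫ x := by
      refine (congrArg (theta u f _ ≫ ·) (Functor.map_comp _ _ _)).trans ?_
      refine (Category.assoc _ _ _).symm.trans ?_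
      refine (congrArg (· ≫ _) (theta_d u f (n + 1)).symm).trans ?_
      exact (Category.assoc _ _ _).trans (congrArg (_ ≫ ·) hy)
    refine (e.trans hx).trans ?_
    exact ((congrArg (theta u f _ ≫ ·) (Functor.map_zero _ _ _)).trans comp_zero).symm
  obtain ⟨z, hz⟩ := cech_preimage ((gs J K u).map f) F hF n y h1
  refine ⟨theta u f (op ⦋n⦌) ≫ (CohSite.push K J u).map z, ?_⟩
  rw [← hy, ← hz]
  refine (Category.assoc _ _ _).symm.trans ?_
  refine (congrArg (· ≫ _) (theta_d u f n)).trans ?_
  exact (Category.assoc _ _ _).trans (congrArg (theta u f _ ≫ ·) (Functor.map_comp _ _ _).symm)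

theorem isTotallyAcyclic_push {F : Sheaf K AddCommGrpCat.{w}} (hF : CohCx.IsTotallyAcyclic F) :
    CohCx.IsTotallyAcyclic ((CohSite.push K J u).obj F) :=
  fun L p => isTotallyAcyclic_of_cechAcyclic p _ (cechAcyclic_push u hF) L

end Acyclic

end Groth.Agent.Mod48.NerveTransport
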