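import Groth.Agent.SiteMod.LocCharts
import Mathlib.CategoryTheory.Sites.Over
import Mathlib.CategoryTheory.Limits.Final.Type

/-!
A morphism of sites localises at an object of the target: `D/X ⥤ C/uX`.
-/

universe u

open CategoryTheory CategoryTheory.Limits Opposite

namespace Groth.Agent.Mod48

open SiteMod

variable {C D : Type u} [SmallCategory C] [SmallCategory D] (J : GrothendieckTopology C)
  (K : GrothendieckTopology D) (u : D ⥤ C) [u.IsContinuous K J]
  [PreservesFiniteLimits (u.sheafPullback (Type u) K J)] (X : D)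

set_option backward.isDefEq.respectTransparency false in
include K in
/-- Two arrows into images of objects over `X` come locally from one, with an extra equation. -/
theorem exists_common_over {V : Over (u.obj X)} {Z₁ Z₂ : Over X}
    (a₁ : V ⟶ (Over.post u).obj Z₁) (a₂ : V ⟶ (Over.post u).obj Z₂) {T : D}
    (b₁ : Z₁.left ⟶ T) (b₂ : Z₂.left ⟶ T) (hb : a₁.left ≫ u.map b₁ = a₂.left ≫ u.map b₂) :
    ∃ S ∈ (J.over (u.obj X)) V, ∀ ⦃V' : Over (u.obj X)⦄ (v : V' ⟶ V), S v →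
      ∃ (Z : Over X) (c : V' ⟶ (Over.post u).obj Z) (p₁ : Z ⟶ Z₁) (p₂ : Z ⟶ Z₂),
        v ≫ a₁ = c ≫ (Over.post u).map p₁ ∧ v ≫ a₂ = c ≫ (Over.post u).map p₂ ∧
          p₁.left ≫ b₁ = p₂.left ≫ b₂ := by
  have hw : a₁.left ≫ u.map Z₁.hom = a₂.left ≫ u.map Z₂.hom := (Over.w a₁).trans (Over.w a₂).symm
  obtain ⟨S, hS, hc⟩ := exists_common J K u (W := V.left) (Fin.cons Z₁.left fun _ : Fin 1 => Z₂.left)
    (Fin.cases a₁.left fun _ => a₂.left)
  choose W g h hh using hc
  have h₁ : ∀ ⦃V' : C⦄ (v : V' ⟶ V.left) (hv : S v), ∃ h₁ : W v hv ⟶ Z₁.left,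
      v ≫ a₁.left = g v hv ≫ u.map h₁ := fun V' v hv => ⟨h v hv 0, hh v hv 0⟩
  have h₂ : ∀ ⦃V' : C⦄ (v : V' ⟶ V.left) (hv : S v), ∃ h₂ : W v hv ⟶ Z₂.left,
      v ≫ a₂.left = g v hv ≫ u.map h₂ := fun V' v hv => ⟨h v hv (Fin.succ 0), hh v hv (Fin.succ 0)⟩
  choose k₁ hk₁ using h₁
  choose k₂ hk₂ using h₂
  have he : ∀ ⦃V' : C⦄ (v : V' ⟶ V.left) (hv : S v), ∃ S' ∈ J V', ∀ ⦃V'' : C⦄ (w : V'' ⟶ V'), S' w →
      ∃ (W' : D) (g' : V'' ⟶ u.obj W') (k : W' ⟶ W v hv), w ≫ g v hv = g' ≫ u.map k ∧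
        k ≫ k₁ v hv ≫ Z₁.hom = k ≫ k₂ v hv ≫ Z₂.hom ∧ k ≫ k₁ v hv ≫ b₁ = k ≫ k₂ v hv ≫ b₂ := by
    intro V' v hv
    obtain ⟨S', hS', hs'⟩ := exists_equalize J K u (g v hv) (Fin.cons X fun _ : Fin 1 => T)
      (Fin.cases (k₁ v hv ≫ Z₁.hom) fun _ => k₁ v hv ≫ b₁)
      (Fin.cases (k₂ v hv ≫ Z₂.hom) fun _ => k₂ v hv ≫ b₂) (by
        refine Fin.cases ?_ (fun _ => ?_)
        · change g v hv ≫ u.map (k₁ v hv ≫ Z₁.hom) = g v hv ≫ u.map (k₂ v hv ≫ Z₂.hom)
          rw [u.map_comp, u.map_comp, ← Category.assoc, ← hk₁, ← Category.assoc, ← hk₂,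
            Category.assoc, Category.assoc, hw]
        · change g v hv ≫ u.map (k₁ v hv ≫ b₁) = g v hv ≫ u.map (k₂ v hv ≫ b₂)
          rw [u.map_comp, u.map_comp, ← Category.assoc, ← hk₁, ← Category.assoc, ← hk₂,
            Category.assoc, Category.assoc, hb])
    refine ⟨S', hS', fun V'' w hw' => ?_⟩
    obtain ⟨W', g', k, e, e'⟩ := hs' w hw'
    exact ⟨W', g', k, e, e' 0, e' (Fin.succ 0)⟩
  choose S' hS' hs' using he
  refine ⟨(Sieve.overEquiv V).symm (Sieve.bind S.1 S'), ?_, fun V'' v hv => ?_⟩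
  · rw [J.mem_over_iff, OrderIso.apply_symm_apply]
    exact J.bind_covering hS hS'
  · rw [Sieve.overEquiv_symm_iff] at hv
    obtain ⟨V', w, v', hv', hw', e⟩ := hv
    obtain ⟨W', g', k, e₀, e₁, e₂⟩ := hs' v' hv' w hw'
    refine ⟨Over.mk (k ≫ k₁ v' hv' ≫ Z₁.hom), Over.homMk g' ?_, Over.homMk (k ≫ k₁ v' hv') (Category.assoc _ _ _),
      Over.homMk (k ≫ k₂ v' hv') ((Category.assoc _ _ _).trans e₁.symm), ?_, ?_, ?_⟩
    · change g' ≫ u.map (k ≫ k₁ v' hv' ≫ Z₁.hom) = V''.hom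
      rw [u.map_comp, ← Category.assoc, ← e₀, u.map_comp, Category.assoc, ← Category.assoc (g v' hv'),
        ← hk₁, Category.assoc, show a₁.left ≫ u.map Z₁.hom = V.hom from Over.w a₁, ← Category.assoc,
        e, Over.w]
    · ext
      change v.left ≫ a₁.left = g' ≫ u.map (k ≫ k₁ v' hv')
      rw [u.map_comp, ← Category.assoc g', ← e₀, Category.assoc, ← hk₁, ← Category.assoc, e]
    · ext
      change v.left ≫ a₂.left = g' ≫ u.map (k ≫ k₂ v' hv')
      rw [u.map_comp, ← Category.assoc g', ← e₀, Category.assoc, ← hk₂, ← Category.assoc, e]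
    · change (k ≫ k₁ v' hv') ≫ b₁ = (k ≫ k₂ v' hv') ≫ b₂
      rw [Category.assoc, Category.assoc]
      exact e₂

set_option backward.isDefEq.respectTransparency false in
include K in
/-- The localised functor is continuous. -/
theorem isContinuous_post : (Over.post (X := X) u).IsContinuous (K.over X) (J.over (u.obj X)) where
  op_comp_isSheaf_of_types G Z S hS x hx := by
    have hG : Presieve.IsSheaf (J.over (u.obj X)) G.obj := (isSheaf_iff_isSheaf_of_type _ _).1 G.2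
    let P := Over.post (X := X) u
    let T := S.functorPushforward P
    have hT : T ∈ (J.over (u.obj X)) (P.obj Z) := by
      rw [J.mem_over_iff, Sieve.overEquiv_functorPushforward_post]
      exact functorPushforward_mem_of_isContinuous J K u hS
    have key : ∀ ⦃V : Over (u.obj X)⦄ {Z₁ Z₂ : Over X} (a₁ : V ⟶ P.obj Z₁) (a₂ : V ⟶ P.obj Z₂)
        (s₁ : Z₁ ⟶ Z) (s₂ : Z₂ ⟶ Z) (h₁ : S s₁) (h₂ : S s₂) (_ : a₁ ≫ P.map s₁ = a₂ ≫ P.map s₂),
        G.obj.map a₁.op (x s₁ h₁) = G.obj.map a₂.op (x s₂ h₂) := by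
      intro V Z₁ Z₂ a₁ a₂ s₁ s₂ h₁ h₂ e
      obtain ⟨R, hR, hr⟩ := exists_common_over J K u X a₁ a₂ s₁.left s₂.left (congrArg CommaMorphism.left e)
      refine (hG R hR).isSeparatedFor.ext fun V' v hv => ?_
      obtain ⟨W, c, p₁, p₂, e₁, e₂, e₃⟩ := hr v hv
      have hc := hx p₁ p₂ h₁ h₂ (Over.OverMorphism.ext e₃)
      change G.obj.map v.op (G.obj.map a₁.op _) = G.obj.map v.op (G.obj.map a₂.op _)
      rw [← FunctorToTypes.map_comp_apply, ← FunctorToTypes.map_comp_apply, ← op_comp, ← op_comp, e₁, e₂,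
        op_comp, op_comp, FunctorToTypes.map_comp_apply, FunctorToTypes.map_comp_apply]
      exact congrArg (G.obj.map c.op) hc
    let y : Presieve.FamilyOfElements G.obj T.arrows := fun V f hf =>
      let d := Presieve.getFunctorPushforwardStructure hf
      G.obj.map d.lift.op (x d.premap d.cover)
    have hy : ∀ ⦃V : Over (u.obj X)⦄ {Z₁ : Over X} (a : V ⟶ P.obj Z₁) (s : Z₁ ⟶ Z) (h : S s)
        (hf : T (a ≫ P.map s)), y (a ≫ P.map s) hf = G.obj.map a.op (x s h) := fun V Z₁ a s h hf =>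
      key _ _ _ _ _ _ (Presieve.getFunctorPushforwardStructure hf).fac.symm
    have hyc : y.Compatible := by
      intro Y₁ Y₂ V g₁ g₂ f₁ f₂ h₁ h₂ e
      let d₁ := Presieve.getFunctorPushforwardStructure h₁
      let d₂ := Presieve.getFunctorPushforwardStructure h₂
      change G.obj.map g₁.op (G.obj.map d₁.lift.op _) = G.obj.map g₂.op (G.obj.map d₂.lift.op _)
      rw [← FunctorToTypes.map_comp_apply, ← FunctorToTypes.map_comp_apply, ← op_comp, ← op_comp]
      refine key (g₁ ≫ d₁.lift) (g₂ ≫ d₂.lift) _ _ _ _ ?_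
      rw [Category.assoc, Category.assoc, ← d₁.fac, ← d₂.fac, e]
    refine ⟨(hG T hT).amalgamate y hyc, fun Z₁ s h => ?_, fun z hz => ?_⟩
    · have hf : T (P.map s) := Sieve.image_mem_functorPushforward P S h
      change G.obj.map (P.map s).op _ = _
      rw [(hG T hT).valid_glue hyc _ hf]
      exact (key _ (𝟙 _) _ s _ h ((Presieve.getFunctorPushforwardStructure hf).fac.symm.trans
        (Category.id_comp _).symm)).trans (FunctorToTypes.map_id_apply G.obj _)
    · refine (hG T hT).isSeparatedFor.ext fun V f hf => ?_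
      rw [(hG T hT).valid_glue hyc _ hf]
      obtain ⟨Z₁, s, a, h, rfl⟩ := hf
      rw [op_comp, FunctorToTypes.map_comp_apply]
      exact (congrArg (G.obj.map a.op) (hz s h)).trans (hy a s h _).symm

/-- The localised functor is final. -/
theorem final_post : (Over.post (X := X) u).Final := by
  constructor
  intro W
  let top : StructuredArrow W (Over.post (X := X) u) :=
    StructuredArrow.mk (Y := Over.mk (𝟙 X)) (Over.homMk W.hom ((congrArg (W.hom ≫ ·) (u.map_id X)).trans (Category.comp_id _)) : W ⟶ (Over.post u).obj (Over.mk (𝟙 X)))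
  have : Nonempty (StructuredArrow W (Over.post (X := X) u)) := ⟨top⟩
  have hz : ∀ Y : StructuredArrow W (Over.post (X := X) u), Zigzag Y top := fun Y =>
    Zigzag.of_hom (StructuredArrow.homMk (Over.homMk Y.right.hom (Category.comp_id _)) (by
      ext
      exact Over.w Y.hom))
  exact zigzag_isConnected fun Y Y' => (hz Y).trans (hz Y').symm

end Groth.Agent.Mod48
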