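import Groth.Prelude.Def_ModSite
import Mathlib.RingTheory.Flat.CategoryTheory
import Mathlib.Algebra.Category.ModuleCat.Presheaf.Monoidal
import Mathlib.Algebra.Category.ModuleCat.Presheaf.Free
import Mathlib.Algebra.Category.ModuleCat.Presheaf.Abelian
import Mathlib.Algebra.Category.ModuleCat.Presheaf.EpiMono

/-!
Sectionwise tensor product of presheaves of modules: exactness and flatness.
-/

universe u

open CategoryTheory CategoryTheory.Limits Opposite MonoidalCategory
open scoped TensorProduct

namespace Groth.Agent.Mod48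

variable {C : Type u} [SmallCategory C] {O : Cᵒᵖ ⥤ CommRingCat.{u}}


/-- Sectionwise flat presheaves of modules are flat. -/
theorem preTensorRight_exact (F : (PresheafOfModules.{u} (O ⋙ forget₂ CommRingCat.{u} RingCat.{u}))) (hF : ∀ X : Cᵒᵖ, Module.Flat (O.obj X) (F.obj X)) :
    PreservesFiniteLimits (tensorRight F) ∧ PreservesFiniteColimits (tensorRight F) := by
  refine ⟨⟨fun J _ _ => ⟨fun {K} => ⟨fun {c} hc => ?_⟩⟩⟩, inferInstance⟩
  have : ∀ X : Cᵒᵖ, PreservesFiniteLimits (tensorRight (show ModuleCat.{u} (O.obj X) from F.obj X)) :=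
    fun X => (Module.Flat.iff_preservesFiniteLimits_tensorRight _).1 (hF X)
  exact ⟨PresheafOfModules.evaluationJointlyReflectsLimits _ _ (fun X =>
    isLimitOfPreserves (tensorRight (show ModuleCat.{u} (O.obj X) from F.obj X))
      (isLimitOfPreserves (PresheafOfModules.evaluation _ X) hc))⟩

/-- A short complex of presheaves of modules is exact if it is so on all sections. -/
lemma pre_exact_of_eval (S : ShortComplex (PresheafOfModules.{u} (O ⋙ forget₂ CommRingCat.{u} RingCat.{u})))
    (h : ∀ X : Cᵒᵖ, ∀ y, (S.g.app X).hom y = 0 → ∃ x, (S.f.app X).hom x = y) : S.Exact := by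
  rw [ShortComplex.exact_iff_isZero_homology, IsZero.iff_id_eq_zero]
  ext X : 1
  have hX : (S.map (PresheafOfModules.evaluation _ X)).Exact :=
    (ShortComplex.moduleCat_exact_iff _).2 (fun y hy => h X y hy)
  exact (((ShortComplex.exact_iff_isZero_homology _).1 hX |>.of_iso (S.mapHomologyIso (PresheafOfModules.evaluation _ X)).symm).eq_of_src _ _)

/-- Evaluation of a short exact sequence is short exact. -/
lemma pre_shortExact_eval {S : ShortComplex (PresheafOfModules.{u} (O ⋙ forget₂ CommRingCat.{u} RingCat.{u}))} (hS : S.ShortExact) (X : Cᵒᵖ) :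
    Function.Injective (S.f.app X).hom ∧ Function.Surjective (S.g.app X).hom ∧
      Function.Exact (S.f.app X).hom (S.g.app X).hom := by
  have h := hS.map_of_exact (PresheafOfModules.evaluation _ X)
  exact ⟨(ModuleCat.mono_iff_injective _).1 h.mono_f, (ModuleCat.epi_iff_surjective _).1 h.epi_g,
    (ShortComplex.ShortExact.moduleCat_exact_iff_function_exact _).1 h.exact⟩

/-- The nine lemma chase behind "the sequence stays exact after tensoring when its cokernel is flat". -/
lemma rTensor_injective_of_chase {R : Type*} [CommRing R] {A₁ A₂ A₃ K P G : Type*}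
    [AddCommGroup A₁] [Module R A₁] [AddCommGroup A₂] [Module R A₂] [AddCommGroup A₃] [Module R A₃]
    [AddCommGroup K] [Module R K] [AddCommGroup P] [Module R P] [AddCommGroup G] [Module R G]
    [Module.Flat R P] {i : A₁ →ₗ[R] A₂} {q : A₂ →ₗ[R] A₃} (hi : Function.Injective i)
    (hiq : Function.Exact i q) (hq : Function.Surjective q) {k : K →ₗ[R] P} {g : P →ₗ[R] G}
    (hkg : Function.Exact k g) (hg : Function.Surjective g) (hA : Function.Injective (k.lTensor A₃)) :
    Function.Injective (i.rTensor G) := by
  rw [injective_iff_map_eq_zero]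
  intro x hx
  obtain ⟨y, rfl⟩ := LinearMap.lTensor_surjective A₁ hg x
  have hy : g.lTensor A₂ (i.rTensor P y) = 0 := by
    rw [← LinearMap.comp_apply, LinearMap.lTensor_comp_rTensor, ← LinearMap.rTensor_comp_lTensor,
      LinearMap.comp_apply, hx]
  obtain ⟨w, hw⟩ := (lTensor_exact A₂ hkg hg _).1 hy
  have hqi : q.comp i = 0 := LinearMap.ext hiq.apply_apply_eq_zero
  have hw0 : k.lTensor A₃ (q.rTensor K w) = 0 := by
    rw [← LinearMap.comp_apply, LinearMap.lTensor_comp_rTensor, ← LinearMap.rTensor_comp_lTensor,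
      LinearMap.comp_apply, hw, ← LinearMap.comp_apply, ← LinearMap.rTensor_comp, hqi]
    simp
  obtain ⟨v, rfl⟩ := (rTensor_exact K hiq hq _).1 (hA (hw0.trans (map_zero _).symm))
  have e : i.rTensor P (k.lTensor A₁ v) = i.rTensor P y := by
    rw [← hw, ← LinearMap.comp_apply, ← LinearMap.comp_apply, LinearMap.lTensor_comp_rTensor,
      LinearMap.rTensor_comp_lTensor]
  rw [← Module.Flat.rTensor_preserves_injective_linearMap i hi e, ← LinearMap.comp_apply,
    ← LinearMap.lTensor_comp, show g.comp k = 0 from LinearMap.ext hkg.apply_apply_eq_zero]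
  simp

/-- The free presheaf of modules on all sections of `G`. -/
noncomputable abbrev preCover (G : (PresheafOfModules.{u} (O ⋙ forget₂ CommRingCat.{u} RingCat.{u}))) : (PresheafOfModules.{u} (O ⋙ forget₂ CommRingCat.{u} RingCat.{u})) :=
  (PresheafOfModules.free _).obj (G.presheaf ⋙ forget _)

/-- The canonical map from it. -/
noncomputable abbrev preCoverπ (G : (PresheafOfModules.{u} (O ⋙ forget₂ CommRingCat.{u} RingCat.{u}))) : preCover G ⟶ G :=
  PresheafOfModules.freeObjDesc (𝟙 _)

/-- A short exact sequence with flat cokernel stays short exact after tensoring. -/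
theorem preTensor_shortExact (S : ShortComplex (PresheafOfModules.{u} (O ⋙ forget₂ CommRingCat.{u} RingCat.{u}))) (hS : S.ShortExact)
    (hF : PreservesFiniteLimits (tensorRight S.X₃)) (G : (PresheafOfModules.{u} (O ⋙ forget₂ CommRingCat.{u} RingCat.{u}))) [(tensorRight G).PreservesZeroMorphisms] :
    (S.map (tensorRight G)).ShortExact := by
  classical
  haveI := hF
  let π := preCoverπ G
  haveI : PreservesFiniteLimits (tensorLeft S.X₃) :=
    preservesFiniteLimits_of_natIso (BraidedCategory.tensorLeftIsoTensorRight S.X₃).symm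
  have hepi : ∀ X, Function.Surjective (π.app X).hom := by
    intro X g
    refine ⟨ModuleCat.freeMk g, ?_⟩
    exact ModuleCat.freeDesc_apply _ _
  haveI hk : Mono (S.X₃ ◁ kernel.ι π) := inferInstanceAs (Mono ((tensorLeft S.X₃).map (kernel.ι π)))
  have hA : ∀ X, Function.Injective ((S.X₃ ◁ kernel.ι π).app X).hom := fun X =>
    PresheafOfModules.injective_of_mono _ X
  have hker : ∀ X, Function.Exact ((kernel.ι π).app X).hom (π.app X).hom := by
    intro X
    have h1 : (ShortComplex.mk _ _ (kernel.condition π)).Exact :=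
      ShortComplex.exact_of_f_is_kernel _ (kernelIsKernel π)
    exact (ShortComplex.ShortExact.moduleCat_exact_iff_function_exact _).1
      (h1.map (PresheafOfModules.evaluation _ X))
  have hP : ∀ X, Module.Flat (O.obj X) ((preCover G).obj X) := fun X =>
    inferInstanceAs (Module.Flat (O.obj X) ((G.presheaf ⋙ forget _).obj X →₀ O.obj X))
  refine ShortComplex.ShortExact.mk' (pre_exact_of_eval _ fun X y hy => ?_) ?_ ?_
  · obtain ⟨_, h2, h3⟩ := pre_shortExact_eval hS X
    exact (rTensor_exact (G.obj X) (f := (S.f.app X).hom) (g := (S.g.app X).hom) h3 h2 y).1 hy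
  · refine PresheafOfModules.mono_of_injective fun X => ?_
    obtain ⟨h1, h2, h3⟩ := pre_shortExact_eval hS X
    haveI := hP X
    exact rTensor_injective_of_chase (A₁ := S.X₁.obj X) (A₂ := S.X₂.obj X) (A₃ := S.X₃.obj X)
      (R := O.obj X) (P := (preCover G).obj X) h1 h3 h2 (hker X) (hepi X) (hA X)
  · refine PresheafOfModules.epi_of_surjective fun X => ?_
    exact LinearMap.rTensor_surjective (G.obj X) (pre_shortExact_eval hS X).2.1

end Groth.Agent.Mod48
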