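import Groth.Agent.ProEt91.Cont
import Groth.Agent.Mod48.DerivedPrecomp
import Mathlib.CategoryTheory.Adjunction.Triple
import Mathlib.CategoryTheory.Sites.CoverLifting

/-!
The small and the big pro-etale site.
-/

universe u

open CategoryTheory CategoryTheory.Limits AlgebraicGeometry Opposite

namespace Groth.Agent.Mod48

set_option backward.isDefEq.respectTransparency.types false

variable (S : Scheme.{u})

/-- Big coverings of objects weakly etale over the base come from the small site. -/
theorem isCocontinuous_proEt_forget :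
    (Scheme.ProEt.forget S).IsCocontinuous (Scheme.ProEt.topology S) (Scheme.proetaleTopology.over S) := by
  refine ⟨fun {U} T hT => ?_⟩
  rw [GrothendieckTopology.mem_over_iff] at hT
  obtain ⟨R, hR, hle⟩ := (Precoverage.mem_toGrothendieck_iff_of_isStableUnderComposition
    (J := Scheme.proetalePrecoverage.{u})).1 hT
  obtain ⟨ι, Y, f₀, rfl⟩ := R.exists_eq_ofArrows
  let f : ∀ i, Y i ⟶ U.left := f₀
  have hwe : ∀ i, WeaklyEtale (f i) := fun i =>
    ((Scheme.ofArrows_mem_precoverage_iff _).1 hR.2).2 i
  let Z : ι → S.ProEt := fun i =>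
    have := hwe i
    have hU : WeaklyEtale U.hom := U.prop
    @Scheme.ProEt.mk S (Y i) (f i ≫ U.hom) (MorphismProperty.comp_mem @WeaklyEtale (f i) U.hom (hwe i) hU)
  let g : ∀ i, Z i ⟶ U := fun i => MorphismProperty.Over.homMk (f i) rfl
  have hmem : Presieve.ofArrows Z g ∈ Scheme.ProEt.precoverage S U := by
    show (Presieve.ofArrows Z g).map (Scheme.ProEt.forget S ⋙ Over.forget S) ∈ Scheme.proetalePrecoverage U.left
    rw [Presieve.map_ofArrows]
    exact hR
  refine (Scheme.ProEt.topology S).superset_covering ?_ (Precoverage.generate_mem_toGrothendieck hmem)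
  rw [Sieve.generate_le_iff]
  rintro W _ ⟨i⟩
  exact (Sieve.overEquiv_iff T (f i)).1 (hle _ _ (Presieve.ofArrows.mk i))

/-- Restriction to the small site and its adjoints. -/
theorem restrict_facts
    [((Scheme.ProEt.forget S).sheafPushforwardContinuous AddCommGrpCat.{u + 1} (Scheme.ProEt.topology S)
      (Scheme.proetaleTopology.over S)).Additive]
    [HasInjectiveResolutions (Sheaf (Scheme.proetaleTopology.over S) AddCommGrpCat.{u + 1})]
    (F : Sheaf (Scheme.ProEt.topology S) AddCommGrpCat.{u + 1}) :
    IsIso (((Scheme.ProEt.forget S).sheafAdjunctionContinuous AddCommGrpCat.{u + 1}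
      (Scheme.ProEt.topology S) (Scheme.proetaleTopology.over S)).unit.app F) ∧
    ∀ q : ℕ, 0 < q →
      IsZero ((((Scheme.ProEt.forget S).sheafPushforwardContinuous AddCommGrpCat.{u + 1}
        (Scheme.ProEt.topology S) (Scheme.proetaleTopology.over S)).rightDerived q).obj
        (((Scheme.ProEt.forget S).sheafPullback AddCommGrpCat.{u + 1} (Scheme.ProEt.topology S)
          (Scheme.proetaleTopology.over S)).obj F)) := by
  let G := Scheme.ProEt.forget S
  let J := Scheme.ProEt.topology S
  let K := Scheme.proetaleTopology.over S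
  have : G.IsCocontinuous J K := isCocontinuous_proEt_forget S
  let adj₁ := G.sheafAdjunctionContinuous AddCommGrpCat.{u + 1} J K
  let adj₂ := G.sheafAdjunctionCocontinuous AddCommGrpCat.{u + 1} J K
  have hc : IsIso adj₂.counit := by
    have : ∀ H : Sheaf J AddCommGrpCat.{u + 1}, IsIso (adj₂.counit.app H) := fun H => by
      have : IsIso ((sheafToPresheaf J AddCommGrpCat.{u + 1}).map (adj₂.counit.app H)) := by
        change IsIso (adj₂.counit.app H).hom
        rw [Functor.sheafAdjunctionCocontinuous_counit_app_hom]
        have : G.Full := inferInstanceAs (Scheme.ProEt.forget S).Full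
        have : G.Faithful := inferInstanceAs (Scheme.ProEt.forget S).Faithful
        rw [Functor.ranAdjunction_counit]
        have : G.op.Full := inferInstance
        have : G.op.Faithful := inferInstance
        have hp : G.op.HasPointwiseRightKanExtension H.obj := inferInstance
        exact NatIso.isIso_of_isIso_app (α := G.op.ranCounit.app H.obj)
      exact isIso_of_reflects_iso _ (sheafToPresheaf J AddCommGrpCat.{u + 1})
    exact NatIso.isIso_of_isIso_app _
  let t : Adjunction.Triple (G.sheafPullback AddCommGrpCat.{u + 1} J K)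
      (G.sheafPushforwardContinuous AddCommGrpCat.{u + 1} J K)
      (G.sheafPushforwardCocontinuous AddCommGrpCat.{u + 1} J K) := ⟨adj₁, adj₂⟩
  have hu : IsIso adj₁.unit := t.isIso_unit_iff_isIso_counit.2 hc
  refine ⟨inferInstanceAs (IsIso (adj₁.unit.app F)), fun q hq => ?_⟩
  have : PreservesFiniteLimits (G.sheafPushforwardContinuous AddCommGrpCat.{u + 1} J K) :=
    ⟨fun _ _ _ => (adj₁.rightAdjoint_preservesLimits :
      PreservesLimitsOfSize.{0, 0} _).preservesLimitsOfShape⟩
  have : PreservesFiniteColimits (G.sheafPushforwardContinuous AddCommGrpCat.{u + 1} J K) :=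
    ⟨fun _ _ _ => (adj₂.leftAdjoint_preservesColimits :
      PreservesColimitsOfSize.{0, 0} _).preservesColimitsOfShape⟩
  obtain ⟨n, rfl⟩ := Nat.exists_eq_succ_of_ne_zero hq.ne'
  exact isZero_rightDerived_succ_of_exact _ _ n

end Groth.Agent.Mod48
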