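import Groth.Agent.Mod48.ProEtPres
import Groth.Agent.S0176
import Groth.Agent.ProEt91.Site

/-!
Every covering of a quasi-compact object of the small pro-etale site is refined by a finite family of presented
objects.
-/

universe u

open CategoryTheory CategoryTheory.Limits AlgebraicGeometry Opposite

namespace Groth.Agent.Mod48.ProLim

set_option backward.isDefEq.respectTransparency.types false

variable {X : Scheme.{u}}

/-- Presented objects. -/
def Presented (U : X.ProEt) : Prop := ∃ P : Pres X, P.c.pt = U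

/-- An affine weakly etale scheme over an affine open is dominated by a presented object. -/
theorem exists_presented_over (A : X.Opens) (hA : IsAffineOpen A) (W : X.ProEt) [IsAffine W.left]
    (w : W.left ⟶ A.toScheme) (hw : w ≫ A.ι = W.hom) :
    ∃ (P : Pres X) (g : P.c.pt ⟶ W), Surjective g.left := by
  have : IsAffine A.toScheme := hA
  have : WeaklyEtale W.hom := W.prop
  have : WeaklyEtale w := by
    have : WeaklyEtale (w ≫ A.ι) := by rw [hw]; exact W.prop
    exact WeaklyEtale.of_comp w A.ι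
  letI : Algebra Γ(A.toScheme, ⊤) Γ(W.left, ⊤) := w.appTop.hom.toAlgebra
  have hq : Spec.map w.appTop = W.left.isoSpec.inv ≫ w ≫ A.toScheme.isoSpec.hom := by
    rw [← Scheme.isoSpec_hom_naturality, Iso.inv_hom_id_assoc]
  have h1 : WeaklyEtale (Spec.map (CommRingCat.ofHom (algebraMap Γ(A.toScheme, ⊤) Γ(W.left, ⊤)))) := by
    show WeaklyEtale (Spec.map w.appTop)
    rw [hq]; infer_instance
  have hflat : Module.Flat Γ(A.toScheme, ⊤) Γ(W.left, ⊤) := RingHom.flat_algebraMap_iff.1
    ((HasRingHomProperty.Spec_iff (P := @Flat)).1 h1.flat)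
  have hwe : Algebra.WeaklyEtale Γ(A.toScheme, ⊤) Γ(W.left, ⊤) := by
    refine ⟨hflat, ?_⟩
    have h2 := h1.flat_diagonal
    rw [diagonal_SpecMap, MorphismProperty.cancel_right_of_respectsIso @Flat,
      HasRingHomProperty.Spec_iff (P := @Flat)] at h2
    exact h2
  obtain ⟨B', _, _, _, _, hff, -, hie⟩ := Groth.Agent.S0176.result Γ(A.toScheme, ⊤) Γ(W.left, ⊤)
  obtain ⟨J, _, _, D, c, hc, hP, ⟨e⟩⟩ := hie
  let s : Spec Γ(A.toScheme, ⊤) ⟶ X := A.toScheme.isoSpec.inv ≫ A.ι
  have : Etale s := inferInstanceAs (Etale (A.toScheme.isoSpec.inv ≫ A.ι))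
  have hE : ∀ j, Etale (Spec.map (D.obj j).hom ≫ s) := fun j => by
    have : Etale (Spec.map (D.obj j).hom) := by
      rw [HasRingHomProperty.Spec_iff (P := @Etale)]
      letI := (D.obj j).hom.hom.toAlgebra
      exact RingHom.etale_algebraMap.2 (hP j)
    infer_instance
  let D' : Jᵒᵖ ⥤ X.Etale :=
    { obj := fun j => MorphismProperty.Over.mk ⊤ (Spec.map (D.obj j.unop).hom ≫ s) (hE j.unop)
      map := fun {i j} a => MorphismProperty.Over.homMk (Spec.map (D.map a.unop).right) (by
        show Spec.map (D.map a.unop).right ≫ Spec.map (D.obj j.unop).hom ≫ s = Spec.map (D.obj i.unop).hom ≫ s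
        rw [← Category.assoc, ← Spec.map_comp, Under.w])
      map_id := fun j => MorphismProperty.Over.Hom.ext (by
        show Spec.map (D.map (𝟙 j).unop).right = 𝟙 _
        rw [unop_id, D.map_id, Under.id_right, Spec.map_id])
      map_comp := fun a b => MorphismProperty.Over.Hom.ext (by
        show Spec.map (D.map (a ≫ b).unop).right = Spec.map (D.map a.unop).right ≫ Spec.map (D.map b.unop).right
        rw [unop_comp, D.map_comp, Under.comp_right, Spec.map_comp]) }
  have hsq : Spec.map c.pt.hom = Spec.map e.inv.right ≫ Spec.map (CommRingCat.ofHom (algebraMap Γ(A.toScheme, ⊤) B')) := by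
    rw [← Spec.map_comp]
    exact congrArg Spec.map (Under.w e.inv).symm
  have hwB : Algebra.WeaklyEtale Γ(A.toScheme, ⊤) B' :=
    Groth.Agent.Ind91.weaklyEtale_of_isIndEtale ⟨J, inferInstance, inferInstance, D, c, hc, hP, ⟨e⟩⟩
  have : IsIso (Spec.map e.inv.right) :=
    have : IsIso e.inv.right := inferInstanceAs (IsIso ((Under.forget _).map e.inv))
    inferInstance
  have hpt : WeaklyEtale (Spec.map c.pt.hom ≫ s) := by
    have := WE91.weaklyEtale_SpecMap_algebraMap ↥Γ(A.toScheme, ⊤) B'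
    rw [hsq]
    infer_instance
  let Pt : X.ProEt := Scheme.ProEt.mk (Spec.map c.pt.hom ≫ s)
  let c' : Cone (D' ⋙ ProEtS.eps X) :=
    { pt := Pt
      π :=
        { app := fun j => MorphismProperty.Over.homMk (Spec.map (c.ι.app j.unop).right) (by
            show Spec.map (c.ι.app j.unop).right ≫ Spec.map (D.obj j.unop).hom ≫ s = Spec.map c.pt.hom ≫ s
            rw [← Category.assoc, ← Spec.map_comp]
            exact congrArg (fun q => Spec.map q ≫ s) (Under.w (c.ι.app j.unop)))
          naturality := fun i j a => by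
            refine (Category.id_comp _).trans (MorphismProperty.Over.Hom.ext ?_)
            show Spec.map (c.ι.app j.unop).right = Spec.map (c.ι.app i.unop).right ≫ Spec.map (D.map a.unop).right
            rw [← Spec.map_comp, ← Under.comp_right, c.w] } }
  have hlim : Nonempty (IsLimit ((schP X).mapCone c')) := by
    have : PreservesColimit D (Under.forget (CommRingCat.of Γ(A.toScheme, ⊤))) := inferInstance
    let h2 := isLimitOfPreserves Scheme.Spec (isColimitOfPreserves (Under.forget _) hc).op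
    let η : (D ⋙ Under.forget _).op ⋙ Scheme.Spec ≅ (D' ⋙ ProEtS.eps X) ⋙ schP X :=
      NatIso.ofComponents (fun _ => Iso.refl _) (fun a => (Category.comp_id _).trans (Category.id_comp _).symm)
    exact ⟨((IsLimit.postcomposeHomEquiv η _).symm h2).ofIsoLimit
      (Cone.ext (Iso.refl _) (fun j => (Category.comp_id _).trans (Category.id_comp _).symm))⟩
  let P : Pres X :=
    { I := Jᵒᵖ
      D := D'
      c := c'
      isLimit := hlim.some
      affine := fun i j a => inferInstanceAs (IsAffineHom (Spec.map (D.map a.unop).right))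
      compact := fun i => inferInstanceAs (CompactSpace ↥(Spec (D.obj i.unop).right))
      qs := fun i => inferInstanceAs (QuasiSeparatedSpace ↥(Spec (D.obj i.unop).right)) }
  let q : Spec c.pt.right ⟶ W.left :=
    Spec.map e.inv.right ≫ Spec.map (CommRingCat.ofHom (algebraMap Γ(W.left, ⊤) B')) ≫ W.left.isoSpec.inv
  refine ⟨P, MorphismProperty.Over.homMk q ?_, ?_⟩
  · show q ≫ W.hom = Spec.map c.pt.hom ≫ s
    have h4 : W.left.isoSpec.inv ≫ w = Spec.map w.appTop ≫ A.toScheme.isoSpec.inv := by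
      rw [hq]; simp
    have h5 : Spec.map (CommRingCat.ofHom (algebraMap Γ(W.left, ⊤) B')) ≫ Spec.map w.appTop =
        Spec.map (CommRingCat.ofHom (algebraMap Γ(A.toScheme, ⊤) B')) := by
      rw [← Spec.map_comp]
      exact congrArg Spec.map (CommRingCat.hom_ext (RingHom.ext fun x =>
        (IsScalarTower.algebraMap_apply Γ(A.toScheme, ⊤) Γ(W.left, ⊤) B' x).symm))
    simp only [q, hsq, s, ← hw, Category.assoc]
    rw [reassoc_of% h4, reassoc_of% h5]
  · show Surjective q
    have : Surjective (Spec.map (CommRingCat.ofHom (algebraMap ↥Γ(W.left, ⊤) B'))) :=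
      ⟨PrimeSpectrum.comap_surjective_of_faithfullyFlat⟩
    infer_instance

/-- Coverings of quasi-compact objects are refined by finite families of presented objects. -/
theorem exists_presented_refinement (U : X.ProEt) [CompactSpace U.left] [QuasiSeparatedSpace U.left] {S : Sieve U}
    (hS : S ∈ Scheme.ProEt.topology X U) :
    ∃ (m : ℕ) (Y : Fin m → X.ProEt) (g : ∀ i, Y i ⟶ U), (∀ i, Presented (Y i)) ∧ (∀ i, S.arrows (g i)) ∧
      Sieve.generate (Presieve.ofArrows Y g) ∈ Scheme.ProEt.topology X U := by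
  classical
  obtain ⟨R, hR, hle⟩ := ProEt91.mem_topology_iff_exists.1 hS
  obtain ⟨ι, Z, f, rfl⟩ := R.exists_eq_ofArrows
  have hR' : (Presieve.ofArrows Z f).map (schP X) ∈ Scheme.proetalePrecoverage U.left := hR
  rw [Presieve.map_ofArrows] at hR'
  have hqc : QuasiCompactCover (PreZeroHypercover.mk ι (fun i => (Z i).left) fun i => (f i).left) :=
    Scheme.presieve₀_mem_qcPrecoverage_iff.1 hR'.1
  obtain ⟨n, a, V, hV, hcov⟩ := QuasiCompactCover.exists_isAffineOpen_of_isCompact
    (PreZeroHypercover.mk ι (fun i => (Z i).left) fun i => (f i).left) (U := (⊤ : U.left.Opens)) isCompact_univ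
  let N := Σ k : Fin n, (V k).toScheme
  have hbase : ∀ z : N, ∃ (B : (Z (a z.1)).left.Opens) (A : X.Opens), IsAffineOpen B ∧ IsAffineOpen A ∧
      z.2.1 ∈ B ∧ B ≤ (Z (a z.1)).hom ⁻¹ᵁ A := fun z => by
    obtain ⟨_, ⟨A', hA, rfl⟩, hxA, -⟩ := X.isBasis_affineOpens.exists_subset_of_mem_open
      (Set.mem_univ ((Z (a z.1)).hom z.2.1)) isOpen_univ
    let A : X.Opens := A'
    let O : (Z (a z.1)).left.Opens := (Z (a z.1)).hom ⁻¹ᵁ A
    obtain ⟨_, ⟨B', hB, rfl⟩, hxB, hsub⟩ := (Z (a z.1)).left.isBasis_affineOpens.exists_subset_of_mem_open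
      (show z.2.1 ∈ (O : Set (Z (a z.1)).left) from hxA) O.isOpen
    exact ⟨B', A, hB, hA, hxB, hsub⟩
  choose B A hB hA hzB hBA using hbase
  have hcpt : ∀ k : Fin n, ∃ T : Finset (V k).toScheme, (V k : Set (Z (a k)).left) ⊆
      ⋃ z ∈ T, (B ⟨k, z⟩ : Set (Z (a k)).left) := fun k =>
    (hV k).isCompact.elim_finite_subcover (fun z : (V k).toScheme => (B ⟨k, z⟩ : Set (Z (a k)).left))
      (fun z => (B ⟨k, z⟩).2) (fun x hx => Set.mem_iUnion.2 ⟨⟨x, hx⟩, hzB ⟨k, ⟨x, hx⟩⟩⟩)
  choose T hT using hcpt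
  let M := Σ k : Fin n, ↥(T k)
  have : Finite M := inferInstance
  have hover : ∀ z : M, ∃ (P : Pres X) (g : P.c.pt ⟶ ProEt91.openObj (Z (a z.1)) (B ⟨z.1, z.2.1⟩)),
      Surjective g.left := fun z => by
    let z' : N := ⟨z.1, z.2.1⟩
    have : IsAffine (ProEt91.openObj (Z (a z'.1)) (B z')).left := hB z'
    have hr : Set.range ((B z').ι ≫ (Z (a z'.1)).hom) ⊆ Set.range (A z').ι := by
      rintro _ ⟨x, rfl⟩
      rw [Scheme.Opens.range_ι]
      exact hBA z' x.2
    exact exists_presented_over (A z') (hA z') (ProEt91.openObj (Z (a z'.1)) (B z'))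
      (IsOpenImmersion.lift (A z').ι _ hr) (IsOpenImmersion.lift_fac _ _ _)
  choose P q hq using hover
  obtain ⟨m, ⟨e⟩⟩ := Finite.exists_equiv_fin M
  let g : ∀ i, (P (e.symm i)).c.pt ⟶ U := fun i =>
    q (e.symm i) ≫ ProEt91.openHom (Z (a (e.symm i).1)) (B ⟨(e.symm i).1, (e.symm i).2.1⟩) ≫ f (a (e.symm i).1)
  refine ⟨m, fun i => (P (e.symm i)).c.pt, g, fun i => ⟨P (e.symm i), rfl⟩,
    fun i => S.downward_closed (S.downward_closed (hle _ _ ⟨_⟩) _) _, ?_⟩
  let Y' : ULift.{u} (Fin m) → X.ProEt := fun i => (P (e.symm i.down)).c.pt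
  let g' : ∀ i, Y' i ⟶ U := fun i => g i.down
  have hs : ∀ x : U.left, ∃ (z : M) (y : (P z).c.pt.left),
      (q z ≫ ProEt91.openHom _ _ ≫ f (a z.1)).left y = x := fun x => by
    obtain ⟨k, v, hv, rfl⟩ := Set.mem_iUnion.1 (hcov.ge (Set.mem_univ x))
    obtain ⟨z, hz, hvz⟩ := Set.mem_iUnion₂.1 (hT k hv)
    obtain ⟨y, hy⟩ := (hq ⟨k, ⟨z, hz⟩⟩).surj (⟨v, hvz⟩ : (B ⟨k, z⟩).toScheme)
    refine ⟨⟨k, ⟨z, hz⟩⟩, y, ?_⟩
    show (f (a k)).left ((B ⟨k, z⟩).ι ((q ⟨k, ⟨z, hz⟩⟩).left y)) = _
    rw [hy]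
    rfl
  refine GrothendieckTopology.superset_covering _ ?_ (Precoverage.generate_mem_toGrothendieck
    (ProEt91.ofArrows_mem_precoverage Y' g' ?_ fun x => ?_))
  · rw [Sieve.generate_le_iff]
    rintro W k ⟨i⟩
    exact Sieve.le_generate _ _ _ ⟨i.down⟩
  · have hq : ∀ i : ULift.{u} (Fin m), AlgebraicGeometry.QuasiCompact (g' i).left := fun i => by
      let P' := P (e.symm i.down)
      have : CompactSpace ↥(Y' i).left :=
        Scheme.compactSpace_of_isLimit (sch (P'.D ⋙ ProEtS.eps X)) ((schP X).mapCone P'.c) P'.isLimit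
      exact quasiCompact_of_compactSpace _
    refine ⟨fun {O} hO => .of_finite_of_isSpectralMap (fun i => haveI := hq i; (g' i).left.isSpectralMap)
      (fun x _ => ?_) O.2 hO.isCompact⟩
    obtain ⟨z, y, hy⟩ := hs x
    refine ⟨⟨e z⟩, ?_⟩
    show x ∈ Set.range (g (e z)).left
    simp only [g]
    rw [e.symm_apply_apply]
    exact ⟨y, hy⟩
  · obtain ⟨z, y, hy⟩ := hs x
    refine ⟨⟨e z⟩, ?_⟩
    show x ∈ Set.range (g (e z)).left
    simp only [g]
    rw [e.symm_apply_apply]
    exact ⟨y, hy⟩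

end Groth.Agent.Mod48.ProLim
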