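import Groth.Agent.Mod48.ProEtCech
import Groth.Agent.Mod48.ProEtIndCover
import Groth.Agent.Mod48.LargeFree
import Groth.Agent.Unr55.Et.CechFlasque

/-!
Higher classes of the pullback of an injective etale sheaf vanish on presented objects.
-/

universe u

open CategoryTheory CategoryTheory.Limits AlgebraicGeometry Opposite CategoryTheory.Abelian

namespace Groth.Agent.Mod48.ProLim

set_option backward.isDefEq.respectTransparency.types false

variable {X : Scheme.{u}}

/-- Presented objects are quasi-compact quasi-separated. -/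
theorem qcqs_of_presented {U : X.ProEt} (h : Presented U) :
    CompactSpace U.left ∧ QuasiSeparatedSpace U.left := by
  obtain ⟨P, rfl⟩ := h
  have hc := Scheme.compactSpace_of_isLimit (sch (P.D ⋙ ProEtS.eps X)) _ P.isLimit
  obtain ⟨i⟩ := IsCofiltered.nonempty (C := P.I)
  have : IsAffineHom (P.c.π.app i).left := isAffineHom_π_app (sch (P.D ⋙ ProEtS.eps X)) _ P.isLimit i
  exact ⟨hc, quasiSeparatedSpace_of_quasiSeparated (P.c.π.app i).left⟩

/-- Fibre products of presented objects over a presented object are presented. -/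
theorem presented_prod {U : X.ProEt} (hU : Presented U) {m : ℕ} (Y : ULift.{u + 1} (Fin m) → Over U)
    (hY : ∀ i, Presented (Y i).left) {n : ℕ} (a : Fin n → ULift.{u + 1} (Fin m)) :
    Presented (∏ᶜ (Y ∘ a)).left := by
  obtain ⟨PU, rfl⟩ := hU
  suffices H : ∀ (L : Fin m → X.ProEt) (_ : ∀ i, Presented (L i)) (f : ∀ i, L i ⟶ PU.c.pt),
      Presented (∏ᶜ ((fun x : ULift.{u + 1} (Fin m) => Over.mk (f x.down)) ∘ a)).left from
    H (fun i => (Y ⟨i⟩).left) (fun i => hY _) fun i => (Y ⟨i⟩).hom
  intro L hL f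
  choose PY hPY using hL
  obtain rfl : L = fun i => (PY i).c.pt := (funext hPY).symm
  exact ⟨pwPres (PU := PU) (PY := PY) (f := f) (fun i => (a i).down), rfl⟩

variable [ProEtS.EpsCont X]

/-- Čech acyclicity for finite families of presented objects over a presented object. -/
def CechAcy (F : ProEtS.AbP X) : Prop :=
  ∀ U : X.ProEt, Presented U → ∀ (m : ℕ) (Y : ULift.{u + 1} (Fin m) → Over U),
    (∀ i, Presented (Y i).left) → ∀ q : ℕ, IsZero (EtCech.cechH Y F.obj (q + 1))

theorem cechAcy_sh (I : EtCoh.Ab X) [Injective I] : CechAcy (sh I) := by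
  intro U hU m Y hY q
  obtain ⟨PU, rfl⟩ := hU
  suffices H : ∀ (L : Fin m → X.ProEt) (_ : ∀ i, Presented (L i)) (f : ∀ i, L i ⟶ PU.c.pt),
      IsZero (EtCech.cechH (fun x : ULift.{u + 1} (Fin m) => Over.mk (f x.down)) (sh I).obj (q + 1)) from
    H (fun i => (Y ⟨i⟩).left) (fun i => hY _) fun i => (Y ⟨i⟩).hom
  intro L hL f
  choose PY hPY using hL
  obtain rfl : L = fun i => (PY i).c.pt := (funext hPY).symm
  exact isZero_cechH (PU := PU) (PY := PY) (f := f) I q

omit [ProEtS.EpsCont X] in
theorem exists_cov {U : X.ProEt} (hU : Presented U) {F G : ProEtS.AbP X} (g : F ⟶ G) [Epi g]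
    (s : G.obj.obj (op U)) :
    ∃ (m : ℕ) (Y : ULift.{u + 1} (Fin m) → Over U), (∀ i, Presented (Y i).left) ∧
      (∀ i, (Presheaf.imageSieve g.hom s).arrows (Y i).hom) ∧
      Sieve.ofArrows (fun i => (Y i).left) (fun i => (Y i).hom) ∈ Scheme.ProEt.topology X U := by
  obtain ⟨hc, hq⟩ := qcqs_of_presented hU
  have : Sheaf.IsLocallySurjective g :=
    (Sheaf.isLocallySurjective_iff_epi' AddCommGrpCat.{u + 1} g).2 inferInstance
  obtain ⟨m, Y, k, hY, hk, hcov⟩ := exists_presented_refinement U
    (Presheaf.imageSieve_mem (Scheme.ProEt.topology X) g.hom s)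
  refine ⟨m, fun i => Over.mk (k i.down), fun i => hY i.down, fun i => hk i.down,
    GrothendieckTopology.superset_covering _ ?_ hcov⟩
  rw [Sieve.generate_le_iff]
  rintro W w ⟨i⟩
  exact Sieve.ofArrows_mk _ _ (ULift.up.{u + 1} i)

omit [ProEtS.EpsCont X] in
theorem surjective_sections {S : ShortComplex (ProEtS.AbP X)} (hS : S.ShortExact) (h : CechAcy S.X₁)
    {U : X.ProEt} (hU : Presented U) : Function.Surjective (S.g.hom.app (op U)) := by
  intro s
  have : Epi S.g := hS.epi_g
  obtain ⟨m, Y, hY, hmem, hcov⟩ := exists_cov hU S.g s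
  exact Unr55.CechFl.exists_preimage_of_cechH_one S hS U s ⟨_, Y, hmem, hcov, h U hU m Y hY 0⟩

omit [ProEtS.EpsCont X] in
theorem cechAcy_cokernel {S : ShortComplex (ProEtS.AbP X)} (hS : S.ShortExact) [Injective S.X₂]
    (h : CechAcy S.X₁) : CechAcy S.X₃ := by
  intro U hU m Y hY q
  exact Unr55.CechFl.isZero_homology_of_exact' Y
    (Functor.whiskerLeft (Over.forget U).op S.f.hom) (Functor.whiskerLeft (Over.forget U).op S.g.hom)
    (fun W => (Unr55.CechFl.exists_sections_preimage S hS W.unop.left 0 (map_zero _)).1)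
    (fun W y hy => (Unr55.CechFl.exists_sections_preimage S hS W.unop.left y hy).2)
    (fun W z => ConcreteCategory.congr_hom
      (NatTrans.congr_app (congrArg InducedCategory.Hom.hom S.zero) _) z)
    q (fun a => surjective_sections hS h (presented_prod hU Y hY a))
    (Unr55.CechInjU.isZero_cechH.{u + 1, u + 1, u} Y S.X₂ q) (h U hU m Y hY (q + 1))

omit [ProEtS.EpsCont X] in
/-- Cartan's criterion. -/
theorem subsingleton_ext_of_cechAcy : ∀ (n : ℕ) (F : ProEtS.AbP X), CechAcy F →
    ∀ (U : X.ProEt), Presented U →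
      Subsingleton (Ext.{u + 1} (lFree (Scheme.ProEt.topology X) U) F (n + 1))
  | n, F, hF, U, hU => by
    refine subsingleton_of_forall_eq 0 fun x => ?_
    let S : ShortComplex (ProEtS.AbP X) :=
      ShortComplex.mk (Injective.ι F) (cokernel.π (Injective.ι F)) (cokernel.condition _)
    have hS : S.ShortExact :=
      { exact := ShortComplex.exact_of_g_is_cokernel _ (cokernelIsCokernel _) }
    have : Injective S.X₂ := inferInstanceAs (Injective (Injective.under F))
    obtain ⟨y, hy⟩ := Ext.covariant_sequence_exact₁ _ hS x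
      ((Ext.subsingleton_of_injective _ S.X₂ n).elim _ _) rfl
    cases n with
    | zero =>
      obtain ⟨c, rfl⟩ := (Ext.mk₀_bijective _ _).2 y
      obtain ⟨t, rfl⟩ := (lEquiv U _).symm.surjective c
      obtain ⟨b, rfl⟩ := surjective_sections hS hF hU t
      rw [← hy, ← lEquiv_symm_comp, ← Ext.mk₀_comp_mk₀, Ext.comp_assoc_of_second_deg_zero,
        hS.comp_extClass, Ext.comp_zero]
    | succ n =>
      have := subsingleton_ext_of_cechAcy n S.X₃ (cechAcy_cokernel hS hF) U hU
      rw [← hy, Subsingleton.elim y 0, Ext.zero_comp]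

/-- Higher classes of the pullback of an injective sheaf vanish on presented objects. -/
theorem subsingleton_ext_sh (I : EtCoh.Ab X) [Injective I] (n : ℕ) {U : X.ProEt} (hU : Presented U) :
    Subsingleton (Ext.{u + 1} (lFree (Scheme.ProEt.topology X) U) (sh I) (n + 1)) :=
  subsingleton_ext_of_cechAcy n _ (cechAcy_sh I) U hU

omit [ProEtS.EpsCont X] in
/-- Qcqs etale schemes are presented. -/
theorem presented_eps (E : X.Etale) [hc : CompactSpace E.left] [hq : QuasiSeparatedSpace E.left] :
    Presented ((ProEtS.eps X).obj E) := by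
  let D : Discrete PUnit.{u + 1} ⥤ X.Etale := Functor.fromPUnit E
  let c : Cone (D ⋙ ProEtS.eps X) :=
    { pt := (ProEtS.eps X).obj E
      π := { app := fun _ => 𝟙 _, naturality := fun i j a => by simp [D] } }
  have hl : IsLimit ((schP X).mapCone c) :=
    { lift := fun s => s.π.app ⟨PUnit.unit⟩
      fac := fun s j => by
        obtain ⟨⟨⟩⟩ := j
        show s.π.app _ ≫ (schP X).map (𝟙 _) = _
        rw [CategoryTheory.Functor.map_id]
        exact Category.comp_id _
      uniq := fun s m hm => by
        have := hm ⟨PUnit.unit⟩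
        change m ≫ (schP X).map (𝟙 _) = _ at this
        rw [CategoryTheory.Functor.map_id] at this
        exact (Category.comp_id m).symm.trans this }
  exact ⟨{ I := Discrete PUnit.{u + 1}, D := D, c := c, isLimit := hl
           affine := fun i j a => inferInstanceAs (IsAffineHom (𝟙 E.left))
           compact := fun _ => hc, qs := fun _ => hq }, rfl⟩

end Groth.Agent.Mod48.ProLim
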