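import Groth.Agent.Mod48.ProEtPowers
import Groth.Agent.Unr55.Et.CechInjU

/-!
The pullback of an injective etale sheaf is Čech acyclic for finite families of presented objects.
-/

universe u

open CategoryTheory CategoryTheory.Limits AlgebraicGeometry Opposite

namespace Groth.Agent.Mod48.ProLim

set_option backward.isDefEq.respectTransparency.types false

open Fib44 (Cech.face)

variable {X : Scheme.{u}} {ι : Type} {PU : Pres X} {PY : ι → Pres X} {f : ∀ x, (PY x).c.pt ⟶ PU.c.pt}

/-- The face map between fibre powers. -/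
noncomputable abbrev pface {n m : ℕ} (α : Fin (m + 1) → ι) (g : Fin (n + 1) → Fin (m + 1)) :
    (pw (f := f) α).left ⟶ (pw (f := f) (α ∘ g)).left :=
  (Cech.face (fam f) α g).left

/-- The face map between fibre powers of a model. -/
noncomputable abbrev mface (M : Mdl PU PY f) {n m : ℕ} (α : Fin (m + 1) → ι) (g : Fin (n + 1) → Fin (m + 1)) :
    (pwM M α).left ⟶ (pwM M (α ∘ g)).left :=
  (Cech.face (famM M) α g).left

lemma pface_rho (M : Mdl PU PY f) {n m : ℕ} (α : Fin (m + 1) → ι) (g : Fin (n + 1) → Fin (m + 1)) :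
    pface α g ≫ rho M (α ∘ g) = rho M α ≫ (ProEtS.eps X).map (mface M α g) := by
  refine eps_hom_ext M (α ∘ g) (fun i => ?_) ?_
  · refine (Category.assoc _ _ _).trans ((congrArg ((pface α g).left ≫ ·) (rho_π M (α ∘ g) i)).trans ?_)
    refine (Category.assoc _ _ _).symm.trans (Eq.trans ?_ (Category.assoc _ _ _).symm)
    have e1 : (pface (f := f) α g).left ≫ (Pi.π (fam f ∘ (α ∘ g)) i).left.left =
        (Pi.π (fam f ∘ α) (g i)).left.left :=
      congrArg (fun q : pw (f := f) α ⟶ fam f (α (g i)) => q.left.left)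
        (Pi.lift_π (fun k => Pi.π (fam f ∘ α) (g k)) i)
    have e2 : (mface M α g).left ≫ (Pi.π (famM M ∘ (α ∘ g)) i).left.left =
        (Pi.π (famM M ∘ α) (g i)).left.left :=
      congrArg (fun q : pwM M α ⟶ famM M (α (g i)) => q.left.left)
        (Pi.lift_π (fun k => Pi.π (famM M ∘ α) (g k)) i)
    exact (congrArg (· ≫ ((PY (α (g i))).c.π.app (M.m (α (g i)))).left) e1).trans
      ((rho_π M α (g i)).symm.trans (congrArg ((rho M α).left ≫ ·) e2.symm))
  · refine (Category.assoc _ _ _).trans ((congrArg ((pface α g).left ≫ ·) (rho_hom M (α ∘ g))).trans ?_)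
    refine (Category.assoc _ _ _).symm.trans (Eq.trans ?_ (Category.assoc _ _ _).symm)
    have e1 : (pface (f := f) α g).left ≫ (pw (f := f) (α ∘ g)).hom.left = (pw (f := f) α).hom.left :=
      congrArg (fun q : (pw (f := f) α).left ⟶ PU.c.pt => q.left) (Over.w (Cech.face (fam f) α g))
    have e2 : (mface M α g).left ≫ (pwM M (α ∘ g)).hom.left = (pwM M α).hom.left :=
      congrArg (fun q : (pwM M α).left ⟶ PU.D.obj M.k => q.left) (Over.w (Cech.face (famM M) α g))
    exact (congrArg (· ≫ (PU.c.π.app M.k).left) e1).trans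
      ((rho_hom M α).symm.trans (congrArg ((rho M α).left ≫ ·) e2.symm))

lemma mface_map {M M' : Mdl PU PY f} (φ : M ⟶ M') {n m : ℕ} (α : Fin (m + 1) → ι)
    (g : Fin (n + 1) → Fin (m + 1)) :
    mface M α g ≫ (pwD (α ∘ g)).map φ = (pwD α).map φ ≫ mface M' α g := by
  refine pwM_hom_ext M' (α ∘ g) (fun i => ?_) ?_
  · refine (Category.assoc _ _ _).trans ((congrArg (mface M α g ≫ ·) (pwMap_π φ (α ∘ g) i)).trans ?_)
    refine (Category.assoc _ _ _).symm.trans (Eq.trans ?_ (Category.assoc _ _ _).symm)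
    have e1 : mface M α g ≫ (Pi.π (famM M ∘ (α ∘ g)) i).left = (Pi.π (famM M ∘ α) (g i)).left :=
      congrArg (fun q : pwM M α ⟶ famM M (α (g i)) => q.left)
        (Pi.lift_π (fun k => Pi.π (famM M ∘ α) (g k)) i)
    have e2 : mface M' α g ≫ (Pi.π (famM M' ∘ (α ∘ g)) i).left = (Pi.π (famM M' ∘ α) (g i)).left :=
      congrArg (fun q : pwM M' α ⟶ famM M' (α (g i)) => q.left)
        (Pi.lift_π (fun k => Pi.π (famM M' ∘ α) (g k)) i)
    exact (congrArg (· ≫ (PY (α (g i))).D.map (φ.b (α (g i)))) e1).trans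
      ((pwMap_π φ α (g i)).symm.trans (congrArg ((pwMap φ α).left ≫ ·) e2.symm))
  · refine (Category.assoc _ _ _).trans ((congrArg (mface M α g ≫ ·) (pwMap_hom φ (α ∘ g))).trans ?_)
    refine (Category.assoc _ _ _).symm.trans (Eq.trans ?_ (Category.assoc _ _ _).symm)
    exact (congrArg (· ≫ PU.D.map φ.a) (Over.w (Cech.face (famM M) α g))).trans
      ((pwMap_hom φ α).symm.trans (congrArg ((pwMap φ α).left ≫ ·) (Over.w (Cech.face (famM M') α g)).symm))

variable [ProEtS.EpsCont X] (F : EtCoh.Ab X)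

/-- Sections over an etale scheme as sections of the pullback. -/
noncomputable abbrev eta {E : X.Etale} (s : EtCoh.sect F E) : (sh F).obj.obj (op ((ProEtS.eps X).obj E)) :=
  GSite.etaSect (Scheme.ProEt.topology X) (ProEtS.eps X) F s

lemma res_eta {E E' : X.Etale} (a : E' ⟶ E) (s : EtCoh.sect F E) :
    res F ((ProEtS.eps X).map a) (eta F s) = eta F (F.obj.map a.op s) :=
  GSite.eta_map F a s

lemma eta_sum {E : X.Etale} {κ : Type} [Fintype κ] (c : κ → ℤ) (s : κ → EtCoh.sect F E) :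
    eta F (∑ j, c j • s j) = ∑ j, c j • eta F (s j) := by
  refine (map_sum _ _ _).trans (Finset.sum_congr rfl fun j _ => ?_)
  exact map_zsmul _ _ _

lemma res_sum {U V : X.ProEt} (g : V ⟶ U) {κ : Type} [Fintype κ] (c : κ → ℤ)
    (t : κ → (sh F).obj.obj (op U)) : res F g (∑ j, c j • t j) = ∑ j, c j • res F g (t j) := by
  refine (map_sum _ _ _).trans (Finset.sum_congr rfl fun j _ => ?_)
  exact map_zsmul _ _ _

lemma res_map_zero {U V : X.ProEt} (g : V ⟶ U) : res F g (0 : (sh F).obj.obj (op U)) = 0 := map_zero _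

lemma sect_map_map {E E' E'' : X.Etale} (b : E' ⟶ E) (a : E'' ⟶ E') (s : EtCoh.sect F E) :
    F.obj.map a.op (F.obj.map b.op s) = F.obj.map (a ≫ b).op s := by
  rw [op_comp, Functor.map_comp]
  rfl

variable [Finite ι]

/-- The pullback of an injective sheaf is Čech acyclic for finite families of presented objects. -/
theorem isZero_cechH (I : EtCoh.Ab X) [Injective I] (q : ℕ) :
    IsZero (EtCech.cechH (fun x : ULift.{u + 1} ι => fam f x.down) (sh I).obj (q + 1)) := by
  classical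
  have := Fintype.ofFinite ι
  let Yf : ULift.{u + 1} ι → Over PU.c.pt := fun x => fam f x.down
  refine (Fib44.Cech.isZero_homology_succ_iff Yf _ q).2 fun c hc => ?_
  let dn : ∀ {n : ℕ}, (Fin n → ULift.{u + 1} ι) → Fin n → ι := fun a i => (a i).down
  let hL := fun (n : ℕ) (α : Fin n → ι) => (pwPres (PU := PU) (PY := PY) (f := f) α).isLimit
  have h1 : ∀ α : Fin (q + 2) → ι, ∃ (M : Mdl PU PY f)
      (z : (sh I).obj.obj (op ((ProEtS.eps X).obj (pwM M α).left))),
      res I (rho M α) z = c fun i => ⟨α i⟩ := fun α => by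
    have : ∀ N : Mdl PU PY f, CompactSpace ↥((pwD α ⋙ ProEtS.eps X).obj N).left :=
      (pwPres (PU := PU) (PY := PY) (f := f) α).compact
    have : ∀ N : Mdl PU PY f, QuasiSeparatedSpace ↥((pwD α ⋙ ProEtS.eps X).obj N).left :=
      (pwPres (PU := PU) (PY := PY) (f := f) α).qs
    have : ∀ M M' (φ : M ⟶ M'), IsAffineHom ((pwD (PU := PU) (PY := PY) (f := f) α ⋙ ProEtS.eps X).map φ).left :=
      (pwPres (PU := PU) (PY := PY) (f := f) α).affine
    exact exists_res_eq I (D := pwD α ⋙ ProEtS.eps X) (hL _ α) (c fun i => ⟨α i⟩)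
  choose M z hz using h1
  obtain ⟨M₀, hM₀⟩ := IsCofiltered.inf_objs_exists ((Finset.univ : Finset (Fin (q + 2) → ι)).image M)
  let φ : ∀ α, M₀ ⟶ M α := fun α => (hM₀ (Finset.mem_image_of_mem M (Finset.mem_univ α))).some
  have h2 : ∀ α : Fin (q + 2) → ι, ∃ s : EtCoh.sect I (pwM M₀ α).left, res I (rho M₀ α) (eta I s) = c fun i => ⟨α i⟩ := by
    intro α
    obtain ⟨s, hs⟩ := (proEtGSite X).etaSect_surjective I (pwM M₀ α).left
      (res I ((ProEtS.eps X).map ((pwD α).map (φ α))) (z α))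
    refine ⟨s, ?_⟩
    refine (congrArg (res I (rho M₀ α)) hs).trans ?_
    exact (res_comp I _ _ _).symm.trans ((congrArg (fun q => res I q (z α)) (rho_naturality (φ α) α)).trans (hz α))
  choose s hs using h2
  let d : ∀ (β : Fin (q + 3) → ι), EtCoh.sect I (pwM M₀ β).left := fun β =>
    ∑ j : Fin (q + 3), (-1 : ℤ) ^ (j : ℕ) • I.obj.map (mface M₀ β j.succAbove).op (s (β ∘ j.succAbove))
  have h3 : ∀ β : Fin (q + 3) → ι, ∃ (M₁ : Mdl PU PY f) (ψ : M₁ ⟶ M₀),
      I.obj.map ((pwD β).map ψ).op (d β) = 0 := by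
    intro β
    have : ∀ N : Mdl PU PY f, CompactSpace ↥((pwD β ⋙ ProEtS.eps X).obj N).left :=
      (pwPres (PU := PU) (PY := PY) (f := f) β).compact
    have : ∀ M M' (φ : M ⟶ M'), IsAffineHom ((pwD (PU := PU) (PY := PY) (f := f) β ⋙ ProEtS.eps X).map φ).left :=
      (pwPres (PU := PU) (PY := PY) (f := f) β).affine
    have h0 : res I (rho M₀ β) (eta I (d β)) = 0 := by
      rw [eta_sum, res_sum]
      refine Eq.trans (Finset.sum_congr rfl fun j _ => congrArg _ ?_) (hc fun i => ⟨β i⟩)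
      rw [← res_eta, ← res_comp, ← pface_rho, res_comp, hs]
      rfl
    obtain ⟨M₁, ψ, hψ⟩ := exists_res_eq_zero I (D := pwD β ⋙ ProEtS.eps X) (hL _ β) (i := M₀) (eta I (d β)) h0
    refine ⟨M₁, ψ, (proEtGSite X).etaSect_injective I _ ?_⟩
    exact ((res_eta I ((pwD β).map ψ) (d β)).symm.trans hψ).trans (map_zero _).symm
  choose M' ψ hψ using h3
  obtain ⟨M₁, hM₁, hcomp⟩ := IsCofiltered.inf_exists
    (insert M₀ ((Finset.univ : Finset (Fin (q + 3) → ι)).image M'))
    ((Finset.univ : Finset (Fin (q + 3) → ι)).image fun β =>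
      ⟨M' β, M₀, Finset.mem_insert_of_mem (Finset.mem_image_of_mem M' (Finset.mem_univ β)),
        Finset.mem_insert_self _ _, ψ β⟩)
  let χ : M₁ ⟶ M₀ := hM₁ (Finset.mem_insert_self _ _)
  have hd : ∀ β, I.obj.map ((pwD β).map χ).op (d β) = 0 := fun β => by
    have e : hM₁ (Finset.mem_insert_of_mem (Finset.mem_image_of_mem M' (Finset.mem_univ β))) ≫ ψ β = χ :=
      hcomp _ _ (Finset.mem_image_of_mem (fun β => (⟨M' β, M₀,
        Finset.mem_insert_of_mem (Finset.mem_image_of_mem M' (Finset.mem_univ β)),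
        Finset.mem_insert_self _ _, ψ β⟩ : Σ' (X Y : Mdl PU PY f) (_ : X ∈ _) (_ : Y ∈ _), X ⟶ Y))
        (Finset.mem_univ β))
    rw [← e, Functor.map_comp, op_comp, Functor.map_comp, ConcreteCategory.comp_apply, hψ, map_zero]
  let Ym : ULift.{u + 1} ι → Over (PU.D.obj M₁.k) := fun x => famM M₁ x.down
  let f' : Fib44.Cech.Coch Ym ((Over.forget (PU.D.obj M₁.k)).op ⋙ I.obj) (q + 1) :=
    fun a => I.obj.map ((pwD (dn a)).map χ).op (s (dn a))
  have : Injective I.obj := Injective.injective_of_adjoint (sheafificationAdjunction X.smallEtaleTopology AddCommGrpCat.{u + 1}) I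
  obtain ⟨g, hg⟩ := (Fib44.Cech.isZero_homology_succ_iff Ym _ q).1
    (Unr55.CechInjU.acyclic.{u + 1, u + 1, u} Ym I.obj q) f' fun a => by
      refine Eq.trans (Finset.sum_congr rfl fun j _ => congrArg _ ?_)
        (((map_sum (I.obj.map ((pwD (dn a)).map χ).op).hom _ _).trans
          (Finset.sum_congr rfl fun j _ => map_zsmul _ _ _)).symm.trans (hd (dn a)))
      show I.obj.map (mface M₁ (dn a) j.succAbove).op
          (I.obj.map ((pwD (dn a ∘ j.succAbove)).map χ).op (s (dn a ∘ j.succAbove))) =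
        I.obj.map ((pwD (dn a)).map χ).op (I.obj.map (mface M₀ (dn a) j.succAbove).op (s (dn a ∘ j.succAbove)))
      exact (sect_map_map I _ _ _).trans ((congrArg (fun m => I.obj.map m.op (s (dn a ∘ j.succAbove)))
        (mface_map χ (dn a) j.succAbove)).trans (sect_map_map I _ _ _).symm)
  refine ⟨fun a => res I (rho M₁ (dn a)) (eta I (g a)), fun a => ?_⟩
  have h4 := congrArg (fun t => res I (rho M₁ (dn a)) (eta I t)) (hg a)
  refine Eq.trans ?_ (h4.trans ?_)
  · show _ = res I (rho M₁ (dn a)) (eta I (∑ j : Fin (q + 2), (-1 : ℤ) ^ (j : ℕ) •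
      I.obj.map (mface M₁ (dn a) j.succAbove).op (g (a ∘ j.succAbove))))
    rw [eta_sum, res_sum]
    refine Finset.sum_congr rfl fun j _ => congrArg _ ?_
    show res I (pface (dn a) j.succAbove) (res I (rho M₁ (dn a ∘ j.succAbove)) (eta I (g (a ∘ j.succAbove)))) = _
    rw [← res_comp, pface_rho, res_comp, res_eta]
  · show res I (rho M₁ (dn a)) (eta I (I.obj.map ((pwD (dn a)).map χ).op (s (dn a)))) = c a
    exact (congrArg (res I (rho M₁ (dn a))) (res_eta I ((pwD (dn a)).map χ) (s (dn a))).symm).trans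
      ((res_comp I _ _ _).symm.trans ((congrArg (fun q => res I q (eta I (s (dn a))))
        (rho_naturality χ (dn a))).trans (hs (dn a))))

end Groth.Agent.Mod48.ProLim
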