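import Groth.Agent.ProEt91.Site

/-!
Coverings of quasi-compact objects of the small pro-etale site by finitely many affine objects.
-/

universe u

open CategoryTheory CategoryTheory.Limits AlgebraicGeometry Opposite

namespace Groth.Agent.Mod48.ProLim

set_option backward.isDefEq.respectTransparency.types false

variable {X : Scheme.{u}}

/-- A covering of a quasi-compact object is refined by a finite jointly surjective family of affines. -/
theorem exists_finite_affine (U : X.ProEt) [CompactSpace U.left] {S : Sieve U}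
    (hS : S ∈ Scheme.ProEt.topology X U) :
    ∃ (n : ℕ) (Y : Fin n → X.ProEt) (g : ∀ k, Y k ⟶ U), (∀ k, IsAffine (Y k).left) ∧
      (∀ k, S.arrows (g k)) ∧ ∀ x : U.left, ∃ k, x ∈ Set.range (g k).left := by
  obtain ⟨R, hR, hle⟩ := ProEt91.mem_topology_iff_exists.1 hS
  obtain ⟨ι, Z, f, rfl⟩ := R.exists_eq_ofArrows
  have hR' : (Presieve.ofArrows Z f).map (Scheme.ProEt.forget X ⋙ Over.forget X) ∈
      Scheme.proetalePrecoverage U.left := hR
  rw [Presieve.map_ofArrows] at hR'
  have hqc : QuasiCompactCover (PreZeroHypercover.mk ι (fun i => (Z i).left) fun i => (f i).left) :=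
    Scheme.presieve₀_mem_qcPrecoverage_iff.1 hR'.1
  obtain ⟨n, a, V, hV, hcov⟩ := QuasiCompactCover.exists_isAffineOpen_of_isCompact
    (PreZeroHypercover.mk ι (fun i => (Z i).left) fun i => (f i).left) (U := (⊤ : U.left.Opens)) isCompact_univ
  refine ⟨n, fun k => ProEt91.openObj (Z (a k)) (V k), fun k => ProEt91.openHom (Z (a k)) (V k) ≫ f (a k),
    fun k => hV k, fun k => S.downward_closed (hle _ _ ⟨_⟩) _, fun x => ?_⟩
  obtain ⟨k, v, hv, rfl⟩ := Set.mem_iUnion.1 (hcov.ge (Set.mem_univ x))
  exact ⟨k, ⟨v, hv⟩, rfl⟩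

/-- A finite jointly surjective family of quasi-compact objects over a quasi-separated object covers. -/
theorem mem_of_finite {U : X.ProEt} [QuasiSeparatedSpace U.left] {ι : Type} [Finite ι] (Y : ι → X.ProEt)
    (g : ∀ i, Y i ⟶ U) (hY : ∀ i, CompactSpace ↥(Y i).left) (hs : ∀ x : U.left, ∃ i, x ∈ Set.range (g i).left) :
    Sieve.generate (Presieve.ofArrows Y g) ∈ Scheme.ProEt.topology X U := by
  let Y' : ULift.{u} ι → X.ProEt := fun i => Y i.down
  let g' : ∀ i, Y' i ⟶ U := fun i => g i.down
  refine GrothendieckTopology.superset_covering _ ?_ (Precoverage.generate_mem_toGrothendieck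
    (ProEt91.ofArrows_mem_precoverage Y' g' ?_ fun x => ?_))
  · rw [Sieve.generate_le_iff]
    rintro Z k ⟨i⟩
    exact Sieve.le_generate _ _ _ ⟨i.down⟩
  · have hq : ∀ i, AlgebraicGeometry.QuasiCompact (g' i).left := fun i =>
      haveI := hY i.down
      quasiCompact_of_compactSpace _
    refine ⟨fun {O} hO => .of_finite_of_isSpectralMap (fun i => haveI := hq i; (g' i).left.isSpectralMap)
      (fun x _ => ?_) O.2 hO.isCompact⟩
    obtain ⟨i, hi⟩ := hs x
    exact ⟨⟨i⟩, hi⟩
  · obtain ⟨i, hi⟩ := hs x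
    exact ⟨⟨i⟩, hi⟩

end Groth.Agent.Mod48.ProLim
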