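import Groth.Agent.Mod48.ProEtCartan
import Groth.Agent.Mod48.ProEtVanish
import Groth.Agent.Mod48.ProEtFinCover
import Groth.Agent.Unr55.Et.CechFiltColim
import Groth.Agent.CohColim46.ExtColim
import Groth.Agent.SiteMod.FreeCompact

/-!
Pro-etale cohomology of a qcqs scheme commutes with filtered colimits and direct sums.
-/

set_option autoImplicit false
set_option backward.isDefEq.respectTransparency.types false

universe u

open CategoryTheory CategoryTheory.Limits AlgebraicGeometry Opposite CategoryTheory.Abelian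

namespace Groth.Agent.Mod48.ProLim

open Groth.Agent.Unr55 Groth.Agent.CohColim46

variable {X : Scheme.{u}}

theorem qc_of_compact (U : X.ProEt) [CompactSpace U.left] [QuasiSeparatedSpace U.left] :
    FiltColim.QC (Scheme.ProEt.topology X) U := by
  intro S hS
  obtain ⟨n, Y, g, hY, hgS, hs⟩ := exists_finite_affine U hS
  exact ⟨n, Y, g, hgS, mem_of_finite Y g (fun k => haveI := hY k; inferInstance) hs⟩

theorem qcqs_of_compact (U : X.ProEt) [CompactSpace U.left] [QuasiSeparatedSpace U.left] :
    FiltColim.QCQS (Scheme.ProEt.topology X) U := by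
  intro S hS
  obtain ⟨n, Y, g, hY, hgS, hs⟩ := exists_finite_affine U hS
  refine ⟨n, Y, g, hgS, mem_of_finite Y g (fun k => haveI := hY k; inferInstance) hs, fun k l =>
    ⟨pullback (g k) (g l), pullback.fst _ _, pullback.snd _ _, IsPullback.of_hasPullback _ _, ?_⟩⟩
  have := hY k
  have := hY l
  have sq : IsPullback (pullback.fst (g k) (g l)).left (pullback.snd (g k) (g l)).left (g k).left (g l).left :=
    (IsPullback.of_hasPullback (g k) (g l)).map (schP X)
  have : QuasiCompact (g l).left := quasiCompact_of_compactSpace _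
  have : QuasiSeparated (g l).left := QuasiSeparated.of_quasiSeparatedSpace _
  have : QuasiCompact (pullback.fst (g k) (g l)).left :=
    MorphismProperty.of_isPullback (P := @QuasiCompact) sq.flip inferInstance
  have : QuasiSeparated (pullback.fst (g k) (g l)).left :=
    MorphismProperty.of_isPullback (P := @QuasiSeparated) sq.flip inferInstance
  have : CompactSpace (pullback (g k) (g l)).left :=
    QuasiCompact.compactSpace_of_compactSpace (pullback.fst (g k) (g l)).left
  have : QuasiSeparatedSpace (pullback (g k) (g l)).left :=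
    quasiSeparatedSpace_of_quasiSeparated (pullback.fst (g k) (g l)).left
  exact qc_of_compact _

theorem qcqs_presented {U : X.ProEt} (hU : Presented U) : FiltColim.QCQS (Scheme.ProEt.topology X) U := by
  obtain ⟨h1, h2⟩ := qcqs_of_presented hU
  exact @qcqs_of_compact X U h1 h2

variable (I : Type (u + 1)) [SmallCategory I] [IsFiltered I]

theorem preservesColimitsOfShape_sect (U : X.ProEt) (hU : FiltColim.QCQS (Scheme.ProEt.topology X) U) :
    PreservesColimitsOfShape I (sheafToPresheaf (Scheme.ProEt.topology X) AddCommGrpCat.{u + 1} ⋙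
      (evaluation _ AddCommGrpCat.{u + 1}).obj (op U)) :=
  FiltColim.preservesColimitsOfShape_sections.{u + 2, u, u + 1} (D := AddCommGrpCat.{u + 1})
    (Scheme.ProEt.topology X) I hU

theorem preservesColimitsOfShape_cech {U : X.ProEt} (hU : Presented U) {m : ℕ}
    (Y : ULift.{u + 1} (Fin m) → Over U) (hY : ∀ i, Presented (Y i).left) (q : ℕ) :
    PreservesColimitsOfShape I
      (sheafToPresheaf (Scheme.ProEt.topology X) AddCommGrpCat.{u + 1} ⋙ EtCech.cechHFunctor Y q) := by
  let G : ProEtS.AbP X ⥤ CochainComplex AddCommGrpCat.{u + 1} ℕ :=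
    sheafToPresheaf (Scheme.ProEt.topology X) AddCommGrpCat.{u + 1} ⋙
      (Functor.whiskeringLeft (Over U)ᵒᵖ X.ProEtᵒᵖ AddCommGrpCat.{u + 1}).obj (Over.forget U).op ⋙
        cechComplexFunctor Y
  have hev : ∀ n, PreservesColimitsOfShape I
      (G ⋙ HomologicalComplex.eval AddCommGrpCat.{u + 1} (ComplexShape.up ℕ) n) := by
    intro n
    let Wn : (Fin (n + 1) → ULift.{u + 1} (Fin m)) → X.ProEt := fun x => (∏ᶜ fun k => Y (x k)).left
    let T : ProEtS.AbP X ⥤
        (Discrete (Fin (n + 1) → ULift.{u + 1} (Fin m)) ⥤ AddCommGrpCat.{u + 1}) :=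
      sheafToPresheaf (Scheme.ProEt.topology X) AddCommGrpCat.{u + 1} ⋙
        (Functor.whiskeringLeft _ _ _).obj (Discrete.functor fun x => op (Wn x))
    have hT : PreservesColimitsOfShape I T := by
      refine ⟨fun {K} => ⟨fun {c} hc => ⟨evaluationJointlyReflectsColimits _ fun x => ?_⟩⟩⟩
      have := preservesColimitsOfShape_sect I (Wn x.as) (qcqs_presented (presented_prod hU Y hY x.as))
      exact isColimitOfPreserves
        (sheafToPresheaf (Scheme.ProEt.topology X) AddCommGrpCat.{u + 1} ⋙ (evaluation _ _).obj (op (Wn x.as))) hc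
    cases nonempty_fintype (ULift.{u + 1} (Fin m))
    have : PreservesColimitsOfShape I
        (lim : (Discrete (Fin (n + 1) → ULift.{u + 1} (Fin m)) ⥤ AddCommGrpCat.{u + 1}) ⥤ _) :=
      preservesColimitsOfShape_of_natIso HasBiproductsOfShape.colimIsoLim
    exact preservesColimitsOfShape_of_natIso (J := I) (F := T ⋙ lim)
      (NatIso.ofComponents (fun F => HasLimit.isoOfNatIso (Discrete.natIso fun x => Iso.refl _))
        (fun {F F'} φ => limit.hom_ext fun x => by
          simp [T, G, cechComplexFunctor]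
          erw [Category.assoc, Category.assoc, HasLimit.isoOfNatIso_hom_π, limMap_π, limMap_π,
            HasLimit.isoOfNatIso_hom_π_assoc]
          simp; rfl))
  refine ⟨fun {F} => ⟨fun {c} hc => ?_⟩⟩
  exact HomColim.homology_isColimit (K := F ⋙ G ⋙ HomologicalComplex.shortComplexFunctor _ _ q)
    (c := (G ⋙ HomologicalComplex.shortComplexFunctor _ _ q).mapCocone c)
    (isColimitOfPreserves (G ⋙ HomologicalComplex.eval _ _ ((ComplexShape.up ℕ).prev q)) hc)
    (isColimitOfPreserves (G ⋙ HomologicalComplex.eval _ _ q) hc)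
    (isColimitOfPreserves (G ⋙ HomologicalComplex.eval _ _ ((ComplexShape.up ℕ).next q)) hc)

theorem cechAcy_colimit (K : I ⥤ ProEtS.AbP X) (hK : ∀ i, Injective (K.obj i)) : CechAcy (colimit K) := by
  intro U hU m Y hY q
  have := preservesColimitsOfShape_cech I hU Y hY (q + 1)
  have hc := isColimitOfPreserves (sheafToPresheaf (Scheme.ProEt.topology X) AddCommGrpCat.{u + 1} ⋙
    EtCech.cechHFunctor Y (q + 1)) (colimit.isColimit K)
  have hz : ∀ i, IsZero ((sheafToPresheaf (Scheme.ProEt.topology X) AddCommGrpCat.{u + 1} ⋙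
      EtCech.cechHFunctor Y (q + 1)).obj (K.obj i)) := fun i => by
    have := hK i
    exact CechInjU.isZero_cechH.{u + 1, u + 1, u} Y (K.obj i) q
  exact (IsZero.iff_id_eq_zero _).2 (hc.hom_ext fun i => (hz i).eq_of_src _ _)

variable [CompactSpace X] [QuasiSeparatedSpace X]

theorem presented_topP (X : Scheme.{u}) [CompactSpace X] [QuasiSeparatedSpace X] : Presented (ProEtS.topP X) := by
  have : CompactSpace (EtCoh.top X).left := inferInstanceAs (CompactSpace X)
  have : QuasiSeparatedSpace (EtCoh.top X).left := inferInstanceAs (QuasiSeparatedSpace X)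
  exact presented_eps (EtCoh.top X)

/-- The source object of cohomology. -/
noncomputable abbrev srcP (X : Scheme.{u}) : ProEtS.AbP X :=
  (constantSheaf (Scheme.ProEt.topology X) AddCommGrpCat.{u + 1}).obj (AddCommGrpCat.of (ULift.{u + 1} ℤ))

theorem extComm_zeroP : ExtComm.{u + 1} I (srcP X) 0 := by
  intro K
  let T := ProEtS.topP X
  let G := sheafToPresheaf (Scheme.ProEt.topology X) AddCommGrpCat.{u + 1} ⋙
    (evaluation _ AddCommGrpCat.{u + 1}).obj (op T)
  have : PreservesColimitsOfShape I G :=
    preservesColimitsOfShape_sect I T (qcqs_presented (presented_topP X))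
  let hc := isColimitOfPreserves (G ⋙ forget AddCommGrpCat.{u + 1}) (colimit.isColimit K)
  let e := fun F : ProEtS.AbP X => (constEquiv (isTerminalTopP X) F : (srcP X ⟶ F) ≃+ F.obj.obj (op T))
  refine ⟨fun y => ?_, fun i x hx => ?_⟩
  · obtain ⟨c, rfl⟩ := (Ext.mk₀_bijective _ _).2 y
    obtain ⟨i, s, hs⟩ := Types.jointly_surjective _ hc (e _ c)
    refine ⟨i, Ext.mk₀ ((e _).symm s), ?_⟩
    rw [Ext.mk₀_comp_mk₀]
    refine congrArg Ext.mk₀ ((e _).injective ?_)
    rw [constEquiv_comp, AddEquiv.apply_symm_apply]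
    exact hs
  · obtain ⟨c, rfl⟩ := (Ext.mk₀_bijective _ _).2 x
    rw [Ext.mk₀_comp_mk₀] at hx
    have h0 := congrArg (e _) ((Ext.mk₀_bijective _ _).1 (hx.trans (Ext.mk₀_zero _ _).symm))
    rw [constEquiv_comp, map_zero] at h0
    obtain ⟨j, f, g, hfg⟩ := (Types.FilteredColimit.isColimit_eq_iff _ hc
      (xi := (e _ c : (K.obj i).obj.obj (op T))) (xj := (0 : (K.obj i).obj.obj (op T)))).1
      (h0.trans (map_zero ((colimit.ι K i).hom.app (op T)).hom).symm)
    refine ⟨j, f, ?_⟩
    rw [Ext.mk₀_comp_mk₀, show c ≫ K.map f = 0 from (e _).injective ?_, Ext.mk₀_zero]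
    rw [constEquiv_comp, map_zero]
    exact hfg.trans (map_zero ((K.map g).hom.app (op T)).hom)

theorem preservesColimitsOfShape_HPF (n : ℕ) : PreservesColimitsOfShape I (ProEtS.HPF X n) :=
  (extComm_of_acyclic.{u + 1} (extComm_zeroP I) (fun K hK q => by
    have := subsingleton_ext_of_cechAcy q _ (cechAcy_colimit I K hK) _ (presented_topP X)
    exact subsingleton_ext_const_of_top (colimit K) (q + 1)) n).preservesColimitsOfShape

theorem preservesCoproducts_HPF (n : ℕ) (ι : Type u) :
    PreservesColimitsOfShape (Discrete ι) (ProEtS.HPF X n) := by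
  have : (ProEtS.HPF X n).Additive :=
    ⟨fun {F F' f g} => AddCommGrpCat.hom_ext (AddMonoidHom.ext fun (x : ProEtS.HP X F n) => by
      change x.comp (Ext.mk₀ (f + g)) (add_zero n) =
        x.comp (Ext.mk₀ f) (add_zero n) + x.comp (Ext.mk₀ g) (add_zero n)
      rw [Ext.mk₀_add, Ext.comp_add])⟩
  have : PreservesColimitsOfShape (Discrete (ULift.{u + 1} ι)) (ProEtS.HPF X n) :=
    SiteMod.preservesColimitsOfShape_discrete_of_filtered _
      (fun K _ _ => preservesColimitsOfShape_HPF K n) _
  exact preservesColimitsOfShape_of_equiv (Discrete.equivalence Equiv.ulift) _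

end Groth.Agent.Mod48.ProLim
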