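import Groth.Agent.Mod48.ProEtLimit
import Groth.Agent.Mod48.GermSites
import Groth.Agent.ProEt91.Site

/-!
Sections of the pullback to the big fppf site over an object of the small pro-etale site come from sections
of the pullback to the pro-etale site with the same values.
-/

universe u

open CategoryTheory CategoryTheory.Limits AlgebraicGeometry Opposite

namespace Groth.Agent.Mod48.ProLim

set_option backward.isDefEq.respectTransparency.types false

variable {X : Scheme.{u}} [ProEtS.EpsCont X] [EtFppf.ACont X] (F : EtCoh.Ab X)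

/-- A pro-etale section with prescribed values, etale locally. -/
theorem exists_local_sh {T : X.ProEt} (c : ((EtFppf.aPull X).obj F).obj.obj (op ((Scheme.ProEt.forget X).obj T)))
    (x : T.left) : ∃ (W : X.ProEt) (g : W ⟶ T) (τ : (sh F).obj.obj (op W)) (w : W.left),
      Etale g.left ∧ g.left w = x ∧ ∀ (η : GPt X) (v : Over.mk η.hom ⟶ (Scheme.ProEt.forget X).obj W),
        (proEtGSite X).val F η v τ = (fppfGSite X).val F η (v ≫ (Scheme.ProEt.forget X).map g) c := by
  obtain ⟨η, v, hv⟩ := exists_gpt ((Scheme.ProEt.forget X).obj T) x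
  obtain ⟨U₀, u₀, s, hs⟩ := Unr55.EtSh.exists_germ_eq η.hom F ((fppfGSite X).val F η v c)
  have : Etale U₀.hom := U₀.prop
  have : WeaklyEtale T.hom := T.prop
  let vl : Spec (CommRingCat.of η.k) ⟶ T.left := v.left
  let ul : Spec (CommRingCat.of η.k) ⟶ U₀.left := u₀.left
  have hvu : vl ≫ T.hom = ul ≫ U₀.hom := (Over.w v).trans (Over.w u₀).symm
  let Q : X.ProEt := Scheme.ProEt.mk (pullback.fst T.hom U₀.hom ≫ T.hom)
  let q : Q ⟶ T := MorphismProperty.Over.homMk (pullback.fst T.hom U₀.hom) rfl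
  let π : Q ⟶ (ProEtS.eps X).obj U₀ :=
    MorphismProperty.Over.homMk (pullback.snd T.hom U₀.hom) pullback.condition.symm
  let π' : (Scheme.ProEt.forget X).obj Q ⟶ (EtFppf.a X).obj U₀ :=
    Over.homMk (pullback.snd T.hom U₀.hom) pullback.condition.symm
  let w₀ : Over.mk η.hom ⟶ (Scheme.ProEt.forget X).obj Q := Over.homMk (pullback.lift vl ul hvu) (by
    show pullback.lift vl ul hvu ≫ pullback.fst T.hom U₀.hom ≫ T.hom = η.hom
    rw [pullback.lift_fst_assoc]
    exact Over.w v)
  let d : ((EtFppf.aPull X).obj F).obj.obj (op ((Scheme.ProEt.forget X).obj Q)) :=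
    ((EtFppf.aPull X).obj F).obj.map ((Scheme.ProEt.forget X).map q).op c -
      ((EtFppf.aPull X).obj F).obj.map π'.op (GSite.etaSect (EtFppf.J X) (EtFppf.a X) F s)
  have hwq : w₀ ≫ (Scheme.ProEt.forget X).map q = v := Over.OverMorphism.ext (pullback.lift_fst _ _ _)
  have hd : (fppfGSite X).val F η w₀ d = 0 := by
    refine (map_sub _ _ _).trans (sub_eq_zero.2 ?_)
    refine ((fppfGSite X).val_map F ((Scheme.ProEt.forget X).map q) η w₀ c).trans ?_
    refine (congrArg (fun a => (fppfGSite X).val F η a c) hwq).trans (hs.symm.trans ?_)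
    refine Eq.trans ?_ ((fppfGSite X).val_rep F π' s η w₀).symm
    refine congrArg (fun a : Unr55.EtSh.Pt η.hom U₀ => Unr55.EtSh.germ η.hom F a s) ?_
    apply Over.OverMorphism.ext
    show ul = pullback.lift vl ul hvu ≫ pullback.snd T.hom U₀.hom ≫ 𝟙 _
    rw [Category.comp_id, pullback.lift_snd]
  let O : Q.left.Opens := ⟨(fppfGSite X).locusSet F d, (fppfGSite X).isOpen_locusSet F d⟩
  let xp : Q.left := img (η := η) (Y := (fppfGSite X).U.obj ((Scheme.ProEt.forget X).obj Q)) w₀
  have hxp : xp ∈ O := ((fppfGSite X).mem_locusSet_iff F d η w₀).2 hd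
  refine ⟨ProEt91.openObj Q O, ProEt91.openHom Q O ≫ q,
    res F (ProEt91.openHom Q O ≫ π) (GSite.etaSect (Scheme.ProEt.topology X) (ProEtS.eps X) F s),
    (⟨xp, hxp⟩ : O.toScheme), ?_, ?_, fun ζ u => ?_⟩
  · exact MorphismProperty.comp_mem @Etale O.ι (pullback.fst T.hom U₀.hom) inferInstance
      (MorphismProperty.pullback_fst (P := @Etale) _ _ inferInstance)
  · exact (congrArg (fun r : (fppfGSite X).Pts η ((Scheme.ProEt.forget X).obj T) => img r) hwq).trans hv
  · let u' : (fppfGSite X).Pts ζ ((Scheme.ProEt.forget X).obj Q) :=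
      u ≫ (Scheme.ProEt.forget X).map (ProEt91.openHom Q O)
    have h0 : (fppfGSite X).val F ζ u' d = 0 := by
      rw [← GSite.mem_locusSet_iff]
      exact (img (η := ζ) (Y := (Scheme.ProEt.forget X).obj (ProEt91.openObj Q O)) u : O.toScheme).2
    rw [map_sub, sub_eq_zero] at h0
    refine ((proEtGSite X).val_rep F (ProEt91.openHom Q O ≫ π) s ζ u).trans ?_
    refine Eq.trans ?_ ((h0.trans ((fppfGSite X).val_rep F π' s ζ u')).symm.trans
      (((fppfGSite X).val_map F ((Scheme.ProEt.forget X).map q) ζ u' c).trans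
        (congrArg (fun a => (fppfGSite X).val F ζ a c) ((Category.assoc _ _ _).trans
          (congrArg (u ≫ ·) ((Scheme.ProEt.forget X).map_comp _ _).symm)))))
    refine congrArg (fun a : Unr55.EtSh.Pt ζ.hom U₀ => Unr55.EtSh.germ ζ.hom F a s) ?_
    apply Over.OverMorphism.ext
    show u.left ≫ (O.ι ≫ pullback.snd T.hom U₀.hom) ≫ 𝟙 _ = (u.left ≫ O.ι) ≫ pullback.snd T.hom U₀.hom ≫ 𝟙 _
    simp only [Category.comp_id, Category.assoc]

/-- A pro-etale section with prescribed values. -/
theorem exists_sh {T : X.ProEt} (c : ((EtFppf.aPull X).obj F).obj.obj (op ((Scheme.ProEt.forget X).obj T))) :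
    ∃ τ : (sh F).obj.obj (op T), ∀ (η : GPt X) (v : Over.mk η.hom ⟶ (Scheme.ProEt.forget X).obj T),
      (proEtGSite X).val F η v τ = (fppfGSite X).val F η v c := by
  choose W g τ w hg hw hτ using exists_local_sh F c
  have hcov : Sieve.generate (Presieve.ofArrows W g) ∈ Scheme.ProEt.topology X T := by
    refine Precoverage.generate_mem_toGrothendieck (ProEt91.ofArrows_mem_precoverage W g ?_ fun x => ⟨x, w x, hw x⟩)
    refine ⟨fun {V} hV => .of_isOpenMap (fun x => (g x).left.continuous) (fun x => ?_)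
      (fun x _ => ⟨x, w x, hw x⟩) V.2 hV.isCompact⟩
    have := hg x
    exact (g x).left.isOpenMap
  have hsh := (isSheaf_iff_isSheaf_of_type _ _).1
    (Presheaf.isSheaf_comp_of_isSheaf (Scheme.ProEt.topology X) (sh F).obj
      (forget AddCommGrpCat.{u + 1}) (sh F).property)
  have h := (Presieve.isSheafFor_iff_generate _).2 (hsh _ hcov)
  rw [Presieve.isSheafFor_arrows_iff] at h
  have hcomp : Presieve.Arrows.Compatible ((sh F).obj ⋙ forget AddCommGrpCat.{u + 1}) g τ := by
    intro a b Z ga gb hab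
    refine (proEtGSite X).eq_of_val F _ _ fun η v => ?_
    show (proEtGSite X).val F η v (res F ga (τ a)) = (proEtGSite X).val F η v (res F gb (τ b))
    refine ((proEtGSite X).val_map F ga η v (τ a)).trans ((hτ a η _).trans (Eq.trans ?_
      (((proEtGSite X).val_map F gb η v (τ b)).trans (hτ b η _)).symm))
    refine congrArg (fun q => (fppfGSite X).val F η q c) ?_
    refine (Category.assoc _ _ _).trans (Eq.trans ?_ (Category.assoc _ _ _).symm)
    refine congrArg (v ≫ ·) ?_
    exact ((Scheme.ProEt.forget X).map_comp _ _).symm.trans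
      ((congrArg (Scheme.ProEt.forget X).map hab).trans ((Scheme.ProEt.forget X).map_comp _ _))
  obtain ⟨t, ht, -⟩ := h τ hcomp
  refine ⟨t, fun η v => ?_⟩
  obtain ⟨V, k, l, ⟨Z, a, b, ⟨x⟩, rfl⟩, rfl⟩ := (proEtGSite X).exists_lift_pts hcov η v
  let la : (proEtGSite X).Pts η (W x) := l ≫ (Scheme.ProEt.forget X).map a
  have e : l ≫ (proEtGSite X).U.map (a ≫ g x) = la ≫ (Scheme.ProEt.forget X).map (g x) :=
    (congrArg (l ≫ ·) ((Scheme.ProEt.forget X).map_comp a (g x))).trans (Category.assoc _ _ _).symm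
  rw [e]
  refine ((proEtGSite X).val_map F (g x) η la t).symm.trans ?_
  exact (congrArg ((proEtGSite X).val F η la) (ht x)).trans (hτ x η la)

end Groth.Agent.Mod48.ProLim
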