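import Groth.Agent.Mod48.ProEtVanish

/-!
Etale cohomology equals pro-etale cohomology of the pullback.
-/

universe u

open CategoryTheory CategoryTheory.Limits AlgebraicGeometry Opposite CategoryTheory.Abelian

namespace Groth.Agent.Mod48.ProLim

set_option backward.isDefEq.respectTransparency.types false

variable {X : Scheme.{u}} [ProEtS.EpsCont X]

/-- Classes over etale schemes die etale locally in every positive degree. -/
def EtAcy (M : ProEtS.AbP X) : Prop :=
  ∀ (j : ℕ) (V : X.Etale) (ξ : Ext.{u + 1} (lFree (Scheme.ProEt.topology X) ((ProEtS.eps X).obj V)) M (j + 1))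
    (x : V.left), ∃ (V' : X.Etale) (g : V' ⟶ V) (w : V'.left),
      g.left w = x ∧ resX ((ProEtS.eps X).map g) ξ = 0

/-- A sheaf with locally trivial classes and injective restriction has no higher global cohomology. -/
theorem subsingleton_ext_const : ∀ (n : ℕ) (M : ProEtS.AbP X), EtAcy M →
    Injective ((ProEtS.epsPush X).obj M) →
    Subsingleton (Ext.{u + 1} ((constantSheaf (Scheme.ProEt.topology X) AddCommGrpCat.{u + 1}).obj
      (AddCommGrpCat.of (ULift ℤ))) M (n + 1)) := by
  intro n
  induction n with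
  | zero => ?_
  | succ n ih => ?_
  all_goals
    intro M hM hMi
    let T : ShortComplex (ProEtS.AbP X) :=
      ShortComplex.mk (Injective.ι M) (cokernel.π (Injective.ι M)) (cokernel.condition _)
    have hT : T.ShortExact :=
      { exact := ShortComplex.exact_of_g_is_cokernel _ (cokernelIsCokernel (Injective.ι M))
        mono_f := inferInstanceAs (Mono (Injective.ι M))
        epi_g := inferInstanceAs (Epi (cokernel.π _)) }
    let Φ := ProEtS.epsPush X
    have : PreservesLimitsOfSize.{0, 0} Φ := (ProEtS.epsAdj X).rightAdjoint_preservesLimits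
    have : PreservesFiniteLimits Φ := PreservesLimitsOfSize.preservesFiniteLimits _
    obtain ⟨hTe, hTm⟩ := (Functor.preservesFiniteLimits_iff_forall_exact_map_and_mono Φ).1 inferInstance _ hT
    have hsurj : Sheaf.IsLocallySurjective (Φ.map T.g) := by
      refine ⟨fun {V} σ => Unr55.EtSh.mem_topology fun x => ?_⟩
      let θ := (Ext.mk₀ ((lEquiv ((ProEtS.eps X).obj V) T.X₃).symm σ)).comp hT.extClass (zero_add 1)
      obtain ⟨V', g', v, hv, hz'⟩ := hM 0 V θ x
      rw [resX_comp_ext, resX_mk₀] at hz'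
      obtain ⟨t₀, ht₀⟩ := Ext.covariant_sequence_exact₃ _ hT _ rfl hz'
      obtain ⟨ψ₀, rfl⟩ := Ext.addEquiv₀.symm.surjective t₀
      obtain ⟨i₀, rfl⟩ := (lEquiv _ _).symm.surjective ψ₀
      have ht₀' : (Ext.mk₀ ((lEquiv ((ProEtS.eps X).obj V') T.X₂).symm i₀)).comp (Ext.mk₀ T.g) (add_zero 0) =
        Ext.mk₀ ((lEquiv ((ProEtS.eps X).obj V') T.X₃).symm (T.X₃.obj.map ((ProEtS.eps X).map g').op σ)) := ht₀
      rw [Ext.mk₀_comp_mk₀, lEquiv_symm_comp] at ht₀'
      have hi := (lEquiv ((ProEtS.eps X).obj V') T.X₃).symm.injective ((Ext.mk₀_bijective _ _).1 ht₀')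
      exact ⟨V', g', v, ⟨i₀, hi⟩, hv⟩
    have hepi : Epi (Φ.map T.g) :=
      (Sheaf.isLocallySurjective_iff_epi' AddCommGrpCat.{u + 1} _).1 hsurj
    have : (ProEtS.epsPull X).PreservesMonomorphisms := preservesMono_epsPull
    have hI : Injective (Φ.obj T.X₂) := Injective.injective_of_adjoint (ProEtS.epsAdj X) (Injective.under M)
    let S := T.map Φ
    have hS : S.ShortExact := { exact := hTe, mono_f := hTm, epi_g := hepi }
    let spl : S.Splitting :=
      haveI : Injective S.X₁ := hMi
      haveI : Mono S.f := hTm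
      haveI : Epi S.g := hepi
      ShortComplex.Splitting.ofExactOfRetraction S hTe (Injective.factorThru (𝟙 S.X₁) S.f)
        (Injective.comp_factorThru _ _) hepi
    refine ⟨fun a b => sub_eq_zero.1 ?_⟩
    obtain ⟨s, hs⟩ := Ext.covariant_sequence_exact₁ _ hT (a - b)
      ((Ext.subsingleton_of_injective _ (Injective.under M) _).elim _ _) rfl
    rw [← hs]
  · obtain ⟨φ, rfl⟩ := Ext.addEquiv₀.symm.surjective s
    let top : X.ProEt := (ProEtS.eps X).obj (EtCoh.top X)
    let hterm : IsTerminal top := isTerminalTopP X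
    let σ : T.X₃.obj.obj (op top) := constEquiv hterm T.X₃ φ
    let i : T.X₂.obj.obj (op top) := spl.s.hom.app (op (EtCoh.top X)) σ
    have hi : T.g.hom.app (op top) i = σ :=
      congrArg (fun ψ : S.X₃ ⟶ S.X₃ => ψ.hom.app (op (EtCoh.top X)) σ) spl.s_g
    have hφ : φ = (constEquiv hterm T.X₂).symm i ≫ T.g := by
      apply (constEquiv hterm T.X₃).injective
      rw [constEquiv_comp, AddEquiv.apply_symm_apply, hi]
    show (Ext.mk₀ φ).comp hT.extClass (zero_add 1) = 0
    rw [hφ, ← Ext.mk₀_comp_mk₀, Ext.comp_assoc _ _ _ (add_zero 0) (zero_add 1) (by omega), hT.comp_extClass,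
      Ext.comp_zero]
  · have hM1 : EtAcy T.X₃ := by
      intro j V α x
      obtain ⟨W, g, w, hw, hz⟩ := hM (j + 1) V (α.comp hT.extClass rfl) x
      rw [resX_comp_ext] at hz
      obtain ⟨t', ht'⟩ := Ext.covariant_sequence_exact₃ _ hT (resX ((ProEtS.eps X).map g) α) rfl hz
      refine ⟨W, g, w, hw, ?_⟩
      rw [← ht', (Ext.subsingleton_of_injective _ (Injective.under M) j).elim t' 0, Ext.zero_comp]
    have : Injective S.X₂ := hI
    have hinj : Injective (Φ.obj T.X₃) :=
      (({ i := spl.s, r := S.g, retract := spl.s_g } : Retract S.X₃ S.X₂)).injective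
    rw [(ih T.X₃ hM1 hinj).elim s 0, Ext.zero_comp]

/-- Etale cohomology equals fppf cohomology. -/
theorem nonempty_H_equiv (F : EtCoh.Ab X) (q : ℕ) :
    Nonempty (EtCoh.H X F q ≃+ ProEtS.HP X ((ProEtS.epsPull X).obj F) q) := by
  have := (ProEtS.epsAdj X).left_adjoint_additive
  have : PreservesColimitsOfSize.{0, 0} (ProEtS.epsPull X) := (ProEtS.epsAdj X).leftAdjoint_preservesColimits
  have := PreservesColimitsOfSize.preservesFiniteColimits (ProEtS.epsPull X)
  have : PreservesFiniteLimits (ProEtS.epsPull X) := preservesFiniteLimits_epsPull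
  let hterm : IsTerminal (EtCoh.top X) := Unr55.EtSh.isTerminalTop X
  let top : X.ProEt := (ProEtS.eps X).obj (EtCoh.top X)
  let htermF : IsTerminal top := isTerminalTopP X
  let Z := (constantSheaf X.smallEtaleTopology AddCommGrpCat.{u + 1}).obj (AddCommGrpCat.of (ULift ℤ))
  let ZF := (constantSheaf (Scheme.ProEt.topology X) AddCommGrpCat.{u + 1}).obj (AddCommGrpCat.of (ULift ℤ))
  let η : ZF ⟶ (ProEtS.epsPull X).obj Z := (constEquiv htermF _).symm
    (GSite.etaSect (Scheme.ProEt.topology X) (ProEtS.eps X) Z (constEquiv hterm Z (𝟙 Z)))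
  have h0 : ∀ G : EtCoh.Ab X, Function.Bijective fun φ : Z ⟶ G => η ≫ (ProEtS.epsPull X).map φ := by
    intro G
    have e : (fun φ : Z ⟶ G => η ≫ (ProEtS.epsPull X).map φ) =
        (constEquiv htermF _).symm ∘ GSite.etaSect (Scheme.ProEt.topology X) (ProEtS.eps X) G ∘ constEquiv hterm G := by
      funext φ
      apply (constEquiv htermF ((ProEtS.epsPull X).obj G)).injective
      rw [Function.comp_apply, Function.comp_apply, AddEquiv.apply_symm_apply, constEquiv_comp,
        AddEquiv.apply_symm_apply]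
      have h1 : constEquiv hterm G φ = φ.hom.app (op (EtCoh.top X)) (constEquiv hterm Z (𝟙 Z)) := by
        conv_lhs => rw [← Category.id_comp φ]
        exact constEquiv_comp hterm _ φ
      rw [h1]
      exact (congrArg (fun ψ : Z ⟶ _ => ψ.hom.app (op (EtCoh.top X)) (constEquiv hterm Z (𝟙 Z)))
        ((ProEtS.epsAdj X).unit.naturality φ)).symm
    rw [e]
    exact (constEquiv htermF _).symm.bijective.comp
      (Function.Bijective.comp
        (⟨(proEtGSite X).etaSect_injective G _, (proEtGSite X).etaSect_surjective G _⟩ :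
          Function.Bijective (GSite.etaSect (Scheme.ProEt.topology X) (ProEtS.eps X) G (U := EtCoh.top X)))
        (constEquiv hterm G).bijective)
  refine ⟨AddEquiv.ofBijective (SiteCoh.extTransfer (ProEtS.epsPull X) η F q)
    (SiteCoh.extTransfer_bijective (ProEtS.epsPull X) η h0 (fun I hI n => ?_) q F)⟩
  refine subsingleton_ext_const n _ (fun j V ξ x => exists_kill j I V ξ x) ?_
  have : IsIso ((ProEtS.epsAdj X).unit.app I) := (proEtGSite X).isIso_unit I
  exact Injective.of_iso (asIso ((ProEtS.epsAdj X).unit.app I)) hI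

end Groth.Agent.Mod48.ProLim
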