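import Groth.Agent.Mod48.ProEtHullRing
import Groth.Agent.Mod48.ProEtIndCover
import Groth.Agent.ProEt91.WC
import Groth.Agent.ProEt91.Coprod
import Groth.Agent.Ind91.Etale

/-!
An affine weakly contractible object over a scheme mapping to an affine open has a hull on that scheme.
-/

universe u

open CategoryTheory CategoryTheory.Limits AlgebraicGeometry Opposite

namespace Groth.Agent.Mod48.ProLim

open Henz21

set_option backward.isDefEq.respectTransparency.types false

variable {Z X : Scheme.{u}}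

/-- The hull of an affine weakly contractible object. -/
theorem exists_hull (f : Z ⟶ X) (V : Z.ProEt) [IsAffine V.left] (hV : ProEtS.IsWC V) (A : X.Opens)
    (hA : IsAffineOpen A) (a : V.left ⟶ A.toScheme) (ha : a ≫ A.ι = V.hom ≫ f) :
    ∃ (L : X.ProEt) (ψ : V ⟶ (ProEtS.bcP f).obj L),
      (∀ (W : X.ProEt) (g : V ⟶ (ProEtS.bcP f).obj W), ∃ m : L ⟶ W, ψ ≫ (ProEtS.bcP f).map m = g) ∧
      ∀ e : L ⟶ L, ψ ≫ (ProEtS.bcP f).map e = ψ → e = 𝟙 L := by
  have : IsAffine A.toScheme := hA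
  letI : Algebra Γ(A.toScheme, ⊤) Γ(V.left, ⊤) := a.appTop.hom.toAlgebra
  let R := Γ(A.toScheme, ⊤)
  let B := Γ(V.left, ⊤)
  let sX : Spec R ⟶ X := A.toScheme.isoSpec.inv ≫ A.ι
  let t : Spec (CommRingCat.of (H R B)) ⟶ Spec R := Spec.map (CommRingCat.ofHom (algebraMap R (H R B)))
  have : WeaklyEtale t := by
    have := Ind91.weaklyEtale_of_isIndEtale (H.isIndEtale_of_algEquiv R B (H R B) AlgEquiv.refl)
    exact WE91.weaklyEtale_SpecMap_algebraMap R (H R B)
  have : WeaklyEtale (t ≫ sX) := inferInstanceAs (WeaklyEtale (t ≫ A.toScheme.isoSpec.inv ≫ A.ι))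
  let L : X.ProEt := Scheme.ProEt.mk (t ≫ sX)
  let ψ₀ : V.left ⟶ L.left := V.left.isoSpec.hom ≫ Spec.map (CommRingCat.ofHom (H.proj R B).toRingHom)
  have hpt : Spec.map (CommRingCat.ofHom (H.proj R B).toRingHom) ≫ t = Spec.map a.appTop := by
    rw [← Spec.map_comp]
    exact congrArg Spec.map (CommRingCat.hom_ext (H.proj R B).comp_algebraMap)
  have hψ₀ : ψ₀ ≫ L.hom = V.hom ≫ f := by
    rw [← ha]
    show (V.left.isoSpec.hom ≫ Spec.map _) ≫ t ≫ A.toScheme.isoSpec.inv ≫ A.ι = a ≫ A.ι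
    rw [Category.assoc, reassoc_of% hpt, Scheme.isoSpec_hom_naturality_assoc, Iso.hom_inv_id_assoc]
  let ψ : V ⟶ (ProEtS.bcP f).obj L :=
    MorphismProperty.Over.homMk (pullback.lift ψ₀ V.hom hψ₀) (pullback.lift_snd _ _ _)
  have hred : ∀ (W : X.ProEt) (g : V ⟶ (ProEtS.bcP f).obj W) (m : L ⟶ W),
      ψ₀ ≫ m.left = g.left ≫ pullback.fst W.hom f → ψ ≫ (ProEtS.bcP f).map m = g := by
    intro W g m h
    refine MorphismProperty.Over.Hom.ext ?_
    show pullback.lift ψ₀ V.hom hψ₀ ≫
      pullback.lift (pullback.fst L.hom f ≫ m.left) (pullback.snd L.hom f) _ = g.left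
    refine pullback.hom_ext ?_ ?_
    · refine (Category.assoc _ _ _).trans ((congrArg (_ ≫ ·) (pullback.lift_fst _ _ _)).trans ?_)
      rw [pullback.lift_fst_assoc]
      exact h
    · refine (Category.assoc _ _ _).trans ((congrArg (_ ≫ ·) (pullback.lift_snd _ _ _)).trans ?_)
      rw [pullback.lift_snd]
      exact (MorphismProperty.Over.w g).symm
  refine ⟨L, ψ, fun W g => ?_, fun e he => ?_⟩
  · let g₀ : V.left ⟶ W.left := g.left ≫ pullback.fst W.hom f
    have hg₀ : g₀ ≫ W.hom = a ≫ A.ι := by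
      rw [ha]
      refine (Category.assoc _ _ _).trans ((congrArg (g.left ≫ ·) pullback.condition).trans
        ((Category.assoc _ _ _).symm.trans ?_))
      exact congrArg (· ≫ f) (MorphismProperty.Over.w g)
    have hpt' : ∀ v : V.left, g₀ v ∈ W.hom ⁻¹ᵁ A := fun v => by
      show W.hom (g₀ v) ∈ A
      rw [show W.hom (g₀ v) = (g₀ ≫ W.hom) v from rfl, hg₀]
      exact (a v).2
    choose O hO hOv hOle using fun v => exists_isAffineOpen_mem_and_subset (hpt' v)
    obtain ⟨s, hs⟩ := isCompact_univ.elim_finite_subcover (fun v : V.left => ((g₀ ⁻¹ᵁ O v : V.left.Opens) : Set V.left))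
      (fun v => (g₀ ⁻¹ᵁ O v).2) fun v _ => Set.mem_iUnion.2 ⟨v, hOv v⟩
    let P : (↥s : Type u) → V.left.Opens := fun i => g₀ ⁻¹ᵁ O i.1
    have hP : ∀ x : V.left, ∃ i, x ∈ P i := fun x => by
      obtain ⟨v, hv⟩ := Set.mem_iUnion.1 (hs (Set.mem_univ x))
      obtain ⟨hvs, hv⟩ := Set.mem_iUnion.1 hv
      exact ⟨⟨v, hvs⟩, hv⟩
    obtain ⟨ι, D, hD, hDk⟩ := ProEt91.refines_of_isWContractible V ((ProEt91.isWC_iff V).2 hV) _
      (ProEt91.openCover_mem P hP)
    have hfac : ∀ k, ∃ (i : ↥s) (d : (D k).toScheme ⟶ (P i).toScheme), d ≫ (P i).ι = (D k).ι := fun k => by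
      obtain ⟨Y, h, _, ⟨i⟩, hi⟩ := hDk k
      exact ⟨i, h.left, congrArg CommaMorphism.left (congrArg MorphismProperty.Comma.Hom.toCommaMorphism hi)⟩
    choose i d hd using hfac
    let Os : (↥s : Type u) → Scheme.{u} := fun i => (O i.1).toScheme
    have : ∀ i, IsAffine (Os i) := fun i => hO i.1
    let T := ∐ Os
    let τ : T ⟶ W.left := Sigma.desc fun i => (O i.1).ι
    let Wh : W.left ⟶ X := W.hom
    let gW : ∀ i : (↥s : Type u), (O i.1).toScheme ⟶ X := fun i => (O i.1).ι ≫ Wh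
    have hr : ∀ i : (↥s : Type u), Set.range (gW i) ⊆ Set.range A.ι := fun i => by
      rw [Scheme.Opens.range_ι]
      rintro _ ⟨x, rfl⟩
      exact hOle i.1 x.2
    let tA : T ⟶ A.toScheme := Sigma.desc fun i => IsOpenImmersion.lift A.ι (gW i) (hr i)
    have htA : tA ≫ A.ι = τ ≫ W.hom := Sigma.hom_ext _ _ fun i => by
      rw [Sigma.ι_desc_assoc, Sigma.ι_desc_assoc, IsOpenImmersion.lift_fac]
    have : WeaklyEtale tA := by
      have : WeaklyEtale W.hom := W.prop
      have h1 : WeaklyEtale (tA ≫ A.ι) := by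
        have : tA ≫ A.ι = Sigma.desc fun i : (↥s : Type u) => (O i.1).ι ≫ W.hom := Sigma.hom_ext _ _ fun i => by
          rw [htA, Sigma.ι_desc_assoc, Sigma.ι_desc]
        rw [this]
        exact IsZariskiLocalAtSource.sigmaDesc (P := @WeaklyEtale) fun i => inferInstance
      exact WeaklyEtale.of_comp tA A.ι
    obtain ⟨gT, hgT⟩ := ProEt91.exists_glueHom hD fun k => d k ≫ (g₀ ∣_ O (i k).1) ≫ Sigma.ι Os (i k)
    have hgτ : gT ≫ τ = g₀ := ProEt91.decomp_hom_ext hD fun k => by
      rw [← Category.assoc, hgT k, Category.assoc, Category.assoc, Sigma.ι_desc, morphismRestrict_ι,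
        ← Category.assoc]
      exact congrArg (· ≫ g₀) (hd k)
    have hga : gT ≫ tA = a := by
      rw [← cancel_mono A.ι, Category.assoc, htA, reassoc_of% hgτ, hg₀]
    letI : Algebra R Γ(T, ⊤) := tA.appTop.hom.toAlgebra
    have hq : Spec.map tA.appTop = T.isoSpec.inv ≫ tA ≫ A.toScheme.isoSpec.hom := by
      rw [← Scheme.isoSpec_hom_naturality, Iso.inv_hom_id_assoc]
    have h1 : WeaklyEtale (Spec.map (CommRingCat.ofHom (algebraMap R Γ(T, ⊤)))) := by
      show WeaklyEtale (Spec.map tA.appTop)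
      rw [hq]; infer_instance
    have hwe : Algebra.WeaklyEtale R Γ(T, ⊤) := by
      refine ⟨RingHom.flat_algebraMap_iff.1 ((HasRingHomProperty.Spec_iff (P := @Flat)).1 h1.flat), ?_⟩
      have h2 := h1.flat_diagonal
      rw [diagonal_SpecMap, MorphismProperty.cancel_right_of_respectsIso @Flat,
        HasRingHomProperty.Spec_iff (P := @Flat)] at h2
      exact h2
    obtain ⟨B', _, _, _, _, hff, hie', hie⟩ := S0176.result R Γ(T, ⊤)
    let π : Spec (CommRingCat.of B') ⟶ T :=
      Spec.map (CommRingCat.ofHom (algebraMap Γ(T, ⊤) B')) ≫ T.isoSpec.inv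
    have : WeaklyEtale π := by
      have := Ind91.weaklyEtale_of_isIndEtale hie'
      have := WE91.weaklyEtale_SpecMap_algebraMap ↥Γ(T, ⊤) B'
      exact inferInstanceAs (WeaklyEtale (_ ≫ T.isoSpec.inv))
    have : Surjective π := by
      have : Surjective (Spec.map (CommRingCat.ofHom (algebraMap ↥Γ(T, ⊤) B'))) :=
        ⟨PrimeSpectrum.comap_surjective_of_faithfullyFlat⟩
      exact inferInstanceAs (Surjective (_ ≫ T.isoSpec.inv))
    have : AlgebraicGeometry.QuasiCompact π := quasiCompact_of_compactSpace π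
    have : WeaklyEtale (pullback.fst gT π) :=
      MorphismProperty.pullback_fst (P := @WeaklyEtale) _ _ ‹WeaklyEtale π›
    have : Surjective (pullback.fst gT π) :=
      MorphismProperty.pullback_fst (P := @Surjective) _ _ ‹Surjective π›
    have : AlgebraicGeometry.QuasiCompact (pullback.fst gT π) :=
      MorphismProperty.pullback_fst (P := @AlgebraicGeometry.QuasiCompact) _ _ ‹_›
    have : WeaklyEtale V.hom := V.prop
    let V' : Z.ProEt := Scheme.ProEt.mk (pullback.fst gT π ≫ V.hom)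
    let q : V' ⟶ V := MorphismProperty.Over.homMk (pullback.fst gT π)
    have : Surjective q.left := ‹Surjective (pullback.fst gT π)›
    have : AlgebraicGeometry.QuasiCompact q.left := ‹AlgebraicGeometry.QuasiCompact (pullback.fst gT π)›
    obtain ⟨σ, hσ⟩ := ProEt91.exists_section_of_isWC hV q
    let gT' : V.left ⟶ Spec (CommRingCat.of B') := σ.left ≫ pullback.snd gT π
    have hgT' : gT' ≫ π = gT := by
      show (σ.left ≫ pullback.snd gT π) ≫ π = gT
      refine (Category.assoc _ _ _).trans ((congrArg (σ.left ≫ ·) pullback.condition.symm).trans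
        ((Category.assoc _ _ _).symm.trans ?_))
      exact (congrArg (· ≫ gT) (congrArg CommaMorphism.left
        (congrArg MorphismProperty.Comma.Hom.toCommaMorphism hσ))).trans (Category.id_comp _)
    have hπA : π ≫ tA ≫ A.toScheme.isoSpec.hom = Spec.map (CommRingCat.ofHom (algebraMap R B')) := by
      show (Spec.map _ ≫ T.isoSpec.inv) ≫ tA ≫ A.toScheme.isoSpec.hom = _
      rw [Category.assoc, ← hq, ← Spec.map_comp]
      exact congrArg Spec.map (CommRingCat.hom_ext (RingHom.ext fun x =>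
        (IsScalarTower.algebraMap_apply R Γ(T, ⊤) B' x).symm))
    obtain ⟨φ₀, hφ₀⟩ : ∃ φ₀ : CommRingCat.of B' ⟶ B, Spec.map φ₀ = V.left.isoSpec.inv ≫ gT' :=
      ⟨Spec.preimage _, Spec.map_preimage _⟩
    have hφR : CommRingCat.ofHom (algebraMap R B') ≫ φ₀ = a.appTop := Spec.map_injective <| by
      rw [Spec.map_comp, hφ₀, ← hπA, Category.assoc, reassoc_of% hgT', reassoc_of% hga,
        ← Scheme.isoSpec_hom_naturality, Iso.inv_hom_id_assoc]
    let φ : B' →ₐ[R] B := { φ₀.hom with commutes' := fun r => congr($hφR r) }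
    obtain ⟨m₀, hm₀⟩ := exists_map_of_indEtale hie φ
    have hm₁ : Spec.map (CommRingCat.ofHom m₀.toRingHom) ≫ Spec.map (CommRingCat.ofHom (algebraMap R B')) = t := by
      rw [← Spec.map_comp]
      exact congrArg Spec.map (CommRingCat.hom_ext m₀.comp_algebraMap)
    let m : L ⟶ W := MorphismProperty.Over.homMk (Spec.map (CommRingCat.ofHom m₀.toRingHom) ≫ π ≫ τ) (by
      show (Spec.map _ ≫ π ≫ τ) ≫ W.hom = t ≫ A.toScheme.isoSpec.inv ≫ A.ι
      have h7 : (π ≫ τ) ≫ W.hom = Spec.map (CommRingCat.ofHom (algebraMap R B')) ≫ A.toScheme.isoSpec.inv ≫ A.ι := by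
        rw [Category.assoc, ← htA, ← hπA]
        simp only [Category.assoc, Iso.hom_inv_id_assoc]
      refine (Category.assoc _ _ _).trans ((congrArg (_ ≫ ·) h7).trans ?_)
      exact (Category.assoc _ _ _).symm.trans (congrArg (· ≫ _) hm₁))
    refine ⟨m, hred W g m ?_⟩
    show (V.left.isoSpec.hom ≫ Spec.map _) ≫ Spec.map (CommRingCat.ofHom m₀.toRingHom) ≫ π ≫ τ = g₀
    have h3 : CommRingCat.ofHom m₀.toRingHom ≫ CommRingCat.ofHom (H.proj R B).toRingHom = φ₀ :=
      CommRingCat.hom_ext (RingHom.ext fun x => DFunLike.congr_fun hm₀ x)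
    rw [Category.assoc, ← Spec.map_comp_assoc, h3, hφ₀, Category.assoc, Iso.hom_inv_id_assoc,
      reassoc_of% hgT', hgτ]
  · obtain ⟨ε₀, hε₀⟩ : ∃ ε₀, Spec.map ε₀ = e.left := ⟨Spec.preimage _, Spec.map_preimage _⟩
    have hεR : CommRingCat.ofHom (algebraMap R (H R B)) ≫ ε₀ = CommRingCat.ofHom (algebraMap R (H R B)) :=
      Spec.map_injective <| by
        have h := MorphismProperty.Over.w e
        change e.left ≫ t ≫ A.toScheme.isoSpec.inv ≫ A.ι = t ≫ A.toScheme.isoSpec.inv ≫ A.ι at h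
        replace h := (cancel_mono A.toScheme.isoSpec.inv).1 ((cancel_mono A.ι).1
          ((((Category.assoc _ _ _).trans ((Category.assoc _ _ _))).trans h).trans (Category.assoc _ _ _).symm :
            ((e.left ≫ t) ≫ A.toScheme.isoSpec.inv) ≫ A.ι = (t ≫ A.toScheme.isoSpec.inv) ≫ A.ι))
        rw [Spec.map_comp, hε₀]
        exact h
    let ε : H R B →ₐ[R] H R B := { ε₀.hom with commutes' := fun r => congr($hεR r) }
    have h4 : ψ₀ ≫ e.left = ψ₀ := by
      have h := congrArg (fun k : V ⟶ (ProEtS.bcP f).obj L => k.left ≫ pullback.fst L.hom f) he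
      change (pullback.lift ψ₀ V.hom hψ₀ ≫ pullback.lift (pullback.fst L.hom f ≫ e.left)
        (pullback.snd L.hom f) _) ≫ pullback.fst L.hom f =
        pullback.lift ψ₀ V.hom hψ₀ ≫ pullback.fst L.hom f at h
      refine Eq.trans ?_ (h.trans (pullback.lift_fst _ _ _))
      refine Eq.trans ?_ (Category.assoc _ _ _).symm
      refine Eq.trans ?_ (congrArg (_ ≫ ·) (pullback.lift_fst _ _ _)).symm
      rw [pullback.lift_fst_assoc]
    have h5 : CommRingCat.ofHom ((H.proj R B).comp ε).toRingHom = CommRingCat.ofHom (H.proj R B).toRingHom :=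
      Spec.map_injective <| (cancel_epi V.left.isoSpec.hom).1 <| by
        show V.left.isoSpec.hom ≫ Spec.map (ε₀ ≫ CommRingCat.ofHom (H.proj R B).toRingHom) = ψ₀
        rw [Spec.map_comp, hε₀, ← Category.assoc]
        exact h4
    have h6 := end_unique ε (AlgHom.ext fun x => congr($h5 x))
    refine MorphismProperty.Over.Hom.ext ?_
    show e.left = 𝟙 _
    rw [← hε₀, show ε₀ = 𝟙 _ from CommRingCat.hom_ext (congrArg AlgHom.toRingHom h6), Spec.map_id]
    rfl

end Groth.Agent.Mod48.ProLim
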