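import Groth.Agent.ProEt91.Coprod
import Groth.Agent.ProEt91.Refine
import Mathlib.CategoryTheory.Functor.Flat
import Mathlib.CategoryTheory.Limits.Types.Filtered

/-!
The left Kan extension along base change of a pro-etale sheaf glues along finite decompositions.
-/

universe u

open CategoryTheory CategoryTheory.Limits AlgebraicGeometry Opposite

namespace Groth.Agent.Mod48.ProLim

set_option backward.isDefEq.respectTransparency.types false

variable {X Y : Scheme.{u}}

/-- Finite coproducts in the pro-etale site, together with gluing of sections of sheaves. -/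
theorem exists_coprod {ι : Type u} (V : ι → Y.ProEt) :
    ∃ (T : Y.ProEt) (inc : ∀ k, V k ⟶ T),
      (∀ (V₀ : Y.ProEt) (h : ∀ k, V k ⟶ V₀), ∃ m : T ⟶ V₀, ∀ k, inc k ≫ m = h k) ∧
      ∀ G : Sheaf (Scheme.ProEt.topology Y) (Type (u + 1)),
        ∀ x : ∀ k, G.obj.obj (op (V k)), ∃! t, ∀ k, G.obj.map (inc k).op t = x k := by
  have : WeaklyEtale (Sigma.desc fun k => (V k).hom) :=
    IsZariskiLocalAtSource.sigmaDesc (P := @WeaklyEtale) fun k => (V k).prop
  let T : Y.ProEt := Scheme.ProEt.mk (Sigma.desc fun k => (V k).hom)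
  let inc : ∀ k, V k ⟶ T := fun k =>
    MorphismProperty.Over.homMk (Sigma.ι (fun k => (V k).left) k) (Sigma.ι_desc _ k)
  have hoi : ∀ k, IsOpenImmersion (Sigma.ι (fun k => (V k).left) k) := fun k =>
    (sigmaOpenCover fun k => (V k).left).map_prop k
  let O : ι → T.left.Opens := fun k => (Sigma.ι (fun k => (V k).left) k).opensRange
  have hO : ProEt91.Decomp T O := by
    refine ⟨fun k l hkl => Set.disjoint_left.2 ?_, fun x => ?_⟩
    · rintro _ ⟨a, rfl⟩ ⟨b, hb⟩
      exact hkl (congrArg Sigma.fst ((sigmaι_eq_iff _ _ _ _ _).1 hb.symm))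
    · obtain ⟨k, a, ha⟩ := (sigmaOpenCover (fun k => (V k).left)).exists_eq x
      exact ⟨k, a, ha⟩
  let e : ∀ k, V k ⟶ ProEt91.openObj T (O k) := fun k =>
    MorphismProperty.Over.homMk (Sigma.ι (fun k => (V k).left) k).isoOpensRange.hom (by
      show _ ≫ (O k).ι ≫ T.hom = _
      exact (Category.assoc _ _ _).symm.trans ((congrArg (· ≫ T.hom)
        (Scheme.Hom.isoOpensRange_hom_ι (Sigma.ι (fun k => (V k).left) k))).trans (Sigma.ι_desc _ k)))
  have he : ∀ k, e k ≫ ProEt91.openHom T (O k) = inc k := fun k =>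
    MorphismProperty.Over.Hom.ext (Scheme.Hom.isoOpensRange_hom_ι (Sigma.ι (fun k => (V k).left) k))
  have : ∀ k, IsIso (e k) := fun k => by
    have : IsIso ((Scheme.ProEt.forget Y ⋙ Over.forget Y).map (e k)) :=
      (@Scheme.Hom.isoOpensRange _ _ (Sigma.ι (fun k => (V k).left) k) (hoi k)).isIso_hom
    exact isIso_of_reflects_iso _ (Scheme.ProEt.forget Y ⋙ Over.forget Y)
  refine ⟨T, inc, fun V₀ h => ⟨MorphismProperty.Over.homMk (Sigma.desc fun k => (h k).left)
    (Sigma.hom_ext _ _ fun k => ?_), fun k => MorphismProperty.Over.Hom.ext ?_⟩, fun G x => ?_⟩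
  · show Sigma.ι (fun k => (V k).left) k ≫ Sigma.desc _ ≫ V₀.hom = Sigma.ι (fun k => (V k).left) k ≫ T.hom
    rw [Sigma.ι_desc_assoc, ProEt91.overHom_w]
    exact (Sigma.ι_desc (fun k => (V k).hom) k).symm
  · exact Sigma.ι_desc _ k
  have hb : ∀ k, Function.Bijective (G.obj.map (e k).op) := fun k =>
    (isIso_iff_bijective _).1 inferInstance
  choose y hy using fun k => (hb k).2 (x k)
  obtain ⟨t, ht⟩ := ProEt91.exists_glue hO G y
  refine ⟨t, fun k => ?_, fun t' ht' => ProEt91.glue_ext hO G fun k => (hb k).1 ?_⟩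
  · rw [← he k, op_comp, Functor.map_comp]
    exact (congrArg (G.obj.map (e k).op) (ht k)).trans (hy k)
  · rw [ht k]
    refine Eq.trans ?_ (hy k).symm
    refine Eq.trans ?_ (ht' k)
    rw [← he k, op_comp, Functor.map_comp]
    rfl

variable (f : X ⟶ Y)

/-- The presheaf left Kan extension. -/
noncomputable abbrev lanP (F : Y.ProEtᵒᵖ ⥤ Type (u + 1)) : X.ProEtᵒᵖ ⥤ Type (u + 1) :=
  (ProEtS.bcP f).op.lan.obj F

variable (F : Y.ProEtᵒᵖ ⥤ Type (u + 1))

/-- Elements of the left Kan extension. -/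
noncomputable def el {W : X.ProEt} {V : Y.ProEt} (g : W ⟶ (ProEtS.bcP f).obj V) (s : F.obj (op V)) :
    (lanP f F).obj (op W) :=
  (lanP f F).map g.op (((ProEtS.bcP f).op.lanUnit.app F).app (op V) s)

lemma el_res {W W' : X.ProEt} {V : Y.ProEt} (k : W' ⟶ W) (g : W ⟶ (ProEtS.bcP f).obj V)
    (s : F.obj (op V)) : (lanP f F).map k.op (el f F g s) = el f F (k ≫ g) s := by
  rw [el, el, op_comp, Functor.map_comp]
  rfl

lemma el_map {W : X.ProEt} {V V' : Y.ProEt} (h : V' ⟶ V) (g : W ⟶ (ProEtS.bcP f).obj V')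
    (s : F.obj (op V)) : el f F g (F.map h.op s) = el f F (g ≫ (ProEtS.bcP f).map h) s := by
  rw [el, el, op_comp, Functor.map_comp]
  exact congrArg ((lanP f F).map g.op) (congr($(((ProEtS.bcP f).op.lanUnit.app F).naturality h.op) s))

theorem representablyFlat_bcP : RepresentablyFlat (ProEtS.bcP f) := by
  have : PreservesLimitsOfSize.{0, 0} (CategoryTheory.Over.pullback f) :=
    (CategoryTheory.Over.mapPullbackAdj f).rightAdjoint_preservesLimits
  have : PreservesFiniteLimits (Scheme.ProEt.forget Y ⋙ CategoryTheory.Over.pullback f) :=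
    comp_preservesFiniteLimits _ _
  have : PreservesFiniteLimits (ProEtS.bcP f ⋙ Scheme.ProEt.forget X) :=
    inferInstanceAs (PreservesFiniteLimits (Scheme.ProEt.forget Y ⋙ CategoryTheory.Over.pullback f))
  have : PreservesFiniteLimits (ProEtS.bcP f) :=
    ⟨fun J _ _ => preservesLimitsOfShape_of_reflects_of_preserves _ (Scheme.ProEt.forget X)⟩
  exact flat_of_preservesFiniteLimits _

theorem exists_el {W : X.ProEt} (a : (lanP f F).obj (op W)) :
    ∃ (V : Y.ProEt) (g : W ⟶ (ProEtS.bcP f).obj V) (s : F.obj (op V)), el f F g s = a := by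
  have h := Functor.isPointwiseLeftKanExtensionOfIsLeftKanExtension (lanP f F)
    ((ProEtS.bcP f).op.lanUnit.app F) (op W)
  obtain ⟨A, s, hs⟩ := Types.jointly_surjective _ h a
  exact ⟨A.left.unop, A.hom.unop, s, hs⟩

theorem el_eq {W : X.ProEt} {V : Y.ProEt} {g : W ⟶ (ProEtS.bcP f).obj V} {s s' : F.obj (op V)}
    (hs : el f F g s = el f F g s') :
    ∃ (V' : Y.ProEt) (g' : W ⟶ (ProEtS.bcP f).obj V') (h : V' ⟶ V),
      g' ≫ (ProEtS.bcP f).map h = g ∧ F.map h.op s = F.map h.op s' := by
  have h := Functor.isPointwiseLeftKanExtensionOfIsLeftKanExtension (lanP f F)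
    ((ProEtS.bcP f).op.lanUnit.app F) (op W)
  have := representablyFlat_bcP f
  have : IsFiltered (CostructuredArrow (ProEtS.bcP f).op (op W)) :=
    inferInstance
  obtain ⟨B, m, hm⟩ := (Types.FilteredColimit.isColimit_eq_iff' h
    (i := CostructuredArrow.mk (Y := op V) (S := (ProEtS.bcP f).op) g.op) s s').1 hs
  exact ⟨B.left.unop, B.hom.unop, m.left.unop, congrArg Quiver.Hom.unop (CostructuredArrow.w m), hm⟩

theorem exists_common {W : X.ProEt} (a b : (lanP f F).obj (op W)) :
    ∃ (V : Y.ProEt) (g : W ⟶ (ProEtS.bcP f).obj V) (s t : F.obj (op V)),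
      el f F g s = a ∧ el f F g t = b := by
  obtain ⟨V, g, s, rfl⟩ := exists_el f F a
  obtain ⟨V', g', t, rfl⟩ := exists_el f F b
  have := representablyFlat_bcP f
  let A := CostructuredArrow.mk (Y := op V) (S := (ProEtS.bcP f).op) g.op
  let A' := CostructuredArrow.mk (Y := op V') (S := (ProEtS.bcP f).op) g'.op
  let B := IsFiltered.max A A'
  refine ⟨B.left.unop, B.hom.unop, F.map (IsFiltered.leftToMax A A').left s,
    F.map (IsFiltered.rightToMax A A').left t, ?_, ?_⟩
  · refine (el_map f F (IsFiltered.leftToMax A A').left.unop B.hom.unop s).trans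
      (congrArg (el f F · s) ?_)
    exact congrArg Quiver.Hom.unop (CostructuredArrow.w (IsFiltered.leftToMax A A'))
  · refine (el_map f F (IsFiltered.rightToMax A A').left.unop B.hom.unop t).trans
      (congrArg (el f F · t) ?_)
    exact congrArg Quiver.Hom.unop (CostructuredArrow.w (IsFiltered.rightToMax A A'))

/-- Gluing sections of the left Kan extension of a sheaf along a decomposition. -/
theorem existsUnique_lan {ι : Type u} (F : Sheaf (Scheme.ProEt.topology Y) (Type (u + 1))) {U : X.ProEt}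
    {O : ι → U.left.Opens} (hO : ProEt91.Decomp U O)
    (x : ∀ k, (lanP f F.obj).obj (op (ProEt91.openObj U (O k)))) :
    ∃! a, ∀ k, (lanP f F.obj).map (ProEt91.openHom U (O k)).op a = x k := by
  obtain ⟨hc⟩ := ProEt91.nonempty_isColimit_decomp hO
  refine existsUnique_of_exists_of_unique ?_ fun a b ha hb => ?_
  · choose V g s hs using fun k => exists_el f F.obj (x k)
    obtain ⟨T, inc, -, hT⟩ := exists_coprod V
    obtain ⟨t, ht, -⟩ := hT F s
    refine ⟨el f F.obj (Cofan.IsColimit.desc hc fun k => g k ≫ (ProEtS.bcP f).map (inc k)) t, fun k => ?_⟩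
    rw [el_res, ← hs k, ← ht k, el_map]
    exact congrArg (el f F.obj · t) (Cofan.IsColimit.fac hc _ k)
  · obtain ⟨V, g, s, t, rfl, rfl⟩ := exists_common f F.obj a b
    choose V' g' h hg hst using fun k => el_eq f F.obj
      (g := ProEt91.openHom U (O k) ≫ g) (s := s) (s' := t)
      (by rw [← el_res, ← el_res]; exact (ha k).trans (hb k).symm)
    obtain ⟨T, inc, hd, hT⟩ := exists_coprod V'
    obtain ⟨m, hm⟩ := hd V h
    obtain ⟨s₀, -, hus⟩ := hT F fun k => F.obj.map (h k).op s
    have heq : F.obj.map m.op s = F.obj.map m.op t := by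
      refine (hus _ fun k => ?_).trans (hus _ fun k => ?_).symm
      · rw [← hm k, op_comp, Functor.map_comp]
        rfl
      · rw [hst k, ← hm k, op_comp, Functor.map_comp]
        rfl
    let g₀ := Cofan.IsColimit.desc hc fun k => g' k ≫ (ProEtS.bcP f).map (inc k)
    have hg₀ : g₀ ≫ (ProEtS.bcP f).map m = g := Cofan.IsColimit.hom_ext hc _ _ fun k => by
      refine (Category.assoc _ _ _).symm.trans
        ((congrArg (· ≫ (ProEtS.bcP f).map m) (Cofan.IsColimit.fac hc _ k)).trans ?_)
      refine (Category.assoc _ _ _).trans ?_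
      rw [← Functor.map_comp, hm k]
      exact hg k
    rw [← hg₀, ← el_map, ← el_map, heq]

/-- Left Kan extensions agree with their sheafifications on affine weakly contractible objects. -/
theorem bijective_lan (F : Sheaf (Scheme.ProEt.topology Y) (Type (u + 1))) (W : X.ProEt) [IsAffine W.left]
    (hW : ProEtS.IsWC W) :
    Function.Bijective ((toSheafify (Scheme.ProEt.topology X) (lanP f F.obj)).app (op W)) := by
  set J := Scheme.ProEt.topology X
  have hU : ∀ S ∈ J W, ∃ (ι : Type u) (O : ι → W.left.Opens),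
      ProEt91.Decomp W O ∧ ∀ k, (S : Sieve W).arrows (ProEt91.openHom W (O k)) :=
    ProEt91.refines_of_isWContractible W ((ProEt91.isWC_iff W).2 hW)
  refine ⟨fun a b hab => ?_, fun t => ?_⟩
  · obtain ⟨ι, O, hO, hk⟩ := hU _ (Presheaf.equalizerSieve_mem J (toSheafify J (lanP f F.obj)) a b hab)
    exact (existsUnique_lan f F hO fun i =>
      (lanP f F.obj).map (ProEt91.openHom W (O i)).op b).unique hk fun _ => rfl
  · obtain ⟨ι, O, hO, hk⟩ := hU _ (Presheaf.imageSieve_mem J (toSheafify J (lanP f F.obj)) t)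
    choose x hx using hk
    obtain ⟨a, ha, -⟩ := existsUnique_lan f F hO x
    refine ⟨a, ProEt91.glue_ext hO ((presheafToSheaf J (Type (u + 1))).obj (lanP f F.obj)) fun i => ?_⟩
    have h1 := congr($((toSheafify J (lanP f F.obj)).naturality (ProEt91.openHom W (O i)).op) a)
    exact h1.symm.trans ((congrArg _ (ha i)).trans (hx i))

end Groth.Agent.Mod48.ProLim
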