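import Groth.Agent.Mod48.ProEtHull
import Groth.Agent.Mod48.ProEtLan
import Mathlib.Algebra.Category.Grp.FilteredColimits
import Mathlib.CategoryTheory.Sites.Pullback

/-!
Inverse images evaluated on affine weakly contractible objects are evaluation at the hull.
-/

universe u

open CategoryTheory CategoryTheory.Limits AlgebraicGeometry Opposite

namespace Groth.Agent.Mod48.ProLim

set_option backward.isDefEq.respectTransparency.types false

variable {Z X : Scheme.{u}} (f : Z ⟶ X)

/-- An affine weakly contractible object over an affine open of the base. -/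
def HullReady (V : Z.ProEt) : Prop :=
  ∃ (A : X.Opens) (a : V.left ⟶ A.toScheme), IsAffineOpen A ∧ IsAffine V.left ∧ ProEtS.IsWC V ∧
    a ≫ A.ι = V.hom ≫ f

/-- Every object is covered by hull ready objects. -/
theorem mem_of_hullReady {U : Z.ProEt} (S : Sieve U)
    (h : ∀ (V : Z.ProEt) (g : V ⟶ U), HullReady f V → S.arrows g) : S ∈ Scheme.ProEt.topology Z U := by
  let p : U.left ⟶ X := U.hom ≫ f
  let ι := {O : U.left.Opens // IsAffineOpen O ∧ ∃ A : X.Opens, IsAffineOpen A ∧ O ≤ p ⁻¹ᵁ A}
  have hcov : ∀ x : U.left, ∃ o : ι, x ∈ o.1 := fun x => by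
    obtain ⟨A, hA, hxA, -⟩ := exists_isAffineOpen_mem_and_subset (U := (⊤ : X.Opens)) (x := p x) trivial
    obtain ⟨O, hO, hxO, hle⟩ := exists_isAffineOpen_mem_and_subset (U := p ⁻¹ᵁ A) (x := x) hxA
    exact ⟨⟨O, hO, A, hA, hle⟩, hxO⟩
  choose V₀ q₀ hV hwe hsur hwc using fun o : ι => have : IsAffine o.1.toScheme := o.2.1
    ProEt91.exists_wc_over o.1.toScheme
  have : ∀ o : ι, IsAffine o.1.toScheme := fun o => o.2.1
  let O : ι → Z.ProEt := fun o =>
    have := hwe o
    have : WeaklyEtale U.hom := U.prop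
    Scheme.ProEt.mk (q₀ o ≫ o.1.ι ≫ U.hom)
  let Q : ∀ o, O o ⟶ ProEt91.openObj U o.1 := fun o => MorphismProperty.Over.homMk (q₀ o) rfl
  have : ∀ o, Surjective (Q o).left := hsur
  have : ∀ o, AlgebraicGeometry.QuasiCompact (Q o).left := fun o =>
    have := hV o
    inferInstanceAs (AlgebraicGeometry.QuasiCompact (q₀ o))
  refine ProEt91.mem_of_local (fun o : ι => o.1) hcov Q S fun o => h _ _ ?_
  obtain ⟨A, hA, hle⟩ := o.2.2
  have : IsAffine (O o).left := hV o
  refine ⟨A, IsOpenImmersion.lift A.ι ((q₀ o ≫ o.1.ι) ≫ p) ?_, hA, hV o,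
    (ProEt91.isWC_iff (O o)).1 (hwc o), ?_⟩
  · rw [Scheme.Opens.range_ι]
    rintro _ ⟨x, rfl⟩
    exact hle (q₀ o x).2
  · rw [IsOpenImmersion.lift_fac]
    show (q₀ o ≫ o.1.ι) ≫ U.hom ≫ f = (q₀ o ≫ o.1.ι ≫ U.hom) ≫ f
    simp only [Category.assoc]

/-- A morphism of sheaves bijective on hull ready objects is an isomorphism. -/
theorem isIso_of_bijective_hullReady {F G : ProEtS.AbP Z} (φ : F ⟶ G)
    (h : ∀ W : Z.ProEt, HullReady f W → Function.Bijective (φ.hom.app (op W))) : IsIso φ := by
  have : Sheaf.IsLocallySurjective φ := ⟨fun {U} s => mem_of_hullReady f _ fun W g hW => by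
    obtain ⟨t, ht⟩ := (h W hW).2 (G.obj.map g.op s)
    exact ⟨t, ht⟩⟩
  have : Epi φ := (Sheaf.isLocallySurjective_iff_epi' AddCommGrpCat.{u + 1} φ).1 this
  have hinj : ∀ U : Z.ProEt, Function.Injective (φ.hom.app (op U)) := fun U =>
    (injective_iff_map_eq_zero (φ.hom.app (op U)).hom).2 fun t ht => by
      have hF := (isSheaf_iff_isSheaf_of_type _ _).1
        (Presheaf.isSheaf_comp_of_isSheaf _ F.obj (forget AddCommGrpCat.{u + 1}) F.property)
      let S : Sieve U :=
        { arrows := fun Z g => F.obj.map g.op t = 0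
          downward_closed := fun {Z Z'} {g} hg k => by
            rw [op_comp, Functor.map_comp, ConcreteCategory.comp_apply, hg, map_zero] }
      refine (hF S (mem_of_hullReady f S fun W g hW => (h W hW).1 ?_)).isSeparatedFor.ext fun W g hg => ?_
      · rw [NatTrans.naturality_apply, map_zero]
        exact (congrArg (G.obj.map g.op) ht).trans (map_zero _)
      · exact hg.trans (map_zero (F.obj.map g.op).hom).symm
  have : Mono φ := by
    have : Mono φ.hom := by
      rw [NatTrans.mono_iff_mono_app]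
      exact fun W => (AddCommGrpCat.mono_iff_injective _).2 (hinj W.unop)
    exact (sheafToPresheaf _ AddCommGrpCat.{u + 1}).mono_of_mono_map this
  exact isIso_of_mono_of_epi φ

/-- The hull gives a terminal object of the comma category. -/
theorem exists_terminal {V : Z.ProEt} (hV : HullReady f V) :
    ∃ (L : X.ProEt) (ψ : V ⟶ (ProEtS.bcP f).obj L),
      Nonempty (IsTerminal (CostructuredArrow.mk (Y := op L) (S := (ProEtS.bcP f).op) ψ.op)) := by
  obtain ⟨A, a, hA, haff, hwc, ha⟩ := hV
  haveI := haff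
  obtain ⟨L, ψ, hex, huniq⟩ := exists_hull f V hwc A hA a ha
  have := representablyFlat_bcP f
  have : IsFiltered (CostructuredArrow (ProEtS.bcP f).op (op V)) := inferInstance
  let T := CostructuredArrow.mk (Y := op L) (S := (ProEtS.bcP f).op) ψ.op
  have h1 : ∀ B : CostructuredArrow (ProEtS.bcP f).op (op V), Nonempty (B ⟶ T) := fun B => by
    obtain ⟨m, hm⟩ := hex B.left.unop B.hom.unop
    exact ⟨CostructuredArrow.homMk m.op (congrArg Quiver.Hom.op hm)⟩
  have h2 : ∀ (B : CostructuredArrow (ProEtS.bcP f).op (op V)) (p q : B ⟶ T), p = q := fun B p q => by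
    obtain ⟨K, c, hc⟩ := IsFilteredOrEmpty.cocone_maps p q
    obtain ⟨d⟩ := h1 K
    have he : c ≫ d = 𝟙 T := by
      refine CostructuredArrow.hom_ext _ _ (Quiver.Hom.unop_inj ?_)
      exact huniq _ (congrArg Quiver.Hom.unop (CostructuredArrow.w (c ≫ d)))
    rw [← Category.comp_id p, ← Category.comp_id q, ← he, ← Category.assoc, hc, Category.assoc]
  choose m hm using fun B => (⟨(h1 B).some, trivial⟩ : ∃ _ : B ⟶ T, True)
  exact ⟨L, ψ, ⟨IsTerminal.ofUniqueHom m fun B p => h2 B p _⟩⟩

section Lan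

variable {C : Type (u + 2)} [Category.{u + 1} C] [HasColimitsOfSize.{u, u + 1} C]

/-- Evaluation at the hull maps to the left Kan extension. -/
noncomputable def hullMap {V : Z.ProEt} {L : X.ProEt} (ψ : V ⟶ (ProEtS.bcP f).obj L) :
    (evaluation X.ProEtᵒᵖ C).obj (op L) ⟶
      (ProEtS.bcP f).op.lan ⋙ (evaluation Z.ProEtᵒᵖ C).obj (op V) where
  app F := ((ProEtS.bcP f).op.lanUnit.app F).app (op L) ≫ ((ProEtS.bcP f).op.lan.obj F).map ψ.op
  naturality F G φ := by
    have h := congr($((ProEtS.bcP f).op.lanUnit.naturality φ).app (op L))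
    simp only [Functor.id_map, NatTrans.comp_app] at h
    dsimp
    rw [← Category.assoc, h, Category.assoc, Category.assoc]
    congr 1
    exact (((ProEtS.bcP f).op.lan.map φ).naturality ψ.op).symm

theorem isIso_hullMap {V : Z.ProEt} {L : X.ProEt} (ψ : V ⟶ (ProEtS.bcP f).obj L)
    (hT : IsTerminal (CostructuredArrow.mk (Y := op L) (S := (ProEtS.bcP f).op) ψ.op)) :
    IsIso (hullMap (C := C) f ψ) := by
  have : ∀ F, IsIso ((hullMap (C := C) f ψ).app F) := fun F =>
    (Functor.isPointwiseLeftKanExtensionOfIsLeftKanExtension ((ProEtS.bcP f).op.lan.obj F)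
      ((ProEtS.bcP f).op.lanUnit.app F) (op V)).isIso_ι_app_of_isTerminal _ hT
  exact NatIso.isIso_of_isIso_app _

end Lan

/-- The forgetful functor commutes with left Kan extensions along base change. -/
theorem existsUnique_lanAb {ι : Type u} (F : ProEtS.AbP X) {U : Z.ProEt} {O : ι → U.left.Opens}
    (hO : ProEt91.Decomp U O)
    (x : ∀ k, ((ProEtS.bcP f).op.lan.obj F.obj).obj (op (ProEt91.openObj U (O k)))) :
    ∃! a, ∀ k, ((ProEtS.bcP f).op.lan.obj F.obj).map (ProEt91.openHom U (O k)).op a = x k := by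
  let G := forget AddCommGrpCat.{u + 1}
  let P := (ProEtS.bcP f).op.lan.obj F.obj
  let η := (ProEtS.bcP f).op.lanUnit.app F.obj
  let E := Functor.LeftExtension.mk (P ⋙ G)
    (Functor.whiskerRight η G : F.obj ⋙ G ⟶ (ProEtS.bcP f).op ⋙ P ⋙ G)
  have := representablyFlat_bcP f
  have : PreservesFilteredColimitsOfSize.{u, u + 1} G :=
    preservesFilteredColimitsOfSize_of_univLE.{u + 1, u + 1, u, u + 1} G
  have hE : E.IsPointwiseLeftKanExtension := fun W => by
    have h := Functor.isPointwiseLeftKanExtensionOfIsLeftKanExtension P η W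
    have : IsFiltered (CostructuredArrow (ProEtS.bcP f).op W) := inferInstance
    exact (isColimitOfPreserves G h).ofIsoColimit
      (Cocone.ext (Iso.refl _) fun j => by
        refine (Category.comp_id _).trans ?_
        exact G.map_comp _ _)
  have hLK : (P ⋙ G).IsLeftKanExtension (L := (ProEtS.bcP f).op) (Functor.whiskerRight η G) := hE.isLeftKanExtension
  let T : Sheaf (Scheme.ProEt.topology X) (Type (u + 1)) := (sheafCompose _ G).obj F
  let θ : lanP f T.obj ≅ P ⋙ G :=
    @Functor.leftKanExtensionUnique _ _ _ _ _ _ (lanP f T.obj) _ _ ((ProEtS.bcP f).op.lanUnit.app T.obj) _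
      (P ⋙ G) (Functor.whiskerRight η G) hLK
  let toT : ∀ W, P.obj W → (lanP f T.obj).obj W := fun W a => θ.inv.app W a
  have hinj : ∀ W, Function.Injective (toT W) := fun W =>
    ((isIso_iff_bijective _).1 (inferInstance : IsIso (θ.inv.app W))).1
  have hsurj : ∀ W, Function.Surjective (toT W) := fun W =>
    ((isIso_iff_bijective _).1 (inferInstance : IsIso (θ.inv.app W))).2
  have hnat : ∀ {W W'} (g : W ⟶ W') (a : P.obj W), toT W' (P.map g a) = (lanP f T.obj).map g (toT W a) :=
    fun g a => congr($(θ.inv.naturality g) a)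
  obtain ⟨b, hb, hub⟩ := existsUnique_lan f T hO fun k => toT _ (x k)
  obtain ⟨a, rfl⟩ := hsurj _ b
  exact ⟨a, fun k => hinj _ ((hnat _ _).trans (hb k)),
    fun a' ha' => hinj _ (hub _ fun k => (hnat _ _).symm.trans (congrArg (toT _) (ha' k)))⟩

/-- Left Kan extensions of abelian sheaves agree with their sheafification on affine weakly contractible
objects. -/
theorem bijective_lanAb (F : ProEtS.AbP X) (W : Z.ProEt) [IsAffine W.left] (hW : ProEtS.IsWC W) :
    Function.Bijective
      ((toSheafify (Scheme.ProEt.topology Z) ((ProEtS.bcP f).op.lan.obj F.obj)).app (op W)) := by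
  set J := Scheme.ProEt.topology Z
  have hU := ProEt91.refines_of_isWContractible W ((ProEt91.isWC_iff W).2 hW)
  set P := (ProEtS.bcP f).op.lan.obj F.obj
  refine ⟨fun a b hab => ?_, fun t => ?_⟩
  · obtain ⟨ι, O, hO, hk⟩ := hU _ (Presheaf.equalizerSieve_mem J (toSheafify J P) a b hab)
    exact (existsUnique_lanAb f F hO fun i => P.map (ProEt91.openHom W (O i)).op b).unique hk fun _ => rfl
  · obtain ⟨ι, O, hO, hk⟩ := hU _ (Presheaf.imageSieve_mem J (toSheafify J P) t)
    choose x hx using hk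
    obtain ⟨a, ha, -⟩ := existsUnique_lanAb f F hO x
    let S := (sheafCompose J (forget AddCommGrpCat.{u + 1})).obj ((presheafToSheaf J AddCommGrpCat.{u + 1}).obj P)
    refine ⟨a, ProEt91.glue_ext hO S fun i => ?_⟩
    have h1 := congr($((toSheafify J P).naturality (ProEt91.openHom W (O i)).op) a)
    exact h1.symm.trans ((congrArg _ (ha i)).trans (hx i))

/-- Inverse image at a hull ready object is evaluation at the hull. -/
theorem exists_pullP_eval [ProEtS.PCont f] {V : Z.ProEt} (hV : HullReady f V) :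
    ∃ L : X.ProEt, Nonempty (ProEtS.pullP f ⋙ sheafToPresheaf _ _ ⋙ (evaluation Z.ProEtᵒᵖ AddCommGrpCat.{u + 1}).obj (op V) ≅
      sheafToPresheaf (Scheme.ProEt.topology X) AddCommGrpCat.{u + 1} ⋙
        (evaluation X.ProEtᵒᵖ AddCommGrpCat.{u + 1}).obj (op L)) := by
  obtain ⟨L, ψ, ⟨hT⟩⟩ := exists_terminal f hV
  obtain ⟨A, a, -, haff, hwc, -⟩ := hV
  haveI := haff
  have := isIso_hullMap (C := AddCommGrpCat.{u + 1}) f ψ hT
  let J := Scheme.ProEt.topology Z
  let β := Functor.whiskerLeft (sheafToPresheaf (Scheme.ProEt.topology X) AddCommGrpCat.{u + 1} ⋙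
      (ProEtS.bcP f).op.lan)
    (Functor.whiskerRight (sheafificationAdjunction J AddCommGrpCat.{u + 1}).unit
      ((evaluation Z.ProEtᵒᵖ AddCommGrpCat.{u + 1}).obj (op V)))
  have : IsIso β := by
    have : ∀ F, IsIso (β.app F) := fun F => (ConcreteCategory.isIso_iff_bijective _).2 (bijective_lanAb f F V hwc)
    exact NatIso.isIso_of_isIso_app _
  refine ⟨L, ⟨Functor.isoWhiskerRight (Functor.sheafPullbackConstruction.sheafPullbackIso (ProEtS.bcP f) _ _ _) _ ≪≫
    (asIso β).symm ≪≫ (Functor.isoWhiskerLeft (sheafToPresheaf _ _) (asIso (hullMap f ψ))).symm⟩⟩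

/-- Inverse image of sheaves of sets at a hull ready object is evaluation at the hull. -/
theorem exists_pullSh_eval [ProEtS.PCont f] {V : Z.ProEt} (hV : HullReady f V) :
    ∃ L : X.ProEt, Nonempty ((ProEtS.bcP f).sheafPullback (Type (u + 1)) (Scheme.ProEt.topology X)
        (Scheme.ProEt.topology Z) ⋙ sheafToPresheaf _ _ ⋙ (evaluation Z.ProEtᵒᵖ (Type (u + 1))).obj (op V) ≅
      sheafToPresheaf (Scheme.ProEt.topology X) (Type (u + 1)) ⋙
        (evaluation X.ProEtᵒᵖ (Type (u + 1))).obj (op L)) := by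
  obtain ⟨L, ψ, ⟨hT⟩⟩ := exists_terminal f hV
  obtain ⟨A, a, -, haff, hwc, -⟩ := hV
  haveI := haff
  have := isIso_hullMap (C := Type (u + 1)) f ψ hT
  let J := Scheme.ProEt.topology Z
  let β := Functor.whiskerLeft (sheafToPresheaf (Scheme.ProEt.topology X) (Type (u + 1)) ⋙
      (ProEtS.bcP f).op.lan)
    (Functor.whiskerRight (sheafificationAdjunction J (Type (u + 1))).unit
      ((evaluation Z.ProEtᵒᵖ (Type (u + 1))).obj (op V)))
  have : IsIso β := by
    have : ∀ F, IsIso (β.app F) := fun F => (isIso_iff_bijective _).2 (bijective_lan f F V hwc)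
    exact NatIso.isIso_of_isIso_app _
  refine ⟨L, ⟨Functor.isoWhiskerRight (Functor.sheafPullbackConstruction.sheafPullbackIso (ProEtS.bcP f) _ _ _) _ ≪≫
    (asIso β).symm ≪≫ (Functor.isoWhiskerLeft (sheafToPresheaf _ _) (asIso (hullMap f ψ))).symm⟩⟩

/-- Inverse image preserves small limits. -/
theorem preservesLimits_pullP [ProEtS.PCont f] (J : Type u) [SmallCategory J] :
    PreservesLimitsOfShape J (ProEtS.pullP f) := by
  refine ⟨fun {K} => preservesLimit_of_preserves_limit_cone (limit.isLimit K) ?_⟩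
  let P := limit.isLimit (K ⋙ ProEtS.pullP f)
  let φ := P.lift ((ProEtS.pullP f).mapCone (limit.cone K))
  have : IsIso φ := isIso_of_bijective_hullReady f φ fun V hV => by
    obtain ⟨L, ⟨e⟩⟩ := exists_pullP_eval f hV
    let ev := sheafToPresheaf (Scheme.ProEt.topology Z) AddCommGrpCat.{u + 1} ⋙
      (evaluation Z.ProEtᵒᵖ AddCommGrpCat.{u + 1}).obj (op V)
    have : PreservesLimitsOfShape J (ProEtS.pullP f ⋙ ev) := preservesLimitsOfShape_of_natIso e.symm
    have h1 : IsLimit (ev.mapCone ((ProEtS.pullP f).mapCone (limit.cone K))) :=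
      isLimitOfPreserves (ProEtS.pullP f ⋙ ev) (limit.isLimit K)
    have h2 : IsLimit (ev.mapCone (limit.cone (K ⋙ ProEtS.pullP f))) := isLimitOfPreserves _ P
    have he : ev.map φ = (IsLimit.conePointUniqueUpToIso h1 h2).hom :=
      h2.hom_ext fun j => (ev.map_comp φ ((limit.cone (K ⋙ ProEtS.pullP f)).π.app j)).symm.trans <|
        (congrArg ev.map (P.fac ((ProEtS.pullP f).mapCone (limit.cone K)) j)).trans
        (IsLimit.conePointUniqueUpToIso_hom_comp h1 h2 j).symm
    have : IsIso (φ.hom.app (op V)) := by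
      show IsIso (ev.map φ)
      rw [he]
      infer_instance
    exact (ConcreteCategory.isIso_iff_bijective _).1 this
  exact IsLimit.ofPointIso P

end Groth.Agent.Mod48.ProLim
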