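import Groth.Agent.Henz21.IndEtale
import Mathlib.Algebra.Category.Ring.FinitePresentation
import Mathlib.RingTheory.RingHom.FinitePresentation

/-!
Universal property of the colimit of all etale pairs among ind-etale algebras.
-/

universe u

open CategoryTheory CategoryTheory.Limits TensorProduct

namespace Groth.Agent.Mod48.ProLim

open Henz21 Henz21.H

variable {R K : Type u} [CommRing R] [CommRing K] [Algebra R K]

/-- Lifts of a point of an etale algebra are unique. -/
theorem pt_unique {S : Type u} [CommRing S] [Algebra R S] [Algebra.Etale R S] (p q : S →ₐ[R] H R K)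
    (h : (proj R K).comp p = (proj R K).comp q) : p = q := by
  let g : S ⊗[R] S →ₐ[R] H R K := Algebra.TensorProduct.productMap p q
  have : Algebra.FinitePresentation R (S ⊗[R] S) := Algebra.FinitePresentation.trans R S (S ⊗[R] S)
  let T : Under (CommRingCat.of R) := Under.mk (CommRingCat.ofHom (algebraMap R (S ⊗[R] S)))
  have : IsFinitelyPresentable.{u} T := CommRingCat.isFinitelyPresentable_under _ T
    (by show (algebraMap R (S ⊗[R] S)).FinitePresentation; exact RingHom.finitePresentation_algebraMap.2 this)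
  let g' : T ⟶ (underCocone R K).pt :=
    Under.homMk (CommRingCat.ofHom g.toRingHom) (CommRingCat.hom_ext g.comp_algebraMap)
  obtain ⟨j, v, hv⟩ := IsFinitelyPresentable.exists_hom_of_isColimit (isColimitUnderCocone R K) g'
  let v' : S ⊗[R] S →ₐ[R] j.S := { v.right.hom with commutes' := fun a => congr($(Under.w v) a) }
  have hv' : ∀ x, incl j (v' x) = g x := fun x => congr(($hv).right x)
  let p' : S →ₐ[R] j.S := v'.comp Algebra.TensorProduct.includeLeft
  let q' : S →ₐ[R] j.S := v'.comp Algebra.TensorProduct.includeRight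
  have hp : ∀ s, incl j (p' s) = p s := fun s => (hv' (s ⊗ₜ 1)).trans (by simp [g])
  have hq : ∀ s, incl j (q' s) = q s := fun s => (hv' (1 ⊗ₜ s)).trans (by simp [g])
  obtain ⟨i, e, he⟩ := Pt.exists_equiv S ((proj R K).comp p)
  let α : i ⟶ j := ⟨p'.comp e.symm.toAlgHom, AlgHom.ext fun s => by
    show j.pt (p' (e.symm s)) = i.pt s
    rw [← proj_incl j, hp]
    exact ((he (e.symm s)).symm.trans (by rw [e.apply_symm_apply]))⟩
  let β : i ⟶ j := ⟨q'.comp e.symm.toAlgHom, AlgHom.ext fun s => by
    show j.pt (q' (e.symm s)) = i.pt s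
    rw [← proj_incl j, hq]
    exact ((DFunLike.congr_fun h (e.symm s)).symm.trans
      ((he (e.symm s)).symm.trans (by rw [e.apply_symm_apply])))⟩
  ext1 s
  obtain ⟨k, c, hc⟩ := IsFilteredOrEmpty.cocone_maps α β
  have h2 := congrArg (fun t => t.φ (e s)) hc
  simp only [Pt.comp_φ, AlgHom.comp_apply] at h2
  have h3 := congrArg (incl k) h2
  replace h3 : incl j (p' (e.symm (e s))) = incl j (q' (e.symm (e s))) :=
    (incl_φ c _).symm.trans (h3.trans (incl_φ c _))
  rwa [e.symm_apply_apply, hp, hq] at h3

/-- Endomorphisms compatible with the point are trivial. -/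
theorem end_unique (e : H R K →ₐ[R] H R K) (h : (proj R K).comp e = proj R K) :
    e = AlgHom.id R (H R K) := by
  refine algHom_ext fun i s => ?_
  exact DFunLike.congr_fun (pt_unique (e.comp (incl i)) (incl i) (by rw [← AlgHom.comp_assoc, h])) s

/-- Ind-etale algebras with a point map to the colimit. -/
theorem exists_map_of_indEtale {C : Type u} [CommRing C] [Algebra R C] (hC : EtPBC.IsIndEtale R C)
    (φ : C →ₐ[R] K) : ∃ m : C →ₐ[R] H R K, (proj R K).comp m = φ := by
  obtain ⟨J, _, _, D, c, hc, hP, ⟨e⟩⟩ := hC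
  let φ' : c.pt ⟶ Under.mk (CommRingCat.ofHom (algebraMap R K)) :=
    e.hom ≫ Under.homMk (CommRingCat.ofHom φ.toRingHom) (CommRingCat.hom_ext φ.comp_algebraMap)
  have key : ∀ j, ∃ f : D.obj j ⟶ Under.mk (CommRingCat.ofHom (algebraMap R (H R K))),
      (∀ x, proj R K (f.right x) = (c.ι.app j ≫ φ').right x) ∧
      ∀ f' : D.obj j ⟶ Under.mk (CommRingCat.ofHom (algebraMap R (H R K))),
        (∀ x, proj R K (f'.right x) = (c.ι.app j ≫ φ').right x) → f' = f := fun j => by
    letI := (D.obj j).hom.hom.toAlgebra
    haveI : Algebra.Etale R (D.obj j).right := hP j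
    let σ : (D.obj j).right →ₐ[R] K :=
      { (c.ι.app j ≫ φ').right.hom with commutes' := fun a => congr($(Under.w (c.ι.app j ≫ φ')) a) }
    obtain ⟨f, hf⟩ := exists_algHom_of_pt (D.obj j).right σ
    refine ⟨Under.homMk (CommRingCat.ofHom f.toRingHom) (CommRingCat.hom_ext f.comp_algebraMap),
      fun x => DFunLike.congr_fun hf x, fun f' hf' => ?_⟩
    let g : (D.obj j).right →ₐ[R] H R K :=
      { f'.right.hom with commutes' := fun a => congr($(Under.w f') a) }
    have hg := pt_unique g f (AlgHom.ext fun x => (hf' x).trans (DFunLike.congr_fun hf x).symm)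
    exact Under.UnderMorphism.ext (CommRingCat.hom_ext (RingHom.ext fun x => DFunLike.congr_fun hg x))
  choose f hf huf using key
  let s : Cocone D :=
    { pt := Under.mk (CommRingCat.ofHom (algebraMap R (H R K)))
      ι :=
        { app := f
          naturality := fun i j a => by
            refine (huf i (D.map a ≫ f j) fun x => ?_).trans (Category.comp_id _).symm
            refine (hf j _).trans ?_
            exact congr($(congrArg (fun t => (t ≫ φ').right) (c.w a)) x) } }
  let m := e.inv ≫ hc.desc s
  refine ⟨{ m.right.hom with commutes' := fun a => congr($(Under.w m) a) }, AlgHom.ext fun x => ?_⟩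
  let p' : Under.mk (CommRingCat.ofHom (algebraMap R (H R K))) ⟶ Under.mk (CommRingCat.ofHom (algebraMap R K)) :=
    Under.homMk (CommRingCat.ofHom (proj R K).toRingHom) (CommRingCat.hom_ext (proj R K).comp_algebraMap)
  have h1 : hc.desc s ≫ p' = φ' := hc.hom_ext fun j => by
    rw [hc.fac_assoc]
    exact Under.UnderMorphism.ext (CommRingCat.hom_ext (RingHom.ext (hf j)))
  have h2 : m ≫ p' = Under.homMk (CommRingCat.ofHom φ.toRingHom) (CommRingCat.hom_ext φ.comp_algebraMap) := by
    simp only [m, Category.assoc, h1, φ', Iso.inv_hom_id_assoc]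
  exact congr(($h2).right x)

end Groth.Agent.Mod48.ProLim
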