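import Groth.Agent.Mod48.ProEtLimitBC
import Mathlib.Algebra.Category.Grp.FilteredColimits

/-!
Sections of the pro-etale pullback of an etale sheaf on a cofiltered limit of quasi-compact quasi-separated
objects with affine transition maps are the colimit of the sections on the stages.
-/

universe u

open CategoryTheory CategoryTheory.Limits AlgebraicGeometry Opposite

namespace Groth.Agent.Mod48.ProLim

set_option backward.isDefEq.respectTransparency.types false

open Unr55 (EtSh.germ EtSh.Pt EtSh.exists_germ_eq)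

variable {X : Scheme.{u}} [ProEtS.EpsCont X] (F : EtCoh.Ab X)

/-- The pullback. -/
noncomputable abbrev sh : ProEtS.AbP X := (ProEtS.epsPull X).obj F

/-- Restriction. -/
noncomputable abbrev res {U V : X.ProEt} (g : V ⟶ U) (t : (sh F).obj.obj (op U)) : (sh F).obj.obj (op V) :=
  (sh F).obj.map g.op t

lemma res_comp {U V W : X.ProEt} (g : V ⟶ U) (h : W ⟶ V) (t : (sh F).obj.obj (op U)) :
    res F (h ≫ g) t = res F h (res F g t) := by
  simp [res]

lemma res_sub {U V : X.ProEt} (g : V ⟶ U) (s t : (sh F).obj.obj (op U)) :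
    res F g (s - t) = res F g s - res F g t := map_sub _ _ _

/-- Restriction to an open set inside the locus vanishes. -/
lemma res_eq_zero_of_subset {U V : X.ProEt} (g : V ⟶ U) (d : (sh F).obj.obj (op U))
    (h : ∀ x : V.left, g.left x ∈ (proEtGSite X).locusSet F d) : res F g d = 0 := by
  refine (proEtGSite X).eq_zero_of_val F _ fun η v => ?_
  rw [GSite.val_map, ← GSite.mem_locusSet_iff]
  exact h (img (η := η) (Y := (Scheme.ProEt.forget X).obj V) v)

variable {I : Type u} [SmallCategory I] [IsCofiltered I] {D : I ⥤ X.ProEt} {c : Cone D}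
  (hc : IsLimit ((Scheme.ProEt.forget X ⋙ Over.forget X).mapCone c))
  [∀ (i j : I) (a : i ⟶ j), IsAffineHom (D.map a).left]

omit [IsCofiltered I] in
lemma isAffineHom_of_comp' {A B C : Scheme.{u}} (f : A ⟶ B) (g : B ⟶ C) (hg : IsAffineHom g)
    (hfg : IsAffineHom (f ≫ g)) : IsAffineHom f := by
  have := hg
  exact IsAffineHom.of_comp f g

omit [IsCofiltered I] in
lemma compactSpace_of_isAffineHom {A B : Scheme.{u}} (f : A ⟶ B) (hf : IsAffineHom f) [CompactSpace B] :
    CompactSpace A := by
  have := hf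
  exact QuasiCompact.compactSpace_of_compactSpace f

omit [ProEtS.EpsCont X] [IsCofiltered I] in
lemma isAffineHom_map {i j : I} (a : i ⟶ j) : IsAffineHom (D.map a).left :=
  (inferInstance : ∀ (i j : I) (a : i ⟶ j), IsAffineHom (D.map a).left) i j a

omit [ProEtS.EpsCont X] [IsCofiltered I] in
lemma isAffineHom_fprodSnd {i j : I} (a : i ⟶ j) {P : X.ProEt} (p : P ⟶ D.obj j) :
    IsAffineHom (fprodSnd (D.map a) p).left :=
  MorphismProperty.pullback_snd (P := @IsAffineHom) _ _ (isAffineHom_map a)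

omit [ProEtS.EpsCont X] [IsCofiltered I] in
instance isAffineHom_bcD {i : I} {P : X.ProEt} (p : P ⟶ D.obj i) (l m : Over i) (φ : l ⟶ m) :
    IsAffineHom ((bcD D p).map φ).left := by
  have h : ((bcD D p).map φ).left ≫ (fprodSnd (D.map m.hom) p).left = (fprodSnd (D.map l.hom) p).left :=
    pullback.lift_snd _ _ _
  exact isAffineHom_of_comp' _ _ (isAffineHom_fprodSnd m.hom p) (h.symm ▸ isAffineHom_fprodSnd l.hom p)

omit [ProEtS.EpsCont X] [IsCofiltered I] in
lemma bcD_map_snd {i : I} {P : X.ProEt} (p : P ⟶ D.obj i) {l m : Over i} (φ : l ⟶ m) :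
    (bcD D p).map φ ≫ fprodSnd (D.map m.hom) p = fprodSnd (D.map l.hom) p :=
  MorphismProperty.Over.Hom.ext (pullback.lift_snd _ _ _)

omit [ProEtS.EpsCont X] [IsCofiltered I] in
lemma bcCone_π_snd {i : I} {P : X.ProEt} (p : P ⟶ D.obj i) (c : Cone D) (l : Over i) :
    (bcCone p c).π.app l ≫ fprodSnd (D.map l.hom) p = fprodSnd (c.π.app i) p :=
  MorphismProperty.Over.Hom.ext (pullback.lift_snd _ _ _)

include hc in
/-- A section vanishing on the limit vanishes at some stage. -/
theorem exists_res_eq_zero [∀ i, CompactSpace ↥(D.obj i).left] {i : I} (t : (sh F).obj.obj (op (D.obj i)))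
    (ht : res F (c.π.app i) t = 0) : ∃ (j : I) (f : j ⟶ i), res F (D.map f) t = 0 := by
  let O : ((sch D).obj i).Opens := ⟨_, (proEtGSite X).isOpen_locusSet F t⟩
  have hO : ((Scheme.ProEt.forget X ⋙ Over.forget X).mapCone c).π.app i ⁻¹ᵁ O = ⊤ := by
    refine top_unique fun y _ => ?_
    obtain ⟨η, v, hv⟩ := exists_gpt ((Scheme.ProEt.forget X).obj c.pt) y
    show (c.π.app i).left y ∈ (proEtGSite X).locusSet F t
    rw [← hv]
    refine ((proEtGSite X).mem_locusSet_iff F t η (v ≫ (Scheme.ProEt.forget X).map (c.π.app i))).2 ?_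
    exact ((proEtGSite X).val_map F (c.π.app i) η v t).symm.trans ((congrArg _ ht).trans (map_zero _))
  obtain ⟨j, f, hj⟩ := exists_map_eq_top (sch D) _ hc O hO
  exact ⟨j, f, res_eq_zero_of_subset F _ t fun x => hj.ge (Set.mem_univ x)⟩

include hc in
/-- Near any point of the limit, a section comes from an affine etale neighbourhood at some stage. -/
theorem exists_local_stage (t : (sh F).obj.obj (op c.pt)) (y : c.pt.left) :
    ∃ (j : I) (P : X.ProEt) (p : P ⟶ D.obj j) (σ : (sh F).obj.obj (op P)),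
      IsAffine P.left ∧ Etale p.left ∧ (c.π.app j).left y ∈ Set.range p.left ∧
      res F (fprodFst (c.π.app j) p) t = res F (fprodSnd (c.π.app j) p) σ := by
  obtain ⟨η, v, hv⟩ := exists_gpt ((Scheme.ProEt.forget X).obj c.pt) y
  obtain ⟨U₀, u₀, s₀, hs₀⟩ := EtSh.exists_germ_eq η.hom F ((proEtGSite X).val F η v t)
  have : Etale U₀.hom := U₀.prop
  obtain ⟨i⟩ := IsCofiltered.nonempty (C := I)
  let P₀ : X.ProEt := Scheme.ProEt.mk (pullback.fst (D.obj i).hom U₀.hom ≫ (D.obj i).hom)
  let p₀ : P₀ ⟶ D.obj i := MorphismProperty.Over.homMk (pullback.fst (D.obj i).hom U₀.hom)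
  let q₀ : P₀ ⟶ (ProEtS.eps X).obj U₀ :=
    MorphismProperty.Over.homMk (pullback.snd (D.obj i).hom U₀.hom) pullback.condition.symm
  let vl : Spec (CommRingCat.of η.k) ⟶ c.pt.left := v.left
  let ul : Spec (CommRingCat.of η.k) ⟶ U₀.left := u₀.left
  have hvl : (vl ≫ (c.π.app i).left) ≫ (D.obj i).hom = η.hom := by
    rw [Category.assoc]
    exact (congrArg (vl ≫ ·) (MorphismProperty.Over.w (c.π.app i))).trans (Over.w v)
  let v₀ : Spec (CommRingCat.of η.k) ⟶ P₀.left :=
    pullback.lift (vl ≫ (c.π.app i).left) ul (hvl.trans (Over.w u₀).symm)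
  obtain ⟨_, ⟨A', hA, rfl⟩, hxA, -⟩ := P₀.left.isBasis_affineOpens.exists_subset_of_mem_open
    (Set.mem_univ (v₀ default)) isOpen_univ
  let A : P₀.left.Opens := A'
  let P₁ := ProEt91.openObj P₀ A
  let p₁ : P₁ ⟶ D.obj i := ProEt91.openHom P₀ A ≫ p₀
  let v₁ : Spec (CommRingCat.of η.k) ⟶ A.toScheme := IsOpenImmersion.lift A.ι v₀ (by
    rintro _ ⟨w, rfl⟩
    rw [Scheme.Opens.range_ι, Subsingleton.elim w default]
    exact hxA)
  have hv₁ : v₁ ≫ A.ι = v₀ := IsOpenImmersion.lift_fac _ _ _
  have hv₁p : v₁ ≫ p₁.left = vl ≫ (c.π.app i).left := by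
    show v₁ ≫ A.ι ≫ pullback.fst _ _ = _
    rw [← Category.assoc, hv₁]
    exact pullback.lift_fst _ _ _
  let Q : X.ProEt := fprod (c.π.app i) p₁
  let w : (proEtGSite X).Pts η Q := Over.homMk
    (pullback.lift (f := (c.π.app i).left) (g := p₁.left) vl v₁ hv₁p.symm) (by
    show pullback.lift vl v₁ _ ≫ pullback.fst _ _ ≫ c.pt.hom = η.hom
    rw [pullback.lift_fst_assoc]
    exact Over.w v)
  let h : Q ⟶ (ProEtS.eps X).obj U₀ := fprodSnd (c.π.app i) p₁ ≫ ProEt91.openHom P₀ A ≫ q₀
  let e₀ := GSite.etaSect (Scheme.ProEt.topology X) (ProEtS.eps X) F s₀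
  let d : (sh F).obj.obj (op (fprod (c.π.app i) p₁)) := res F (fprodFst (c.π.app i) p₁) t - res F h e₀
  have hd : (proEtGSite X).val F η w d = 0 := by
    rw [map_sub, sub_eq_zero]
    refine ((proEtGSite X).val_map F (fprodFst (c.π.app i) p₁) η w t).trans ?_
    refine Eq.trans ?_ ((proEtGSite X).val_rep F h s₀ η w).symm
    have e1 : w ≫ (proEtGSite X).U.map (fprodFst (c.π.app i) p₁) = v :=
      Over.OverMorphism.ext (pullback.lift_fst _ _ _)
    have e2 : (w ≫ (proEtGSite X).unE h : EtSh.Pt η.hom U₀) = u₀ := by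
      apply Over.OverMorphism.ext
      show pullback.lift vl v₁ _ ≫ ((pullback.snd _ _ ≫ A.ι ≫ pullback.snd _ _) ≫ 𝟙 _) = ul
      rw [Category.comp_id, pullback.lift_snd_assoc, ← Category.assoc, hv₁]
      exact pullback.lift_snd _ _ _
    rw [e1, e2, hs₀]
  let O : Q.left.Opens := ⟨_, (proEtGSite X).isOpen_locusSet F d⟩
  let x : Q.left := img (η := η) (Y := (proEtGSite X).U.obj Q) w
  have hxO : x ∈ O := ((proEtGSite X).mem_locusSet_iff F d η w).2 hd
  obtain ⟨W, ⟨l, V, hV, rfl⟩, hxV, hVO⟩ := TopologicalSpace.Opens.isBasis_iff_nbhd.1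
    (isBasis_preimage_isAffineOpen (sch (bcD D p₁)) _ (isLimitBCCone p₁ c hc)) hxO
  let P := ProEt91.openObj ((bcD D p₁).obj l) V
  let p : P ⟶ D.obj l.left := ProEt91.openHom ((bcD D p₁).obj l) V ≫ fprodFst (D.map l.hom) p₁
  let r : P ⟶ P₁ := ProEt91.openHom ((bcD D p₁).obj l) V ≫ fprodSnd (D.map l.hom) p₁
  have hp : p ≫ D.map l.hom = r ≫ p₁ := by
    simp only [p, r, Category.assoc]
    exact congrArg (ProEt91.openHom ((bcD D p₁).obj l) V ≫ ·) (fprod_condition _ _)
  refine ⟨l.left, P, p, res F (r ≫ ProEt91.openHom P₀ A ≫ q₀) e₀, hV, ?_, ?_, ?_⟩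
  · have h1 : Etale p₁.left :=
      MorphismProperty.comp_mem @Etale A.ι (pullback.fst (D.obj i).hom U₀.hom) inferInstance
        (MorphismProperty.pullback_fst (P := @Etale) _ _ inferInstance)
    exact MorphismProperty.comp_mem @Etale V.ι (pullback.fst (D.map l.hom).left p₁.left) inferInstance
      (MorphismProperty.pullback_fst (P := @Etale) _ _ h1)
  · let xl : ((bcD D p₁).obj l).left := ((bcCone p₁ c).π.app l).left x
    refine ⟨(⟨xl, hxV⟩ : V.toScheme), ?_⟩
    have e : (fprodLift (D.map l.hom) p₁ (fprodFst (c.π.app i) p₁ ≫ c.π.app l.left)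
        (fprodSnd (c.π.app i) p₁) (by rw [Category.assoc, c.w]; exact fprod_condition _ _)).left ≫
          (fprodFst (D.map l.hom) p₁).left =
        (fprodFst (c.π.app i) p₁).left ≫ (c.π.app l.left).left := pullback.lift_fst _ _ _
    have e2 : (fprodFst (c.π.app i) p₁).left x = y := by
      rw [← hv]
      exact congrArg (fun q : Spec (CommRingCat.of η.k) ⟶ c.pt.left => q default)
        (pullback.lift_fst vl v₁ hv₁p.symm)
    exact (congrArg (fun q : Q.left ⟶ (D.obj l.left).left => q x) e).trans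
      (congrArg (c.π.app l.left).left e2)
  · let g : fprod (c.π.app l.left) p ⟶ fprod (c.π.app i) p₁ := fprodLift _ _ (fprodFst _ _) (fprodSnd _ _ ≫ r) (by
      rw [Category.assoc, ← hp, ← c.w l.hom, ← Category.assoc, fprod_condition, Category.assoc])
    let πl : fprod (c.π.app i) p₁ ⟶ fprod (D.map l.hom) p₁ :=
      fprodLift (D.map l.hom) p₁ (fprodFst (c.π.app i) p₁ ≫ c.π.app l.left)
        (fprodSnd (c.π.app i) p₁) (by rw [Category.assoc, c.w]; exact fprod_condition _ _)
    let oV : P ⟶ fprod (D.map l.hom) p₁ := ProEt91.openHom ((bcD D p₁).obj l) V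
    have hg : g ≫ πl = fprodSnd (c.π.app l.left) p ≫ oV := by
      refine fprod_hom_ext ?_ ?_
      · rw [Category.assoc, fprodLift_fst, fprodLift_fst_assoc, Category.assoc]
        exact fprod_condition (c.π.app l.left) p
      · rw [Category.assoc, fprodLift_snd, fprodLift_snd, Category.assoc]
        rfl
    have hz : res F g d = 0 := res_eq_zero_of_subset F g d fun z => hVO (by
      show (g ≫ πl).left z ∈ V
      rw [hg]
      exact ((fprodSnd (c.π.app l.left) p).left z : V.toScheme).2)
    rw [res_sub, sub_eq_zero, ← res_comp, ← res_comp, fprodLift_fst] at hz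
    refine hz.trans ((congrArg (fun q => res F q e₀) ?_).trans (res_comp F _ _ _))
    show g ≫ fprodSnd (c.π.app i) p₁ ≫ ProEt91.openHom P₀ A ≫ q₀ = _
    rw [fprodLift_snd_assoc, Category.assoc]

include hc in
/-- Every section on the limit comes from a stage. -/
theorem exists_res_eq [∀ i, CompactSpace ↥(D.obj i).left] [∀ i, QuasiSeparatedSpace ↥(D.obj i).left]
    (t : (sh F).obj.obj (op c.pt)) : ∃ (K : I) (τ : (sh F).obj.obj (op (D.obj K))), res F (c.π.app K) τ = t := by
  classical
  choose j P p σ hP hp hy heq using exists_local_stage F hc t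
  have : CompactSpace c.pt.left :=
    Scheme.compactSpace_of_isLimit (sch D) ((Scheme.ProEt.forget X ⋙ Over.forget X).mapCone c) hc
  obtain ⟨T, hT⟩ := (isCompact_univ (X := c.pt.left)).elim_finite_subcover
    (fun y => (c.π.app (j y)).left ⁻¹' Set.range (p y).left)
    (fun y => (hp y |> fun _ => (p y).left.isOpenMap.isOpen_range).preimage (c.π.app (j y)).left.continuous)
    (fun y _ => Set.mem_iUnion.2 ⟨y, hy y⟩)
  obtain ⟨k, hk⟩ := IsCofiltered.inf_objs_exists (T.image j)
  let fj : ∀ a : T, k ⟶ j a := fun a => (hk (Finset.mem_image_of_mem j a.2)).some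
  let U : ((sch D).obj k).Opens :=
    ⟨⋃ a : T, (D.map (fj a)).left ⁻¹' Set.range (p a).left,
      isOpen_iUnion fun a => ((hp a |> fun _ => (p a).left.isOpenMap.isOpen_range)).preimage
        (D.map (fj a)).left.continuous⟩
  have hU : ((Scheme.ProEt.forget X ⋙ Over.forget X).mapCone c).π.app k ⁻¹ᵁ U = ⊤ := by
    refine top_unique fun y _ => ?_
    obtain ⟨a, ha, hya⟩ := Set.mem_iUnion₂.1 (hT (Set.mem_univ y))
    refine Set.mem_iUnion.2 ⟨⟨a, ha⟩, ?_⟩
    show (D.map (fj ⟨a, ha⟩)).left ((c.π.app k).left y) ∈ Set.range (p a).left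
    have e : (c.π.app k).left ≫ (D.map (fj ⟨a, ha⟩)).left = (c.π.app (j a)).left :=
      congrArg (fun q : c.pt ⟶ D.obj (j a) => q.left) (c.w (fj ⟨a, ha⟩))
    rw [← Scheme.Hom.comp_apply]
    exact (congrArg (fun q : c.pt.left ⟶ (D.obj (j a)).left => q y ∈ Set.range (p a).left) e).mpr hya
  obtain ⟨k', f, hk'⟩ := exists_map_eq_top (sch D) _ hc U hU
  let g : ∀ a : T, k' ⟶ j a := fun a => f ≫ fj a
  let P' : T → X.ProEt := fun a => fprod (D.map (g a)) (p a)
  let σ' : ∀ a : T, (sh F).obj.obj (op (P' a)) := fun a => res F (fprodSnd _ _) (σ a)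
  let p' : ∀ a : T, P' a ⟶ D.obj k' := fun a => fprodFst _ _
  have : ∀ a : T, IsAffine (P' a).left := fun a => by
    have := hP a
    have := isAffineHom_fprodSnd (g a) (p a)
    exact isAffine_of_isAffineHom (fprodSnd (D.map (g a)) (p a)).left
  have hpair : ∀ a b : T, ∃ l : Over k',
      res F (fprodSnd (D.map l.hom) (fprodFst (p' a) (p' b) ≫ p' a))
        (res F (fprodFst (p' a) (p' b)) (σ' a) - res F (fprodSnd (p' a) (p' b)) (σ' b)) = 0 := by
    intro a b
    let R := fprod (p' a) (p' b)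
    let r : R ⟶ D.obj k' := fprodFst (p' a) (p' b) ≫ p' a
    let δ := res F (fprodFst (p' a) (p' b)) (σ' a) - res F (fprodSnd (p' a) (p' b)) (σ' b)
    have : ∀ l : Over k', CompactSpace ↥((bcD D r).obj l).left := fun l => by
      have : AlgebraicGeometry.QuasiCompact (fprodFst (p' a) (p' b)).left :=
        MorphismProperty.pullback_fst (P := @AlgebraicGeometry.QuasiCompact) _ _
          (quasiCompact_of_compactSpace (p' b).left)
      have : CompactSpace ↥R.left := QuasiCompact.compactSpace_of_compactSpace (fprodFst (p' a) (p' b)).left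
      exact compactSpace_of_isAffineHom _ (isAffineHom_fprodSnd l.hom r)
    have h0 : res F (fprodSnd (c.π.app k') r) δ = 0 := by
      have hlift : ∀ (e : T) (u : fprod (c.π.app k') r ⟶ P' e),
          u ≫ p' e = fprodSnd (c.π.app k') r ≫ r →
          res F u (σ' e) = res F (fprodFst (c.π.app k') r) t := by
        intro e u hu
        let L : fprod (c.π.app k') r ⟶ fprod (c.π.app (j e)) (p e) :=
          fprodLift _ _ (fprodFst _ _) (u ≫ fprodSnd _ _) (by
            rw [Category.assoc, ← fprod_condition, ← Category.assoc u, hu, ← c.w (g e), ← Category.assoc,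
              ← Category.assoc, fprod_condition]
            simp only [r, Category.assoc])
        have := congrArg (res F L) (heq e)
        rw [← res_comp, ← res_comp, fprodLift_fst, fprodLift_snd] at this
        exact (res_comp F _ _ _).symm.trans this.symm
      rw [res_sub, sub_eq_zero]
      exact ((res_comp F _ _ _).symm.trans (hlift a _ (Category.assoc _ _ _))).trans
        ((res_comp F _ _ _).symm.trans (hlift b _ ((Category.assoc _ _ _).trans
          (congrArg (_ ≫ ·) (fprod_condition (p' a) (p' b)).symm)))).symm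
    let top : Over k' := Over.mk (𝟙 k')
    obtain ⟨l, φ, hl⟩ := exists_res_eq_zero F (isLimitBCCone r c hc) (i := top)
      (res F (fprodSnd (D.map top.hom) r) δ) (by
        rw [← res_comp]
        exact (congrArg (fun q => res F q δ) (bcCone_π_snd r c top)).trans h0)
    refine ⟨l, ?_⟩
    rw [← res_comp] at hl
    exact (congrArg (fun q => res F q δ) (bcD_map_snd r φ)).symm.trans hl
  choose l hl using hpair
  obtain ⟨L, hL⟩ := IsCofiltered.inf_objs_exists ((Finset.univ : Finset (T × T)).image fun ab => l ab.1 ab.2)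
  let φ : ∀ a b : T, L ⟶ l a b := fun a b =>
    (hL (Finset.mem_image_of_mem (fun ab : T × T => l ab.1 ab.2) (Finset.mem_univ (a, b)))).some
  let K := L.left
  let m : ∀ a : T, K ⟶ j a := fun a => L.hom ≫ g a
  let PK : T → X.ProEt := fun a => fprod (D.map (m a)) (p a)
  let pK : ∀ a : T, PK a ⟶ D.obj K := fun a => fprodFst _ _
  let σK : ∀ a : T, (sh F).obj.obj (op (PK a)) := fun a => res F (fprodSnd _ _) (σ a)
  have hs : ∀ x : (D.obj K).left, ∃ a : T, x ∈ Set.range (pK a).left := fun x => by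
    obtain ⟨a, w, hw⟩ := Set.mem_iUnion.1 (hk'.ge (Set.mem_univ ((D.map L.hom).left x)))
    refine ⟨a, ?_⟩
    have e : (D.map (m a)).left x = (p a).left w := by
      rw [hw]
      simp only [m, g, Functor.map_comp, MorphismProperty.Comma.comp_left, Scheme.Hom.comp_apply]
      rfl
    obtain ⟨z, hz, -⟩ := Scheme.Pullback.exists_preimage_pullback (f := (D.map (m a)).left)
      (g := (p a).left) x w e
    exact ⟨z, hz⟩
  have hcov : Sieve.generate (Presieve.ofArrows PK pK) ∈ Scheme.ProEt.topology X (D.obj K) := by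
    have he : ∀ a : T, Etale (pK a).left := fun a =>
      MorphismProperty.pullback_fst (P := @Etale) _ _ (hp a)
    let e : ULift.{u} (Fin (Fintype.card T)) ≃ T := Equiv.ulift.trans (Fintype.equivFin T).symm
    refine GrothendieckTopology.superset_covering _ ?_ (Precoverage.generate_mem_toGrothendieck
      (ProEt91.ofArrows_mem_precoverage (fun n => PK (e n)) (fun n => pK (e n)) ?_ fun x => ?_))
    · rw [Sieve.generate_le_iff]
      rintro Z q ⟨n⟩
      exact Sieve.le_generate _ _ _ ⟨e n⟩
    · refine ⟨fun {V} hV => .of_isOpenMap (fun n => (pK (e n)).left.continuous)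
        (fun n => ?_) (fun x _ => ?_) V.2 hV.isCompact⟩
      · have := he (e n)
        exact (pK (e n)).left.isOpenMap
      · obtain ⟨a, ha⟩ := hs x
        obtain ⟨n, rfl⟩ := e.surjective a
        exact ⟨n, ha⟩
    · obtain ⟨a, ha⟩ := hs x
      obtain ⟨n, rfl⟩ := e.surjective a
      exact ⟨n, ha⟩
  have hsh := (isSheaf_iff_isSheaf_of_type _ _).1
    (Presheaf.isSheaf_comp_of_isSheaf (Scheme.ProEt.topology X) (sh F).obj
      (forget AddCommGrpCat.{u + 1}) (sh F).property)
  have h := (Presieve.isSheafFor_iff_generate _).2 (hsh _ hcov)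
  rw [Presieve.isSheafFor_arrows_iff] at h
  have hcomp : Presieve.Arrows.Compatible ((sh F).obj ⋙ forget AddCommGrpCat.{u + 1}) pK σK := by
    intro a b Z ga gb hw
    show res F ga (σK a) = res F gb (σK b)
    let ga' : Z ⟶ P' a := fprodLift _ _ (ga ≫ pK a ≫ D.map L.hom) (ga ≫ fprodSnd _ _) (by
      simp only [Category.assoc, ← Functor.map_comp, pK]
      erw [fprod_condition])
    let gb' : Z ⟶ P' b := fprodLift _ _ (gb ≫ pK b ≫ D.map L.hom) (gb ≫ fprodSnd _ _) (by
      simp only [Category.assoc, ← Functor.map_comp, pK]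
      erw [fprod_condition])
    have hab : ga' ≫ p' a = gb' ≫ p' b := by
      simp only [ga', gb', p', fprodLift_fst]
      rw [← Category.assoc, hw, Category.assoc]
    let G : Z ⟶ fprod (p' a) (p' b) := fprodLift _ _ ga' gb' hab
    let r := fprodFst (p' a) (p' b) ≫ p' a
    let H : Z ⟶ (bcD D r).obj L := fprodLift _ _ (ga ≫ pK a) G (by
      simp only [G, r, fprodLift_fst_assoc, ga', p', fprodLift_fst, Category.assoc])
    have e : (H ≫ (bcD D r).map (φ a b)) ≫ fprodSnd (D.map (l a b).hom) r = G := by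
      rw [Category.assoc]
      exact (congrArg (H ≫ ·) (bcD_map_snd r (φ a b))).trans (fprodLift_snd _ _ _ _ _)
    have := (res_comp F _ _ _).trans ((congrArg (res F (H ≫ (bcD D r).map (φ a b))) (hl a b)).trans (map_zero _))
    rw [e, res_sub, sub_eq_zero, ← res_comp, ← res_comp] at this
    simp only [G, fprodLift_fst, fprodLift_snd] at this
    simp only [σK, σ', ← res_comp, ga', gb', fprodLift_snd, fprodLift_snd_assoc] at this ⊢
    exact this
  obtain ⟨τ, hτ, -⟩ := h σK hcomp
  refine ⟨K, τ, ?_⟩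
  refine (hsh _ (GrothendieckTopology.pullback_stable _ (c.π.app K) hcov)).isSeparatedFor.ext fun W q hq => ?_
  obtain ⟨Z, w, r, ⟨a⟩, hwr⟩ := hq
  show res F q (res F (c.π.app K) τ) = res F q t
  rw [← res_comp, ← hwr, res_comp]
  let L' : W ⟶ fprod (c.π.app (j a)) (p a) := fprodLift _ _ q (w ≫ fprodSnd _ _) (by
    rw [Category.assoc, ← fprod_condition, ← c.w (m a), ← Category.assoc q, ← hwr, Category.assoc])
  have e1 := congrArg (res F L') (heq a)
  rw [← res_comp, ← res_comp, fprodLift_fst, fprodLift_snd, res_comp] at e1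
  rw [e1]
  exact congrArg (res F w) (hτ a)

include hc in
/-- The sections on the limit are the colimit of the sections on the stages. -/
theorem nonempty_isColimit_sections [∀ i, CompactSpace ↥(D.obj i).left]
    [∀ i, QuasiSeparatedSpace ↥(D.obj i).left] :
    Nonempty (IsColimit ((sh F).obj.mapCocone c.op)) := by
  have : PreservesColimitsOfShape Iᵒᵖ (forget AddCommGrpCat.{u + 1}) := by
    have := preservesFilteredColimitsOfSize_shrink.{u, u + 1, u, u + 1} (forget AddCommGrpCat.{u + 1})
    exact PreservesFilteredColimitsOfSize.preserves_filtered_colimits _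
  have : HasColimitsOfSize.{u, u} AddCommGrpCat.{u + 1} := hasColimitsOfSizeShrink.{u, u, u + 1, u + 1} _
  have : ReflectsColimit (D.op ⋙ (sh F).obj) (forget AddCommGrpCat.{u + 1}) :=
    reflectsColimit_of_reflectsIsomorphisms _ _
  refine ⟨isColimitOfReflects (forget AddCommGrpCat.{u + 1}) (Types.FilteredColimit.isColimitOf' _ _ ?_ ?_)⟩
  · intro t
    obtain ⟨K, τ, hτ⟩ := exists_res_eq F hc t
    exact ⟨op K, τ, hτ.symm⟩
  · intro i a b hab
    obtain ⟨j, f, hj⟩ := exists_res_eq_zero F hc (i := i.unop) (a - b) (by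
      exact (map_sub _ _ _).trans (sub_eq_zero.2 hab))
    refine ⟨op j, f.op, ?_⟩
    exact sub_eq_zero.1 ((res_sub F (D.map f) a b).symm.trans hj)

end Groth.Agent.Mod48.ProLim
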