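import Groth.Agent.Mod48.GermSites
import Groth.Agent.ProEt91.Site
import Mathlib.AlgebraicGeometry.AffineTransitionLimit

/-!
Base change of a cofiltered system in the small pro-etale site along a map to one of its stages.
-/

universe u

open CategoryTheory CategoryTheory.Limits AlgebraicGeometry Opposite

namespace Groth.Agent.Mod48.ProLim

set_option backward.isDefEq.respectTransparency.types false

variable {X : Scheme.{u}}

/-- Maps in the small pro-etale site are weakly etale. -/
lemma weaklyEtale_left {U V : X.ProEt} (g : V ⟶ U) : WeaklyEtale g.left := by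
  have : WeaklyEtale (g.left ≫ U.hom) := by rw [MorphismProperty.Over.w]; exact V.prop
  have : WeaklyEtale U.hom := U.prop
  exact WeaklyEtale.of_comp g.left U.hom

/-- Fibre products in the small pro-etale site. -/
noncomputable def fprod {U V W : X.ProEt} (f : U ⟶ W) (g : V ⟶ W) : X.ProEt :=
  haveI := weaklyEtale_left g
  Scheme.ProEt.mk (pullback.fst f.left g.left ≫ U.hom)

/-- First projection. -/
noncomputable def fprodFst {U V W : X.ProEt} (f : U ⟶ W) (g : V ⟶ W) : fprod f g ⟶ U :=
  MorphismProperty.Over.homMk (pullback.fst f.left g.left)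

/-- Second projection. -/
noncomputable def fprodSnd {U V W : X.ProEt} (f : U ⟶ W) (g : V ⟶ W) : fprod f g ⟶ V :=
  MorphismProperty.Over.homMk (pullback.snd f.left g.left) (by
    show pullback.snd f.left g.left ≫ V.hom = pullback.fst f.left g.left ≫ U.hom
    rw [← MorphismProperty.Over.w f, ← MorphismProperty.Over.w g, pullback.condition_assoc])

lemma fprod_condition {U V W : X.ProEt} (f : U ⟶ W) (g : V ⟶ W) :
    fprodFst f g ≫ f = fprodSnd f g ≫ g :=
  MorphismProperty.Over.Hom.ext pullback.condition

/-- The universal map. -/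
noncomputable def fprodLift {U V W Z : X.ProEt} (f : U ⟶ W) (g : V ⟶ W) (a : Z ⟶ U) (b : Z ⟶ V)
    (w : a ≫ f = b ≫ g) : Z ⟶ fprod f g :=
  MorphismProperty.Over.homMk (pullback.lift a.left b.left (congrArg (fun q : Z ⟶ W => q.left) w)) (by
    show pullback.lift a.left b.left _ ≫ pullback.fst f.left g.left ≫ U.hom = Z.hom
    rw [pullback.lift_fst_assoc]
    exact MorphismProperty.Over.w a)

@[reassoc (attr := simp)] lemma fprodLift_fst {U V W Z : X.ProEt} (f : U ⟶ W) (g : V ⟶ W) (a : Z ⟶ U) (b : Z ⟶ V)
    (w : a ≫ f = b ≫ g) : fprodLift f g a b w ≫ fprodFst f g = a :=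
  MorphismProperty.Over.Hom.ext (pullback.lift_fst _ _ _)

@[reassoc (attr := simp)] lemma fprodLift_snd {U V W Z : X.ProEt} (f : U ⟶ W) (g : V ⟶ W) (a : Z ⟶ U) (b : Z ⟶ V)
    (w : a ≫ f = b ≫ g) : fprodLift f g a b w ≫ fprodSnd f g = b :=
  MorphismProperty.Over.Hom.ext (pullback.lift_snd _ _ _)

@[ext] lemma fprod_hom_ext {U V W Z : X.ProEt} {f : U ⟶ W} {g : V ⟶ W} {a b : Z ⟶ fprod f g}
    (h₁ : a ≫ fprodFst f g = b ≫ fprodFst f g) (h₂ : a ≫ fprodSnd f g = b ≫ fprodSnd f g) : a = b :=
  MorphismProperty.Over.Hom.ext (pullback.hom_ext (congrArg (fun q : Z ⟶ U => q.left) h₁)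
    (congrArg (fun q : Z ⟶ V => q.left) h₂))

variable {I : Type u} [SmallCategory I] (D : I ⥤ X.ProEt)

/-- The underlying schemes. -/
noncomputable abbrev sch : I ⥤ Scheme.{u} := D ⋙ Scheme.ProEt.forget X ⋙ Over.forget X

instance [∀ (i j : I) (a : i ⟶ j), IsAffineHom (D.map a).left] {i j : I} (a : i ⟶ j) :
    IsAffineHom ((sch D).map a) :=
  inferInstanceAs (IsAffineHom (D.map a).left)

instance [∀ i, CompactSpace ↥(D.obj i).left] (i : I) : CompactSpace ↥((sch D).obj i) :=
  inferInstanceAs (CompactSpace ↥(D.obj i).left)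

variable {i : I} {P : X.ProEt} (p : P ⟶ D.obj i)

/-- The base-changed system. -/
noncomputable def bcD : Over i ⥤ X.ProEt where
  obj l := fprod (D.map l.hom) p
  map {l m} φ := fprodLift _ _ (fprodFst _ _ ≫ D.map φ.left) (fprodSnd _ _) (by
    rw [Category.assoc, ← D.map_comp, Over.w φ]
    exact fprod_condition _ _)
  map_id l := by ext <;> simp
  map_comp φ ψ := by ext <;> simp

/-- The map to the original system. -/
noncomputable def bcFst : bcD D p ⟶ Over.forget i ⋙ D where
  app l := fprodFst _ _
  naturality l m φ := by simp [bcD]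

variable {D}

/-- The base-changed cone. -/
noncomputable def bcCone (c : Cone D) : Cone (bcD D p) where
  pt := fprod (c.π.app i) p
  π :=
    { app := fun l => fprodLift _ _ (fprodFst _ _ ≫ c.π.app l.left) (fprodSnd _ _) (by
        rw [Category.assoc, c.w]
        exact fprod_condition _ _)
      naturality := fun l m φ => by
        erw [Category.id_comp]
        refine fprod_hom_ext ?_ ?_ <;> simp [bcD] }

attribute [local instance] CategoryTheory.isConnected_of_hasTerminal

/-- The base-changed cone is a limit. -/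
noncomputable def isLimitBCCone [IsCofiltered I] (c : Cone D)
    (hc : IsLimit ((Scheme.ProEt.forget X ⋙ Over.forget X).mapCone c)) :
    IsLimit ((Scheme.ProEt.forget X ⋙ Over.forget X).mapCone (bcCone p c)) :=
  isLimitOfIsPullbackOfIsConnected
    (Functor.whiskerRight (bcFst D p) (Scheme.ProEt.forget X ⋙ Over.forget X)) _ _
    (by exact
      { hom := pullback.fst (c.π.app i).left p.left
        w := fun l => (pullback.lift_fst ((fprodFst (c.π.app i) p).left ≫ (c.π.app l.left).left)
          (fprodSnd (c.π.app i) p).left _).symm })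
    (fun l => by
      have h1 : IsPullback ((fprodFst (D.map l.hom) p).left) (fprodSnd (D.map l.hom) p).left
          (D.map l.hom).left p.left := IsPullback.of_hasPullback _ _
      have h2 : IsPullback (pullback.fst (c.π.app i).left p.left) (pullback.snd (c.π.app i).left p.left)
          ((c.π.app l.left).left ≫ (D.map l.hom).left) p.left := by
        rw [show (c.π.app l.left).left ≫ (D.map l.hom).left = (c.π.app i).left from
          congrArg (fun q : c.pt ⟶ D.obj i => q.left) (c.w l.hom)]
        exact IsPullback.of_hasPullback _ _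
      have h3 : ((bcCone p c).π.app l).left ≫ (fprodSnd (D.map l.hom) p).left =
          pullback.snd (c.π.app i).left p.left := pullback.lift_snd _ _ _
      rw [← h3] at h2
      exact IsPullback.of_right h2.flip (pullback.lift_fst _ _ _) h1.flip)
    ((Functor.Initial.isLimitWhiskerEquiv (Over.forget i) _).symm hc)

end Groth.Agent.Mod48.ProLim
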