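import Groth.Agent.Mod48.ProEtHullEval
import Mathlib.CategoryTheory.Adjunction.PartialAdjoint
import Mathlib.CategoryTheory.Sites.DenseSubsite.Basic
import Mathlib.CategoryTheory.Elements

/-!
The inverse image of sheaves of sets on the pro-etale site has a left adjoint.
-/

universe u

open CategoryTheory CategoryTheory.Limits AlgebraicGeometry Opposite

namespace Groth.Agent.Mod48.ProLim

set_option backward.isDefEq.respectTransparency.types false

variable {Z X : Scheme.{u}} (f : Z ⟶ X)

/-- The hull ready objects. -/
abbrev hullReady : ObjectProperty Z.ProEt := fun V => HullReady f V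

instance isCoverDense_hullReady : (hullReady f).ι.IsCoverDense (Scheme.ProEt.topology Z) where
  is_cover U := mem_of_hullReady f _ fun V g hV => ⟨⟨⟨V, hV⟩, 𝟙 _, g, Category.id_comp _⟩⟩

/-- The inverse image of sheaves of sets is a right adjoint. -/
theorem isRightAdjoint_pullSh [ProEtS.PCont f] :
    ((ProEtS.bcP f).sheafPullback (Type (u + 1)) (Scheme.ProEt.topology X)
      (Scheme.ProEt.topology Z)).IsRightAdjoint := by
  let P := (ProEtS.bcP f).sheafPullback (Type (u + 1)) (Scheme.ProEt.topology X) (Scheme.ProEt.topology Z)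
  let hZ := GrothendieckTopology.uliftYoneda.{u + 1} (Scheme.ProEt.topology Z)
  have hgen : ∀ V, HullReady f V → P.leftAdjointObjIsDefined (hZ.obj V) := fun V hV => by
    obtain ⟨L, ⟨e⟩⟩ := exists_pullSh_eval f hV
    refine Functor.CorepresentableBy.isCorepresentable
      (X := (GrothendieckTopology.uliftYoneda.{u + 1} (Scheme.ProEt.topology X)).obj L)
      { homEquiv := fun {T} => ((Scheme.ProEt.topology X).uliftYonedaEquiv.{u + 1}).trans
          ((e.app T).toEquiv.symm.trans ((Scheme.ProEt.topology Z).uliftYonedaEquiv.{u + 1}).symm)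
        homEquiv_comp := fun {T T'} g a => ?_ }
    show _ = _ ≫ P.map g
    simp only [Equiv.trans_apply]
    rw [GrothendieckTopology.uliftYonedaEquiv_symm_naturality_right,
      GrothendieckTopology.uliftYonedaEquiv_comp]
    congr 1
    exact (congr($(e.inv.naturality g) _)).symm.symm
  refine Functor.isRightAdjoint_of_leftAdjointObjIsDefined_eq_top (top_unique fun G _ => ?_)
  let I := (hullReady f).ι
  let Q := I.op ⋙ G.obj
  let D : Q.Elementsᵒᵖ ⥤ Sheaf (Scheme.ProEt.topology Z) (Type (u + 1)) :=
    (CategoryOfElements.π Q).leftOp ⋙ I ⋙ hZ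
  let c : Cocone D :=
    { pt := G
      ι :=
        { app := fun e => ((Scheme.ProEt.topology Z).uliftYonedaEquiv.{u + 1}).symm e.unop.2
          naturality := fun e e' a => by
            refine Eq.trans ?_ (Category.comp_id _).symm
            show hZ.map (I.map a.unop.1.unop) ≫ _ = _
            refine (GrothendieckTopology.uliftYonedaEquiv_symm_naturality_left _ (I.map a.unop.1.unop) G
              e'.unop.2).trans ?_
            exact congrArg _ a.unop.2 } }
  let α : ∀ s : Cocone D, I.op ⋙ G.obj ⟶ I.op ⋙ s.pt.obj := fun s =>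
    { app := fun W => TypeCat.ofHom fun x =>
        (Scheme.ProEt.topology Z).uliftYonedaEquiv.{u + 1} (s.ι.app (op ⟨W, x⟩))
      naturality := fun W W' a => by
        ext x
        let b : Q.elementsMk W x ⟶ Q.elementsMk W' (Q.map a x) := ⟨a, rfl⟩
        show (Scheme.ProEt.topology Z).uliftYonedaEquiv.{u + 1} (s.ι.app (op ⟨W', Q.map a x⟩)) =
          s.pt.obj.map (I.map a.unop).op
            ((Scheme.ProEt.topology Z).uliftYonedaEquiv.{u + 1} (s.ι.app (op ⟨W, x⟩)))
        refine Eq.trans ?_ (GrothendieckTopology.uliftYonedaEquiv_naturality _ _ _).symm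
        exact congrArg _ (s.w b.op).symm }
  have hc : IsColimit c :=
    { desc := fun s => ⟨Functor.IsCoverDense.sheafHom (α s)⟩
      fac := fun s e => by
        show ((Scheme.ProEt.topology Z).uliftYonedaEquiv.{u + 1}).symm e.unop.2 ≫ _ = _
        rw [GrothendieckTopology.uliftYonedaEquiv_symm_naturality_right, Equiv.symm_apply_eq]
        exact congr($(Functor.IsCoverDense.sheafHom_restrict_eq (α s)).app e.unop.1 e.unop.2)
      uniq := fun s m hm => by
        apply Sheaf.hom_ext
        refine (Functor.IsCoverDense.sheafHom_eq I m.hom).symm.trans (congrArg _ ?_)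
        ext W x
        show m.hom.app _ x = (Scheme.ProEt.topology Z).uliftYonedaEquiv.{u + 1} (s.ι.app (op ⟨W, x⟩))
        rw [← hm (op ⟨W, x⟩), GrothendieckTopology.uliftYonedaEquiv_comp]
        exact congrArg _ (Equiv.apply_symm_apply _ _).symm }
  exact Functor.leftAdjointObjIsDefined_of_isColimit hc fun e => hgen _ e.unop.1.unop.2

end Groth.Agent.Mod48.ProLim
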