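import Groth.Agent.ProEt91.Cover
import Mathlib.CategoryTheory.Sites.Point.Conservative

/-!
Points of the small pro-etale site: germs at points of w-contractible affine objects along clopen subsets.
-/

universe u

open CategoryTheory CategoryTheory.Limits AlgebraicGeometry Opposite

namespace Groth.Agent.Mod48

set_option backward.isDefEq.respectTransparency.types false

open ProEt91

variable {X : Scheme.{u}} (W : X.ProEt) (x : ↥W.left)

/-- Clopen neighbourhoods. -/
abbrev CNbhd : Type u := {U : W.left.Opens // IsClosed (U : Set ↥W.left) ∧ x ∈ U}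

variable {W}

/-- The inclusion between open pieces. -/
noncomputable def openRes {U U' : W.left.Opens} (h : U' ≤ U) : openObj W U' ⟶ openObj W U :=
  MorphismProperty.Over.homMk (W.left.homOfLE h) (by
    show W.left.homOfLE h ≫ U.ι ≫ W.hom = U'.ι ≫ W.hom
    rw [← Category.assoc]; exact congrArg (· ≫ W.hom) (W.left.homOfLE_ι h))

lemma openRes_openHom {U U' : W.left.Opens} (h : U' ≤ U) : openRes h ≫ openHom W U = openHom W U' :=
  MorphismProperty.Over.Hom.ext (W.left.homOfLE_ι h)

lemma openHom_cancel {U : W.left.Opens} {Z : X.ProEt} {a b : Z ⟶ openObj W U}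
    (h : a ≫ openHom W U = b ≫ openHom W U) : a = b :=
  MorphismProperty.Over.Hom.ext ((cancel_mono U.ι).1
    (congrArg CommaMorphism.left (congrArg MorphismProperty.Comma.Hom.toCommaMorphism h)))

lemma openRes_comp {U U' U'' : W.left.Opens} (h : U' ≤ U) (h' : U'' ≤ U') :
    openRes h' ≫ openRes h = openRes (h'.trans h) :=
  openHom_cancel (by rw [Category.assoc, openRes_openHom, openRes_openHom, openRes_openHom])


/-- Representatives of germs. -/
structure Rep (V : X.ProEt) : Type u where
  U : CNbhd W x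
  hom : openObj W U.1 ⟶ V

/-- Two representatives agree near the point. -/
def RepRel (V : X.ProEt) (a b : Rep x V) : Prop :=
  ∃ (U : CNbhd W x) (h₁ : U.1 ≤ a.U.1) (h₂ : U.1 ≤ b.U.1), openRes h₁ ≫ a.hom = openRes h₂ ≫ b.hom

/-- The intersection of two neighbourhoods. -/
def CNbhd.inter {x : ↥W.left} (U U' : CNbhd W x) : CNbhd W x :=
  ⟨U.1 ⊓ U'.1, U.2.1.inter U'.2.1, U.2.2, U'.2.2⟩

lemma repRel_equiv (V : X.ProEt) : Equivalence (RepRel x V) where
  refl a := ⟨a.U, le_rfl, le_rfl, rfl⟩
  symm := fun ⟨U, h₁, h₂, e⟩ => ⟨U, h₂, h₁, e.symm⟩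
  trans := fun {a b c} ⟨U, h₁, h₂, e⟩ ⟨U', h₁', h₂', e'⟩ => by
    refine ⟨U.inter U', inf_le_left.trans h₁, inf_le_right.trans h₂', ?_⟩
    have l₁ : (U.inter U').1 ≤ U.1 := inf_le_left
    have l₂ : (U.inter U').1 ≤ U'.1 := inf_le_right
    rw [← openRes_comp h₁ l₁, ← openRes_comp h₂' l₂, Category.assoc, Category.assoc, e, ← e',
      ← Category.assoc, ← Category.assoc, openRes_comp, openRes_comp]

/-- The setoid of germs. -/
instance repSetoid (V : X.ProEt) : Setoid (Rep x V) := ⟨RepRel x V, repRel_equiv x V⟩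

/-- Composition of representatives. -/
noncomputable def Rep.map {V V' : X.ProEt} (f : V ⟶ V') (a : Rep x V) : Rep x V' := ⟨a.U, a.hom ≫ f⟩

lemma repRel_map {V V' : X.ProEt} (f : V ⟶ V') (a b : Rep x V) (h : RepRel x V a b) :
    RepRel x V' (a.map x f) (b.map x f) := by
  obtain ⟨U, h₁, h₂, e⟩ := h
  exact ⟨U, h₁, h₂, by simp only [Rep.map, ← Category.assoc, e]⟩

/-- The fibre functor at a point. -/
noncomputable def germFunctor : X.ProEt ⥤ Type (u + 1) where
  obj V := ULift.{u + 1} (Quotient (repSetoid x V))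
  map {V V'} f := TypeCat.ofHom fun z => ULift.up (Quotient.map (Rep.map x f) (repRel_map x f) z.down)
  map_id V := by
    ext ⟨z⟩
    induction z using Quotient.inductionOn with
    | h a =>
      change Quotient.mk _ (Rep.map x (𝟙 V) a) = Quotient.mk _ a
      rw [Rep.map, Category.comp_id]
  map_comp {V V' V''} f g := by
    ext ⟨z⟩
    induction z using Quotient.inductionOn with
    | h a =>
      change Quotient.mk _ (Rep.map x (f ≫ g) a) = Quotient.mk _ (Rep.map x g (Rep.map x f a))
      simp only [Rep.map, Category.assoc]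

/-- The germ of a representative. -/
def germ {V : X.ProEt} (a : Rep x V) : (germFunctor x).obj V := ULift.up (Quotient.mk _ a)

lemma germ_surjective {V : X.ProEt} (z : (germFunctor x).obj V) : ∃ a, germ x a = z := by
  obtain ⟨z⟩ := z
  obtain ⟨a, rfl⟩ := Quotient.exists_rep z
  exact ⟨a, rfl⟩

lemma germ_eq_iff {V : X.ProEt} (a b : Rep x V) : germ x a = germ x b ↔ RepRel x V a b :=
  ⟨fun h => Quotient.exact (congrArg ULift.down h), fun h => congrArg ULift.up (Quotient.sound h)⟩

lemma map_germ {V V' : X.ProEt} (f : V ⟶ V') (a : Rep x V) :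
    (germFunctor x).map f (germ x a) = germ x (a.map x f) := rfl

lemma isCofiltered_germFunctor : IsCofiltered (germFunctor x).Elements :=
  { cone_objs := fun ⟨V, z⟩ ⟨V', z'⟩ => by
      obtain ⟨a, rfl⟩ := germ_surjective x z
      obtain ⟨b, rfl⟩ := germ_surjective x z'
      let U := a.U.inter b.U
      let c : Rep x (V ⨯ V') := ⟨U, prod.lift (openRes (inf_le_left (a := a.U.1) (b := b.U.1)) ≫ a.hom)
        (openRes (inf_le_right (a := a.U.1) (b := b.U.1)) ≫ b.hom)⟩
      refine ⟨⟨V ⨯ V', germ x c⟩, CategoryOfElements.homMk _ _ prod.fst ?_,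
        CategoryOfElements.homMk _ _ prod.snd ?_, trivial⟩
      · refine (map_germ x _ _).trans ((germ_eq_iff x _ _).2 ⟨U, le_rfl, inf_le_left, ?_⟩)
        simp only [Rep.map, c, prod.lift_fst]
        rw [← Category.assoc, openRes_comp]
      · refine (map_germ x _ _).trans ((germ_eq_iff x _ _).2 ⟨U, le_rfl, inf_le_right, ?_⟩)
        simp only [Rep.map, c, prod.lift_snd]
        rw [← Category.assoc, openRes_comp]
    cone_maps := fun ⟨V, z⟩ ⟨V', z'⟩ f g => by
      obtain ⟨a, rfl⟩ := germ_surjective x z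
      have h : germ x (a.map x f.1) = germ x (a.map x g.1) :=
        (map_germ x f.1 a).symm.trans ((f.2.trans g.2.symm).trans (map_germ x g.1 a))
      obtain ⟨U, h₁, h₂, e⟩ := (germ_eq_iff x _ _).1 h
      have e' : (openRes h₁ ≫ a.hom) ≫ f.1 = (openRes h₁ ≫ a.hom) ≫ g.1 := by
        simp only [Category.assoc]
        exact e
      let c : Rep x (equalizer f.1 g.1) := ⟨U, equalizer.lift _ e'⟩
      refine ⟨⟨equalizer f.1 g.1, germ x c⟩, CategoryOfElements.homMk _ _ (equalizer.ι f.1 g.1) ?_, ?_⟩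
      · refine (map_germ x _ _).trans ((germ_eq_iff x _ _).2 ⟨U, le_rfl, h₁, ?_⟩)
        simp only [Rep.map, c, equalizer.lift_ι]
        rw [← Category.assoc, openRes_comp]
      · exact Subtype.ext (equalizer.condition f.1 g.1)
    nonempty := ⟨⟨W, germ x ⟨⟨⊤, isClosed_univ, trivial⟩, openHom W ⊤⟩⟩⟩ }

/-- The point at `x`. -/
noncomputable def proEtPoint (hW : Refines W) : GrothendieckTopology.Point.{u + 1} (Scheme.ProEt.topology X) where
  fiber := germFunctor x
  isCofiltered := isCofiltered_germFunctor x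
  initiallySmall := by
    have : EssentiallySmall.{u + 1} (germFunctor x).Elements := essentiallySmall_of_small_of_locallySmall _
    exact initiallySmall_of_essentiallySmall _
  jointly_surjective {V} R hR z := by
    obtain ⟨a, rfl⟩ := germ_surjective x z
    let J := Scheme.ProEt.topology X
    let U := a.U.1
    let U' : W.left.Opens := ⟨(U : Set ↥W.left)ᶜ, a.U.2.1.isOpen_compl⟩
    let D : ULift.{u} Bool → W.left.Opens := fun b => if b.down then U else U'
    let T : Sieve W :=
      { arrows := fun Z g => (∃ b : Z ⟶ openObj W U, b ≫ openHom W U = g ∧ R (b ≫ a.hom)) ∨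
          ∃ b : Z ⟶ openObj W U', b ≫ openHom W U' = g
        downward_closed := by
          rintro Z Z' g (⟨b, rfl, hb⟩ | ⟨b, rfl⟩) k
          · exact Or.inl ⟨k ≫ b, Category.assoc _ _ _,
              by rw [Category.assoc]; exact R.downward_closed hb k⟩
          · exact Or.inr ⟨k ≫ b, Category.assoc _ _ _⟩ }
    have hcov : Sieve.generate (Presieve.ofArrows (fun b => openObj W (D b)) fun b => openHom W (D b)) ∈ J W :=
      openCover_mem D fun y => by
        by_cases hy : y ∈ U
        · exact ⟨⟨true⟩, hy⟩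
        · exact ⟨⟨false⟩, hy⟩
    have hT : T ∈ J W := by
      refine J.transitive hcov T ?_
      rintro Z _ ⟨_, k, _, ⟨⟨b⟩⟩, rfl⟩
      rw [Sieve.pullback_comp]
      refine J.pullback_stable k ?_
      cases b with
      | true =>
        refine J.superset_covering ?_ (J.pullback_stable a.hom hR)
        intro Y g hg
        exact Or.inl ⟨g, rfl, hg⟩
      | false =>
        refine J.superset_covering ?_ (J.top_mem _)
        intro Y g _
        exact Or.inr ⟨g, rfl⟩
    obtain ⟨ι, Q, hQ, hQT⟩ := hW T hT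
    obtain ⟨k, hk⟩ := hQ.cover x
    have hclosed : IsClosed (Q k : Set ↥W.left) := by
      rw [← isOpen_compl_iff]
      have : (Q k : Set ↥W.left)ᶜ = ⋃ l ∈ {l | l ≠ k}, (Q l : Set ↥W.left) := by
        ext y
        simp only [Set.mem_compl_iff, Set.mem_iUnion, Set.mem_setOf_eq, exists_prop]
        refine ⟨fun hy => ?_, fun ⟨l, hl, hyl⟩ hy => Set.disjoint_left.1 (hQ.disj hl) hyl hy⟩
        obtain ⟨l, hl⟩ := hQ.cover y
        exact ⟨l, fun e => hy (e ▸ hl), hl⟩
      rw [this]
      exact isOpen_biUnion fun l _ => (Q l).2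
    rcases hQT k with ⟨b, hb, hbR⟩ | ⟨b, hb⟩
    · have hle : (Q k) ≤ U := fun y hy => by
        have h1 : b.left ≫ U.ι = (Q k).ι :=
          congrArg CommaMorphism.left (congrArg MorphismProperty.Comma.Hom.toCommaMorphism hb)
        have h2 : U.ι (b.left ⟨y, hy⟩) = y :=
          congrArg (fun t : (Q k).toScheme ⟶ W.left => t ⟨y, hy⟩) h1
        exact h2 ▸ (b.left ⟨y, hy⟩).2
      refine ⟨openObj W (Q k), b ≫ a.hom, hbR,
        germ x ⟨⟨Q k, hclosed, hk⟩, 𝟙 (openObj W (Q k))⟩, ?_⟩
      refine (map_germ x _ _).trans ((germ_eq_iff x _ _).2 ⟨⟨Q k, hclosed, hk⟩, le_rfl, hle, ?_⟩)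
      have hbe : b = openRes hle := openHom_cancel (by rw [hb, openRes_openHom])
      simp only [Rep.map, Category.id_comp, hbe]
      rw [← Category.assoc, openRes_comp]
    · exfalso
      have h1 : b.left ≫ U'.ι = (Q k).ι :=
        congrArg CommaMorphism.left (congrArg MorphismProperty.Comma.Hom.toCommaMorphism hb)
      have h2 : U'.ι (b.left ⟨x, hk⟩) = x :=
        congrArg (fun t : (Q k).toScheme ⟶ W.left => t ⟨x, hk⟩) h1
      have h3 : x ∈ U' := h2 ▸ (b.left ⟨x, hk⟩).2
      exact h3 a.U.2.2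

variable (X) in
/-- The index of the points. -/
abbrev PtIdx : Type (u + 1) := Σ W : {W : X.ProEt // Refines W}, ↥W.1.left

variable (X) in
/-- The small pro-etale site has enough points. -/
theorem hasEnoughPoints_proEt :
    GrothendieckTopology.HasEnoughPoints.{u + 1} (Scheme.ProEt.topology X) := by
  refine ⟨ObjectProperty.ofObj (fun i : PtIdx X => proEtPoint i.2 i.1.2), inferInstance, ?_⟩
  refine ObjectProperty.IsConservativeFamilyOfPoints.mk' fun V S hS => ?_
  let J := Scheme.ProEt.topology X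
  let ι : Type u := V.left.affineCover.I₀
  let Wc : ι → V.left.Opens := fun i => (V.left.affineCover.f i).opensRange
  obtain ⟨Y₁, g, hY, hmem⟩ := exists_cover_data V Wc (fun i => isAffineOpen_opensRange _)
    (fun y => by
      obtain ⟨i, z, hz⟩ := V.left.affineCover.exists_eq y
      exact ⟨i, z, hz⟩)
  refine J.transitive (hmem (Sieve.ofArrows Y₁ g) fun i => Sieve.ofArrows_mk Y₁ g i) S ?_
  rintro Z _ ⟨_, k, _, ⟨i⟩, rfl⟩
  rw [Sieve.pullback_comp]
  refine J.pullback_stable k ?_
  have := (hY i).1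
  have hR : Refines (Y₁ i) := refines_of_isWContractible _ (hY i).2
  have key : ∀ y : ↥(Y₁ i).left, ∃ U : (Y₁ i).left.Opens, y ∈ U ∧ S (openHom (Y₁ i) U ≫ g i) := by
    intro y
    obtain ⟨Z', f, hf, z, hz⟩ := hS ⟨_, ObjectProperty.ofObj_apply _ (⟨⟨Y₁ i, hR⟩, y⟩ : PtIdx X)⟩
      (germ y ⟨⟨⊤, isClosed_univ, trivial⟩, openHom (Y₁ i) ⊤ ≫ g i⟩)
    obtain ⟨a, rfl⟩ := germ_surjective y z
    obtain ⟨U, h₁, h₂, e⟩ := (germ_eq_iff y _ _).1 ((map_germ y f a).symm.trans hz)
    refine ⟨U.1, U.2.2, ?_⟩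
    rw [← openRes_openHom h₂, Category.assoc, ← e]
    simp only [Rep.map, ← Category.assoc]
    exact S.downward_closed hf _
  choose U hyU hU using key
  refine J.superset_covering ?_ (openCover_mem U fun y => ⟨y, hyU y⟩)
  rw [Sieve.generate_le_iff]
  rintro _ _ ⟨y⟩
  exact hU y

end Groth.Agent.Mod48
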