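import Groth.Agent.Mod48.ProEtPres
import Mathlib.CategoryTheory.Limits.Constructions.Over.Basic

/-!
Fibre powers of presented objects are presented by the fibre powers of models.
-/

universe u

open CategoryTheory CategoryTheory.Limits AlgebraicGeometry Opposite

namespace Groth.Agent.Mod48.ProLim

set_option backward.isDefEq.respectTransparency.types false

variable {X : Scheme.{u}}

instance hasFiniteProducts_overEt (U : X.Etale) : HasFiniteProducts (Over U) :=
  haveI : HasFiniteWidePullbacks X.Etale := hasFiniteWidePullbacks_of_hasFiniteLimits X.Etale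
  Over.ConstructProducts.over_finiteProducts_of_finiteWidePullbacks

instance hasFiniteProducts_overPro (U : X.ProEt) : HasFiniteProducts (Over U) :=
  haveI : HasFiniteWidePullbacks X.ProEt := hasFiniteWidePullbacks_of_hasFiniteLimits X.ProEt
  Over.ConstructProducts.over_finiteProducts_of_finiteWidePullbacks

instance preservesPullbacks_schE : PreservesLimitsOfShape WalkingCospan (schE X) :=
  inferInstanceAs (PreservesLimitsOfShape WalkingCospan (Scheme.Etale.forget X ⋙ Over.forget X))

instance preservesPullbacks_schP : PreservesLimitsOfShape WalkingCospan (schP X) :=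
  inferInstanceAs (PreservesLimitsOfShape WalkingCospan (Scheme.ProEt.forget X ⋙ Over.forget X))

variable {ι : Type} {PU : Pres X} {PY : ι → Pres X} {f : ∀ x, (PY x).c.pt ⟶ PU.c.pt}

variable (f) in
/-- The family over the base. -/
abbrev fam (x : ι) : Over PU.c.pt := Over.mk (f x)

/-- The members of a model over its base. -/
abbrev famM (M : Mdl PU PY f) (x : ι) : Over (PU.D.obj M.k) := Over.mk (M.g x)

/-- The fibre power of the family. -/
noncomputable abbrev pw {n : ℕ} (α : Fin n → ι) : Over PU.c.pt := ∏ᶜ (fam f ∘ α)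

/-- The fibre power of a model. -/
noncomputable abbrev pwM (M : Mdl PU PY f) {n : ℕ} (α : Fin n → ι) : Over (PU.D.obj M.k) := ∏ᶜ (famM M ∘ α)

lemma isPw_pw {n : ℕ} (α : Fin n → ι) :
    PwS.IsPw (fun i => (f (α i)).left) ((pw (f := f) α).left).left
      (fun i => (Pi.π (fam f ∘ α) i).left.left) (pw (f := f) α).hom.left :=
  PwS.isPw_of_product (schP X) (fam f ∘ α)

lemma isPw_pwM (M : Mdl PU PY f) {n : ℕ} (α : Fin n → ι) :
    PwS.IsPw (fun i => (M.g (α i)).left) (pwM M α).left.left
      (fun i => (Pi.π (famM M ∘ α) i).left.left) (pwM M α).hom.left :=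
  PwS.isPw_of_product (schE X) (famM M ∘ α)

/-- Transition maps of fibre powers. -/
noncomputable def pwMap {M M' : Mdl PU PY f} (φ : M ⟶ M') {n : ℕ} (α : Fin n → ι) :
    (Over.map (PU.D.map φ.a)).obj (pwM M α) ⟶ pwM M' α :=
  Pi.lift fun i => Over.homMk ((Pi.π (famM M ∘ α) i).left ≫ (PY (α i)).D.map (φ.b (α i))) (by
    show (_ ≫ _) ≫ M'.g (α i) = (pwM M α).hom ≫ PU.D.map φ.a
    rw [Category.assoc, φ.comm, ← Category.assoc]
    exact congrArg (· ≫ _) (Over.w (Pi.π (famM M ∘ α) i)))

lemma pwMap_π {M M' : Mdl PU PY f} (φ : M ⟶ M') {n : ℕ} (α : Fin n → ι) (i : Fin n) :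
    (pwMap φ α).left ≫ (Pi.π (famM M' ∘ α) i).left =
      (Pi.π (famM M ∘ α) i).left ≫ (PY (α i)).D.map (φ.b (α i)) :=
  congrArg CommaMorphism.left (Pi.lift_π (fun i => (Over.homMk _ _ :
    (Over.map (PU.D.map φ.a)).obj (pwM M α) ⟶ famM M' (α i))) i)

lemma pwMap_hom {M M' : Mdl PU PY f} (φ : M ⟶ M') {n : ℕ} (α : Fin n → ι) :
    (pwMap φ α).left ≫ (pwM M' α).hom = (pwM M α).hom ≫ PU.D.map φ.a :=
  Over.w (pwMap φ α)

/-- Maps to a fibre power of a model are equal when their components are. -/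
lemma pwM_hom_ext (M : Mdl PU PY f) {n : ℕ} (α : Fin n → ι) {Z : X.Etale} {a b : Z ⟶ (pwM M α).left}
    (hπ : ∀ i, a ≫ (Pi.π (famM M ∘ α) i).left = b ≫ (Pi.π (famM M ∘ α) i).left)
    (hq : a ≫ (pwM M α).hom = b ≫ (pwM M α).hom) : a = b :=
  MorphismProperty.Over.Hom.ext ((isPw_pwM M α).uniq _ _
    (fun i => congrArg (fun q : Z ⟶ _ => q.left) (hπ i)) (congrArg (fun q : Z ⟶ _ => q.left) hq))

/-- The system of fibre powers. -/
noncomputable def pwD {n : ℕ} (α : Fin n → ι) : Mdl PU PY f ⥤ X.Etale where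
  obj M := (pwM M α).left
  map φ := (pwMap φ α).left
  map_id M := pwM_hom_ext M α
    (fun i => (pwMap_π (𝟙 M) α i).trans (by
      show _ ≫ (PY (α i)).D.map (𝟙 _) = _
      rw [(PY (α i)).D.map_id]; simp))
    ((pwMap_hom (𝟙 M) α).trans (by
      show _ ≫ PU.D.map (𝟙 _) = _
      rw [PU.D.map_id]; simp))
  map_comp {M M' M''} φ ψ := pwM_hom_ext M'' α
    (fun i => (pwMap_π (φ ≫ ψ) α i).trans (by
      show _ ≫ (PY (α i)).D.map (φ.b (α i) ≫ ψ.b (α i)) = _
      rw [Functor.map_comp, Category.assoc _ _ (Pi.π (famM M'' ∘ α) i).left, pwMap_π, ← Category.assoc,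
        ← Category.assoc, pwMap_π]))
    ((pwMap_hom (φ ≫ ψ) α).trans (by
      show _ ≫ PU.D.map (φ.a ≫ ψ.a) = _
      rw [Functor.map_comp, Category.assoc _ _ (pwM M'' α).hom, pwMap_hom, ← Category.assoc,
        ← Category.assoc, pwMap_hom]))

lemma exists_rho (M : Mdl PU PY f) {n : ℕ} (α : Fin n → ι) :
    ∃ r : (pw (f := f) α).left ⟶ (ProEtS.eps X).obj (pwM M α).left,
      (∀ i, r.left ≫ (Pi.π (famM M ∘ α) i).left.left =
        (Pi.π (fam f ∘ α) i).left.left ≫ ((PY (α i)).c.π.app (M.m (α i))).left) ∧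
      r.left ≫ (pwM M α).hom.left = (pw (f := f) α).hom.left ≫ (PU.c.π.app M.k).left := by
  obtain ⟨r, hr, hq⟩ := (isPw_pwM M α).ex ((pw (f := f) α).hom.left ≫ (PU.c.π.app M.k).left)
    (fun i => (Pi.π (fam f ∘ α) i).left.left ≫ ((PY (α i)).c.π.app (M.m (α i))).left) (fun i => by
      rw [Category.assoc, ← (isPw_pw (f := f) α).w i, Category.assoc]
      exact congrArg ((Pi.π (fam f ∘ α) i).left.left ≫ ·)
        (congrArg (fun q : (PY (α i)).c.pt ⟶ (ProEtS.eps X).obj (PU.D.obj M.k) => q.left) (M.h (α i))))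
  refine ⟨MorphismProperty.Over.homMk r ?_, hr, hq⟩
  show r ≫ (pwM M α).left.hom = (pw (f := f) α).left.hom
  have h1 : (pwM M α).hom.left ≫ (PU.D.obj M.k).hom = (pwM M α).left.hom :=
    MorphismProperty.Over.w (pwM M α).hom
  have h2 : ((pw (f := f) α).hom.left ≫ (PU.c.π.app M.k).left) ≫ (PU.D.obj M.k).hom =
      (pw (f := f) α).left.hom := by
    rw [Category.assoc]
    exact (congrArg ((pw (f := f) α).hom.left ≫ ·) (MorphismProperty.Over.w (PU.c.π.app M.k))).trans
      (MorphismProperty.Over.w (pw (f := f) α).hom)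
  exact (congrArg (r ≫ ·) h1.symm).trans ((Category.assoc _ _ _).symm.trans
    ((congrArg (· ≫ (PU.D.obj M.k).hom) hq).trans h2))

/-- The map to the fibre power of a model. -/
noncomputable def rho (M : Mdl PU PY f) {n : ℕ} (α : Fin n → ι) :
    (pw (f := f) α).left ⟶ (ProEtS.eps X).obj (pwM M α).left :=
  (exists_rho M α).choose

lemma rho_π (M : Mdl PU PY f) {n : ℕ} (α : Fin n → ι) (i : Fin n) :
    (rho M α).left ≫ (Pi.π (famM M ∘ α) i).left.left =
      (Pi.π (fam f ∘ α) i).left.left ≫ ((PY (α i)).c.π.app (M.m (α i))).left :=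
  (exists_rho M α).choose_spec.1 i

lemma rho_hom (M : Mdl PU PY f) {n : ℕ} (α : Fin n → ι) :
    (rho M α).left ≫ (pwM M α).hom.left = (pw (f := f) α).hom.left ≫ (PU.c.π.app M.k).left :=
  (exists_rho M α).choose_spec.2

/-- Maps into the fibre power of a model in the pro-etale site are equal when their components are. -/
lemma eps_hom_ext (M : Mdl PU PY f) {n : ℕ} (α : Fin n → ι) {Z : X.ProEt}
    {a b : Z ⟶ (ProEtS.eps X).obj (pwM M α).left}
    (hπ : ∀ i, a.left ≫ (Pi.π (famM M ∘ α) i).left.left = b.left ≫ (Pi.π (famM M ∘ α) i).left.left)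
    (hq : a.left ≫ (pwM M α).hom.left = b.left ≫ (pwM M α).hom.left) : a = b :=
  MorphismProperty.Over.Hom.ext ((isPw_pwM M α).uniq _ _ hπ hq)

lemma rho_naturality {M M' : Mdl PU PY f} (φ : M ⟶ M') {n : ℕ} (α : Fin n → ι) :
    rho M α ≫ (ProEtS.eps X).map ((pwD α).map φ) = rho M' α := by
  refine eps_hom_ext M' α (fun i => ?_) ?_
  · refine (Category.assoc _ _ _).trans ?_
    refine (congrArg ((rho M α).left ≫ ·)
      (congrArg (fun q : (pwM M α).left ⟶ (PY (α i)).D.obj (M'.m (α i)) => q.left) (pwMap_π φ α i))).trans ?_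
    refine (Category.assoc _ _ _).symm.trans ?_
    refine (congrArg (· ≫ ((PY (α i)).D.map (φ.b (α i))).left) (rho_π M α i)).trans ?_
    refine (Category.assoc _ _ _).trans (Eq.trans ?_ (rho_π M' α i).symm)
    exact congrArg ((Pi.π (fam f ∘ α) i).left.left ≫ ·)
      (congrArg (fun q : (PY (α i)).c.pt ⟶ _ => q.left) ((PY (α i)).c.w (φ.b (α i))))
  · refine (Category.assoc _ _ _).trans ?_
    refine (congrArg ((rho M α).left ≫ ·)
      (congrArg (fun q : (pwM M α).left ⟶ PU.D.obj M'.k => q.left) (pwMap_hom φ α))).trans ?_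
    refine (Category.assoc _ _ _).symm.trans ?_
    refine (congrArg (· ≫ (PU.D.map φ.a).left) (rho_hom M α)).trans ?_
    refine (Category.assoc _ _ _).trans (Eq.trans ?_ (rho_hom M' α).symm)
    exact congrArg ((pw (f := f) α).hom.left ≫ ·)
      (congrArg (fun q : PU.c.pt ⟶ _ => q.left) (PU.c.w φ.a))

/-- The cone of fibre powers. -/
@[simps]
noncomputable def pwCone {n : ℕ} (α : Fin n → ι) : Cone (pwD (PU := PU) (PY := PY) (f := f) α ⋙ ProEtS.eps X) where
  pt := (pw (f := f) α).left
  π :=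
    { app := fun M => rho M α
      naturality := fun M M' φ => (Category.id_comp _).trans (rho_naturality φ α).symm }

variable [Finite ι]

/-- The fibre powers of models present the fibre power. -/
theorem nonempty_isLimit_pwCone {n : ℕ} (α : Fin n → ι) :
    Nonempty (IsLimit ((schP X).mapCone (pwCone (PU := PU) (PY := PY) (f := f) α))) := by
  let hU := (Functor.Initial.isLimitWhiskerEquiv (Mdl.toU (PU := PU) (PY := PY) (f := f)) _).symm PU.isLimit
  let hY := fun x => (Functor.Initial.isLimitWhiskerEquiv (Mdl.toY (PU := PU) (PY := PY) (f := f) x) _).symm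
    (PY x).isLimit
  have key : ∀ s : Cone ((pwD (PU := PU) (PY := PY) (f := f) α ⋙ ProEtS.eps X) ⋙ schP X),
      ∃ l : s.pt ⟶ ((pw (f := f) α).left).left, (∀ M, l ≫ (rho M α).left = s.π.app M) ∧
        ∀ l' : s.pt ⟶ ((pw (f := f) α).left).left, (∀ M, l' ≫ (rho M α).left = s.π.app M) → l' = l := by
    intro s
    let sU : Cone (Mdl.toU (PU := PU) (PY := PY) (f := f) ⋙ (PU.D ⋙ ProEtS.eps X) ⋙ schP X) :=
      { pt := s.pt
        π :=
          { app := fun M => s.π.app M ≫ (pwM M α).hom.left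
            naturality := fun M M' φ => by
              refine (Category.id_comp _).trans ?_
              show s.π.app M' ≫ (pwM M' α).hom.left = (s.π.app M ≫ (pwM M α).hom.left) ≫ (PU.D.map φ.a).left
              rw [← s.w φ, Category.assoc, Category.assoc]
              exact congrArg (s.π.app M ≫ ·)
                (congrArg (fun q : (pwM M α).left ⟶ PU.D.obj M'.k => q.left) (pwMap_hom φ α)) } }
    let sY : ∀ i, Cone (Mdl.toY (PU := PU) (PY := PY) (f := f) (α i) ⋙
        ((PY (α i)).D ⋙ ProEtS.eps X) ⋙ schP X) := fun i =>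
      { pt := s.pt
        π :=
          { app := fun M => s.π.app M ≫ (Pi.π (famM M ∘ α) i).left.left
            naturality := fun M M' φ => by
              refine (Category.id_comp _).trans ?_
              show s.π.app M' ≫ (Pi.π (famM M' ∘ α) i).left.left =
                (s.π.app M ≫ (Pi.π (famM M ∘ α) i).left.left) ≫ ((PY (α i)).D.map (φ.b (α i))).left
              rw [← s.w φ, Category.assoc, Category.assoc]
              exact congrArg (s.π.app M ≫ ·)
                (congrArg (fun q : (pwM M α).left ⟶ (PY (α i)).D.obj (M'.m (α i)) => q.left)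
                  (pwMap_π φ α i)) } }
    let z : s.pt ⟶ PU.c.pt.left := hU.lift sU
    let g : ∀ i, s.pt ⟶ (PY (α i)).c.pt.left := fun i => (hY (α i)).lift (sY i)
    have hz : ∀ M : Mdl PU PY f, z ≫ (PU.c.π.app M.k).left = s.π.app M ≫ (pwM M α).hom.left :=
      fun M => hU.fac sU M
    have hg : ∀ (i) (M : Mdl PU PY f), g i ≫ ((PY (α i)).c.π.app (M.m (α i))).left =
        s.π.app M ≫ (Pi.π (famM M ∘ α) i).left.left := fun i M => (hY (α i)).fac (sY i) M
    obtain ⟨l, hl, hlq⟩ := (isPw_pw (f := f) α).ex z g fun i => hU.hom_ext fun M => by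
      show (g i ≫ (f (α i)).left) ≫ (PU.c.π.app M.k).left = z ≫ (PU.c.π.app M.k).left
      have e : (f (α i)).left ≫ (PU.c.π.app M.k).left =
          ((PY (α i)).c.π.app (M.m (α i))).left ≫ (M.g (α i)).left :=
        congrArg (fun q : (PY (α i)).c.pt ⟶ (ProEtS.eps X).obj (PU.D.obj M.k) => q.left) (M.h (α i)).symm
      refine Eq.trans ?_ (hz M).symm
      refine (Category.assoc _ _ _).trans ((congrArg (g i ≫ ·) e).trans ((Category.assoc _ _ _).symm.trans
        ((congrArg (· ≫ (M.g (α i)).left) (hg i M)).trans ((Category.assoc _ _ _).trans ?_))))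
      exact congrArg (s.π.app M ≫ ·) ((isPw_pwM M α).w i)
    refine ⟨l, fun M => (isPw_pwM M α).uniq _ _ (fun i => ?_) ?_, fun l' hl' => ?_⟩
    · refine (Category.assoc _ _ _).trans ((congrArg (l ≫ ·) (rho_π M α i)).trans
        ((Category.assoc _ _ _).symm.trans ?_))
      exact (congrArg (· ≫ ((PY (α i)).c.π.app (M.m (α i))).left) (hl i)).trans (hg i M)
    · refine (Category.assoc _ _ _).trans ((congrArg (l ≫ ·) (rho_hom M α)).trans
        ((Category.assoc _ _ _).symm.trans ?_))
      exact (congrArg (· ≫ (PU.c.π.app M.k).left) hlq).trans (hz M)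
    · refine (isPw_pw (f := f) α).uniq _ _ (fun i => ?_) ?_
      · refine Eq.trans ((hY (α i)).hom_ext fun M => ?_) (hl i).symm
        show (l' ≫ (Pi.π (fam f ∘ α) i).left.left) ≫ ((PY (α i)).c.π.app (M.m (α i))).left = g i ≫ _
        refine (Category.assoc _ _ _).trans ((congrArg (l' ≫ ·) (rho_π M α i).symm).trans
          ((Category.assoc _ _ _).symm.trans ?_))
        exact (congrArg (· ≫ (Pi.π (famM M ∘ α) i).left.left) (hl' M)).trans (hg i M).symm
      · refine Eq.trans (hU.hom_ext fun M => ?_) hlq.symm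
        show (l' ≫ (pw (f := f) α).hom.left) ≫ (PU.c.π.app M.k).left = z ≫ _
        refine (Category.assoc _ _ _).trans ((congrArg (l' ≫ ·) (rho_hom M α).symm).trans
          ((Category.assoc _ _ _).symm.trans ?_))
        exact (congrArg (· ≫ (pwM M α).hom.left) (hl' M)).trans (hz M).symm
  choose l hl hu using key
  exact ⟨{ lift := l, fac := hl, uniq := hu }⟩

/-- The presentation of a fibre power. -/
noncomputable def pwPres {n : ℕ} (α : Fin n → ι) : Pres X :=
  { I := Mdl PU PY f
    D := pwD α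
    c := pwCone α
    isLimit := (nonempty_isLimit_pwCone α).some
    affine := fun M M' φ =>
      have := PU.affine _ _ φ.a
      PwS.isAffineHom_map (h := fun i => (M.g (α i)).left) (h' := fun i => (M'.g (α i)).left)
      (PU.D.map φ.a).left
      (fun i => ((PY (α i)).D.map (φ.b (α i))).left) (fun i => (PY (α i)).affine _ _ _)
      (fun i => congrArg (fun q : (PY (α i)).D.obj (M.m (α i)) ⟶ PU.D.obj M'.k => q.left) (φ.comm (α i)))
      (isPw_pwM M α) (isPw_pwM M' α) _
      (fun i => congrArg (fun q : (pwM M α).left ⟶ (PY (α i)).D.obj (M'.m (α i)) => q.left) (pwMap_π φ α i))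
      (congrArg (fun q : (pwM M α).left ⟶ PU.D.obj M'.k => q.left) (pwMap_hom φ α))
    compact := fun M =>
      have := PU.compact M.k
      have := PU.qs M.k
      (PwS.qcqs (isPw_pwM M α) fun i => ⟨(PY (α i)).compact _, (PY (α i)).qs _⟩).1
    qs := fun M =>
      have := PU.compact M.k
      have := PU.qs M.k
      (PwS.qcqs (isPw_pwM M α) fun i => ⟨(PY (α i)).compact _, (PY (α i)).qs _⟩).2 }

end Groth.Agent.Mod48.ProLim
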