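import Mathlib.AlgebraicGeometry.Morphisms.QuasiSeparated
import Mathlib.AlgebraicGeometry.Morphisms.Affine
import Mathlib.AlgebraicGeometry.Morphisms.ClosedImmersion
import Mathlib.AlgebraicGeometry.Morphisms.Separated
import Mathlib.CategoryTheory.Limits.Constructions.Over.Basic
import Mathlib.CategoryTheory.Limits.Constructions.Over.Connected
import Mathlib.CategoryTheory.Limits.Constructions.LimitsOfProductsAndEqualizers

/-!
Finite products of schemes over a base, given by their universal property.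
-/

universe u v w

open CategoryTheory CategoryTheory.Limits AlgebraicGeometry

namespace Groth.Agent.Mod48.PwS

set_option backward.isDefEq.respectTransparency.types false

/-- `P` is the product of the `Y i` over `U`. -/
structure IsPw {n : ℕ} {U : Scheme.{u}} {Y : Fin n → Scheme.{u}} (h : ∀ i, Y i ⟶ U)
    (P : Scheme.{u}) (π : ∀ i, P ⟶ Y i) (q : P ⟶ U) : Prop where
  w : ∀ i, π i ≫ h i = q
  ex : ∀ {Z : Scheme.{u}} (z : Z ⟶ U) (g : ∀ i, Z ⟶ Y i), (∀ i, g i ≫ h i = z) →
    ∃ r : Z ⟶ P, (∀ i, r ≫ π i = g i) ∧ r ≫ q = z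
  uniq : ∀ {Z : Scheme.{u}} (r r' : Z ⟶ P), (∀ i, r ≫ π i = r' ≫ π i) → r ≫ q = r' ≫ q → r = r'

section Product

variable {C : Type v} [Category.{w} C] [HasPullbacks C] (Φ : C ⥤ Scheme.{u})
  [PreservesLimitsOfShape WalkingCospan Φ] {U : C} [HasFiniteProducts (Over U)]

/-- Products in an over category become products over the image of the base. -/
theorem isPw_of_product {n : ℕ} (f : Fin n → Over U) :
    IsPw (fun i => Φ.map (f i).hom) (Φ.obj (∏ᶜ f).left) (fun i => Φ.map (Pi.π f i).left)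
      (Φ.map (∏ᶜ f).hom) := by
  let G : Over U ⥤ Over (Φ.obj U) := Over.post Φ
  have : PreservesLimitsOfShape WalkingCospan G :=
    have : PreservesLimitsOfShape WalkingCospan (G ⋙ Over.forget (Φ.obj U)) :=
      inferInstanceAs (PreservesLimitsOfShape WalkingCospan (Over.forget U ⋙ Φ))
    preservesLimitsOfShape_of_reflects_of_preserves G (Over.forget (Φ.obj U))
  have hT : IsTerminal (G.obj (Over.mk (𝟙 U))) := Over.mkIdTerminal.ofIso
    (Over.isoMk (Iso.refl _) ((Category.id_comp _).trans (Φ.map_id U)))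
  have : PreservesLimit (Functor.empty.{0} (Over U)) G :=
    preservesTerminal_of_isIso G (IsTerminal.uniqueUpToIso hT terminalIsTerminal ≪≫ asIso (𝟙 _) |>.hom |> fun k =>
      (G.mapIso (IsTerminal.uniqueUpToIso Over.mkIdTerminal terminalIsTerminal)).inv ≫ k)
  have : PreservesLimitsOfShape (Discrete PEmpty.{1}) G := preservesLimitsOfShape_pempty_of_preservesTerminal G
  have : PreservesFiniteLimits G := preservesFiniteLimits_of_preservesTerminal_and_pullbacks G
  have hc : IsLimit (Fan.mk (G.obj (∏ᶜ f)) fun i => G.map (Pi.π f i)) :=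
    isLimitFanMkObjOfIsLimit G f _ (productIsProduct f)
  refine ⟨fun i => ?_, fun {Z} z g hg => ?_, fun {Z} r r' hπ hq => ?_⟩
  · rw [← Functor.map_comp, Over.w]
  · refine ⟨(Fan.IsLimit.lift hc fun i => (Over.homMk (g i) (hg i) : Over.mk z ⟶ G.obj (f i))).left,
      fun i => ?_, Over.w (Fan.IsLimit.lift hc fun i =>
        (Over.homMk (g i) (hg i) : Over.mk z ⟶ G.obj (f i)))⟩
    exact congrArg CommaMorphism.left (Fan.IsLimit.fac hc
      (fun i => (Over.homMk (g i) (hg i) : Over.mk z ⟶ G.obj (f i))) i)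
  · have e : (Over.homMk r : Over.mk (r ≫ Φ.map (∏ᶜ f).hom) ⟶ G.obj (∏ᶜ f)) = Over.homMk r' hq.symm :=
      Fan.IsLimit.hom_ext hc _ _ fun i => Over.OverMorphism.ext (hπ i)
    exact congrArg CommaMorphism.left e

end Product

variable {n : ℕ} {U : Scheme.{u}}

/-- Products over a base exist. -/
theorem exists_isPw (Y : Fin n → Scheme.{u}) (h : ∀ i, Y i ⟶ U) :
    ∃ (P : Scheme.{u}) (π : ∀ i, P ⟶ Y i) (q : P ⟶ U), IsPw h P π q := by
  have : HasFiniteProducts (Over U) := Over.ConstructProducts.over_finiteProducts_of_finiteWidePullbacks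
  let f : Fin n → Over U := fun i => Over.mk (h i)
  let c := productIsProduct f
  refine ⟨(∏ᶜ f).left, fun i => (Pi.π f i).left, (∏ᶜ f).hom, fun i => Over.w (Pi.π f i),
    fun {Z} z g hg => ?_, fun {Z} r r' hπ hq => ?_⟩
  · refine ⟨(Fan.IsLimit.lift c fun i => (Over.homMk (g i) (hg i) : Over.mk z ⟶ f i)).left,
      fun i => congrArg CommaMorphism.left (Fan.IsLimit.fac c
        (fun i => (Over.homMk (g i) (hg i) : Over.mk z ⟶ f i)) i),
      Over.w (Fan.IsLimit.lift c fun i => (Over.homMk (g i) (hg i) : Over.mk z ⟶ f i))⟩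
  · have e : (Over.homMk r : Over.mk (r ≫ (∏ᶜ f).hom) ⟶ ∏ᶜ f) = Over.homMk r' hq.symm :=
      Fan.IsLimit.hom_ext c _ _ fun i => Over.OverMorphism.ext (hπ i)
    exact congrArg CommaMorphism.left e

/-- The product of a longer family is a fibre product. -/
theorem exists_isPullback {Y : Fin (n + 1) → Scheme.{u}} {h : ∀ i, Y i ⟶ U} {P : Scheme.{u}}
    {π : ∀ i, P ⟶ Y i} {q : P ⟶ U} (hP : IsPw h P π q) {P₁ : Scheme.{u}}
    {π₁ : ∀ i : Fin n, P₁ ⟶ Y i.succ} {q₁ : P₁ ⟶ U} (h₁ : IsPw (fun i => h i.succ) P₁ π₁ q₁) :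
    ∃ r : P ⟶ P₁, (∀ i, r ≫ π₁ i = π i.succ) ∧ IsPullback (π 0) r (h 0) q₁ := by
  obtain ⟨r, hr, hrq⟩ := h₁.ex q (fun i => π i.succ) fun i => hP.w i.succ
  have comm : π 0 ≫ h 0 = r ≫ q₁ := (hP.w 0).trans hrq.symm
  have key : ∀ s : PullbackCone (h 0) q₁, ∃ l : s.pt ⟶ P, l ≫ π 0 = s.fst ∧ l ≫ r = s.snd := fun s => by
    obtain ⟨l, e1, e2⟩ := hP.ex (s.fst ≫ h 0) (Fin.cases s.fst fun i => s.snd ≫ π₁ i) (fun i => by
      induction i using Fin.cases with
      | zero => rfl
      | succ i =>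
        show (s.snd ≫ π₁ i) ≫ h i.succ = _
        rw [Category.assoc, h₁.w i, s.condition])
    refine ⟨l, e1 0, h₁.uniq _ _ (fun i => ?_) ?_⟩
    · rw [Category.assoc, hr]
      exact e1 i.succ
    · rw [Category.assoc, hrq, e2, s.condition]
  choose l hl₁ hl₂ using key
  refine ⟨r, hr, ⟨⟨comm⟩, ⟨PullbackCone.IsLimit.mk comm l hl₁ hl₂ fun s m hm₁ hm₂ => ?_⟩⟩⟩
  refine hP.uniq _ _ (fun i => ?_) ?_
  · induction i using Fin.cases with
    | zero => rw [hm₁, hl₁]
    | succ i => rw [← hr i, ← Category.assoc, hm₂, ← Category.assoc, hl₂]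
  · rw [← hrq, ← Category.assoc, hm₂, ← Category.assoc, hl₂]

/-- A product over a quasi-separated base of qcqs schemes is qcqs. -/
theorem qcqs [CompactSpace U] [QuasiSeparatedSpace U] : ∀ {n : ℕ} {Y : Fin n → Scheme.{u}} {h : ∀ i, Y i ⟶ U}
    {P : Scheme.{u}} {π : ∀ i, P ⟶ Y i} {q : P ⟶ U}, IsPw h P π q →
    (∀ i, CompactSpace (Y i) ∧ QuasiSeparatedSpace (Y i)) → CompactSpace P ∧ QuasiSeparatedSpace P
  | 0, Y, h, P, π, q, hP, _ => by
    obtain ⟨r, -, hr⟩ := hP.ex (𝟙 U) (fun i => i.elim0) fun i => i.elim0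
    have : IsIso q := ⟨r, hP.uniq _ _ (fun i => i.elim0) (by rw [Category.assoc, hr, Category.comp_id, Category.id_comp]), hr⟩
    exact ⟨QuasiCompact.compactSpace_of_compactSpace q, quasiSeparatedSpace_of_quasiSeparated q⟩
  | n + 1, Y, h, P, π, q, hP, hY => by
    obtain ⟨P₁, π₁, q₁, h₁⟩ := exists_isPw (fun i : Fin n => Y i.succ) fun i => h i.succ
    obtain ⟨r, -, hsq⟩ := exists_isPullback hP h₁
    obtain ⟨c₁, s₁⟩ := qcqs h₁ fun i => hY i.succ
    obtain ⟨c₀, s₀⟩ := hY 0
    have : QuasiCompact (h 0) := quasiCompact_of_compactSpace _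
    have : QuasiSeparated (h 0) := by
      have : QuasiSeparated (h 0 ≫ terminal.from U) := by
        rw [terminal.comp_from]
        exact (quasiSeparatedSpace_iff_quasiSeparated _).1 s₀
      exact QuasiSeparated.of_comp (h 0) (terminal.from U)
    have : QuasiCompact r := MorphismProperty.of_isPullback (P := @QuasiCompact) hsq ‹_›
    have : QuasiSeparated r := MorphismProperty.of_isPullback (P := @QuasiSeparated) hsq ‹_›
    exact ⟨QuasiCompact.compactSpace_of_compactSpace r, quasiSeparatedSpace_of_quasiSeparated r⟩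

/-- A map of products induced by affine maps is affine. -/
theorem isAffineHom_map : ∀ {n : ℕ} {U U' : Scheme.{u}} (f : U ⟶ U') [IsAffineHom f]
    {Y Y' : Fin n → Scheme.{u}} {h : ∀ i, Y i ⟶ U} {h' : ∀ i, Y' i ⟶ U'} (g : ∀ i, Y i ⟶ Y' i),
    (∀ i, IsAffineHom (g i)) → (∀ i, g i ≫ h' i = h i ≫ f) →
    ∀ {P P' : Scheme.{u}} {π : ∀ i, P ⟶ Y i} {q : P ⟶ U} {π' : ∀ i, P' ⟶ Y' i} {q' : P' ⟶ U'},
      IsPw h P π q → IsPw h' P' π' q' → ∀ r : P ⟶ P', (∀ i, r ≫ π' i = π i ≫ g i) → r ≫ q' = q ≫ f →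
        IsAffineHom r
  | 0, U, U', f, _, Y, Y', h, h', g, hg, w, P, P', π, q, π', q', hP, hP', r, hr, hrq => by
    obtain ⟨s, -, hs⟩ := hP.ex (𝟙 U) (fun i => i.elim0) fun i => i.elim0
    have : IsIso q := ⟨s, hP.uniq _ _ (fun i => i.elim0) (by rw [Category.assoc, hs, Category.comp_id, Category.id_comp]), hs⟩
    obtain ⟨s', -, hs'⟩ := hP'.ex (𝟙 U') (fun i => i.elim0) fun i => i.elim0
    have : IsIso q' := ⟨s', hP'.uniq _ _ (fun i => i.elim0) (by rw [Category.assoc, hs', Category.comp_id, Category.id_comp]), hs'⟩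
    have : r = (q ≫ f) ≫ inv q' := by rw [IsIso.eq_comp_inv, hrq]
    rw [this]
    infer_instance
  | n + 1, U, U', f, _, Y, Y', h, h', g, hg, w, P, P', π, q, π', q', hP, hP', r, hr, hrq => by
    obtain ⟨P₁, π₁, q₁, h₁⟩ := exists_isPw (fun i : Fin n => Y i.succ) fun i => h i.succ
    obtain ⟨P₁', π₁', q₁', h₁'⟩ := exists_isPw (fun i : Fin n => Y' i.succ) fun i => h' i.succ
    obtain ⟨r₁, hr₁, hsq⟩ := exists_isPullback hP h₁
    obtain ⟨r₁', hr₁', hsq'⟩ := exists_isPullback hP' h₁'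
    obtain ⟨t, ht, htq⟩ := h₁'.ex (q₁ ≫ f) (fun i => π₁ i ≫ g i.succ) fun i => by
      rw [Category.assoc, w, ← Category.assoc, h₁.w i]
    have hta : IsAffineHom t :=
      isAffineHom_map f (fun i => g i.succ) (fun i => hg i.succ) (fun i => w i.succ) h₁ h₁' t ht htq
    have hS : IsSeparated f := inferInstance
    have : IsAffineHom (g 0) := hg 0
    let m := pullback.map (h 0) q₁ (h' 0) q₁' (g 0) t f (w 0).symm htq.symm
    have hm : IsAffineHom m := by
      let m' := pullback.map (h 0 ≫ f) (q₁ ≫ f) (h' 0) q₁' (g 0) t (𝟙 U')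
              ((Category.comp_id _).trans (w 0).symm) ((Category.comp_id _).trans htq.symm)
      have : IsAffineHom m' :=
        MorphismProperty.pullbackMap (P := @IsAffineHom) (hg 0) hta (w 0).symm htq.symm
      have e : m = pullback.mapDesc (h 0) q₁ f ≫ m' := by
        refine pullback.hom_ext ?_ ?_
        · simp only [m, m', pullback.mapDesc, Category.assoc, pullback.lift_fst, pullback.lift_fst_assoc,
            Category.comp_id]
        · simp only [m, m', pullback.mapDesc, Category.assoc, pullback.lift_snd, pullback.lift_snd_assoc,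
            Category.comp_id]
      rw [e]
      infer_instance
    have hrr : r ≫ r₁' = r₁ ≫ t := by
      refine h₁'.uniq _ _ (fun i => ?_) ?_
      · rw [Category.assoc, hr₁', hr i.succ, Category.assoc, ht, ← Category.assoc, hr₁]
      · rw [Category.assoc, ← hsq'.w, ← Category.assoc, hr 0, Category.assoc, w, ← Category.assoc, hsq.w,
          Category.assoc, Category.assoc, htq]
    have er : r = (hsq.isoPullback.hom ≫ m) ≫ hsq'.isoPullback.inv := by
      rw [Iso.eq_comp_inv]
      refine pullback.hom_ext ?_ ?_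
      · simp only [m, pullback.map, Category.assoc, pullback.lift_fst, IsPullback.isoPullback_hom_fst,
          IsPullback.isoPullback_hom_fst_assoc, hr 0]
      · simp only [m, pullback.map, Category.assoc, pullback.lift_snd, IsPullback.isoPullback_hom_snd,
          IsPullback.isoPullback_hom_snd_assoc, hrr]
    rw [er]
    infer_instance

end Groth.Agent.Mod48.PwS
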