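import Groth.Agent.Mod48.ProEtLimit
import Groth.Agent.Mod48.PwScheme

/-!
Objects of the small pro-etale site presented as limits of qcqs etale schemes with affine transition maps;
models of finite families of maps between such objects.
-/

universe u

open CategoryTheory CategoryTheory.Limits AlgebraicGeometry Opposite

namespace Groth.Agent.Mod48.ProLim

set_option backward.isDefEq.respectTransparency.types false

variable {X : Scheme.{u}}

/-- The scheme underlying an object of the small etale site. -/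
noncomputable abbrev schE (X : Scheme.{u}) : X.Etale ⥤ Scheme.{u} := Scheme.Etale.forget X ⋙ Over.forget X

/-- The scheme underlying an object of the small pro-etale site. -/
noncomputable abbrev schP (X : Scheme.{u}) : X.ProEt ⥤ Scheme.{u} := Scheme.ProEt.forget X ⋙ Over.forget X

variable (X) in
/-- A presentation by qcqs etale schemes with affine transition maps. -/
structure Pres : Type (u + 1) where
  I : Type u
  [cat : SmallCategory I]
  [cof : IsCofiltered I]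
  D : I ⥤ X.Etale
  c : Cone (D ⋙ ProEtS.eps X)
  isLimit : IsLimit ((schP X).mapCone c)
  affine : ∀ (i j : I) (a : i ⟶ j), IsAffineHom (D.map a).left
  compact : ∀ i, CompactSpace ↥(D.obj i).left
  qs : ∀ i, QuasiSeparatedSpace ↥(D.obj i).left

attribute [instance] Pres.cat Pres.cof

namespace Pres

instance (P : Pres X) (i j : P.I) (a : i ⟶ j) : IsAffineHom ((P.D ⋙ ProEtS.eps X).map a).left :=
  P.affine i j a

instance (P : Pres X) (i : P.I) : CompactSpace ↥((P.D ⋙ ProEtS.eps X).obj i).left := P.compact i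

instance (P : Pres X) (i : P.I) : QuasiSeparatedSpace ↥((P.D ⋙ ProEtS.eps X).obj i).left := P.qs i

/-- A map to an etale scheme comes from a stage. -/
theorem exists_stage_hom (P : Pres X) {E : X.Etale} (f : P.c.pt ⟶ (ProEtS.eps X).obj E) (m₀ : P.I) :
    ∃ (m : P.I) (_ : m ⟶ m₀) (g : P.D.obj m ⟶ E), P.c.π.app m ≫ (ProEtS.eps X).map g = f := by
  have : Etale E.hom := E.prop
  let D' := Over.forget m₀ ⋙ P.D ⋙ ProEtS.eps X
  have : ∀ {i j : Over m₀} (a : i ⟶ j), IsAffineHom ((sch D').map a) := fun {i j} a =>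
    P.affine i.left j.left a.left
  have : ∀ i : Over m₀, CompactSpace ↥((sch D').obj i) := fun i => P.compact i.left
  have : ∀ i : Over m₀, QuasiSeparatedSpace ↥((sch D').obj i) := fun i => P.qs i.left
  let t : sch D' ⟶ (Functor.const (Over m₀)).obj X :=
    { app := fun i => (P.D.obj i.left).hom
      naturality := fun i j a => by
        show (P.D.map a.left).left ≫ (P.D.obj j.left).hom = (P.D.obj i.left).hom ≫ 𝟙 X
        exact (MorphismProperty.Over.w (P.D.map a.left)).trans (Category.comp_id (P.D.obj i.left).hom).symm }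
  obtain ⟨i, g, hg, hgt⟩ := Scheme.exists_π_app_comp_eq_of_locallyOfFinitePresentation (sch D') t E.hom _
    ((Functor.Initial.isLimitWhiskerEquiv (Over.forget m₀) _).symm P.isLimit) f.left (by
      ext i
      show (P.c.π.app i.left).left ≫ (P.D.obj i.left).hom = f.left ≫ E.hom
      exact (MorphismProperty.Over.w (P.c.π.app i.left)).trans (MorphismProperty.Over.w f).symm)
  exact ⟨i.left, i.hom, MorphismProperty.Over.homMk g hgt, MorphismProperty.Over.Hom.ext hg⟩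

/-- Maps to an etale scheme agreeing on the limit agree at some stage. -/
theorem exists_stage_eq (P : Pres X) {E : X.Etale} {m : P.I} (g g' : P.D.obj m ⟶ E)
    (h : P.c.π.app m ≫ (ProEtS.eps X).map g = P.c.π.app m ≫ (ProEtS.eps X).map g') :
    ∃ (m' : P.I) (b : m' ⟶ m), P.D.map b ≫ g = P.D.map b ≫ g' := by
  have : Etale E.hom := E.prop
  let D' := P.D ⋙ ProEtS.eps X
  let t : sch D' ⟶ (Functor.const P.I).obj X :=
    { app := fun i => (P.D.obj i).hom
      naturality := fun i j a => by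
        show (P.D.map a).left ≫ (P.D.obj j).hom = (P.D.obj i).hom ≫ 𝟙 X
        exact (MorphismProperty.Over.w (P.D.map a)).trans (Category.comp_id (P.D.obj i).hom).symm }
  obtain ⟨m', b, hb⟩ := Scheme.exists_hom_comp_eq_comp_of_locallyOfFiniteType (sch D') t E.hom _ P.isLimit
    g.left g'.left (MorphismProperty.Over.w g).symm (MorphismProperty.Over.w g').symm
    (congrArg (fun q : P.c.pt ⟶ (ProEtS.eps X).obj E => q.left) h)
  exact ⟨m', b, MorphismProperty.Over.Hom.ext hb⟩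

end Pres

variable {ι : Type} [Finite ι] (PU : Pres X) (PY : ι → Pres X) (f : ∀ x, (PY x).c.pt ⟶ PU.c.pt)

/-- A model of a finite family of maps at finite stages. -/
structure Mdl : Type u where
  k : PU.I
  m : ∀ x, (PY x).I
  g : ∀ x, (PY x).D.obj (m x) ⟶ PU.D.obj k
  h : ∀ x, (PY x).c.π.app (m x) ≫ (ProEtS.eps X).map (g x) = f x ≫ PU.c.π.app k

namespace Mdl

variable {PU PY f}

/-- Maps of models. -/
@[ext]
structure Hom (M M' : Mdl PU PY f) : Type u where
  a : M.k ⟶ M'.k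
  b : ∀ x, M.m x ⟶ M'.m x
  comm : ∀ x, (PY x).D.map (b x) ≫ M'.g x = M.g x ≫ PU.D.map a

instance : Category.{u} (Mdl PU PY f) where
  Hom := Hom
  id M := ⟨𝟙 _, fun _ => 𝟙 _, fun x => by simp⟩
  comp {M M' M''} φ ψ := ⟨φ.a ≫ ψ.a, fun x => φ.b x ≫ ψ.b x, fun x => by
    rw [Functor.map_comp, Category.assoc, ψ.comm, ← Category.assoc, φ.comm, Category.assoc,
      Functor.map_comp]⟩
  id_comp φ := Hom.ext (Category.id_comp _) (funext fun x => Category.id_comp _)
  comp_id φ := Hom.ext (Category.comp_id _) (funext fun x => Category.comp_id _)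
  assoc φ ψ χ := Hom.ext (Category.assoc _ _ _) (funext fun x => Category.assoc _ _ _)

omit [Finite ι] in
lemma exists_refine (x : ι) {k k' : PU.I} (a : k ⟶ k') {m m' : (PY x).I} (b : m ⟶ m')
    (g : (PY x).D.obj m ⟶ PU.D.obj k) (g' : (PY x).D.obj m' ⟶ PU.D.obj k')
    (hg : (PY x).c.π.app m ≫ (ProEtS.eps X).map g = f x ≫ PU.c.π.app k)
    (hg' : (PY x).c.π.app m' ≫ (ProEtS.eps X).map g' = f x ≫ PU.c.π.app k') :
    ∃ (m₁ : (PY x).I) (e : m₁ ⟶ m), (PY x).D.map (e ≫ b) ≫ g' = ((PY x).D.map e ≫ g) ≫ PU.D.map a ∧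
      (PY x).c.π.app m₁ ≫ (ProEtS.eps X).map ((PY x).D.map e ≫ g) = f x ≫ PU.c.π.app k := by
  obtain ⟨m₁, e, he⟩ := (PY x).exists_stage_eq ((PY x).D.map b ≫ g') (g ≫ PU.D.map a) (by
    rw [Functor.map_comp, Functor.map_comp, ← Category.assoc, ← Category.assoc, hg]
    exact (congrArg (· ≫ _) ((PY x).c.w b)).trans
      (hg'.trans ((congrArg (f x ≫ ·) (PU.c.w a)).symm.trans (Category.assoc _ _ _).symm)))
  refine ⟨m₁, e, ?_, ?_⟩
  · rw [Functor.map_comp, Category.assoc, he, Category.assoc]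
  · rw [Functor.map_comp, ← Category.assoc, ← hg]
    exact congrArg (· ≫ _) ((PY x).c.w e)

omit [Finite ι] in
/-- Below a model. -/
lemma exists_below (M : Mdl PU PY f) {k : PU.I} (a : k ⟶ M.k) (m₀ : ∀ x, (PY x).I)
    (b₀ : ∀ x, m₀ x ⟶ M.m x) :
    ∃ (M' : Mdl PU PY f) (φ : M' ⟶ M) (e : M'.k ⟶ k) (e' : ∀ x, M'.m x ⟶ m₀ x),
      φ.a = e ≫ a ∧ ∀ x, φ.b x = e' x ≫ b₀ x := by
  have : ∀ x, ∃ (m : (PY x).I) (e' : m ⟶ m₀ x) (g : (PY x).D.obj m ⟶ PU.D.obj k),
      (PY x).c.π.app m ≫ (ProEtS.eps X).map g = f x ≫ PU.c.π.app k ∧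
      (PY x).D.map (e' ≫ b₀ x) ≫ M.g x = g ≫ PU.D.map a := fun x => by
    obtain ⟨m, e', g, hg⟩ := (PY x).exists_stage_hom (f x ≫ PU.c.π.app k) (m₀ x)
    obtain ⟨m₁, e, he, hg₁⟩ := exists_refine x a (e' ≫ b₀ x) g (M.g x) hg (M.h x)
    exact ⟨m₁, e ≫ e', (PY x).D.map e ≫ g, hg₁, by rw [Category.assoc]; exact he⟩
  choose m e' g hg hc using this
  exact ⟨⟨k, m, g, hg⟩, ⟨a, fun x => e' x ≫ b₀ x, hc⟩, 𝟙 k, e', (Category.id_comp a).symm, fun x => rfl⟩

omit [Finite ι] in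
lemma exists_under (M M' : Mdl PU PY f) : ∃ (N : Mdl PU PY f) (_ : N ⟶ M), Nonempty (N ⟶ M') := by
  obtain ⟨k, a, a', -⟩ := IsCofiltered.toIsCofilteredOrEmpty.cone_objs M.k M'.k
  have h0 := fun x => IsCofiltered.toIsCofilteredOrEmpty.cone_objs (M.m x) (M'.m x)
  choose m₀ b b' _ using h0
  obtain ⟨N, φ, e, e', ha, hb⟩ := exists_below M a m₀ b
  have h1 := fun x => exists_refine (f := f) x (e ≫ a') (e' x ≫ b' x) (N.g x) (M'.g x) (N.h x) (M'.h x)
  choose m₁ e₁ hc hg using h1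
  let N' : Mdl PU PY f := ⟨N.k, m₁, fun x => (PY x).D.map (e₁ x) ≫ N.g x, hg⟩
  let ψ : N' ⟶ N := ⟨𝟙 _, e₁, fun x => by simp [N']⟩
  exact ⟨N', ψ ≫ φ, ⟨⟨e ≫ a', fun x => e₁ x ≫ e' x ≫ b' x, hc⟩⟩⟩

instance : IsCofiltered (Mdl PU PY f) where
  cone_objs M M' := by
    obtain ⟨N, φ, ⟨ψ⟩⟩ := exists_under M M'
    exact ⟨N, φ, ψ, trivial⟩
  cone_maps {M M'} φ ψ := by
    obtain ⟨k, a, ha⟩ := IsCofiltered.toIsCofilteredOrEmpty.cone_maps φ.a ψ.a
    have h0 := fun x => IsCofiltered.toIsCofilteredOrEmpty.cone_maps (φ.b x) (ψ.b x)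
    choose m₀ b hb using h0
    obtain ⟨N, χ, e, e', hχa, hχb⟩ := exists_below M a m₀ b
    refine ⟨N, χ, Hom.ext ?_ (funext fun x => ?_)⟩
    · show χ.a ≫ φ.a = χ.a ≫ ψ.a
      rw [hχa, Category.assoc, ha, Category.assoc]
    · show χ.b x ≫ φ.b x = χ.b x ≫ ψ.b x
      rw [hχb, Category.assoc, hb, Category.assoc]
  nonempty := by
    obtain ⟨k⟩ := IsCofiltered.nonempty (C := PU.I)
    have : ∀ x, ∃ (m : (PY x).I) (g : (PY x).D.obj m ⟶ PU.D.obj k),
        (PY x).c.π.app m ≫ (ProEtS.eps X).map g = f x ≫ PU.c.π.app k := fun x => by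
      obtain ⟨m₀⟩ := IsCofiltered.nonempty (C := (PY x).I)
      obtain ⟨m, -, g, hg⟩ := (PY x).exists_stage_hom (f x ≫ PU.c.π.app k) m₀
      exact ⟨m, g, hg⟩
    choose m g hg using this
    exact ⟨⟨k, m, g, hg⟩⟩

/-- The stage of the base. -/
@[simps]
def toU : Mdl PU PY f ⥤ PU.I where
  obj M := M.k
  map φ := φ.a

/-- The stage of a member. -/
@[simps]
def toY (x : ι) : Mdl PU PY f ⥤ (PY x).I where
  obj M := M.m x
  map φ := φ.b x

instance : (toU (PU := PU) (PY := PY) (f := f)).Initial := by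
  classical
  refine Functor.initial_of_exists_of_isCofiltered _ (fun k => ?_) (fun {k} M s s' => ?_)
  · obtain ⟨M⟩ := IsCofiltered.nonempty (C := Mdl PU PY f)
    obtain ⟨k₁, a₁, a₂, -⟩ := IsCofiltered.toIsCofilteredOrEmpty.cone_objs M.k k
    obtain ⟨N, φ, e, -, -, -⟩ := exists_below M a₁ M.m fun _ => 𝟙 _
    exact ⟨N, ⟨e ≫ a₂⟩⟩
  · obtain ⟨k₁, a, ha⟩ := IsCofiltered.toIsCofilteredOrEmpty.cone_maps s s'
    obtain ⟨N, φ, e, -, hφ, -⟩ := exists_below M a M.m fun _ => 𝟙 _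
    refine ⟨N, φ, ?_⟩
    show φ.a ≫ s = φ.a ≫ s'
    rw [hφ]
    exact (Category.assoc _ _ _).trans ((congrArg (e ≫ ·) ha).trans (Category.assoc _ _ _).symm)

instance (x : ι) : (toY (PU := PU) (PY := PY) (f := f) x).Initial := by
  classical
  refine Functor.initial_of_exists_of_isCofiltered _ (fun d => ?_) (fun {d} M s s' => ?_)
  · obtain ⟨M⟩ := IsCofiltered.nonempty (C := Mdl PU PY f)
    obtain ⟨m₁, b₁, b₂, -⟩ := IsCofiltered.toIsCofilteredOrEmpty.cone_objs (M.m x) d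
    let p : ∀ y, Σ m, m ⟶ M.m y := fun y => if h : x = y then (h ▸ ⟨m₁, b₁⟩) else ⟨M.m y, 𝟙 _⟩
    have hp : p x = ⟨m₁, b₁⟩ := dif_pos rfl
    obtain ⟨N, φ, -, e', -, -⟩ := exists_below M (𝟙 M.k) (fun y => (p y).1) fun y => (p y).2
    have : Nonempty ((p x).1 ⟶ d) := by rw [hp]; exact ⟨b₂⟩
    exact ⟨N, ⟨e' x ≫ this.some⟩⟩
  · obtain ⟨m₁, b, hb⟩ := IsCofiltered.toIsCofilteredOrEmpty.cone_maps s s'
    let p : ∀ y, Σ m, m ⟶ M.m y := fun y => if h : x = y then (h ▸ ⟨m₁, b⟩) else ⟨M.m y, 𝟙 _⟩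
    have hp : p x = ⟨m₁, b⟩ := dif_pos rfl
    have hpx : (p x).2 ≫ s = (p x).2 ≫ s' := by rw [hp]; exact hb
    obtain ⟨N, φ, -, e', -, hφ⟩ := exists_below M (𝟙 M.k) (fun y => (p y).1) fun y => (p y).2
    refine ⟨N, φ, ?_⟩
    show φ.b x ≫ s = φ.b x ≫ s'
    rw [hφ]
    exact (Category.assoc _ _ _).trans ((congrArg (e' x ≫ ·) hpx).trans (Category.assoc _ _ _).symm)

end Mdl

end Groth.Agent.Mod48.ProLim
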