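import Groth.Agent.Mod48.ProEtUHRing
import Groth.Agent.Mod48.ProEtHullEval
import Groth.Agent.Mod48.ProEtClosedLift
import Groth.Agent.Mod48.ProEtRecollement

/-!
Topological invariance of the small pro-etale site.
-/

universe u

open CategoryTheory CategoryTheory.Limits AlgebraicGeometry Opposite TensorProduct

namespace Groth.Agent.Mod48.ProLim

set_option backward.isDefEq.respectTransparency.types false

/-- Affine weakly etale schemes over an integral universal homeomorphism to an affine scheme are dominated by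
base changes. -/
theorem exists_lift_affine_UH {P S V : Scheme.{u}} (p : P ⟶ S) [IsIntegralHom p] [UniversallyInjective p]
    [Surjective p] [IsAffine S] [IsAffine V] (a : V ⟶ P) [WeaklyEtale a] :
    ∃ (T Q : Scheme.{u}) (t : T ⟶ S) (qT : Q ⟶ T) (qP : Q ⟶ P) (k : Q ⟶ V), WeaklyEtale t ∧
      IsPullback qT qP t p ∧ k ≫ a = qP ∧ Surjective k ∧ AlgebraicGeometry.QuasiCompact k := by
  have : IsAffine P := @isAffine_of_isAffineHom _ _ p inferInstance ‹IsAffine S›
  let R := Γ(S, ⊤)
  let R' := Γ(P, ⊤)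
  letI : Algebra R R' := p.appTop.hom.toAlgebra
  have hp : Spec.map p.appTop = P.isoSpec.inv ≫ p ≫ S.isoSpec.hom := by
    rw [← Scheme.isoSpec_hom_naturality, Iso.inv_hom_id_assoc]
  have : UniversallyClosed (Spec.map (CommRingCat.ofHom (algebraMap R R'))) := by
    show UniversallyClosed (Spec.map p.appTop)
    rw [hp]; infer_instance
  have : UniversallyInjective (Spec.map (CommRingCat.ofHom (algebraMap R R'))) := by
    show UniversallyInjective (Spec.map p.appTop)
    rw [hp, MorphismProperty.cancel_left_of_respectsIso @UniversallyInjective,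
      MorphismProperty.cancel_right_of_respectsIso @UniversallyInjective]
    infer_instance
  have : Surjective (Spec.map (CommRingCat.ofHom (algebraMap R R'))) := by
    show Surjective (Spec.map p.appTop)
    rw [hp]; infer_instance
  letI : Algebra R' Γ(V, ⊤) := a.appTop.hom.toAlgebra
  have ha : Spec.map a.appTop = V.isoSpec.inv ≫ a ≫ P.isoSpec.hom := by
    rw [← Scheme.isoSpec_hom_naturality, Iso.inv_hom_id_assoc]
  have h1 : WeaklyEtale (Spec.map (CommRingCat.ofHom (algebraMap R' Γ(V, ⊤)))) := by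
    show WeaklyEtale (Spec.map a.appTop)
    rw [ha]; infer_instance
  have hwe : Algebra.WeaklyEtale R' Γ(V, ⊤) := by
    refine ⟨RingHom.flat_algebraMap_iff.1 ((HasRingHomProperty.Spec_iff (P := @Flat)).1 h1.flat), ?_⟩
    have h2 := h1.flat_diagonal
    rw [diagonal_SpecMap, MorphismProperty.cancel_right_of_respectsIso @Flat,
      HasRingHomProperty.Spec_iff (P := @Flat)] at h2
    exact h2
  obtain ⟨B', _, _, _, _, hff, -, hie⟩ := S0176.result R' Γ(V, ⊤)
  letI : Algebra R B' := ((algebraMap R' B').comp (algebraMap R R')).toAlgebra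
  haveI : IsScalarTower R R' B' := IsScalarTower.of_algebraMap_eq' rfl
  let μ : R' ⊗[R] Henz21.H R B' ≃ₐ[R'] B' :=
    AlgEquiv.ofBijective _ (bijective_baseChange_H (R := R) (R' := R') B' hie)
  let C := Henz21.H R B'
  have hwC : Algebra.WeaklyEtale R C :=
    Ind91.weaklyEtale_of_isIndEtale (Henz21.H.isIndEtale_of_algEquiv R B' C AlgEquiv.refl)
  have := WE91.weaklyEtale_SpecMap_algebraMap R C
  let incL : R' →+* R' ⊗[R] C := Algebra.TensorProduct.includeLeftRingHom
  let t : Spec (CommRingCat.of C) ⟶ S := Spec.map (CommRingCat.ofHom (algebraMap R C)) ≫ S.isoSpec.inv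
  let qP : Spec (CommRingCat.of (R' ⊗[R] C)) ⟶ P := Spec.map (CommRingCat.ofHom incL) ≫ P.isoSpec.inv
  let χ : Γ(V, ⊤) ⟶ CommRingCat.of (R' ⊗[R] C) :=
    CommRingCat.ofHom (μ.symm.toRingEquiv.toRingHom.comp (algebraMap Γ(V, ⊤) B'))
  let k : Spec (CommRingCat.of (R' ⊗[R] C)) ⟶ V := Spec.map χ ≫ V.isoSpec.inv
  have hk : k ≫ a = qP := by
    have h3 : a.appTop ≫ χ = CommRingCat.ofHom incL := by
      ext x
      show μ.symm (algebraMap Γ(V, ⊤) B' (algebraMap R' Γ(V, ⊤) x)) = _
      rw [← IsScalarTower.algebraMap_apply, μ.symm.commutes]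
      rfl
    show (Spec.map χ ≫ V.isoSpec.inv) ≫ a = Spec.map (CommRingCat.ofHom incL) ≫ P.isoSpec.inv
    rw [← h3, Spec.map_comp, ha]
    simp
  have hsurj : Surjective k := by
    have h4 : Surjective (Spec.map (CommRingCat.ofHom (algebraMap ↥Γ(V, ⊤) B'))) :=
      ⟨PrimeSpectrum.comap_surjective_of_faithfullyFlat⟩
    have h5 : χ = CommRingCat.ofHom (algebraMap ↥Γ(V, ⊤) B') ≫ μ.symm.toRingEquiv.toCommRingCatIso.hom := rfl
    show Surjective (Spec.map χ ≫ V.isoSpec.inv)
    rw [h5, Spec.map_comp]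
    infer_instance
  refine ⟨_, _, t, Spec.map (CommRingCat.ofHom (Algebra.TensorProduct.includeRight : C →ₐ[R] R' ⊗[R] C).toRingHom),
    qP, k, inferInstanceAs (WeaklyEtale (Spec.map _ ≫ S.isoSpec.inv)), ?_, hk, hsurj,
    quasiCompact_of_compactSpace k⟩
  have hsq := (isPullback_SpecMap_of_isPushout (CommRingCat.ofHom (algebraMap R R'))
    (CommRingCat.ofHom (algebraMap R C)) _ _ (CommRingCat.isPushout_tensorProduct R R' C)).flip
  refine hsq.of_iso (Iso.refl _) (Iso.refl _) P.isoSpec.symm S.isoSpec.symm ?_ ?_ ?_ ?_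
  · exact (Category.comp_id _).trans (Category.id_comp _).symm
  · exact (Category.id_comp _).symm
  · exact (Category.id_comp _).symm
  · show Spec.map p.appTop ≫ S.isoSpec.inv = P.isoSpec.inv ≫ p
    rw [hp]; simp

variable {Z X : Scheme.{u}} (i : Z ⟶ X) [IsIntegralHom i] [UniversallyInjective i] [Surjective i]

/-- A sieve containing all base changes compatible with a given map covers. -/
theorem mem_of_lifts_UH {U : X.ProEt} {V : Z.ProEt} (a : V ⟶ (ProEtS.bcP i).obj U) (S : Sieve V)
    (h : ∀ (W : X.ProEt) (l : W ⟶ U) (q : (ProEtS.bcP i).obj W ⟶ V),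
      q ≫ a = (ProEtS.bcP i).map l → S.arrows q) :
    S ∈ Scheme.ProEt.topology Z V := by
  let pr : ((ProEtS.bcP i).obj U).left ⟶ U.left := pullback.fst U.hom i
  let ι := {O : V.left.Opens // IsAffineOpen O ∧ ∃ A : U.left.Opens, IsAffineOpen A ∧
    O ≤ a.left ⁻¹ᵁ (pr ⁻¹ᵁ A)}
  have hcov : ∀ v : V.left, ∃ o : ι, v ∈ o.1 := fun v => by
    obtain ⟨A, hA, hvA, -⟩ := exists_isAffineOpen_mem_and_subset (U := (⊤ : U.left.Opens))
      (x := pr (a.left v)) trivial
    obtain ⟨O, hO, hvO, hle⟩ := exists_isAffineOpen_mem_and_subset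
      (U := a.left ⁻¹ᵁ (pr ⁻¹ᵁ A)) (x := v) hvA
    exact ⟨⟨O, hO, A, hA, hle⟩, hvO⟩
  have key : ∀ o : ι, ∃ (W : X.ProEt) (l : W ⟶ U) (q : (ProEtS.bcP i).obj W ⟶ ProEt91.openObj V o.1),
      (q ≫ ProEt91.openHom V o.1) ≫ a = (ProEtS.bcP i).map l ∧ Surjective q.left ∧
        AlgebraicGeometry.QuasiCompact q.left := by
    rintro ⟨O, hO, A, hA, hle⟩
    have : IsAffine O.toScheme := hO
    have : IsAffine A.toScheme := hA
    have h01 : IsIntegralHom pr := MorphismProperty.pullback_fst (P := @IsIntegralHom) _ _ ‹IsIntegralHom i›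
    have h02 : UniversallyInjective pr :=
      MorphismProperty.pullback_fst (P := @UniversallyInjective) _ _ ‹UniversallyInjective i›
    have h03 : Surjective pr := MorphismProperty.pullback_fst (P := @Surjective) _ _ ‹Surjective i›
    let p := pr ∣_ A
    have hpb := isPullback_morphismRestrict pr A
    have : IsIntegralHom p := MorphismProperty.of_isPullback hpb.flip h01
    have : UniversallyInjective p := MorphismProperty.of_isPullback hpb.flip h02
    have : Surjective p := MorphismProperty.of_isPullback hpb.flip h03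
    let a' : O.toScheme ⟶ (pr ⁻¹ᵁ A).toScheme := IsOpenImmersion.lift (pr ⁻¹ᵁ A).ι (O.ι ≫ a.left) (by
      rw [Scheme.Opens.range_ι]
      rintro _ ⟨x, rfl⟩
      exact hle x.2)
    have ha' : a' ≫ (pr ⁻¹ᵁ A).ι = O.ι ≫ a.left := IsOpenImmersion.lift_fac _ _ _
    have hwa : WeaklyEtale a.left := by
      have hs : WeaklyEtale ((ProEtS.bcP i).obj U).hom := ((ProEtS.bcP i).obj U).prop
      have : WeaklyEtale (a.left ≫ ((ProEtS.bcP i).obj U).hom) := by
        rw [ProEt91.overHom_w]; exact V.prop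
      exact WeaklyEtale.of_comp a.left ((ProEtS.bcP i).obj U).hom
    have hwa' : WeaklyEtale a' := by
      have : WeaklyEtale (a' ≫ (pr ⁻¹ᵁ A).ι) := by rw [ha']; infer_instance
      exact WeaklyEtale.of_comp a' (pr ⁻¹ᵁ A).ι
    obtain ⟨T, Q, t, qT, qP, k, ht, hQ, hk, hsurj, hqc⟩ := exists_lift_affine_UH p a'
    have : WeaklyEtale U.hom := U.prop
    let W : X.ProEt := Scheme.ProEt.mk ((t ≫ A.ι) ≫ U.hom)
    let l : W ⟶ U := MorphismProperty.Over.homMk (t ≫ A.ι)
    have hbig : IsPullback qT (qP ≫ (pr ⁻¹ᵁ A).ι ≫ pullback.snd U.hom i) ((t ≫ A.ι) ≫ U.hom) i := by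
      have h1 := hQ.paste_vert hpb
      have h2 := h1.paste_vert (IsPullback.of_hasPullback U.hom i)
      simpa only [Category.assoc] using h2
    let θ : ((ProEtS.bcP i).obj W).left ≅ Q := hbig.isoPullback.symm
    have hθ1 : θ.hom ≫ qT = pullback.fst ((t ≫ A.ι) ≫ U.hom) i := hbig.isoPullback_inv_fst
    have hθ2 : θ.hom ≫ qP ≫ (pr ⁻¹ᵁ A).ι ≫ pullback.snd U.hom i = pullback.snd ((t ≫ A.ι) ≫ U.hom) i :=
      hbig.isoPullback_inv_snd
    have hq : (θ.hom ≫ k) ≫ O.ι ≫ V.hom = pullback.snd ((t ≫ A.ι) ≫ U.hom) i := by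
      rw [← ProEt91.overHom_w a, ← reassoc_of% ha', Category.assoc, reassoc_of% hk]
      exact hθ2
    let q : (ProEtS.bcP i).obj W ⟶ ProEt91.openObj V O := MorphismProperty.Over.homMk (θ.hom ≫ k) hq
    refine ⟨W, l, q, MorphismProperty.Over.Hom.ext ?_, ?_, ?_⟩
    · show ((θ.hom ≫ k) ≫ O.ι) ≫ a.left =
        pullback.lift (pullback.fst W.hom i ≫ t ≫ A.ι) (pullback.snd W.hom i) _
      have h6 : ((θ.hom ≫ k) ≫ O.ι) ≫ a.left = θ.hom ≫ qP ≫ (pr ⁻¹ᵁ A).ι := by
        rw [Category.assoc, ← ha', Category.assoc, reassoc_of% hk]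
      rw [h6]
      refine pullback.hom_ext ?_ ?_
      · refine Eq.trans ?_ (pullback.lift_fst _ _ _).symm
        show (θ.hom ≫ qP ≫ (pr ⁻¹ᵁ A).ι) ≫ pr = _
        have h7 : qP ≫ (pr ⁻¹ᵁ A).ι ≫ pr = qT ≫ t ≫ A.ι := by
          rw [← morphismRestrict_ι, ← Category.assoc, ← hQ.w, Category.assoc]
        rw [Category.assoc, Category.assoc, h7, ← Category.assoc, hθ1]
        rfl
      · refine Eq.trans ?_ (pullback.lift_snd _ _ _).symm
        exact ((Category.assoc _ _ _).trans (congrArg (θ.hom ≫ ·) (Category.assoc _ _ _))).trans hθ2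
    · show Surjective (θ.hom ≫ k)
      infer_instance
    · show AlgebraicGeometry.QuasiCompact (θ.hom ≫ k)
      infer_instance
  choose W l q hql hsurj hqc using key
  haveI := hsurj
  haveI := hqc
  exact ProEt91.mem_of_local (fun o : ι => o.1) hcov q S fun o => h (W o) (l o) _ (hql o)

theorem isCoverDense_bcP_UH : (ProEtS.bcP i).IsCoverDense (Scheme.ProEt.topology Z) where
  is_cover V := by
    let a : V ⟶ (ProEtS.bcP i).obj (ProEtS.topP X) :=
      MorphismProperty.Over.homMk (pullback.lift (V.hom ≫ i) V.hom (Category.comp_id _))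
        (pullback.lift_snd _ _ _)
    exact mem_of_lifts_UH i a _ fun W _ q _ => ⟨⟨W, 𝟙 _, q, Category.id_comp _⟩⟩

theorem isLocallyFull_bcP_UH : (ProEtS.bcP i).IsLocallyFull (Scheme.ProEt.topology Z) where
  functorPushforward_imageSieve_mem {U U'} g := by
    have hb : PreservesLimitsOfSize.{0, 0} (CategoryTheory.Over.pullback i) :=
      (CategoryTheory.Over.mapPullbackAdj i).rightAdjoint_preservesLimits
    have : PreservesFiniteLimits (Scheme.ProEt.forget X ⋙ CategoryTheory.Over.pullback i) :=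
      comp_preservesFiniteLimits _ _
    have : PreservesFiniteLimits (ProEtS.bcP i ⋙ Scheme.ProEt.forget Z) :=
      inferInstanceAs (PreservesFiniteLimits (Scheme.ProEt.forget X ⋙ CategoryTheory.Over.pullback i))
    have : PreservesFiniteLimits (ProEtS.bcP i) :=
      ⟨fun J _ _ => preservesLimitsOfShape_of_reflects_of_preserves _ (Scheme.ProEt.forget Z)⟩
    let P := ProEtS.bcP i
    let a : P.obj U ⟶ P.obj (U ⨯ U') := prod.lift (𝟙 _) g ≫ (PreservesLimitPair.iso P U U').inv
    have ha1 : a ≫ P.map prod.fst = 𝟙 _ := by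
      simp only [a, Category.assoc]
      rw [PreservesLimitPair.iso_inv_fst, prod.lift_fst]
    have ha2 : a ≫ P.map prod.snd = g := by
      simp only [a, Category.assoc]
      rw [PreservesLimitPair.iso_inv_snd, prod.lift_snd]
    refine mem_of_lifts_UH i a _ fun W l q hq => ?_
    have h1 : q = P.map (l ≫ prod.fst) := by
      rw [P.map_comp, ← hq, Category.assoc, ha1, Category.comp_id]
    refine ⟨W, l ≫ prod.fst, 𝟙 _, ⟨l ≫ prod.snd, ?_⟩, ?_⟩
    · rw [← h1, P.map_comp, ← hq, Category.assoc, ha2]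
    · exact (Category.id_comp _).trans h1.symm |>.symm

/-- Inverse image along a universal homeomorphism detects zero sheaves. -/
theorem isZero_of_pull_UH [ProEtS.PCont i] (G : ProEtS.AbP X) (hG : IsZero ((ProEtS.pullP i).obj G)) :
    IsZero G := by
  refine isZero_of_subsingleton fun W hW hWC => subsingleton_of_forall_eq 0 fun t => ?_
  let J := Scheme.ProEt.topology Z
  let VZ := (ProEtS.bcP i).obj W
  have hVA : IsAffine VZ.left :=
    @isAffine_of_isAffineHom _ _ (pullback.fst W.hom i)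
      (MorphismProperty.pullback_fst (P := @IsAffineHom) _ _ inferInstance) hW
  let P := (ProEtS.bcP i).op.lan.obj G.obj
  let e : P.obj (op VZ) := ((ProEtS.bcP i).op.lanUnit.app G.obj).app (op W) t
  have hz : IsZero (((presheafToSheaf J AddCommGrpCat.{u + 1}).obj P).obj.obj (op VZ)) :=
    ((sheafToPresheaf J AddCommGrpCat.{u + 1} ⋙ (evaluation Z.ProEtᵒᵖ AddCommGrpCat.{u + 1}).obj (op VZ)).map_isZero
      (hG.of_iso ((Functor.sheafPullbackConstruction.sheafPullbackIso (ProEtS.bcP i) _ _ _).app G).symm))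
  have hS : Presheaf.equalizerSieve (F := P) e 0 ∈ J VZ :=
    Presheaf.equalizerSieve_mem J (toSheafify J P) e 0 ((AddCommGrpCat.subsingleton_of_isZero hz).elim _ _)
  let S : Sieve VZ :=
    { arrows := fun Y q => P.map q.op e = 0 ∧ ∃ (V : Z.ProEt) (r : Y ⟶ V) (q' : V ⟶ VZ),
        HullReady i V ∧ r ≫ q' = q ∧ P.map q'.op e = 0
      downward_closed := fun {Y Y'} {q} hq k => by
        obtain ⟨h1, V, r, q', hV, hr, h2⟩ := hq
        exact ⟨by rw [op_comp, Functor.map_comp, ConcreteCategory.comp_apply, h1, map_zero],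
          V, k ≫ r, q', hV, by rw [Category.assoc, hr], h2⟩ }
  have hS' : S ∈ J VZ := by
    refine J.transitive hS S fun Y q hq => mem_of_hullReady i _ fun V g hV => ?_
    have h2 : P.map (g ≫ q).op e = 0 := by
      have hq' : P.map q.op e = P.map q.op 0 := hq
      rw [op_comp, Functor.map_comp, ConcreteCategory.comp_apply, hq', map_zero, map_zero]
    exact ⟨h2, V, 𝟙 V, g ≫ q, hV, Category.id_comp _, h2⟩
  obtain ⟨n, Y, g, hY, hgS, hs⟩ := exists_finite_affine VZ hS'
  choose h1 V r q hV hr hq using hgS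
  have hL : ∀ k, ∃ (L : X.ProEt) (ψ : V k ⟶ (ProEtS.bcP i).obj L) (m : L ⟶ W),
      ψ ≫ (ProEtS.bcP i).map m = q k ∧ G.obj.map m.op t = 0 := fun k => by
    obtain ⟨L, ψ, ⟨hT⟩⟩ := exists_terminal i (hV k)
    let f : CostructuredArrow.mk (Y := op W) (S := (ProEtS.bcP i).op) (q k).op ⟶ _ := hT.from _
    have hm : ψ ≫ (ProEtS.bcP i).map f.left.unop = q k := congrArg Quiver.Hom.unop (CostructuredArrow.w f)
    refine ⟨L, ψ, f.left.unop, hm, ?_⟩
    have := isIso_hullMap (C := AddCommGrpCat.{u + 1}) i ψ hT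
    have hinj := ((ConcreteCategory.isIso_iff_bijective ((hullMap (C := AddCommGrpCat.{u + 1}) i ψ).app G.obj)).1
      inferInstance).1
    refine hinj (Eq.trans ?_ (map_zero _).symm)
    refine Eq.trans ?_ (hq k)
    show P.map ψ.op (((ProEtS.bcP i).op.lanUnit.app G.obj).app (op L) (G.obj.map f.left.unop.op t)) = _
    refine Eq.trans ?_ (congrArg (fun z : V k ⟶ VZ => P.map z.op e) hm)
    refine Eq.trans ?_ ((congrArg (fun z => z e) (congrArg ConcreteCategory.hom
      (P.map_comp ((ProEtS.bcP i).map f.left.unop).op ψ.op))).trans (ConcreteCategory.comp_apply _ _ _)).symm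
    exact congrArg (P.map ψ.op) (NatTrans.naturality_apply ((ProEtS.bcP i).op.lanUnit.app G.obj) f.left t)
  choose L ψ m hψ hm using hL
  -- affine pieces
  let π : ∀ k, (Y k).left ⟶ (L k).left := fun k => (r k).left ≫ (ψ k).left ≫ pullback.fst (L k).hom i
  have hπ : ∀ k, π k ≫ (m k).left = (g k).left ≫ pullback.fst W.hom i := fun k => by
    have h3 := congrArg (fun q : Y k ⟶ VZ => q.left ≫ pullback.fst W.hom i)
      ((congrArg (r k ≫ ·) (hψ k)).trans (hr k))
    change ((r k).left ≫ (ψ k).left ≫ pullback.lift (pullback.fst (L k).hom i ≫ (m k).left)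
      (pullback.snd (L k).hom i) _) ≫ pullback.fst W.hom i = _ at h3
    refine Eq.trans ?_ h3
    refine Eq.trans ?_ (Category.assoc _ _ _).symm
    refine Eq.trans ?_ (congrArg ((r k).left ≫ ·) (Category.assoc _ _ _).symm)
    refine Eq.trans ?_ (congrArg (fun z => (r k).left ≫ (ψ k).left ≫ z) (pullback.lift_fst _ _ _)).symm
    simp only [π, Category.assoc]
  have hO : ∀ (k : Fin n) (y : (Y k).left), ∃ O : (L k).left.Opens, IsAffineOpen O ∧ π k y ∈ O := fun k y => by
    obtain ⟨O, hO, hv, -⟩ := exists_isAffineOpen_mem_and_subset (U := (⊤ : (L k).left.Opens)) (x := π k y) trivial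
    exact ⟨O, hO, hv⟩
  choose O hO hOy using hO
  have hsk : ∀ k, ∃ s : Finset (Y k).left, ∀ y, ∃ v ∈ s, π k y ∈ O k v := fun k => by
    haveI := hY k
    obtain ⟨s, hs⟩ := isCompact_univ.elim_finite_subcover
      (fun v : (Y k).left => ((π k ⁻¹ᵁ O k v : (Y k).left.Opens) : Set (Y k).left))
      (fun v => (π k ⁻¹ᵁ O k v).2) fun v _ => Set.mem_iUnion.2 ⟨v, hOy k v⟩
    exact ⟨s, fun y => by
      obtain ⟨v, hv, hyv⟩ := Set.mem_iUnion₂.1 (hs (Set.mem_univ y))
      exact ⟨v, hv, hyv⟩⟩
  choose s hsy using hsk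
  haveI := hW
  let Idx := Σ k : Fin n, ↥(s k)
  let piece : Idx → X.ProEt := fun k => ProEt91.openObj (L k.1) (O k.1 k.2)
  let pm : ∀ k, piece k ⟶ W := fun k => ProEt91.openHom (L k.1) (O k.1 k.2) ≫ m k.1
  have hcov : Sieve.generate (Presieve.ofArrows (fun k : Fin (Fintype.card Idx) => piece ((Fintype.equivFin Idx).symm k))
      fun k => pm ((Fintype.equivFin Idx).symm k)) ∈ Scheme.ProEt.topology X W := by
    refine mem_of_finite _ _ (fun k => ?_) fun x => ?_
    · have : IsAffine (O ((Fintype.equivFin Idx).symm k).1 ((Fintype.equivFin Idx).symm k).2).toScheme := hO _ _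
      exact inferInstanceAs (CompactSpace ↥(O ((Fintype.equivFin Idx).symm k).1 ((Fintype.equivFin Idx).symm k).2).toScheme)
    · suffices ∃ k, x ∈ Set.range (pm k).left by
        obtain ⟨k, hk⟩ := this
        exact ⟨Fintype.equivFin _ k, by rw [(Fintype.equivFin _).symm_apply_apply]; exact hk⟩
      have : Surjective (pullback.fst W.hom i) :=
        MorphismProperty.pullback_fst (P := @Surjective) _ _ ‹Surjective i›
      obtain ⟨z, rfl⟩ := (pullback.fst W.hom i).surjective x
      obtain ⟨k, y, rfl⟩ := hs z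
      obtain ⟨v, hv, hyv⟩ := hsy k y
      refine ⟨⟨k, v, hv⟩, ⟨π k y, hyv⟩, ?_⟩
      show (m k).left (π k y) = _
      rw [← Scheme.Hom.comp_apply, hπ]
      rfl
  let T := (sheafCompose (Scheme.ProEt.topology X) (forget AddCommGrpCat.{u + 1})).obj G
  refine ((isSheaf_iff_isSheaf_of_type _ _).1 T.property _ hcov).isSeparatedFor.ext fun W'' q' hq' => ?_
  obtain ⟨_, b, _, ⟨k⟩, rfl⟩ := hq'
  show G.obj.map _ t = G.obj.map _ 0
  rw [map_zero, op_comp, Functor.map_comp, ConcreteCategory.comp_apply]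
  refine (congrArg (G.obj.map b.op) ?_).trans (map_zero _)
  show G.obj.map (ProEt91.openHom _ _ ≫ m _).op t = 0
  rw [op_comp, Functor.map_comp, ConcreteCategory.comp_apply, hm, map_zero]

/-- Direct image along an integral universally injective surjection is an equivalence. -/
theorem isEquivalence_pushP_UH [ProEtS.PCont i] : (ProEtS.pushP i).IsEquivalence := by
  have := isCoverDense_bcP_UH i
  have := isLocallyFull_bcP_UH i
  let adj := ProEtS.pullPushAdjP i
  have hc : IsIso adj.counit := adj.counit_isIso_of_R_fully_faithful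
  have hlim : PreservesLimitsOfSize.{u, u} (ProEtS.pullP i) :=
    ⟨fun {J} _ => preservesLimits_pullP i J⟩
  have : PreservesFiniteLimits (ProEtS.pullP i) := PreservesLimitsOfSize.preservesFiniteLimits _
  have : PreservesColimitsOfSize.{0, 0} (ProEtS.pullP i) := adj.leftAdjoint_preservesColimits
  have := PreservesColimitsOfSize.preservesFiniteColimits (ProEtS.pullP i)
  have := adj.left_adjoint_additive
  have hu : ∀ F, IsIso (adj.unit.app F) := fun F => by
    have hi2 : IsIso ((ProEtS.pullP i).map (adj.unit.app F)) := by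
      have : IsIso (adj.counit.app ((ProEtS.pullP i).obj F)) := inferInstance
      exact @IsIso.of_isIso_fac_right _ _ _ _ _ _ _ _ this (IsIso.id _) (adj.left_triangle_components F)
    have hker : IsZero (kernel (adj.unit.app F)) := isZero_of_pull_UH i _
      ((isZero_kernel_of_mono ((ProEtS.pullP i).map (adj.unit.app F))).of_iso (PreservesKernel.iso _ _))
    have hcok : IsZero (cokernel (adj.unit.app F)) := isZero_of_pull_UH i _
      ((isZero_cokernel_of_epi ((ProEtS.pullP i).map (adj.unit.app F))).of_iso (PreservesCokernel.iso _ _))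
    have : Mono (adj.unit.app F) := Preadditive.mono_of_kernel_zero (hker.eq_of_src _ _)
    have : Epi (adj.unit.app F) := Preadditive.epi_of_cokernel_zero (hcok.eq_of_tgt _ _)
    exact isIso_of_mono_of_epi _
  have : IsIso adj.unit := NatIso.isIso_of_isIso_app _
  exact adj.toEquivalence.isEquivalence_inverse

end Groth.Agent.Mod48.ProLim
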