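import Groth.Agent.Mod48.ProEtHullRing
import Groth.Agent.Unr55.Et.UHLift
import Groth.Agent.Unr55.TopInv
import Groth.Agent.Ind91.Criterion
import Groth.Agent.UH57.Basic

/-!
Ind-etale algebras descend along universal homeomorphisms.
-/

universe u

open CategoryTheory CategoryTheory.Limits AlgebraicGeometry TensorProduct

namespace Groth.Agent.Mod48.ProLim

set_option backward.isDefEq.respectTransparency.types false

variable {R R' : Type u} [CommRing R] [CommRing R'] [Algebra R R']
  [UniversallyClosed (Spec.map (CommRingCat.ofHom (algebraMap R R')))]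
  [UniversallyInjective (Spec.map (CommRingCat.ofHom (algebraMap R R')))]
  [Surjective (Spec.map (CommRingCat.ofHom (algebraMap R R')))]

/-- Maps between base changes of etale algebras along a universal homeomorphism descend. -/
theorem exists_descend (S C : Type u) [CommRing S] [Algebra R S] [Algebra.Etale R S] [CommRing C] [Algebra R C]
    (σ : R' ⊗[R] S →ₐ[R'] R' ⊗[R] C) :
    ∃ s : S →ₐ[R] C, ∀ x, σ (1 ⊗ₜ x) = 1 ⊗ₜ s x := by
  let g := Spec.map (CommRingCat.ofHom (algebraMap R R'))
  let y : Spec (CommRingCat.of C) ⟶ Spec (CommRingCat.of R) := Spec.map (CommRingCat.ofHom (algebraMap R C))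
  let incC : CommRingCat.of C ⟶ CommRingCat.of (R' ⊗[R] C) :=
    CommRingCat.ofHom (Algebra.TensorProduct.includeRight : C →ₐ[R] R' ⊗[R] C).toRingHom
  let incS : CommRingCat.of S ⟶ CommRingCat.of (R' ⊗[R] S) :=
    CommRingCat.ofHom (Algebra.TensorProduct.includeRight : S →ₐ[R] R' ⊗[R] S).toRingHom
  have hpb := (isPullback_SpecMap_of_isPushout _ _ _ _ (CommRingCat.isPushout_tensorProduct R R' C)).flip
  change IsPullback (Spec.map incC) _ y g at hpb
  have : UniversallyClosed (Spec.map incC) :=
    MorphismProperty.of_isPullback hpb.flip (inferInstance : UniversallyClosed g)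
  have : UniversallyInjective (Spec.map incC) :=
    MorphismProperty.of_isPullback hpb.flip (inferInstance : UniversallyInjective g)
  have : Surjective (Spec.map incC) :=
    MorphismProperty.of_isPullback hpb.flip (inferInstance : Surjective g)
  let x : Spec (CommRingCat.of S) ⟶ Spec (CommRingCat.of R) := Spec.map (CommRingCat.ofHom (algebraMap R S))
  have : Etale x := HasRingHomProperty.Spec_iff.2 (RingHom.etale_algebraMap.2 inferInstance)
  let a : Spec (CommRingCat.of (R' ⊗[R] C)) ⟶ Spec (CommRingCat.of S) :=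
    Spec.map (incS ≫ CommRingCat.ofHom σ.toRingHom)
  have hw : a ≫ x = Spec.map incC ≫ y := by
    rw [← Spec.map_comp, ← Spec.map_comp]
    refine congrArg Spec.map (CommRingCat.hom_ext (RingHom.ext fun r => ?_))
    show σ ((1 : R') ⊗ₜ[R] algebraMap R S r) = (1 : R') ⊗ₜ[R] algebraMap R C r
    simp only [Algebra.algebraMap_eq_smul_one, TensorProduct.tmul_smul]
    rw [← IsScalarTower.algebraMap_smul R' r ((1 : R') ⊗ₜ[R] (1 : S)), map_smul, IsScalarTower.algebraMap_smul]
    exact congrArg (r • ·) (map_one σ)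
  obtain ⟨φ, ⟨hφx, hφ⟩, -⟩ := Unr55.existsUnique_hom_of_isUnivHomeo x (Spec.map incC)
    (Unr55.isUnivHomeo_of_universallyClosed _) y a hw
  obtain ⟨s₀, rfl⟩ := Spec.map_surjective φ
  have h1 : CommRingCat.ofHom (algebraMap R S) ≫ s₀ = CommRingCat.ofHom (algebraMap R C) :=
    Spec.map_injective (by rw [Spec.map_comp]; exact hφx)
  have h2 : s₀ ≫ incC = incS ≫ CommRingCat.ofHom σ.toRingHom := Spec.map_injective (by rw [Spec.map_comp]; exact hφ)
  exact ⟨{ s₀.hom with commutes' := fun r => congr($h1 r) }, fun x => (congr($h2 x)).symm⟩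

/-- The base change of the colimit of etale pairs recovers an ind-etale algebra. -/
theorem bijective_baseChange_H (B : Type u) [CommRing B] [Algebra R B] [Algebra R' B] [IsScalarTower R R' B]
    (hB : EtPBC.IsIndEtale R' B) :
    Function.Bijective (Algebra.TensorProduct.lift (Algebra.ofId R' B) (Henz21.H.proj R B)
      (fun _ _ => Commute.all _ _) : R' ⊗[R] Henz21.H R B →ₐ[R'] B) := by
  classical
  set μ : R' ⊗[R] Henz21.H R B →ₐ[R'] B :=
    Algebra.TensorProduct.lift (Algebra.ofId R' B) (Henz21.H.proj R B) (fun _ _ => Commute.all _ _)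
  have hUH : FlatMor.IsUnivHomeo (Spec.map (CommRingCat.ofHom (algebraMap R R'))) :=
    (UH57.isUnivHomeo_iff' _).2 ⟨inferInstance, inferInstance, inferInstance⟩
  obtain ⟨hi, hri, -⟩ := UH57.isUnivHomeo_iff.1 hUH
  have hlift : Unr55.UHLift.HasLift R R' :=
    Unr55.UHLift.hasLift_of_forall_inCl fun b => UH57.all_of_ri (hp := True) (.inl trivial) hi hri b
  have hfac := Ind91.IsInd.factors (A := R') (P := fun W _ _ => Algebra.Etale R' W) hB
  constructor
  · refine (injective_iff_map_eq_zero μ).2 fun z hz => ?_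
    obtain ⟨i, z', rfl⟩ : ∃ (i : Henz21.Pt R B) (z' : R' ⊗[R] i.S),
        Algebra.TensorProduct.map (AlgHom.id R' R') (Henz21.H.incl i) z' = z := by
      clear hz
      induction z using TensorProduct.induction_on with
      | zero => exact ⟨Henz21.H.base R B, 0, map_zero _⟩
      | tmul r h =>
        obtain ⟨i, s, rfl⟩ := Henz21.H.exists_rep h
        exact ⟨i, r ⊗ₜ s, rfl⟩
      | add a b ha hb =>
        obtain ⟨i, a', rfl⟩ := ha
        obtain ⟨j, b', rfl⟩ := hb
        let k := IsFiltered.max i j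
        refine ⟨k, Algebra.TensorProduct.map (AlgHom.id R' R') (IsFiltered.leftToMax i j).φ a' +
          Algebra.TensorProduct.map (AlgHom.id R' R') (IsFiltered.rightToMax i j).φ b', ?_⟩
        rw [map_add, ← AlgHom.comp_apply, ← AlgHom.comp_apply, ← Algebra.TensorProduct.map_comp,
          ← Algebra.TensorProduct.map_comp, Henz21.H.incl_comp, Henz21.H.incl_comp]
        rfl
    let ρ : R' ⊗[R] i.S →ₐ[R'] B :=
      Algebra.TensorProduct.lift (Algebra.ofId R' B) i.pt (fun _ _ => Commute.all _ _)
    have hρ : μ.comp (Algebra.TensorProduct.map (AlgHom.id R' R') (Henz21.H.incl i)) = ρ := by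
      refine Algebra.TensorProduct.ext (by ext) (AlgHom.ext fun s => ?_)
      simp [μ, ρ]
    have hρz : ρ z' = 0 := by rw [← hρ]; exact hz
    haveI : Algebra.FinitePresentation R' (R' ⊗[R] i.S) := inferInstance
    haveI : Algebra.FinitePresentation R' ((R' ⊗[R] i.S) ⧸ Ideal.span {z'}) :=
      Algebra.FinitePresentation.quotient (Submodule.fg_span (Set.finite_singleton _))
    let g : (R' ⊗[R] i.S) ⧸ Ideal.span {z'} →ₐ[R'] B := Ideal.Quotient.liftₐ _ ρ fun w hw =>
      (Ideal.span_le (I := RingHom.ker ρ)).2 (by rintro _ rfl; exact hρz) hw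
    obtain ⟨W, _, _, hW, u, v, huv⟩ := hfac _ g
    obtain ⟨C, _, _, hC, ⟨e⟩⟩ := hlift W hW
    let σ : R' ⊗[R] i.S →ₐ[R'] R' ⊗[R] C :=
      e.symm.toAlgHom.comp (u.comp (Ideal.Quotient.mkₐ R' _))
    obtain ⟨s, hs⟩ := exists_descend i.S C σ
    let pC : C →ₐ[R] B :=
      ((v.comp e.toAlgHom).restrictScalars R).comp Algebra.TensorProduct.includeRight
    have hpC : pC.comp s = i.pt := AlgHom.ext fun y => by
      show v (e ((1 : R') ⊗ₜ[R] s y)) = i.pt y
      rw [← hs y]
      show v (e (e.symm (u (Ideal.Quotient.mkₐ R' _ _)))) = _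
      rw [e.apply_symm_apply, ← AlgHom.comp_apply v, huv]
      simp [g, ρ]
    haveI := hC
    obtain ⟨F, -, hF⟩ := Henz21.H.exists_algHom_of_stage i C pC s hpC
    have hσ : σ = Algebra.TensorProduct.map (AlgHom.id R' R') s :=
      Algebra.TensorProduct.ext (by ext) (AlgHom.ext fun y => by simpa using hs y)
    have hσz : Algebra.TensorProduct.map (AlgHom.id R' R') s z' = 0 := by
      rw [← hσ]
      show e.symm (u (Ideal.Quotient.mkₐ R' _ z')) = 0
      rw [Ideal.Quotient.mkₐ_eq_mk, Ideal.Quotient.eq_zero_iff_mem.2 (Ideal.subset_span (Set.mem_singleton z')),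
        map_zero, map_zero]
    rw [← hF]
    rw [show Algebra.TensorProduct.map (AlgHom.id R' R') (F.comp s) =
      (Algebra.TensorProduct.map (AlgHom.id R' R') F).comp (Algebra.TensorProduct.map (AlgHom.id R' R') s) from
        (Algebra.TensorProduct.map_comp (AlgHom.id R' R') (AlgHom.id R' R') F s)]
    rw [AlgHom.comp_apply, hσz, map_zero]
  · intro b
    obtain ⟨W, _, _, hW, u, v, huv⟩ := hfac (MvPolynomial (Fin 1) R') (MvPolynomial.aeval fun _ => b)
    obtain ⟨C, _, _, hC, ⟨e⟩⟩ := hlift W hW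
    haveI := hC
    let pC : C →ₐ[R] B :=
      ((v.comp e.toAlgHom).restrictScalars R).comp Algebra.TensorProduct.includeRight
    obtain ⟨F, hF⟩ := Henz21.H.exists_algHom_of_pt C pC
    refine ⟨Algebra.TensorProduct.map (AlgHom.id R' R') F (e.symm (u (MvPolynomial.X 0))), ?_⟩
    have hcomp : μ.comp (Algebra.TensorProduct.map (AlgHom.id R' R') F) = v.comp e.toAlgHom := by
      refine Algebra.TensorProduct.ext (by ext) (AlgHom.ext fun c => ?_)
      have h := DFunLike.congr_fun hF c
      simpa [μ, pC] using h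
    rw [← AlgHom.comp_apply, hcomp]
    show v (e (e.symm _)) = b
    rw [e.apply_symm_apply, ← AlgHom.comp_apply, huv, MvPolynomial.aeval_X]

end Groth.Agent.Mod48.ProLim
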