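import Groth.Agent.Mod48.FppfRestrict
import Groth.Agent.Mod48.FppfGlobal

/-!
Restrictions of sections of the pullback to the big fppf site that are bijective because global sections
of small etale sheaves do not change.
-/

universe u

open CategoryTheory CategoryTheory.Limits AlgebraicGeometry Opposite

namespace Groth.Agent.Mod48

set_option backward.isDefEq.respectTransparency.types false

/-- Global sections of every sheaf are those of the inverse image. -/
def UnitTop {T' T : Scheme.{u}} (a : T' ⟶ T) : Prop :=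
  ∀ H : EtCoh.Ab T,
    Function.Bijective (((EtCoh.pullPushAdj a).unit.app H).hom.app (op (EtCoh.top T)))

theorem bijective_res_top {T' T : Scheme.{u}} [EtFppf.ACont T] (a : T' ⟶ T) (hu : UnitTop a)
    (H : EtCoh.Ab T) :
    Function.Bijective (((EtFppf.aPull T).obj H).obj.map
      (Over.homMk a (Category.comp_id a) : Over.mk a ⟶ Over.mk (𝟙 T)).op) := by
  let E0 : T.Etale := EtCoh.top T
  let G := ((EtFppf.aPull T).obj H).obj
  have hiso : IsIso (pullback.snd (𝟙 T) a) := (IsPullback.of_hasPullback (𝟙 T) a).isIso_snd_of_isIso inferInstance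
  let i : Over.mk a ≅ (toBig a).obj ((EtCoh.bc a).obj E0) :=
    (Over.isoMk (@asIso _ _ _ _ (pullback.snd (𝟙 T) a) hiso) rfl).symm
  let j : Over.mk (𝟙 T) ≅ (EtFppf.a T).obj E0 :=
    Over.isoMk (Iso.refl _) (Category.id_comp _)
  have e : (Over.homMk a (Category.comp_id a) : Over.mk a ⟶ Over.mk (𝟙 T)) = i.hom ≫ bcProj a E0 ≫ j.inv := by
    apply Over.OverMorphism.ext
    show a = inv (pullback.snd (𝟙 T) a) ≫ pullback.fst (𝟙 T) a ≫ 𝟙 T
    rw [pullback.condition, IsIso.inv_hom_id_assoc]
  have hb : Function.Bijective (G.map (bcProj a E0).op) := by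
    have h1 : Function.Bijective (GSite.etaSect (EtFppf.J T) (EtFppf.a T) H (U := E0)) :=
      ⟨(fppfGSite T).etaSect_injective H _, (fppfGSite T).etaSect_surjective H _⟩
    refine (Function.Bijective.of_comp_iff _ h1).1 ?_
    have h2 : (fun σ => G.map (bcProj a E0).op (GSite.etaSect (EtFppf.J T) (EtFppf.a T) H σ)) =
        ((toBigRes a H).hom.app (op ((EtCoh.bc a).obj E0))) ∘
          (GSite.etaSect T'.smallEtaleTopology (EtCoh.bc a) H (U := E0)) :=
      funext fun σ => (toBigRes_eta a H σ).symm
    refine (congrArg Function.Bijective h2).mpr ?_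
    exact Function.Bijective.comp ⟨toBigRes_injective a H _, toBigRes_surjective a H _⟩ (hu H)
  rw [e, op_comp, op_comp, G.map_comp, G.map_comp]
  simp only [ConcreteCategory.hom_ofHom, AddCommGrpCat.hom_comp, AddMonoidHom.coe_comp]
  exact ((ConcreteCategory.bijective_of_isIso (G.map i.hom.op)).comp hb).comp
    (ConcreteCategory.bijective_of_isIso (G.map j.inv.op))

variable {X : Scheme.{u}} [EtFppf.ACont X] (F : EtCoh.Ab X)

/-- Restriction along a morphism inducing bijections on global sections is bijective. -/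
theorem bijective_res {W W' : Over X} (r : W' ⟶ W) (hu : UnitTop r.left) :
    Function.Bijective (((EtFppf.aPull X).obj F).obj.map r.op) := by
  have : EtFppf.ACont W.left := aCont W.left
  let G := ((EtFppf.aPull X).obj F).obj
  let H := (EtCoh.pull W.hom).obj F
  let q : Over.mk r.left ⟶ Over.mk (𝟙 W.left) := Over.homMk r.left (Category.comp_id r.left)
  let φ := (fResPullIso W.hom).app F
  let i : W' ≅ (Over.map W.hom).obj (Over.mk r.left) :=
    Over.isoMk (Iso.refl _) ((Category.id_comp _).trans (Over.w r))
  let j : (Over.map W.hom).obj (Over.mk (𝟙 W.left)) ≅ W :=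
    Over.isoMk (Iso.refl _) ((Category.id_comp _).trans (Category.id_comp _).symm)
  have e : r = i.hom ≫ (Over.map W.hom).map q ≫ j.hom := by
    apply Over.OverMorphism.ext
    show r.left = 𝟙 _ ≫ r.left ≫ 𝟙 _
    rw [Category.id_comp, Category.comp_id]
  let φi := (sheafToPresheaf (EtFppf.J W.left) AddCommGrpCat.{u + 1}).mapIso φ
  have hq : Function.Bijective (G.map ((Over.map W.hom).map q).op) := by
    have h3 := bijective_res_top r.left hu H
    have hA := ConcreteCategory.bijective_of_isIso (φi.hom.app (op (Over.mk (𝟙 W.left))))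
    have hB := ConcreteCategory.bijective_of_isIso (φi.hom.app (op (Over.mk r.left)))
    refine (Function.Bijective.of_comp_iff' hB _).1 ?_
    have hn : (⇑(φi.hom.app (op (Over.mk r.left))) ∘ ⇑(G.map ((Over.map W.hom).map q).op)) =
        (((EtFppf.aPull W.left).obj H).obj.map q.op) ∘ (φi.hom.app (op (Over.mk (𝟙 W.left)))) :=
      funext fun t => NatTrans.naturality_apply φi.hom q.op t
    exact (congrArg Function.Bijective hn).mpr (h3.comp hA)
  rw [e, op_comp, op_comp, G.map_comp, G.map_comp]
  simp only [AddCommGrpCat.hom_comp, AddMonoidHom.coe_comp]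
  exact ((ConcreteCategory.bijective_of_isIso (G.map i.hom.op)).comp hq).comp
    (ConcreteCategory.bijective_of_isIso (G.map j.hom.op))

/-- The same for any base change. -/
theorem bijective_res_of_isPullback {W W' : Over X} (r : W' ⟶ W) {S' S : Scheme.{u}} {i : S' ⟶ S}
    {p : W.left ⟶ S} {p' : W'.left ⟶ S'} (sq : IsPullback r.left p' p i) (hu : UnitTop (pullback.fst p i)) :
    Function.Bijective (((EtFppf.aPull X).obj F).obj.map r.op) := by
  let r₀ : Over.mk (pullback.fst p i ≫ W.hom) ⟶ W := Over.homMk (pullback.fst p i) rfl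
  let e : W' ≅ Over.mk (pullback.fst p i ≫ W.hom) := Over.isoMk sq.isoPullback (by
    show sq.isoPullback.hom ≫ pullback.fst p i ≫ W.hom = W'.hom
    rw [IsPullback.isoPullback_hom_fst_assoc]
    exact Over.w r)
  have he : r = e.hom ≫ r₀ := Over.OverMorphism.ext sq.isoPullback_hom_fst.symm
  rw [he, op_comp, Functor.map_comp]
  simp only [AddCommGrpCat.hom_comp, AddMonoidHom.coe_comp]
  exact (ConcreteCategory.bijective_of_isIso (((EtFppf.aPull X).obj F).obj.map e.hom.op)).comp
    (bijective_res F r₀ hu)

end Groth.Agent.Mod48
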