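import Groth.Agent.Mod48.HensPres
import Groth.Agent.Mod48.ProEtCompare
import Groth.Agent.Mod48.ProperRes
import Groth.Agent.Mod48.FppfFiniteBC
import Groth.Agent.PBC20.ConnGeom
import Groth.Agent.S0167

/-!
Stalks of direct images along proper morphisms: global sections of the pullback over the geometric fibre.
-/

universe u

open CategoryTheory CategoryTheory.Limits AlgebraicGeometry Opposite

namespace Groth.Agent.Mod48

set_option backward.isDefEq.respectTransparency.types false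

open Unr55 (EtSh.Pt EtSh.mkPt EtSh.germ EtSh.exists_germ_eq EtSh.pushMapAt EtSh.pushMapAt_germ EtSh.ptUpAt)

/-- A point in a closed subset of a scheme locally of finite type over `W` above a geometric point of `W`
can be replaced by a geometric point in that subset. -/
theorem exists_lift_in_closed {P W : Scheme.{u}} (q : P ⟶ W) [LocallyOfFiniteType q] {k : Type u} [Field k]
    [IsAlgClosed k] (r : Spec (CommRingCat.of k) ⟶ W) {B : Set P} (hB : IsClosed B) (z : P) (hz : z ∈ B)
    (hzr : q z = r default) :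
    ∃ c : Spec (CommRingCat.of k) ⟶ P, c ≫ q = r ∧ c default ∈ B := by
  obtain ⟨w, -, hw⟩ := Scheme.Pullback.exists_preimage_pullback (f := r) (g := q) default z hzr.symm
  let B' : Set ↑(pullback r q) := pullback.snd r q ⁻¹' B
  have hB' : IsClosed B' := hB.preimage (pullback.snd r q).continuous
  have : JacobsonSpace ↑(pullback r q) := LocallyOfFiniteType.jacobsonSpace (pullback.fst r q)
  obtain ⟨c, hcB, hc⟩ := nonempty_inter_closedPoints (Z := B') ⟨w, show _ ∈ B by rw [hw]; exact hz⟩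
    hB'.isLocallyClosed
  let l := pointOfClosedPoint (pullback.fst r q) c hc
  refine ⟨l ≫ pullback.snd r q, ?_, ?_⟩
  · rw [Category.assoc, ← pullback.condition, pointOfClosedPoint_comp_assoc]
  · show pullback.snd r q (l default) ∈ B
    rw [pointOfClosedPoint_apply]
    exact hcB

variable {X Y : Scheme.{u}} (f : X ⟶ Y) (F : EtCoh.Ab X)

open Unr55.EtSh in
/-- The stalk of a proper direct image injects into the product of the stalks at the points above. -/
theorem pushMapAt_injective_proper [IsProper f] (η : GPt Y)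
    (a : ((EtCoh.stalk η.hom).obj ((EtCoh.push f).obj F) : AddCommGrpCat.{u + 1}))
    (ha : ∀ (ξ : Spec (CommRingCat.of η.k) ⟶ X) (h : ξ ≫ f = η.hom), pushMapAt f h F a = 0) : a = 0 := by
  obtain ⟨V, s, σ, rfl⟩ := exists_germ_eq η.hom ((EtCoh.push f).obj F) a
  have : IsProper (pullback.fst V.hom f) := MorphismProperty.pullback_fst _ _ inferInstance
  let C : Set V.left := pullback.fst V.hom f '' (vanishing F σ : Set ((EtCoh.bc f).obj V).left)ᶜ
  have hC : IsClosed C := (pullback.fst V.hom f).isClosedMap _ (vanishing F σ).2.isClosed_compl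
  let O : V.left.Opens := ⟨Cᶜ, hC.isOpen_compl⟩
  have hs : hom η.hom s default ∈ O := by
    rintro ⟨z, hz, hzs⟩
    obtain ⟨c, hc, hcz⟩ := exists_lift_in_closed (pullback.fst V.hom f) (hom η.hom s)
      (vanishing F σ).2.isClosed_compl z hz hzs
    have hsV : hom η.hom s ≫ V.hom = η.hom := Over.w s
    have hξ : (c ≫ pullback.snd V.hom f) ≫ f = η.hom := by
      rw [Category.assoc, ← pullback.condition, reassoc_of% hc, hsV]
    have hξz : hom _ (ptUpAt f hξ s) = c := pullback.hom_ext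
      ((pullback.lift_fst _ _ _).trans hc.symm) (pullback.lift_snd _ _ _)
    obtain ⟨U, g, t, h1, h2⟩ := (germ_eq_zero_iff _ F (ptUpAt f hξ s) σ).1
      ((pushMapAt_germ f hξ F s σ).symm.trans (ha _ hξ))
    exact hcz (range_le_vanishing F σ g h2 ⟨hom _ t default,
      (congrArg (fun q => hom _ q default) h1).trans (congrArg (fun q => q default) hξz)⟩)
  refine (germ_eq_zero_iff η.hom ((EtCoh.push f).obj F) s σ).2
    ⟨_, openSubι V O, ptOpen O s hs, map_ptOpen O s hs, (map_eq_zero_iff_range_le F σ _).2 ?_⟩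
  rintro _ ⟨p, rfl⟩
  by_contra hp
  have e : ((EtCoh.bc f).map (openSubι V O)).left ≫ pullback.fst V.hom f =
      pullback.fst (openSub V O).hom f ≫ O.ι := (EtCoh.isPullback_bc_map f (openSubι V O)).w
  have hO : (((EtCoh.bc f).map (openSubι V O)).left ≫ pullback.fst V.hom f) p ∈ O := by
    rw [e]
    exact O.range_ι.le ⟨_, rfl⟩
  exact hO ⟨_, hp, rfl⟩

/-- Base change of a morphism over `Y` along `f`. -/
theorem isPullback_pullback_map {W' W : Over Y} (r : W' ⟶ W) :
    IsPullback ((Over.pullback f).map r).left (pullback.fst W'.hom f) (pullback.fst W.hom f) r.left := by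
  refine IsPullback.of_right (h₁₂ := pullback.snd W.hom f) (v₁₃ := f) (h₂₂ := W.hom) ?_
    (pullback.lift_fst _ _ _) (IsPullback.of_hasPullback W.hom f).flip
  have e1 : ((Over.pullback f).map r).left ≫ pullback.snd W.hom f = pullback.snd W'.hom f :=
    pullback.lift_snd _ _ _
  exact (congrArg₂ (fun a d => IsPullback a (pullback.fst W'.hom f) f d) e1 (Over.w r)).mpr
    (IsPullback.of_hasPullback W'.hom f).flip

variable [EtFppf.ACont X] [EtFppf.ACont Y]

open ProLim in
/-- A section over the base change of a presented object comes from a stage. -/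
theorem exists_rep_bcPres [QuasiCompact f] [QuasiSeparated f] [ProEtS.EpsCont X] (η : GPt Y) (P : ProLim.Pres Y)
    (p : Over.mk η.hom ⟶ (Scheme.ProEt.forget Y).obj P.c.pt)
    (c : ((EtFppf.aPull X).obj F).obj.obj (op ((Over.pullback f).obj ((Scheme.ProEt.forget Y).obj P.c.pt)))) :
    ∃ a : ((EtCoh.stalk η.hom).obj ((EtCoh.push f).obj F) : AddCommGrpCat.{u + 1}),
      ∀ (ξ : Spec (CommRingCat.of η.k) ⟶ X) (hξ : ξ ≫ f = η.hom), EtSh.pushMapAt f hξ F a =
        (fppfGSite X).val F ⟨η.k, ξ⟩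
          (ptLift f (X := Y) (W := (Scheme.ProEt.forget Y).obj P.c.pt) (η := η) p ξ hξ) c := by
  let Q := bcPres f P
  obtain ⟨τ, hτ⟩ := exists_sh F (T := Q.c.pt) c
  have hX1 : ∀ i, CompactSpace ↥((Q.D ⋙ ProEtS.eps X).obj i).left := Q.compact
  have hX2 : ∀ i, QuasiSeparatedSpace ↥((Q.D ⋙ ProEtS.eps X).obj i).left := Q.qs
  have hX3 : ∀ (i j : Q.I) (a : i ⟶ j), IsAffineHom ((Q.D ⋙ ProEtS.eps X).map a).left := Q.affine
  obtain ⟨i, τi, hτi⟩ := exists_res_eq F (D := Q.D ⋙ ProEtS.eps X) Q.isLimit τ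
  obtain ⟨σ₀, rfl⟩ := (proEtGSite X).etaSect_surjective F (Q.D.obj i) τi
  let si : EtSh.Pt η.hom (P.D.obj i) := p ≫ (Scheme.ProEt.forget Y).map (P.c.π.app i)
  refine ⟨EtSh.germ η.hom ((EtCoh.push f).obj F) si σ₀, fun ξ hξ => ?_⟩
  refine (EtSh.pushMapAt_germ f hξ F si σ₀).trans ?_
  let v := ptLift f (X := Y) (W := (Scheme.ProEt.forget Y).obj P.c.pt) (η := η) p ξ hξ
  let v' : (proEtGSite X).Pts ⟨η.k, ξ⟩ Q.c.pt := v
  refine Eq.trans ?_ ((congrArg ((proEtGSite X).val F ⟨η.k, ξ⟩ v') hτi).trans (hτ ⟨η.k, ξ⟩ v'))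
  refine Eq.trans ?_ ((proEtGSite X).val_rep F (Q.c.π.app i) σ₀ ⟨η.k, ξ⟩ v').symm
  refine congrArg (fun q : EtSh.Pt ξ ((EtCoh.bc f).obj (P.D.obj i)) => EtSh.germ ξ F q σ₀) ?_
  let vl : Spec (CommRingCat.of η.k) ⟶ pullback P.c.pt.hom f := v.left
  apply Over.OverMorphism.ext
  refine pullback.hom_ext ?_ ?_
  · refine (pullback.lift_fst _ _ _).trans ?_
    show p.left ≫ (P.c.π.app i).left =
      (vl ≫ ((bcPCone f P).π.app i).left ≫ 𝟙 _) ≫ pullback.fst (P.D.obj i).hom f
    erw [Category.comp_id, Category.assoc, bcPCone_left, ← Category.assoc]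
    exact (congrArg (· ≫ (P.c.π.app i).left) (ptLift_fst f (X := Y) p ξ hξ)).symm
  · refine (pullback.lift_snd _ _ _).trans ?_
    show ξ = (vl ≫ ((bcPCone f P).π.app i).left ≫ 𝟙 _) ≫ pullback.snd (P.D.obj i).hom f
    erw [Category.comp_id, Category.assoc, bcPCone_right]
    exact (pullback.lift_snd _ _ _).symm

/-- Every section over the geometric fibre comes from the stalk of the direct image. -/
theorem exists_stalk_rep [IsProper f] [ProEtS.EpsCont X] (η : GPt Y)
    (c : ((EtFppf.aPull X).obj F).obj.obj (op ((Over.pullback f).obj (Over.mk η.hom)))) :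
    ∃ a : ((EtCoh.stalk η.hom).obj ((EtCoh.push f).obj F) : AddCommGrpCat.{u + 1}),
      ∀ (ξ : Spec (CommRingCat.of η.k) ⟶ X) (hξ : ξ ≫ f = η.hom), EtSh.pushMapAt f hξ F a =
        (fppfGSite X).val F ⟨η.k, ξ⟩ (ptLift f (X := Y) (W := Over.mk η.hom) (η := η) (𝟙 _) ξ hξ) c := by
  obtain ⟨_, ⟨U', hU, rfl⟩, hyU, -⟩ := Y.isBasis_affineOpens.exists_subset_of_mem_open
    (Set.mem_univ (η.hom default)) isOpen_univ
  let U : Y.Opens := U'
  have : IsAffine U.toScheme := hU
  let R : Type u := Γ(U.toScheme, ⊤)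
  let s : Spec (CommRingCat.of R) ⟶ Y := U.toScheme.isoSpec.inv ≫ U.ι
  have : Etale s := inferInstanceAs (Etale (U.toScheme.isoSpec.inv ≫ U.ι))
  let l : Spec (CommRingCat.of η.k) ⟶ U.toScheme := IsOpenImmersion.lift U.ι η.hom (by
    rintro _ ⟨b, rfl⟩
    rw [Scheme.Opens.range_ι, Subsingleton.elim b default]
    exact hyU)
  have hl : l ≫ U.ι = η.hom := IsOpenImmersion.lift_fac _ _ _
  obtain ⟨χ, hχ⟩ := Spec.map_surjective (l ≫ U.toScheme.isoSpec.hom)
  have hχs : Spec.map χ ≫ s = η.hom := by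
    rw [hχ]
    show (l ≫ U.toScheme.isoSpec.hom) ≫ U.toScheme.isoSpec.inv ≫ U.ι = η.hom
    rw [Category.assoc, Iso.hom_inv_id_assoc, hl]
  letI : Algebra R η.k := χ.hom.toAlgebra
  let A := Henz21.H R η.k
  let P := ProLim.hensPres s η.k
  let pr : A →+* η.k := (Henz21.H.proj R η.k).toRingHom
  let σK : IsLocalRing.ResidueField A →+* η.k :=
    Ideal.Quotient.lift _ pr fun a ha => by rw [Henz21.H.maximalIdeal_eq] at ha; exact ha
  have : IsSepClosed (IsLocalRing.ResidueField A) := ProLim.isSepClosed_residueField_H R η.k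
  let WA : Over Y := (Scheme.ProEt.forget Y).obj P.c.pt
  let Wκ : Over Y := Over.mk (Spec.map (CommRingCat.ofHom (IsLocalRing.residue A)) ≫ WA.hom)
  let κ₁ : Wκ ⟶ WA := Over.homMk (Spec.map (CommRingCat.ofHom (IsLocalRing.residue A))) rfl
  let κ₂ : Over.mk η.hom ⟶ Wκ := Over.homMk (Spec.map (CommRingCat.ofHom σK)) (by
    show Spec.map (CommRingCat.ofHom σK) ≫ Spec.map (CommRingCat.ofHom (IsLocalRing.residue A)) ≫
      Spec.map (CommRingCat.ofHom (algebraMap R A)) ≫ s = η.hom
    rw [← hχs, ← Category.assoc, ← Category.assoc, ← Spec.map_comp, ← Spec.map_comp]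
    refine congrArg (fun q => Spec.map q ≫ s) (CommRingCat.hom_ext (RingHom.ext fun x => ?_))
    exact (Henz21.H.proj R η.k).commutes x)
  have h1 : Function.Bijective (((EtFppf.aPull X).obj F).obj.map ((Over.pullback f).map κ₁).op) := by
    refine bijective_res_of_isPullback F _ (isPullback_pullback_map f κ₁) fun H => ?_
    have : IsProper (pullback.fst WA.hom f) := MorphismProperty.pullback_fst _ _ inferInstance
    exact @S0167.result A _ _ (pullback WA.hom f) (pullback.fst WA.hom f) this inferInstance H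
  have h2 : Function.Bijective (((EtFppf.aPull X).obj F).obj.map ((Over.pullback f).map κ₂).op) :=
    bijective_res_of_isPullback F _ (isPullback_pullback_map f κ₂) fun H =>
      PBC20.bijective_unit_fieldExt σK (pullback.fst Wκ.hom f) H
  obtain ⟨c₁, rfl⟩ := h2.2 c
  obtain ⟨c₂, rfl⟩ := h1.2 c₁
  obtain ⟨a, ha⟩ := exists_rep_bcPres f F η P (κ₂ ≫ κ₁) c₂
  refine ⟨a, fun ξ hξ => (ha ξ hξ).trans ?_⟩
  let v0 := ptLift f (X := Y) (W := Over.mk η.hom) (η := η) (𝟙 _) ξ hξ
  refine Eq.trans ?_ (((fppfGSite X).val_map F ((Over.pullback f).map κ₂) ⟨η.k, ξ⟩ v0 _).trans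
    ((fppfGSite X).val_map F ((Over.pullback f).map κ₁) ⟨η.k, ξ⟩ _ c₂)).symm
  refine congrArg (fun w => (fppfGSite X).val F ⟨η.k, ξ⟩ w c₂) ?_
  refine Eq.trans ?_ ((congrArg (· ≫ (fppfGSite X).U.map ((Over.pullback f).map κ₁))
    (ptLift_map f κ₂ (𝟙 _) ξ hξ)).trans (ptLift_map f κ₁ _ ξ hξ)).symm
  refine congrArg (fun w => ptLift f (X := Y) (η := η) w ξ hξ) ?_
  exact ((Category.assoc _ _ _).trans (Category.id_comp _)).symm

end Groth.Agent.Mod48
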