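import Groth.Agent.SiteMod.PullModelIso
import Groth.Agent.SiteMod.Injective

/-!
Inverse image of a short exact sequence of modules with flat cokernel.
-/

universe u

open CategoryTheory CategoryTheory.Limits Opposite

namespace Groth.Agent.Mod48

open SiteMod

variable {C D : Type u} [SmallCategory C] [SmallCategory D] {J : GrothendieckTopology C}
  {K : GrothendieckTopology D} {O_C : Sheaf J CommRingCat.{u}} {O_D : Sheaf K CommRingCat.{u}}
  (f : ModSite.RMor O_C O_D)

section Kill

variable {P Q R : PreM O_D} (ι : P ⟶ Q) (π : Q ⟶ R)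

/-- A combination whose image is a combination of relations is one after refinement, if the cokernel is flat. -/
lemma rels_of_map_mem (hinj : ∀ (X : D), Function.Injective (ι.app (op X)))
    (hex : ∀ (X : D) (q : Q.obj (op X)), π.app (op X) q = 0 → ∃ p, ι.app (op X) p = q)
    (hπι : ∀ (X : D) (p : P.obj (op X)), π.app (op X) (ι.app (op X) p) = 0)
    (hlift : ∀ (X : D) (r : R.obj (op X)), ∃ S ∈ K X, ∀ ⦃Y : D⦄ (d : Y ⟶ X), S d →
      ∃ q : Q.obj (op Y), π.app (op Y) q = Mod48.res R d.op r)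
    (hR : LocFlat R) {Z : D} {V : C} (g : V ⟶ f.fn.obj Z) (ζ : Comb (O_C := O_C) P Z V)
    (hζ : Finsupp.mapDomain (fun p => ι.app (op Z) p) ζ ∈ rels f Q g) :
    ∃ S ∈ J V, ∀ ⦃W : C⦄ (w : W ⟶ V), S w →
      ∃ (Y : D) (d : Y ⟶ Z) (a : W ⟶ f.fn.obj Y),
        w ≫ g = a ≫ f.fn.map d ∧ combRes P w d ζ ∈ rels f P a := by
  classical
  obtain ⟨N, r, κ', hκ'⟩ := Submodule.mem_span_set'.1 hζ
  have hrel : ∀ s, ∃ κ : Q.obj (op Z) →₀ O_D.obj.obj (op Z),
      Finsupp.linearCombination (O_D.obj.obj (op Z)) id κ = 0 ∧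
        Finsupp.mapRange (sig f g) (map_zero _) κ = (κ' s).1 := fun s => (κ' s).2
  choose κ hκ0 hκ using hrel
  let p : Q.obj (op Z) → R.obj (op Z) := fun q => π.app (op Z) q
  let T : Finset (Q.obj (op Z)) := Finset.univ.biUnion fun s => (κ s).support
  let Q' : Finset (R.obj (op Z)) := insert 0 (T.image p)
  let L : List (R.obj (op Z) → O_D.obj.obj (op Z)) :=
    (fun h => if h = 0 then 1 else 0) :: List.ofFn (fun s h => Finsupp.mapDomain p (κ s) h)
  have hsupp : ∀ s, (Finsupp.mapDomain p (κ s)).support ⊆ Q' := fun s h hh =>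
    Finset.mem_insert_of_mem (Finset.image_subset_image
      (Finset.subset_biUnion_of_mem (fun s => (κ s).support) (Finset.mem_univ s)) (Finsupp.mapDomain_support hh))
  have hL : ∀ φ ∈ L, ∑ h ∈ Q', φ h • h = 0 := by
    intro φ hφ
    rcases List.mem_cons.1 hφ with rfl | hφ
    · refine Finset.sum_eq_zero fun h _ => ?_
      by_cases hh : h = 0
      · rw [hh, smul_zero]
      · simp only [if_neg hh, zero_smul]
    · obtain ⟨s, rfl⟩ := List.mem_ofFn.1 hφ
      have e : Finsupp.linearCombination (O_D.obj.obj (op Z)) id (Finsupp.mapDomain p (κ s)) = 0 := by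
        rw [Finsupp.linearCombination_mapDomain, Finsupp.linearCombination_apply]
        refine Eq.trans ?_ (map_zero (π.app (op Z)).hom)
        rw [← hκ0 s, Finsupp.linearCombination_apply, map_finsuppSum]
        exact Finsupp.sum_congr fun q _ => ((π.app (op Z)).hom.map_smul _ _).symm
      rw [Finsupp.linearCombination_apply, Finsupp.sum_of_support_subset _ (hsupp s) _
        (fun q _ => zero_smul _ q)] at e
      exact e
  obtain ⟨S₁, hS₁, h₁⟩ := kill hR Q' L hL
  choose m A t hA hκA using h₁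
  choose T' hT' hlift' using fun (Y : D) (d : Y ⟶ Z) (hd : S₁ d) (l : Fin (m d hd)) => hlift Y (t d hd l)
  let S₂ : ∀ ⦃Y : D⦄ (d : Y ⟶ Z), S₁ d → Sieve Y := fun Y d hd => Finset.univ.inf (T' Y d hd)
  have hS₂ : ∀ ⦃Y : D⦄ (d : Y ⟶ Z) (hd : S₁ d), S₂ d hd ∈ K Y := fun Y d hd => by
    refine Finset.inf_induction (K.top_mem Y) (fun a ha b hb => K.intersection_covering ha hb) fun l _ => ?_
    exact hT' Y d hd l
  refine ⟨((Sieve.bind S₁.1 fun Y d hd => S₂ d hd).functorPushforward f.fn).pullback g,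
    J.pullback_stable g (functorPushforward_mem_of_isContinuous J K f.fn
      (K.bind_covering hS₁ fun Y d hd => hS₂ d hd)), fun W w hw => ?_⟩
  obtain ⟨Y', d', a, hd', e⟩ := hw
  obtain ⟨Y, e', d, hd, he', rfl⟩ := hd'
  refine ⟨Y', e' ≫ d, a, e, ?_⟩
  have hle : ∀ l, (T' Y d hd l) e' := fun l => by
    have := (Finset.inf_le (f := T' Y d hd) (Finset.mem_univ l))
    exact this _ he'
  choose τ hτ using fun l => hlift' Y d hd l e' (hle l)
  let ex : Q.obj (op Z) → Q.obj (op Y') := fun q =>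
    Mod48.res Q (e' ≫ d).op q - ∑ l, rres e'.op (A d hd (p q) l) • τ l
  let g' : Q.obj (op Z) → P.obj (op Y') := fun q =>
    if h : ∃ x, ι.app (op Y') x = ex q then h.choose else 0
  have hg' : ∀ q, p q ∈ Q' → ι.app (op Y') (g' q) = ex q := by
    intro q hq
    have h : ∃ x, ι.app (op Y') x = ex q := by
      refine hex Y' _ ?_
      change π.app (op Y') (Mod48.res Q (e' ≫ d).op q - ∑ l, rres e'.op (A d hd (p q) l) • τ l) = 0
      rw [map_sub, map_sum, app_res, sub_eq_zero, op_comp, ← res_res]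
      refine (congrArg (Mod48.res R e'.op) (hA d hd (p q) hq)).trans ?_
      refine (map_sum (R.map e'.op).hom _ _).trans (Finset.sum_congr rfl fun l _ => ?_)
      refine (Mod48.res_smul R e'.op _ _).trans ?_
      rw [map_smul, hτ]
    simp only [g', dif_pos h]
    exact h.choose_spec
  have hA0 : ∀ l, A d hd 0 l = 0 := by
    intro l
    have h0 := hκA d hd _ (List.mem_cons_self ..) l
    rw [Finset.sum_eq_single (0 : R.obj (op Z))] at h0
    · simpa using h0
    · intro h _ hh
      simp [if_neg hh]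
    · exact fun h => absurd (Finset.mem_insert_self _ _) h
  have hgι : ∀ x : P.obj (op Z), g' (ι.app (op Z) x) = Mod48.res P (e' ≫ d).op x := by
    intro x
    refine hinj Y' ((hg' _ ?_).trans ?_)
    · rw [show p (ι.app (op Z) x) = 0 from hπι Z x]
      exact Finset.mem_insert_self _ _
    · change Mod48.res Q (e' ≫ d).op (ι.app (op Z) x) - _ = ι.app (op Y') (Mod48.res P (e' ≫ d).op x)
      rw [app_res, sub_eq_self]
      refine Finset.sum_eq_zero fun l _ => ?_
      rw [show p (ι.app (op Z) x) = 0 from hπι Z x, hA0 l, map_zero, zero_smul]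
  let Φ : Comb (O_C := O_C) Q Z V →+ Comb (O_C := O_C) P Y' W :=
    (Finsupp.mapDomain.addMonoidHom g').comp (Finsupp.mapRange.addMonoidHom (rres (O := O_C) w.op).toAddMonoidHom)
  have hΦ : ∀ (z : O_C.obj.obj (op V)) (x : Comb (O_C := O_C) Q Z V), Φ (z • x) = rres w.op z • Φ x := by
    intro z x
    induction x using Finsupp.induction_linear with
    | zero => simp
    | add a b ha hb => rw [smul_add, map_add, map_add, ha, hb, smul_add]
    | single q b => simp [Φ, smul_eq_mul]
  have hΦι : ∀ θ : Comb (O_C := O_C) P Z V,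
      combRes P w (e' ≫ d) θ = Φ (Finsupp.mapDomain (fun x => ι.app (op Z) x) θ) := by
    intro θ
    induction θ using Finsupp.induction_linear with
    | zero => simp
    | add a b ha hb => rw [map_add, Finsupp.mapDomain_add, map_add, ha, hb]
    | single q b =>
      rw [combRes_single, Finsupp.mapDomain_single]
      simp [Φ, hgι]
  rw [hΦι, ← hκ', map_sum]
  refine Submodule.sum_mem _ fun s _ => ?_
  rw [hΦ, ← hκ s]
  refine Submodule.smul_mem _ _ ?_
  let ν : P.obj (op Y') →₀ O_D.obj.obj (op Y') :=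
    Finsupp.mapDomain g' (Finsupp.mapRange (rres (e' ≫ d).op) (map_zero _) (κ s))
  have hν : Φ (Finsupp.mapRange (sig f g) (map_zero _) (κ s)) = Finsupp.mapRange (sig f a) (map_zero _) ν := by
    simp only [ν]
    induction κ s using Finsupp.induction_linear with
    | zero => simp
    | add x y hx hy =>
      rw [Finsupp.mapRange_add (map_add _), map_add, hx, hy, Finsupp.mapRange_add (map_add _),
        Finsupp.mapDomain_add, Finsupp.mapRange_add (map_add _)]
    | single q z => simp [Φ, rres_sig f e]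
  rw [hν]
  refine mem_rels_of_relation f P a ν (hinj Y' ?_)
  rw [map_zero, Finsupp.linearCombination_mapDomain, Finsupp.linearCombination_apply,
    Finsupp.sum_mapRange_index (h := fun q z => z • (id ∘ g') q) (fun q => zero_smul _ _), map_finsuppSum]
  have hq : ∀ q ∈ (κ s).support, p q ∈ Q' := fun q hq => Finset.mem_insert_of_mem
    (Finset.mem_image_of_mem _ (Finset.mem_biUnion.2 ⟨s, Finset.mem_univ _, hq⟩))
  have h2 : ((κ s).sum fun q z => ι.app (op Y') (rres (e' ≫ d).op z • (id ∘ g') q)) =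
      (κ s).sum (fun q z => Mod48.res Q (e' ≫ d).op (z • q) -
        ∑ l, rres e'.op (rres d.op z * A d hd (p q) l) • τ l) := by
    refine Finsupp.sum_congr fun q hqs => ?_
    rw [map_smul, Function.comp_apply, id_eq, hg' q (hq q hqs), Mod48.res_smul]
    change rres (e' ≫ d).op (κ s q) • (Mod48.res Q (e' ≫ d).op q - _) = _
    rw [smul_sub, Finset.smul_sum]
    refine congrArg₂ (· - ·) rfl (Finset.sum_congr rfl fun l _ => ?_)
    rw [smul_smul, map_mul, rres_rres, ← op_comp]
  refine h2.trans ?_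
  rw [Finsupp.sum_sub, sub_eq_zero]
  have h0 : ((κ s).sum fun q z => Mod48.res Q (e' ≫ d).op (z • q)) = 0 := by
    refine ((map_finsuppSum (Q.map (e' ≫ d).op).hom (κ s) fun q z => z • q).symm).trans ?_
    refine (congrArg (Mod48.res Q (e' ≫ d).op) ?_).trans (SiteMod.res_zero Q _)
    simpa [Finsupp.linearCombination_apply] using hκ0 s
  rw [h0, Finsupp.sum, Finset.sum_comm]
  refine (Finset.sum_eq_zero fun l _ => ?_).symm
  rw [← Finset.sum_smul, ← map_sum]
  have hl := hκA d hd _ (List.mem_cons_of_mem _ (List.mem_ofFn.2 ⟨s, rfl⟩)) l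
  have h3 : (Finsupp.mapDomain p (κ s)).sum (fun h z => rres d.op z * A d hd h l) = 0 := by
    rw [Finsupp.sum_of_support_subset _ (hsupp s) _ (by simp)]
    exact hl
  rw [Finsupp.sum_mapDomain_index (by simp) (by simp [add_mul])] at h3
  exact (congrArg (fun x => rres e'.op x • τ l) h3).trans (by simp)

end Kill

section Map

variable {P Q : PreM O_D} (ι : P ⟶ Q)

/-- A trip pushed along a map. -/
abbrev tripMap {V : C} (t : Trip f P V) : Trip f Q V := ⟨t.X, t.g, ι.app (op t.X) t.m⟩

/-- Formal sums pushed along a map. -/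
noncomputable abbrev sumsMap {V : C} : Sums f P V →+ Sums f Q V :=
  Finsupp.mapDomain.addMonoidHom (tripMap f ι)

lemma sumsMap_sumsRes {V V' : C} (v : V' ⟶ V) (ξ : Sums f P V) :
    sumsMap f ι (sumsRes f P v ξ) = sumsRes f Q v (sumsMap f ι ξ) := by
  induction ξ using Finsupp.induction_linear with
  | zero => simp
  | add a b ha hb => rw [map_add, map_add, map_add, ha, hb, map_add]
  | single t b => simp [sumsRes_single]; rfl

/-- Classes in a chart. -/
noncomputable def chartCls {X : D} {V : C} (a : V ⟶ f.fn.obj X) :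
    Comb (O_C := O_C) P X V →ₗ[O_C.obj.obj (op V)] (pullModel f P).obj (op V) :=
  Finsupp.linearCombination _ (sect₁ f P a)

lemma chartCls_rels {X : D} {V : C} (a : V ⟶ f.fn.obj X) {x : Comb (O_C := O_C) P X V}
    (hx : x ∈ rels f P a) : chartCls f a x = 0 := by
  induction hx using Submodule.span_induction with
  | zero => exact map_zero _
  | add a b _ _ ha hb => rw [map_add, ha, hb, add_zero]
  | smul r a _ ha => rw [map_smul, ha, smul_zero]
  | mem x hx =>
    obtain ⟨κ, hκ, rfl⟩ := hx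
    let φ : P.obj (op X) →+ (pullModel f P).obj (op V) :=
      AddMonoidHom.mk' (sect₁ f P a) (sect₁_add f P a)
    rw [chartCls, Finsupp.linearCombination_apply,
      Finsupp.sum_mapRange_index (h := fun q z => z • sect₁ f P a q) (fun q => zero_smul _ _)]
    refine ((Finsupp.sum_congr fun q _ => (sect₁_smul f P a (κ q) q).symm).trans
      ((map_finsuppSum φ κ fun q z => z • q).symm)).trans ?_
    refine (congrArg φ ?_).trans (map_zero φ)
    simpa [Finsupp.linearCombination_apply] using hκ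

variable {R : PreM O_D} (π : Q ⟶ R)

/-- The model of the inverse image preserves monomorphisms with flat cokernel. -/
lemma van_of_van_map (hinj : ∀ (X : D), Function.Injective (ι.app (op X)))
    (hex : ∀ (X : D) (q : Q.obj (op X)), π.app (op X) q = 0 → ∃ p, ι.app (op X) p = q)
    (hπι : ∀ (X : D) (p : P.obj (op X)), π.app (op X) (ι.app (op X) p) = 0)
    (hlift : ∀ (X : D) (r : R.obj (op X)), ∃ S ∈ K X, ∀ ⦃Y : D⦄ (d : Y ⟶ X), S d →
      ∃ q : Q.obj (op Y), π.app (op Y) q = Mod48.res R d.op r)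
    (hR : LocFlat R) {U : C} (ξ : Sums f P U) (h : Van f Q (sumsMap f ι ξ)) : Van f P ξ := by
  classical
  obtain ⟨S, hS, hgood⟩ := h
  refine van_of_local hS fun V v hv => ?_
  obtain ⟨X₀, g₀, n₀, t, b, h, ht, hsum, hmem⟩ := hgood v hv
  rw [← sumsMap_sumsRes] at hsum
  generalize sumsRes f P v ξ = η at hsum ⊢
  let I : Finset (Trip f Q V) := η.support.image (tripMap f ι) ∪ Finset.univ.image t
  let eI := I.equivFin
  obtain ⟨S₁, hS₁, h₁⟩ := exists_common J K f.fn (W := V)
    (Fin.cons X₀ fun j : Fin I.card => (eI.symm j).1.X)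
    (Fin.cases g₀ fun j : Fin I.card => (eI.symm j).1.g)
  refine van_of_local hS₁ fun V₁ v₁ hv₁ => ?_
  obtain ⟨Z, g₁, p, hp⟩ := h₁ v₁ hv₁
  obtain ⟨p₀, hp₀⟩ : ∃ p₀ : Z ⟶ X₀, v₁ ≫ g₀ = g₁ ≫ f.fn.map p₀ := ⟨p 0, hp 0⟩
  have hq : ∀ x : I, ∃ k : Z ⟶ x.1.X, v₁ ≫ x.1.g = g₁ ≫ f.fn.map k := fun x => by
    obtain ⟨j, rfl⟩ := eI.symm.surjective x
    exact ⟨p j.succ, hp j.succ⟩
  choose q hq using hq
  have htI : ∀ j, t j ∈ I := fun j =>
    Finset.mem_union_right _ (Finset.mem_image_of_mem _ (Finset.mem_univ j))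
  obtain ⟨S₂, hS₂, h₂⟩ := exists_equalize J K f.fn g₁ (fun j => (t j).X)
    (fun j => q ⟨t j, htI j⟩) (fun j => p₀ ≫ h j) (fun j => by
      rw [← hq ⟨t j, htI j⟩, f.fn.map_comp, ← Category.assoc g₁, ← hp₀, Category.assoc]
      exact congrArg (v₁ ≫ ·) (ht j))
  refine van_of_local hS₂ fun V₂ v₂ hv₂ => ?_
  obtain ⟨Z', g₂, k, hk, hk'⟩ := h₂ v₂ hv₂
  let τ : Trip f Q V → Q.obj (op Z') := fun x =>
    if hx : x ∈ I then Mod48.res Q (k ≫ q ⟨x, hx⟩).op x.m else 0
  let τP : Trip f P V → P.obj (op Z') := fun x =>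
    if hx : tripMap f ι x ∈ I then Mod48.res P (k ≫ q ⟨tripMap f ι x, hx⟩).op x.m else 0
  have hτP : ∀ x, ι.app (op Z') (τP x) = τ (tripMap f ι x) := by
    intro x
    by_cases hx : tripMap f ι x ∈ I
    · simp only [τ, τP, dif_pos hx]
      exact app_res ι _ _
    · simp only [τ, τP, dif_neg hx, map_zero]
  let Λ : Sums f P V →+ Comb (O_C := O_C) P Z' V₂ :=
    (Finsupp.mapDomain.addMonoidHom τP).comp
      (Finsupp.mapRange.addMonoidHom (rres (O := O_C) (v₂ ≫ v₁).op).toAddMonoidHom)
  let Λ' : Sums f Q V →+ Comb (O_C := O_C) Q Z' V₂ :=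
    (Finsupp.mapDomain.addMonoidHom τ).comp
      (Finsupp.mapRange.addMonoidHom (rres (O := O_C) (v₂ ≫ v₁).op).toAddMonoidHom)
  have hΛ : ∀ θ, Finsupp.mapDomain (fun x => ι.app (op Z') x) (Λ θ) = Λ' (sumsMap f ι θ) := by
    intro θ
    induction θ using Finsupp.induction_linear with
    | zero => simp
    | add a b ha hb => rw [map_add, map_add, map_add, Finsupp.mapDomain_add, ha, hb]
    | single x c => simp [Λ, Λ', hτP]
  have hg : (v₂ ≫ v₁) ≫ g₀ = g₂ ≫ f.fn.map (k ≫ p₀) := by
    rw [Category.assoc, hp₀, ← Category.assoc, hk, Category.assoc, f.fn.map_comp]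
  have hζ : Finsupp.mapDomain (fun x => ι.app (op Z') x) (Λ η) ∈ rels f Q g₂ := by
    have h3 := combRes_mem f Q hg hmem
    rw [map_sum] at h3
    rw [hΛ, hsum, map_sum]
    convert h3 using 2 with j
    simp only [Λ', AddMonoidHom.comp_apply, Finsupp.mapRange.addMonoidHom_apply,
      Finsupp.mapDomain.addMonoidHom_apply, combRes_single, Finsupp.mapRange_single,
      Finsupp.mapDomain_single, τ, dif_pos (htI j)]
    rw [res_res, ← op_comp, hk' j, Category.assoc]
    rfl
  obtain ⟨S₃, hS₃, h₃⟩ := rels_of_map_mem f ι π hinj hex hπι hlift hR g₂ _ hζ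
  refine van_of_local hS₃ fun W w hw => ?_
  obtain ⟨Y, d, a, e, hrels⟩ := h₃ w hw
  rw [sumsRes_sumsRes, sumsRes_sumsRes, ← cls_eq_zero]
  refine Eq.trans ?_ (chartCls_rels f a hrels)
  have key : ∀ θ : Sums f P V, θ.support ⊆ η.support →
      cls f P (sumsRes f P ((w ≫ v₂) ≫ v₁) θ) = chartCls f a (combRes P w d (Λ θ)) := by
    intro θ
    induction θ using Finsupp.induction with
    | zero => simp
    | single_add x c θ hx hc ih =>
      intro hsub
      rw [Finsupp.support_single_add hx hc] at hsub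
      have hxI : tripMap f ι x ∈ I :=
        Finset.mem_union_left _ (Finset.mem_image_of_mem _ (hsub (Finset.mem_cons_self _ _)))
      simp only [map_add, ih fun y hy => hsub (Finset.mem_cons_of_mem hy)]
      refine congrArg (· + _) ?_
      rw [sumsRes_single, cls_single]
      simp only [Λ, AddMonoidHom.comp_apply, Finsupp.mapRange.addMonoidHom_apply,
        Finsupp.mapDomain.addMonoidHom_apply, Finsupp.mapRange_single, Finsupp.mapDomain_single,
        combRes_single, chartCls, Finsupp.linearCombination_single, τP, dif_pos hxI]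
      rw [res_res, ← op_comp]
      refine congrArg₂ (· • ·) ?_ ?_
      · rw [RingHom.toAddMonoidHom_eq_coe, AddMonoidHom.coe_coe, rres_rres, ← op_comp, Category.assoc]
      · refine Eq.trans ?_ (sect₁_res f P a _ _).symm
        refine congrArg (fun z => sect₁ f P z x.m) ?_
        change ((w ≫ v₂) ≫ v₁) ≫ x.g = _
        have h4 : v₁ ≫ x.g = g₁ ≫ f.fn.map (q ⟨tripMap f ι x, hxI⟩) := hq ⟨tripMap f ι x, hxI⟩
        rw [Category.assoc, h4, Category.assoc, ← Category.assoc v₂, hk, ← Category.assoc, ← Category.assoc,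
          e, Category.assoc, Category.assoc, ← f.fn.map_comp, ← f.fn.map_comp]
  exact key η subset_rfl

end Map

end Groth.Agent.Mod48
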