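import Groth.Agent.Mod48.PushShift
import Groth.Agent.Mod48.TruncTower
import Groth.Agent.Mod48.DerivedProd
import Groth.Agent.Mod48.CohInPlus
import Groth.Agent.Mod48.RlimConst

/-!
Derived right adjoints and truncations under bounded cohomological dimension.
-/

universe w w' v' u u' v₀ u₀ v₁ u₁ t

open CategoryTheory CategoryTheory.Limits CategoryTheory.Pretriangulated DerivedCategory

namespace Groth.Agent.Mod48

namespace LocGen

variable {A : Type (u + 1)} [Category.{u} A] [Abelian A] [HasDerivedCategory.{w} A]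
  {B : Type u'} [Category.{v'} B] [Abelian B] [HasDerivedCategory.{w'} B]
  {R : A ⥤ B} [R.Additive] (RF : DerivedCategory A ⥤ DerivedCategory B)
  (α : R.mapHomotopyCategory (ComplexShape.up ℤ) ⋙ Qh ⟶ Qh ⋙ RF)
  (hα : ∀ I : CochainComplex A ℤ, I.IsKInjective →
      IsIso (α.app ((HomotopyCategory.quotient A (ComplexShape.up ℤ)).obj I)))
  {L : B ⥤ A} [L.PreservesZeroMorphisms] (adj : L ⊣ R)
  {D : Type u₁} [Category.{v₁} D] {K : GrothendieckTopology D} (G : LocGen K B)

lemma VanishAbove.vanishAt {X : A} {P : ObjectProperty A} {d : ℕ} (h : VanishAbove X P d) {F : A} (hF : P F) {k : ℤ}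
    (hk : (d : ℤ) < k) : VanishAt X F k :=
  fun m q hmq f => h F hF m q (by omega) f

/-- The fibre of the transition maps of the truncation tower. -/
lemma exists_truncTower_triangle (E : DerivedCategory A) (n : ℕ) (q : ℤ) (hq : q + 1 = -(n : ℤ)) :
    ∃ (i : (singleFunctor A q).obj ((homologyFunctor A q).obj E) ⟶ CohCx.truncTower E (n + 1))
      (δ : CohCx.truncTower E n ⟶ ((singleFunctor A q).obj ((homologyFunctor A q).obj E))⟦(1 : ℤ)⟧),
      Triangle.mk i (CohCx.truncTowerMap E n) δ ∈ distinguishedTriangles := by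
  let t : Triangulated.TStructure (DerivedCategory A) := TStructure.t
  let Z := CohCx.truncTower E (n + 1)
  have hZge : t.IsGE Z q := TStructure.t.isGE_of_ge Z q (-((n + 1 : ℕ) : ℤ)) (by omega)
  let W := (t.truncLT (-(n : ℤ))).obj Z
  have hW₁ : t.IsLE W q := t.isLE_truncLT_obj Z (-(n : ℤ)) q (by omega)
  have hW₂ : t.IsGE W q := inferInstance
  have := isIso_homology_truncLTι Z (-(n : ℤ)) q (by omega)
  have := isIso_homology_truncGEπ E (-((n + 1 : ℕ) : ℤ)) q (by omega)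
  let eW : (homologyFunctor A q).obj W ≅ (homologyFunctor A q).obj E :=
    asIso ((homologyFunctor A q).map ((t.truncLTι (-(n : ℤ))).app Z)) ≪≫
      (asIso ((homologyFunctor A q).map ((t.truncGEπ (-((n + 1 : ℕ) : ℤ))).app E))).symm
  obtain ⟨M, ⟨eM⟩⟩ := exists_iso_singleFunctor_obj_of_isGE_of_isLE W q
  let eS : (singleFunctor A q).obj ((homologyFunctor A q).obj E) ≅ W :=
    (singleFunctor A q).mapIso (eW.symm ≪≫ (homologyFunctor A q).mapIso eM ≪≫
      (singleFunctorCompHomologyFunctorIso A q).app M) ≪≫ eM.symm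
  have hge : t.IsGE (CohCx.truncTower E n) (-(n : ℤ)) := inferInstance
  let e := t.descTruncGE (CohCx.truncTowerMap E n) (-(n : ℤ))
  have he : (t.truncGEπ (-(n : ℤ))).app Z ≫ e = CohCx.truncTowerMap E n := t.π_descTruncGE _ _
  have he' : IsIso e := by
    rw [DerivedCategory.isIso_iff]
    intro i
    by_cases hi : -(n : ℤ) ≤ i
    · have := isIso_homology_truncGEπ Z (-(n : ℤ)) i hi
      have := isIso_homology_truncGEπ E (-((n + 1 : ℕ) : ℤ)) i (by omega)
      have := isIso_homology_truncGEπ E (-(n : ℤ)) i hi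
      have h : IsIso ((homologyFunctor A i).map (CohCx.truncTowerMap E n)) :=
        IsIso.of_isIso_fac_left (f := (homologyFunctor A i).map (CohCx.toTruncTower E (n + 1)))
          (h := (homologyFunctor A i).map (CohCx.toTruncTower E n))
          (by rw [← Functor.map_comp]; exact congrArg _ (TStructure.t.π_natTransTruncGEOfLE_app _ _ _ E))
      exact IsIso.of_isIso_fac_left (f := (homologyFunctor A i).map ((t.truncGEπ (-(n : ℤ))).app Z))
        (h := (homologyFunctor A i).map (CohCx.truncTowerMap E n)) (by rw [← Functor.map_comp, he])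
    · exact ⟨⟨0, (DerivedCategory.isZero_of_isGE _ (-(n : ℤ)) i (by omega)).eq_of_src _ _,
        (DerivedCategory.isZero_of_isGE _ (-(n : ℤ)) i (by omega)).eq_of_src _ _⟩⟩
  let e₃ : (t.truncGE (-(n : ℤ))).obj Z ≅ CohCx.truncTower E n := @asIso _ _ _ _ e he'
  refine ⟨eS.hom ≫ (t.truncLTι (-(n : ℤ))).app Z, e₃.inv ≫ (t.truncGEδLT (-(n : ℤ))).app Z ≫ eS.inv⟦(1 : ℤ)⟧', ?_⟩
  refine isomorphic_distinguished _ (t.triangleLTGE_distinguished (-(n : ℤ)) Z) _
    (Triangle.isoMk _ _ eS (Iso.refl _) e₃.symm ?_ ?_ ?_)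
  · exact Category.comp_id _
  · change CohCx.truncTowerMap E n ≫ e₃.inv = 𝟙 _ ≫ (t.truncGEπ (-(n : ℤ))).app Z
    rw [Category.id_comp, Iso.comp_inv_eq]
    exact he.symm
  · change (e₃.inv ≫ (t.truncGEδLT (-(n : ℤ))).app Z ≫ eS.inv⟦(1 : ℤ)⟧') ≫ eS.hom⟦(1 : ℤ)⟧' =
      e₃.inv ≫ (t.truncGEδLT (-(n : ℤ))).app Z
    simp only [Category.assoc, ← Functor.map_comp, Iso.inv_hom_id, CategoryTheory.Functor.map_id]
    exact congrArg (_ ≫ ·) (Category.comp_id _)

variable (hA : EnoughKInj A) (P : ObjectProperty A) [WSerre.IsWeakSerre P]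
  (N : ℤ) (hN : ∀ F, P F → ∀ i : ℤ, N < i → IsZero ((homologyFunctor B i).obj (RF.obj ((singleFunctor A 0).obj F))))

include hα adj G hA hN in
lemma isIso_homology_push_truncTowerMap (X : DerivedCategory A) (hX : WSerre.cohIn P X) (n : ℕ) (j : ℤ)
    (hj : N - (n : ℤ) ≤ j) :
    IsIso ((RF ⋙ homologyFunctor B j).map (CohCx.truncTowerMap X n)) := by
  obtain ⟨i, δ, hT⟩ := exists_truncTower_triangle X n (-(n : ℤ) - 1) (by omega)
  obtain ⟨h₁, hex₁⟩ := exact_homology_push RF α hα adj G hA _ hT j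
  obtain ⟨h₂, hex₂⟩ := exact_homology_push RF α hα adj G hA _ (rot_of_distTriang _ hT) j
  have := preservesZeroMorphisms_push RF α hα hA j
  let M := (homologyFunctor A (-(n : ℤ) - 1)).obj X
  have hz₁ : IsZero ((RF ⋙ homologyFunctor B j).obj ((singleFunctor A (-(n : ℤ) - 1)).obj M)) := by
    obtain ⟨e⟩ := nonempty_homology_push_single_iso RF α hα hA M (-(n : ℤ) - 1) j (j + n + 1) (by omega)
    exact (hN M (hX _) _ (by omega)).of_iso e
  have hz₂ : IsZero ((RF ⋙ homologyFunctor B j).obj (((singleFunctor A (-(n : ℤ) - 1)).obj M)⟦(1 : ℤ)⟧)) := by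
    obtain ⟨e⟩ := nonempty_homology_push_shift_iso RF α hα hA ((singleFunctor A (-(n : ℤ) - 1)).obj M) 1 j (j + 1) (by omega)
    obtain ⟨e'⟩ := nonempty_homology_push_single_iso RF α hα hA M (-(n : ℤ) - 1) (j + 1) (j + n + 2) (by omega)
    exact (hN M (hX _) _ (by omega)).of_iso (e ≪≫ e')
  have : Mono ((RF ⋙ homologyFunctor B j).map (CohCx.truncTowerMap X n)) := hex₁.mono_g (hz₁.eq_of_src _ _)
  have : Epi ((RF ⋙ homologyFunctor B j).map (CohCx.truncTowerMap X n)) := hex₂.epi_f (hz₂.eq_of_tgt _ _)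
  exact isIso_of_mono_of_epi _

variable {C : Type u₀} [Category.{v₀} C] {J : GrothendieckTopology C} (GA : LocGen J A) [HasProductsOfShape ℕ A]
  (Bs : Set C) (Bs' : Set D)
  (hBs : ∀ U : C, ∃ (ι : Type t) (Y : ι → C) (g : ∀ i, Y i ⟶ U), Sieve.ofArrows Y g ∈ J U ∧ ∀ i, Y i ∈ Bs)
  (hvC : ∀ V ∈ Bs, ∃ d : ℕ, ∀ T ∈ J V, ∃ (ι : Type t) (Y : ι → C) (g : ∀ i, Y i ⟶ V),
    (∀ i, T.arrows (g i)) ∧ Sieve.ofArrows Y g ∈ J V ∧ ∀ i, VanishAbove (GA.P (Y i)) P d)
  (hBs' : ∀ U : D, ∃ (ι : Type t) (Y : ι → D) (g : ∀ i, Y i ⟶ U), Sieve.ofArrows Y g ∈ K U ∧ ∀ i, Y i ∈ Bs')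
  (hvD : ∀ V ∈ Bs', ∃ d : ℕ, ∀ T ∈ K V, ∃ (ι : Type t) (Y : ι → D) (g : ∀ i, Y i ⟶ V),
    (∀ i, T.arrows (g i)) ∧ Sieve.ofArrows Y g ∈ K V ∧ ∀ i, VanishAbove (L.obj (G.P (Y i))) P d)

include hα adj G hA hN hBs hvC hBs' hvD in
/-- The cohomology of the derived functor is computed by truncations. -/
theorem isIso_homology_push_truncGEπ (X : DerivedCategory A) (hX : WSerre.cohIn P X) (n : ℕ) (j : ℤ)
    (hj : N - (n : ℤ) ≤ j) :
    IsIso ((homologyFunctor B j).map (RF.map ((TStructure.t.truncGEπ (-(n : ℤ))).app X))) := by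
  have := hasProduct_of_enoughKInj hA (CohCx.truncTower X)
  have hrlim := isRlimVia_truncTower GA X Bs hBs fun V hV m => by
    obtain ⟨d, hd⟩ := hvC V hV
    refine ⟨((d : ℤ) - m).toNat + 1, fun T hT => ?_⟩
    obtain ⟨ι, Y, g, h₁, h₂, h₃⟩ := hd T hT
    exact ⟨ι, Y, g, h₁, h₂, fun i k hk q l hq hl₁ hl₂ => (h₃ i).vanishAt (hX q) (by omega)⟩
  have hpres := preservesZeroMorphisms_push RF α hα hA j
  have hfac : ∀ n', n ≤ n' → ∃ τ : CohCx.truncTower X n' ⟶ CohCx.truncTower X n,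
      CohCx.toTruncTower X n' ≫ τ = CohCx.toTruncTower X n ∧ IsIso ((RF ⋙ homologyFunctor B j).map τ) := by
    intro n' h
    induction n', h using Nat.le_induction with
    | base => exact ⟨𝟙 _, Category.comp_id _, inferInstance⟩
    | succ k hk ih =>
      obtain ⟨τ, h₁, h₂⟩ := ih
      have h₃ := isIso_homology_push_truncTowerMap RF α hα adj G hA P N hN X hX k j (by omega)
      refine ⟨CohCx.truncTowerMap X k ≫ τ, by rw [← Category.assoc, rlim_compatible hrlim, h₁], ?_⟩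
      rw [Functor.map_comp]
      infer_instance
  refine (G.pushPres adj RF α hA hα j).isIso_map (CohCx.toTruncTower X n) fun U => ?_
  obtain ⟨ι, Y, g, hcov, hmem⟩ := hBs' U
  refine ⟨ι, Y, g, hcov, fun i => ?_⟩
  obtain ⟨d, hd⟩ := hvD _ (hmem i)
  let N' := ((d : ℤ) - j).toNat + 1
  obtain ⟨τ, hτ₁, hτ₂⟩ := hfac (n + N') (Nat.le_add_right _ _)
  refine ⟨_, CohCx.toTruncTower X (n + N'), τ, hτ₁, hτ₂, fun S hS => ?_⟩
  obtain ⟨κ, W, h, h₁, h₂, h₃⟩ := hd S hS
  exact ⟨κ, W, h, h₁, h₂, fun k => rlim_truncTower_bijective X hrlim j N'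
    (fun m hm q l hq hl₁ hl₂ => (h₃ k).vanishAt (hX q) (by omega)) (n + N') (Nat.le_add_left _ _)⟩

variable (P' : ObjectProperty B) [WSerre.IsWeakSerre P']
  (hP' : ∀ F, P F → ∀ i : ℤ, P' ((homologyFunctor B i).obj (RF.obj ((singleFunctor A 0).obj F))))

include hα adj G hA hP' in
/-- The derived functor sends bounded below objects with cohomology in `P` to objects with cohomology in `P'`. -/
theorem homology_push_prop_of_cohInPlus (X : DerivedCategory A) (hX : WSerre.cohInPlus P X) (j : ℤ) :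
    P' ((homologyFunctor B j).obj (RF.obj X)) := by
  obtain ⟨hc, a, ha⟩ := hX
  have hzero : ∀ Z : B, IsZero Z → P' Z := fun Z hZ => by
    obtain ⟨Z₀, hZ₀, hP⟩ := P'.exists_prop_of_containsZero
    exact P'.prop_of_iso (hZ₀.iso hZ) hP
  let S : ObjectProperty (DerivedCategory A) := fun Z => ∀ i : ℤ, P' ((homologyFunctor B i).obj (RF.obj Z))
  have : S.IsClosedUnderIsomorphisms := ⟨fun e h i => P'.prop_of_iso ((homologyFunctor B i).mapIso (RF.mapIso e)) (h i)⟩
  have hshift : ∀ (Z : DerivedCategory A) (k : ℤ), S Z → S (Z⟦k⟧) := fun Z k h i => by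
    obtain ⟨e⟩ := nonempty_homology_push_shift_iso RF α hα hA Z k i (k + i) rfl
    exact P'.prop_of_iso e.symm (h _)
  have hz : ∀ Z : DerivedCategory A, IsZero Z → S Z := fun Z hZ i => by
    have := preservesZeroMorphisms_push RF α hα hA i
    exact hzero _ ((RF ⋙ homologyFunctor B i).map_isZero hZ)
  have hext : ∀ T ∈ distinguishedTriangles, S (Triangle.obj₁ T) → S (Triangle.obj₃ T) → S (Triangle.obj₂ T) := by
    intro T hT h₁ h₃ i
    obtain ⟨w₁, e₁⟩ := exact_homology_push RF α hα adj G hA _ (inv_rot_of_distTriang _ hT) i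
    obtain ⟨w₂, e₂⟩ := exact_homology_push RF α hα adj G hA _ hT i
    obtain ⟨w₃, e₃⟩ := exact_homology_push RF α hα adj G hA _ (rot_of_distTriang _ hT) i
    exact prop_of_exact_five P' _ _ _ _ _ _ _ e₁ e₂ e₃ (hshift _ _ h₃ i) (h₁ i) (h₃ i) (hshift _ _ h₁ i)
  have hsingle : ∀ (q : ℤ) (F : A), P F → S ((singleFunctor A q).obj F) := fun q F hF i => by
    obtain ⟨e⟩ := nonempty_homology_push_single_iso RF α hα hA F q i (i - q) (by omega)
    exact P'.prop_of_iso e.symm (hP' F hF _)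
  let m := max a j + 2
  have hT := TStructure.t.triangleLTGE_distinguished m X
  have h₁ : S ((TStructure.t.truncLT m).obj X) := by
    refine bounded_induction S hz hext (m - a).toNat a _ inferInstance
      (TStructure.t.isLE_of_le _ (m - 1) _ (by omega)) fun q => ?_
    by_cases hq : q < m
    · have := isIso_homology_truncLTι X m q hq
      exact hsingle q _ (P.prop_of_iso (asIso ((homologyFunctor A q).map ((TStructure.t.truncLTι m).app X))).symm (hc q))
    · exact hz _ ((singleFunctor A q).map_isZero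
        (DerivedCategory.isZero_of_isLE ((TStructure.t.truncLT m).obj X) (m - 1) q (by omega)))
  have := preservesZeroMorphisms_push RF α hα hA j
  obtain ⟨w₁, e₁⟩ := exact_homology_push RF α hα adj G hA _ (inv_rot_of_distTriang _ hT) j
  obtain ⟨w₂, e₂⟩ := exact_homology_push RF α hα adj G hA _ hT j
  have z₁ : IsZero ((RF ⋙ homologyFunctor B j).obj (((TStructure.t.truncGE m).obj X)⟦(-1 : ℤ)⟧)) :=
    isZero_homology_push_of_isGE RF α hα adj G hA _ (m + 1) j
      (TStructure.t.isGE_shift ((TStructure.t.truncGE m).obj X) m (-1) (m + 1) (by omega)) (by omega)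
  have z₂ : IsZero ((RF ⋙ homologyFunctor B j).obj ((TStructure.t.truncGE m).obj X)) :=
    isZero_homology_push_of_isGE RF α hα adj G hA _ m j inferInstance (by omega)
  have : Mono ((RF ⋙ homologyFunctor B j).map ((TStructure.t.truncLTι m).app X)) := e₁.mono_g (z₁.eq_of_src _ _)
  have : Epi ((RF ⋙ homologyFunctor B j).map ((TStructure.t.truncLTι m).app X)) := e₂.epi_f (z₂.eq_of_tgt _ _)
  have := isIso_of_mono_of_epi ((RF ⋙ homologyFunctor B j).map ((TStructure.t.truncLTι m).app X))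
  exact P'.prop_of_iso (asIso ((RF ⋙ homologyFunctor B j).map ((TStructure.t.truncLTι m).app X))) (h₁ j)

end LocGen

end Groth.Agent.Mod48
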