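import Groth.Agent.SiteMod.SheafHomRestr
import Groth.Agent.Mod48.LocalLift
import Groth.Prelude.Def_CohCx

/-!
Sections over quasi-compact objects commute with direct sums of sheaves of modules.
-/

universe u

open CategoryTheory CategoryTheory.Limits Opposite

namespace Groth.Agent.Mod48

open SiteMod

variable {C : Type u} [SmallCategory C] {J : GrothendieckTopology C}

/-- Finitely many arrows of a covering sieve of a quasi-compact object generate a covering sieve. -/
theorem exists_finite_cover {W : C}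
    (hW : CohCx.IsQcObject ((presheafToSheaf J (Type u)).obj (yoneda.obj W))) {S : Sieve W}
    (hS : S ∈ J W) :
    ∃ (n : ℕ) (V : Fin n → C) (g : ∀ k, V k ⟶ W),
      (∀ k, S (g k)) ∧ Sieve.ofArrows V g ∈ J W := by
  classical
  let I := Σ V : C, {g : V ⟶ W // S g}
  let sh := presheafToSheaf J (Type u)
  let η := fun (P : Cᵒᵖ ⥤ Type u) => toSheafify J P
  have hJS : CohCx.JointlySurjective fun i : I => sh.map (yoneda.map i.2.1) := by
    intro U s
    have h1 := Presheaf.imageSieve_mem J (η (yoneda.obj W)) s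
    refine ⟨Sieve.bind (Presheaf.imageSieve (η (yoneda.obj W)) s).1
      (fun V f hf => S.pullback (show V ⟶ W from hf.choose)),
      J.bind_covering h1 fun V f hf => J.pullback_stable _ hS, ?_⟩
    rintro Z _ ⟨V, a, f, hf, ha, rfl⟩
    let y : V ⟶ W := hf.choose
    refine ⟨⟨Z, a ≫ y, ha⟩, (η (yoneda.obj Z)).app (op Z) (𝟙 Z), ?_⟩
    refine (ConcreteCategory.congr_hom (NatTrans.congr_app
      (toSheafify_naturality J (yoneda.map (a ≫ y))) (op Z)) (𝟙 Z)).symm.trans ?_
    change (η (yoneda.obj W)).app (op Z) (𝟙 Z ≫ a ≫ y) = _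
    rw [Category.id_comp, op_comp, Functor.map_comp_apply]
    have hy : (η (yoneda.obj W)).app (op V) y =
        ((presheafToSheaf J (Type u)).obj (yoneda.obj W)).obj.map f.op s := hf.choose_spec
    exact (NatTrans.naturality_apply (η (yoneda.obj W)) a.op y).trans (congrArg _ hy)
  obtain ⟨t, ht⟩ := hW I _ _ hJS
  let e := t.equivFin
  refine ⟨t.card, fun k => (e.symm k).1.1, fun k => (e.symm k).1.2.1, fun k => (e.symm k).1.2.2, ?_⟩
  obtain ⟨R, hR, hRt⟩ := ht W ((η (yoneda.obj W)).app (op W) (𝟙 W))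
  refine J.transitive hR _ fun Z f hf => ?_
  obtain ⟨i, x, hx⟩ := hRt Z f hf
  let P := Presheaf.imageSieve (η (yoneda.obj i.1.1)) x
  refine J.transitive (Presheaf.imageSieve_mem J (η (yoneda.obj i.1.1)) x) _ fun Z' a ha => ?_
  obtain ⟨y, hy⟩ : ∃ y : Z' ⟶ i.1.1,
      (η (yoneda.obj i.1.1)).app (op Z') y =
        ((presheafToSheaf J (Type u)).obj (yoneda.obj i.1.1)).obj.map a.op x := ha
  have heq : (η (yoneda.obj W)).app (op Z') (y ≫ i.1.2.1) = (η (yoneda.obj W)).app (op Z') (a ≫ f) := by
    have h1 : (η (yoneda.obj W)).app (op Z') (y ≫ i.1.2.1) =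
        (sh.map (yoneda.map i.1.2.1)).hom.app (op Z') ((η (yoneda.obj i.1.1)).app (op Z') y) :=
      ConcreteCategory.congr_hom (NatTrans.congr_app (toSheafify_naturality J (yoneda.map i.1.2.1)) (op Z')) y
    rw [h1, hy, NatTrans.naturality_apply (sh.map (yoneda.map i.1.2.1)).hom a.op x, hx]
    rw [← Functor.map_comp_apply]
    refine (NatTrans.naturality_apply (η (yoneda.obj W)) (f.op ≫ a.op) (𝟙 W)).symm.trans ?_
    exact congrArg ((η (yoneda.obj W)).app (op Z')) (Category.comp_id (a ≫ f))
  have hinj : Presheaf.IsLocallyInjective J (η (yoneda.obj W)) := inferInstance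
  refine J.superset_covering ?_ (hinj.equalizerSieve_mem (X := op Z') (y ≫ i.1.2.1) (a ≫ f) heq)
  intro Z'' b hb
  change (Sieve.ofArrows _ _) ((b ≫ a) ≫ f)
  rw [Category.assoc, show b ≫ a ≫ f = b ≫ y ≫ i.1.2.1 from hb.symm, ← Category.assoc]
  have hi : i.1.2.1 = eqToHom (congrArg (fun j : t => j.1.1) (e.symm_apply_apply i).symm) ≫
      (e.symm (e i)).1.2.1 := by
    have : ∀ (j j' : t) (h : j = j'), j.1.2.1 = eqToHom (congrArg (fun k : t => k.1.1) h) ≫ j'.1.2.1 := by
      rintro j _ rfl
      simp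
    exact this _ _ (e.symm_apply_apply i).symm
  rw [hi, ← Category.assoc]
  exact Sieve.downward_closed _ (Sieve.ofArrows_mk _ _ (e i)) _

variable {O : Sheaf J CommRingCat.{u}} {ι : Type u} (F : ι → ModSite.Mod O)

/-- A section of a presheaf direct sum is a finite sum. -/
lemma exists_finset_coprod {A : ι → AddCommGrpCat.{u}} {B : AddCommGrpCat.{u}} (inj : ∀ i, A i ⟶ B)
    (h : IsColimit (Cofan.mk B inj)) (b : B) :
    ∃ (t : Finset ι) (a : ∀ i, A i), b = ∑ i ∈ t, inj i (a i) := by
  classical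
  let M : AddSubgroup B :=
    { carrier := {b | ∃ (t : Finset ι) (a : ∀ i, A i), (∀ i, i ∉ t → a i = 0) ∧ b = ∑ i ∈ t, inj i (a i)}
      zero_mem' := ⟨∅, fun _ => 0, fun _ _ => rfl, by simp⟩
      add_mem' := by
        rintro x y ⟨t, a, ha, rfl⟩ ⟨t', a', ha', rfl⟩
        refine ⟨t ∪ t', fun i => a i + a' i, fun i hi => ?_, ?_⟩
        · simp only [Finset.mem_union, not_or] at hi
          change a i + a' i = 0
          rw [ha i hi.1, ha' i hi.2, add_zero]
        · simp only [map_add, Finset.sum_add_distrib]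
          rw [← Finset.sum_subset (Finset.subset_union_left (s₂ := t')) fun i _ hi => by rw [ha i hi, map_zero],
            ← Finset.sum_subset (Finset.subset_union_right (s₁ := t)) fun i _ hi => by rw [ha' i hi, map_zero]]
      neg_mem' := by
        rintro x ⟨t, a, ha, rfl⟩
        exact ⟨t, fun i => -a i, fun i hi => show -a i = 0 by rw [ha i hi, neg_zero], by simp⟩ }
  have h0 : (AddCommGrpCat.ofHom (QuotientAddGroup.mk' M) : B ⟶ AddCommGrpCat.of (B ⧸ M)) = 0 :=
    Cofan.IsColimit.hom_ext h _ _ fun i => AddCommGrpCat.hom_ext (AddMonoidHom.ext fun y =>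
      (QuotientAddGroup.eq_zero_iff (inj i y)).2 ⟨{i}, Pi.single i y, fun j hj =>
        Pi.single_eq_of_ne (by simpa using hj) _, by simp⟩)
  obtain ⟨t, a, -, rfl⟩ := (QuotientAddGroup.eq_zero_iff b).1
    (DFunLike.congr_fun (congrArg AddCommGrpCat.Hom.hom h0) b)
  exact ⟨t, a, rfl⟩

/-- The projection of a direct sum. -/
noncomputable def sumProj (i : ι) : ∐ F ⟶ F i :=
  letI := Classical.decEq ι
  Sigma.desc fun j => if h : j = i then eqToHom (congrArg F h) else 0

lemma ι_sumProj (i : ι) : Sigma.ι F i ≫ sumProj F i = 𝟙 _ := by simp [sumProj]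

lemma ι_sumProj_ne {i j : ι} (h : j ≠ i) : Sigma.ι F j ≫ sumProj F i = 0 := by simp [sumProj, h]

lemma sumProj_ι_app [DecidableEq ι] (i j : ι) {V : C} (x : (pre (F j)).obj (op V)) :
    (fgt.map (sumProj F i)).app (op V) ((fgt.map (Sigma.ι F j)).app (op V) x) =
      if h : j = i then h ▸ x else 0 := by
  by_cases h : j = i
  · subst h
    rw [dif_pos rfl]
    exact congrArg (fun t : F j ⟶ F j => (fgt.map t).app (op V) x) (ι_sumProj F j)
  · rw [dif_neg h]
    exact congrArg (fun t : F j ⟶ F i => (fgt.map t).app (op V) x) (ι_sumProj_ne F h)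

/-- A section of a direct sum is locally a finite sum. -/
lemma exists_local_finite {W : C} (s : (pre (∐ F)).obj (op W)) :
    ∃ S ∈ J W, ∀ ⦃V : C⦄ (g : V ⟶ W), S g → ∃ (t : Finset ι) (a : ∀ i, (pre (F i)).obj (op V)),
      res (pre (∐ F)) g.op s = ∑ i ∈ t, (fgt.map (Sigma.ι F i)).app (op V) (a i) := by
  let P : ι → PreM O := fun i => pre (F i)
  let θ : ∐ P ⟶ pre (∐ F) := Sigma.desc fun i => fgt.map (Sigma.ι F i)
  have hθ : IsLocalIso θ := by
    rw [← isIso_shf_map_iff_isLocalIso]
    have : PreservesColimitsOfSize.{u, u} (shf : PreM O ⥤ ModSite.Mod O) :=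
      shfAdj.leftAdjoint_preservesColimits
    let ψ : ∐ F ⟶ shf.obj (∐ P) := Sigma.desc fun i =>
      (asIso (shfAdj.counit.app (F i))).inv ≫ shf.map (Sigma.ι P i)
    let c : shf.obj (pre (∐ F)) ⟶ ∐ F := shfAdj.counit.app (∐ F)
    have h1 : shf.map θ ≫ c ≫ ψ = 𝟙 _ := by
      refine Cofan.IsColimit.hom_ext (isColimitCofanMkObjOfIsColimit shf _ _ (coproductIsCoproduct P)) _ _
        fun i => ?_
      change shf.map (Sigma.ι P i) ≫ shf.map θ ≫ c ≫ ψ = shf.map (Sigma.ι P i) ≫ 𝟙 _
      rw [← Category.assoc, ← Functor.map_comp, Sigma.ι_desc, Category.comp_id, ← Category.assoc]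
      have hn : shf.map (fgt.map (Sigma.ι F i)) ≫ c = shfAdj.counit.app (F i) ≫ Sigma.ι F i :=
        shfAdj.counit.naturality (Sigma.ι F i)
      rw [hn, Category.assoc, Sigma.ι_desc]
      exact IsIso.hom_inv_id_assoc _ _
    have : IsIso c := inferInstanceAs (IsIso (shfAdj.counit.app (∐ F)))
    have h2 : ψ ≫ shf.map θ = inv c := by
      rw [← cancel_mono c, IsIso.inv_hom_id]
      refine Sigma.hom_ext _ _ fun i => ?_
      rw [Category.assoc, Sigma.ι_desc_assoc, Category.comp_id, Category.assoc, ← Functor.map_comp_assoc,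
        Sigma.ι_desc]
      have hn : shf.map (fgt.map (Sigma.ι F i)) ≫ c = shfAdj.counit.app (F i) ≫ Sigma.ι F i :=
        shfAdj.counit.naturality (Sigma.ι F i)
      rw [hn]
      exact IsIso.inv_hom_id_assoc _ _
    exact ⟨c ≫ ψ, h1, by rw [Category.assoc, h2, IsIso.hom_inv_id]⟩
  obtain ⟨S, hS, h⟩ := locally_preimage hθ (op W) s
  refine ⟨S, hS, fun V g hg => ?_⟩
  obtain ⟨y, hy⟩ := h g hg
  let G : PreM O ⥤ AddCommGrpCat.{u} :=
    PresheafOfModules.toPresheaf _ ⋙ (evaluation Cᵒᵖ AddCommGrpCat.{u}).obj (op V)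
  have : PreservesColimitsOfSize.{u, u} G := by dsimp [G]; infer_instance
  obtain ⟨t, a, rfl⟩ := exists_finset_coprod (fun i => G.map (Sigma.ι P i))
    (isColimitCofanMkObjOfIsColimit G _ _ (coproductIsCoproduct P)) y
  refine ⟨t, a, hy.symm.trans ?_⟩
  refine (map_sum (θ.app (op V)).hom _ _).trans (Finset.sum_congr rfl fun i _ => ?_)
  exact congrArg (fun m : P i ⟶ pre (∐ F) => m.app (op V) (a i)) (Sigma.ι_desc _ i)

/-- A section of a direct sum over a quasi-compact object is a finite sum. -/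
lemma exists_finite_section {W : C}
    (hW : CohCx.IsQcObject ((presheafToSheaf J (Type u)).obj (yoneda.obj W)))
    (s : (pre (∐ F)).obj (op W)) : ∃ t : Finset ι,
      s = ∑ i ∈ t, (fgt.map (Sigma.ι F i)).app (op W) ((fgt.map (sumProj F i)).app (op W) s) := by
  classical
  obtain ⟨S, hS, h⟩ := exists_local_finite F s
  obtain ⟨n, V, g, hg, hcov⟩ := exists_finite_cover hW hS
  choose t a ha using fun k => h (g k) (hg k)
  refine ⟨Finset.univ.biUnion t, ext_of_sieve (X := op W) hcov fun Z f hf => ?_⟩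
  obtain ⟨Y, b, c, ⟨k⟩, rfl⟩ := hf
  rw [op_comp, ← res_res, ← res_res]
  refine congrArg (res (pre (∐ F)) b.op) ?_
  let Φ : (pre (∐ F)).obj (op (V k)) →+ (pre (∐ F)).obj (op (V k)) :=
    AddMonoidHom.mk' (fun z => ∑ i ∈ Finset.univ.biUnion t,
      (fgt.map (Sigma.ι F i)).app (op (V k)) ((fgt.map (sumProj F i)).app (op (V k)) z))
      (fun x y => by simp only [map_add, Finset.sum_add_distrib])
  have hΦ : res (pre (∐ F)) (g k).op (∑ i ∈ Finset.univ.biUnion t,
      (fgt.map (Sigma.ι F i)).app (op W) ((fgt.map (sumProj F i)).app (op W) s)) =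
      Φ (res (pre (∐ F)) (g k).op s) := by
    refine (map_sum ((pre (∐ F)).map (g k).op).hom _ _).trans ?_
    refine Finset.sum_congr rfl fun i _ => ?_
    exact (app_res (fgt.map (Sigma.ι F i)) (g k).op _).symm.trans
      (congrArg _ (app_res (fgt.map (sumProj F i)) (g k).op _).symm)
  rw [hΦ, ha k, map_sum]
  refine Finset.sum_congr rfl fun j hj => ?_
  refine Eq.symm ((Finset.sum_eq_single j ?_ ?_).trans ?_)
  · intro i _ hi
    rw [sumProj_ι_app, dif_neg (Ne.symm hi), map_zero]
  · exact fun hn => absurd (Finset.mem_biUnion.2 ⟨k, Finset.mem_univ _, hj⟩) hn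
  · rw [sumProj_ι_app, dif_pos rfl]

/-- Sections over a quasi-compact object commute with direct sums. -/
theorem preservesCoproducts_sect {W : C}
    (hW : CohCx.IsQcObject ((presheafToSheaf J (Type u)).obj (yoneda.obj W))) (ι : Type u) :
    PreservesColimitsOfShape (Discrete ι)
      (SheafOfModules.toSheaf (ModSite.ringSh O) ⋙ (sheafSections J AddCommGrpCat.{u}).obj (op W)) := by
  classical
  let G : ModSite.Mod O ⥤ AddCommGrpCat.{u} :=
    SheafOfModules.toSheaf (ModSite.ringSh O) ⋙ (sheafSections J AddCommGrpCat.{u}).obj (op W)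
  have key : ∀ F : ι → ModSite.Mod O, PreservesColimit (Discrete.functor F) G := fun F => by
    have : IsIso (sigmaComparison G F) := by
      rw [ConcreteCategory.isIso_iff_bijective]
      let π : ∀ i, G.obj (∐ F) ⟶ G.obj (F i) := fun i => G.map (sumProj F i)
      refine ⟨(injective_iff_map_eq_zero _).2 fun z hz => ?_, fun s => ?_⟩
      · obtain ⟨t, a, rfl⟩ := exists_finset_coprod (fun i => Sigma.ι (fun i => G.obj (F i)) i)
          (coproductIsCoproduct _) z
        have hc : ∀ i (x : G.obj (F i)), sigmaComparison G F (Sigma.ι (fun i => G.obj (F i)) i x) =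
            (fgt.map (Sigma.ι F i)).app (op W) x := fun i x =>
          ConcreteCategory.congr_hom (ι_comp_sigmaComparison G F i) x
        refine Finset.sum_eq_zero fun j hj => ?_
        rw [map_sum] at hz
        simp only [hc] at hz
        have h2 := congrArg (fun y => (fgt.map (sumProj F j)).app (op W) y) hz
        simp only [map_zero] at h2
        have h3 : a j = 0 := by
          refine Eq.trans ?_ (h2.trans (map_zero _))
          refine Eq.symm ((map_sum ((fgt.map (sumProj F j)).app (op W)).hom _ _).trans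
            ((Finset.sum_eq_single j ?_ ?_).trans ?_))
          · exact fun i _ hi => (sumProj_ι_app F j i _).trans (dif_neg hi)
          · exact fun hn => absurd hj hn
          · exact (sumProj_ι_app F j j _).trans (dif_pos rfl)
        rw [h3, map_zero]
      · obtain ⟨t, ht⟩ := exists_finite_section F hW s
        refine ⟨∑ i ∈ t, Sigma.ι (fun i => G.obj (F i)) i (π i s), (map_sum _ _ _).trans ?_⟩
        refine Eq.trans (Finset.sum_congr rfl fun i _ => ?_) ht.symm
        exact ConcreteCategory.congr_hom (ι_comp_sigmaComparison G F i) _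
    exact PreservesCoproduct.of_iso_comparison G F
  exact ⟨fun {K} => by
    have := key fun i => K.obj ⟨i⟩
    exact preservesColimit_of_iso_diagram G Discrete.natIsoFunctor.symm⟩

/-- Maps out of `j_! O_U`, `U` quasi-compact, commute with direct sums. -/
theorem preservesCoproducts_freeOn {U : C}
    (hU : CohCx.IsQcObject ((presheafToSheaf J (Type u)).obj (yoneda.obj U))) (ι : Type u) :
    PreservesColimitsOfShape (Discrete ι) (preadditiveCoyoneda.obj (op (ModSite.freeOn O U))) := by
  have := preservesCoproducts_sect (O := O) hU ι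
  refine preservesColimitsOfShape_of_natIso (F := SheafOfModules.toSheaf (ModSite.ringSh O) ⋙
    (sheafSections J AddCommGrpCat.{u}).obj (op U)) (Iso.symm ?_)
  let e : ∀ X : ModSite.Mod O, (preadditiveCoyoneda.obj (op (ModSite.freeOn O U))).obj X ≅
      (SheafOfModules.toSheaf (ModSite.ringSh O) ⋙ (sheafSections J AddCommGrpCat.{u}).obj (op U)).obj X :=
    fun X => AddEquiv.toAddCommGrpIso (SiteMod.freeOnAddEquiv U X)
  exact NatIso.ofComponents e
    (fun {X Y} φ => AddCommGrpCat.hom_ext (AddMonoidHom.ext fun a => freeOnEquiv_comp U a φ))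

end Groth.Agent.Mod48
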