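import Groth.Agent.Mod48.QcCoprod
import Groth.Agent.Mod48.RestrFree
import Groth.Agent.SiteMod.LocSurj
import Mathlib.CategoryTheory.Abelian.Refinements
import Mathlib.CategoryTheory.Sites.SheafOfTypes

/-!
Modules presented by finite sums of free modules on objects of a given class of quasi-compact objects.
-/

universe u

open CategoryTheory CategoryTheory.Limits Opposite

namespace Groth.Agent.Mod48

open SiteMod

variable {C : Type u} [SmallCategory C] {J : GrothendieckTopology C} {O : Sheaf J CommRingCat.{u}}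

/-! ### Maps between free modules on objects -/

/-- The map of free modules along an arrow. -/
noncomputable def toFree {V U : C} (g : V ⟶ U) : ModSite.freeOn O V ⟶ ModSite.freeOn O U :=
  (freeOnEquiv V _).symm (res (pre (ModSite.freeOn O U)) g.op (genY U))

lemma freeOnEquiv_toFree_comp {V U : C} (g : V ⟶ U) {X : ModSite.Mod O} (φ : ModSite.freeOn O U ⟶ X) :
    freeOnEquiv V X (toFree g ≫ φ) = res (pre X) g.op (freeOnEquiv U X φ) := by
  rw [freeOnEquiv_comp, toFree, Equiv.apply_symm_apply, app_res, genY, ← freeOnEquiv_comp, Category.id_comp]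

lemma freeOnEquiv_sub (U : C) {X : ModSite.Mod O} (a b : ModSite.freeOn O U ⟶ X) :
    freeOnEquiv U X (a - b) = freeOnEquiv U X a - freeOnEquiv U X b := by
  have e : a - b = 𝟙 _ ≫ (a - b) := (Category.id_comp _).symm
  conv_lhs => rw [e, freeOnEquiv_comp]
  conv_rhs => rw [← Category.id_comp a, ← Category.id_comp b, freeOnEquiv_comp, freeOnEquiv_comp]
  rfl

lemma freeOnEquiv_zero_qc (U : C) (X : ModSite.Mod O) : freeOnEquiv U X 0 = 0 := by
  have h := freeOnEquiv_sub U (0 : ModSite.freeOn O U ⟶ X) 0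
  rwa [sub_zero, sub_self] at h

/-! ### The classes -/

variable (B : Set C)

/-- Finite sums of free modules on members of `B`. -/
def FS (X : ModSite.Mod O) : Prop :=
  ∃ (ι : Type u) (_ : Finite ι) (U : ι → C), (∀ i, U i ∈ B) ∧ Nonempty (X ≅ ∐ fun i => ModSite.freeOn O (U i))

/-- Quotients of finite sums. -/
def FG (X : ModSite.Mod O) : Prop := ∃ (P : ModSite.Mod O) (π : P ⟶ X), FS B P ∧ Epi π

/-- Finitely presented by finite sums. -/
def FP (X : ModSite.Mod O) : Prop := ∃ (P : ModSite.Mod O) (g : P ⟶ X), FS B P ∧ Epi g ∧ FG B (kernel g)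

variable {B}

lemma FS.of_iso {X Y : ModSite.Mod O} (e : X ≅ Y) (h : FS B X) : FS B Y := by
  obtain ⟨ι, hι, U, hU, ⟨a⟩⟩ := h
  exact ⟨ι, hι, U, hU, ⟨e.symm ≪≫ a⟩⟩

lemma FS.biprod {X Y : ModSite.Mod O} (hX : FS B X) (hY : FS B Y) : FS B (X ⊞ Y) := by
  obtain ⟨ι, hι, U, hU, ⟨e⟩⟩ := hX
  obtain ⟨ι', hι', U', hU', ⟨e'⟩⟩ := hY
  let F : ι ⊕ ι' → ModSite.Mod O := fun j => ModSite.freeOn O (Sum.elim U U' j)
  let f : (∐ fun j => ModSite.freeOn O (U j)) ⊞ (∐ fun j => ModSite.freeOn O (U' j)) ⟶ ∐ F :=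
    biprod.desc (Sigma.desc fun j => Sigma.ι F (Sum.inl j)) (Sigma.desc fun j => Sigma.ι F (Sum.inr j))
  let g : ∐ F ⟶ (∐ fun j => ModSite.freeOn O (U j)) ⊞ (∐ fun j => ModSite.freeOn O (U' j)) :=
    Sigma.desc fun j => match j with
      | Sum.inl a => Sigma.ι (fun j => ModSite.freeOn O (U j)) a ≫ biprod.inl
      | Sum.inr a => Sigma.ι (fun j => ModSite.freeOn O (U' j)) a ≫ biprod.inr
  refine ⟨ι ⊕ ι', inferInstance, Sum.elim U U', fun j => by cases j <;> simp [hU, hU'],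
    ⟨biprod.mapIso e e' ≪≫ ⟨f, g, ?_, ?_⟩⟩⟩
  · refine biprod.hom_ext' _ _ (Sigma.hom_ext _ _ fun j => ?_) (Sigma.hom_ext _ _ fun j => ?_)
    · simp only [f, g, biprod.inl_desc_assoc, Sigma.ι_desc_assoc, Category.comp_id]
      exact Sigma.ι_desc _ _
    · simp only [f, g, biprod.inr_desc_assoc, Sigma.ι_desc_assoc, Category.comp_id]
      exact Sigma.ι_desc _ _
  · refine Sigma.hom_ext _ _ fun j => ?_
    cases j with
    | inl a =>
      simp only [f, g, Sigma.ι_desc_assoc, Category.comp_id]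
      exact (Category.assoc _ _ _).trans ((congrArg (_ ≫ ·) (biprod.inl_desc _ _)).trans (Sigma.ι_desc _ _))
    | inr a =>
      simp only [f, g, Sigma.ι_desc_assoc, Category.comp_id]
      exact (Category.assoc _ _ _).trans ((congrArg (_ ≫ ·) (biprod.inr_desc _ _)).trans (Sigma.ι_desc _ _))

lemma FG.of_epi {X Y : ModSite.Mod O} (p : X ⟶ Y) [Epi p] (h : FG B X) : FG B Y := by
  obtain ⟨P, π, hP, hπ⟩ := h
  exact ⟨P, π ≫ p, hP, epi_comp _ _⟩

lemma FS.fg {X : ModSite.Mod O} (h : FS B X) : FG B X := ⟨X, 𝟙 X, h, inferInstance⟩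

lemma FP.fg {X : ModSite.Mod O} (h : FP B X) : FG B X := by
  obtain ⟨P, g, hP, hg, -⟩ := h
  exact ⟨P, g, hP, hg⟩

lemma FG.of_iso {X Y : ModSite.Mod O} (e : X ≅ Y) (h : FG B X) : FG B Y := h.of_epi e.hom

lemma FP.of_iso {X Y : ModSite.Mod O} (e : X ≅ Y) (h : FP B X) : FP B Y := by
  obtain ⟨P, g, hP, hg, hk⟩ := h
  exact ⟨P, g ≫ e.hom, hP, epi_comp _ _, hk.of_iso (kernelCompMono g e.hom).symm⟩

lemma FS.exists_fin {P : ModSite.Mod O} (h : FS B P) : ∃ (n : ℕ) (U : Fin n → C), (∀ i, U i ∈ B) ∧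
    Nonempty (P ≅ ∐ fun i => ModSite.freeOn O (U i)) := by
  obtain ⟨ι, hι, U, hU, ⟨e⟩⟩ := h
  let eq := Finite.equivFin ι
  exact ⟨Nat.card ι, fun k => U (eq.symm k), fun k => hU _,
    ⟨e ≪≫ Sigma.whiskerEquiv (f := fun i => ModSite.freeOn O (U i))
      (g := fun k => ModSite.freeOn O (U (eq.symm k))) eq
      (fun i => eqToIso (congrArg (fun x => ModSite.freeOn O (U x)) (eq.symm_apply_apply i)))⟩⟩

lemma fs_sigma {n : ℕ} (U : Fin n → C) (hU : ∀ i, U i ∈ B) : FS B (∐ fun i => ModSite.freeOn O (U i)) :=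
  ⟨ULift.{u} (Fin n), inferInstance, fun k => U k.down, fun k => hU _,
    ⟨Sigma.whiskerEquiv (f := fun i => ModSite.freeOn O (U i))
      (g := fun k : ULift.{u} (Fin n) => ModSite.freeOn O (U k.down)) Equiv.ulift.symm (fun _ => Iso.refl _)⟩⟩

/-! ### Quasi-compactness -/

section Qc

variable
  (hB₁ : ∀ X : C, ∃ (κ : Type u) (Y : κ → C) (g : ∀ k, Y k ⟶ X), Sieve.ofArrows Y g ∈ J X ∧ ∀ k, Y k ∈ B)

include hB₁ in
/-- A covering sieve of a quasi-compact object contains finitely many covering arrows out of `B`. -/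
lemma exists_finite_cover_B {W : C}
    (hW : CohCx.IsQcObject ((presheafToSheaf J (Type u)).obj (yoneda.obj W))) {S : Sieve W} (hS : S ∈ J W) :
    ∃ (κ : Type u) (_ : Finite κ) (V : κ → C) (g : ∀ k, V k ⟶ W),
      (∀ k, V k ∈ B) ∧ (∀ k, S (g k)) ∧ Sieve.ofArrows V g ∈ J W := by
  let S' : Sieve W :=
    { arrows := fun V f => ∃ (V' : C) (h : V' ⟶ W) (a : V ⟶ V'), V' ∈ B ∧ S h ∧ a ≫ h = f
      downward_closed := by
        rintro V V₂ f ⟨V', h, a, hV', hh, rfl⟩ b
        exact ⟨V', h, b ≫ a, hV', hh, Category.assoc _ _ _⟩ }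
  have hS' : S' ∈ J W := by
    refine J.transitive hS _ fun V f hf => ?_
    obtain ⟨κ, Y₁, g₁, hg₁, hY₁⟩ := hB₁ V
    refine J.superset_covering ?_ hg₁
    rintro Z _ ⟨_, b, _, ⟨k⟩, rfl⟩
    exact ⟨_, g₁ k ≫ f, b, hY₁ k, S.downward_closed hf _, (Category.assoc _ _ _).symm⟩
  obtain ⟨n, V, g, hg, hcov⟩ := exists_finite_cover hW hS'
  choose V' h a hV' hh he using hg
  refine ⟨ULift.{u} (Fin n), inferInstance, fun k => V' k.down, fun k => h k.down, fun k => hV' k.down,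
    fun k => hh k.down, J.superset_covering ?_ hcov⟩
  rintro Z _ ⟨_, b, _, ⟨k⟩, rfl⟩
  rw [← he k, ← Category.assoc]
  exact Sieve.downward_closed _ (Sieve.ofArrows_mk (fun k : ULift.{u} (Fin n) => V' k.down)
    (fun k => h k.down) ⟨k⟩) _

variable
  (hB₂ : ∀ U ∈ B, CohCx.IsQcObject ((presheafToSheaf J (Type u)).obj (yoneda.obj U)))

section Cover

variable {ι : Type u} {U : ι → C} {κ : ι → Type u} {V : ∀ i, κ i → C} (g : ∀ i k, V i k ⟶ U i)

/-- The map of a family of coverings. -/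
noncomputable def coverHom : (∐ fun j : Σ i, κ i => ModSite.freeOn O (V j.1 j.2)) ⟶
    ∐ fun i => ModSite.freeOn O (U i) :=
  Sigma.desc fun j => toFree (g j.1 j.2) ≫ Sigma.ι (fun i => ModSite.freeOn O (U i)) j.1

lemma ι_coverHom_comp {X : ModSite.Mod O} (φ : (∐ fun i => ModSite.freeOn O (U i)) ⟶ X) (i : ι) (k : κ i) :
    freeOnEquiv (V i k) X (Sigma.ι (fun j : Σ i, κ i => ModSite.freeOn O (V j.1 j.2)) ⟨i, k⟩ ≫ coverHom g ≫ φ) =
      res (pre X) (g i k).op (freeOnEquiv (U i) X (Sigma.ι (fun i => ModSite.freeOn O (U i)) i ≫ φ)) := by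
  rw [coverHom, Sigma.ι_desc_assoc, Category.assoc, freeOnEquiv_toFree_comp]

variable (hg : ∀ i, Sieve.ofArrows (V i) (g i) ∈ J (U i))

include hg in
lemma epi_coverHom : Epi (coverHom (O := O) g) := by
  refine ⟨fun {X} a b h => Sigma.hom_ext _ _ fun i => (freeOnEquiv (U i) X).injective ?_⟩
  refine ext_of_sieve (X := op (U i)) (hg i) ?_
  rintro Z _ ⟨_, c, _, ⟨k⟩, rfl⟩
  rw [op_comp, ← res_res, ← res_res, ← ι_coverHom_comp, ← ι_coverHom_comp, h]

variable [HasPullbacks C]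
  (hB₃ : ∀ (U U₁ U₂ : C) (f₁ : U₁ ⟶ U) (f₂ : U₂ ⟶ U), U ∈ B → U₁ ∈ B → U₂ ∈ B →
    CohCx.IsQcObject ((presheafToSheaf J (Type u)).obj (yoneda.obj (pullback f₁ f₂))))

include hg hB₁ hB₃ in
lemma fg_kernel_coverHom [Finite ι] [∀ i, Finite (κ i)] (hU : ∀ i, U i ∈ B) (hV : ∀ i k, V i k ∈ B) :
    FG B (kernel (coverHom (O := O) g)) := by
  let T := Σ i, κ i × κ i
  choose μ hμ W w hW _hS hwcov using fun t : T => exists_finite_cover_B hB₁
    (hB₃ _ _ _ (g t.1 t.2.1) (g t.1 t.2.2) (hU t.1) (hV _ _) (hV _ _))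
    (J.top_mem (pullback (g t.1 t.2.1) (g t.1 t.2.2)))
  let P' := ∐ fun j : Σ i, κ i => ModSite.freeOn O (V j.1 j.2)
  let R := ∐ fun s : Σ t : T, μ t => ModSite.freeOn O (W s.1 s.2)
  let r : R ⟶ P' := Sigma.desc fun s =>
    toFree (w s.1 s.2 ≫ pullback.fst (g s.1.1 s.1.2.1) (g s.1.1 s.1.2.2)) ≫
        Sigma.ι (fun j : Σ i, κ i => ModSite.freeOn O (V j.1 j.2)) ⟨s.1.1, s.1.2.1⟩ -
      toFree (w s.1 s.2 ≫ pullback.snd (g s.1.1 s.1.2.1) (g s.1.1 s.1.2.2)) ≫
        Sigma.ι (fun j : Σ i, κ i => ModSite.freeOn O (V j.1 j.2)) ⟨s.1.1, s.1.2.2⟩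
  have hr : r ≫ coverHom g = 0 := by
    refine Sigma.hom_ext _ _ fun s => (freeOnEquiv (W s.1 s.2) _).injective ?_
    rw [comp_zero, freeOnEquiv_zero_qc, Sigma.ι_desc_assoc, Preadditive.sub_comp, freeOnEquiv_sub, Category.assoc,
      Category.assoc, freeOnEquiv_toFree_comp, freeOnEquiv_toFree_comp, sub_eq_zero]
    have h1 : ∀ i k, freeOnEquiv (V i k) _ (Sigma.ι (fun j : Σ i, κ i => ModSite.freeOn O (V j.1 j.2)) ⟨i, k⟩ ≫
        coverHom g) = res _ (g i k).op (freeOnEquiv (U i) _ (Sigma.ι (fun i => ModSite.freeOn O (U i)) i ≫ 𝟙 _)) :=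
      fun i k => by rw [← ι_coverHom_comp, Category.comp_id]
    rw [h1, h1, res_res, res_res, ← op_comp, ← op_comp, Category.assoc, Category.assoc, pullback.condition]
  have hepi := epi_coverHom (O := O) g hg
  have hex : (ShortComplex.mk r (coverHom g) hr).Exact := by
    refine ShortComplex.exact_of_g_is_cokernel _ (CokernelCofork.IsColimit.ofπ' _ _ fun {X} t ht => ?_)
    change r ≫ t = 0 at ht
    let x : ∀ i k, (pre X).obj (op (V i k)) := fun i k =>
      freeOnEquiv (V i k) X (Sigma.ι (fun j : Σ i, κ i => ModSite.freeOn O (V j.1 j.2)) ⟨i, k⟩ ≫ t)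
    let P := (CategoryTheory.sheafCompose J (forget AddCommGrpCat.{u})).obj (ModSite.toAb X)
    have hx : ∀ i, Presieve.Arrows.Compatible P.obj (g i) (x i) := by
      intro i k l Z a b e
      let d : Z ⟶ pullback (g i k) (g i l) := pullback.lift a b e
      have key : res (pre X) (pullback.fst (g i k) (g i l)).op (x i k) =
          res (pre X) (pullback.snd (g i k) (g i l)).op (x i l) := by
        refine ext_of_sieve (X := op (pullback (g i k) (g i l))) (hwcov ⟨i, k, l⟩) ?_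
        rintro Z' _ ⟨_, c, _, ⟨m⟩, rfl⟩
        have h0 := congrArg (fun φ => freeOnEquiv (W ⟨i, k, l⟩ m) X
          (Sigma.ι (fun s : Σ t : T, μ t => ModSite.freeOn O (W s.1 s.2)) ⟨⟨i, k, l⟩, m⟩ ≫ φ)) ht
        simp only [comp_zero, freeOnEquiv_zero_qc, r, Sigma.ι_desc_assoc, Preadditive.sub_comp, freeOnEquiv_sub,
          Category.assoc, freeOnEquiv_toFree_comp, sub_eq_zero] at h0
        have h1 := congrArg (res (pre X) c.op) h0
        simp only [res_res, ← op_comp, Category.assoc] at h1 ⊢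
        exact h1
      change res (pre X) a.op (x i k) = res (pre X) b.op (x i l)
      rw [← pullback.lift_fst a b e, op_comp, ← res_res, key, res_res, ← op_comp, pullback.lift_snd]
    have hglue := fun i => (Presieve.isSheafFor_arrows_iff _ _).1
      (((isSheaf_iff_isSheaf_of_type _ _).1 P.2).isSheafFor (Presieve.ofArrows (V i) (g i)) (hg i)) (x i) (hx i)
    choose y hy using fun i => (hglue i).exists
    refine ⟨Sigma.desc fun i => (freeOnEquiv (U i) X).symm (y i), Sigma.hom_ext _ _ ?_⟩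
    rintro ⟨i, k⟩
    apply (freeOnEquiv (V i k) X).injective
    rw [ι_coverHom_comp, Sigma.ι_desc]
    erw [Equiv.apply_symm_apply]
    exact hy i k
  have : Epi (kernel.lift (coverHom g) r hr) := (ShortComplex.exact_iff_epi_kernel_lift _).1 hex
  refine FG.of_epi (kernel.lift (coverHom g) r hr) (FS.fg
    ⟨Σ t : T, μ t, ?_, fun s => W s.1 s.2, fun s => hW s.1 s.2, ⟨Iso.refl _⟩⟩)
  have := hμ
  infer_instance

end Cover

include hB₁ hB₂ in
/-- Maps out of finite sums lift through epimorphisms after covering. -/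
theorem exists_lift_cover {P X Y : ModSite.Mod O} (hP : FS B P) (π : Y ⟶ X) [Epi π] (φ : P ⟶ X) :
    ∃ (P' : ModSite.Mod O) (e : P' ⟶ P) (ψ : P' ⟶ Y), FS B P' ∧ Epi e ∧ ψ ≫ π = e ≫ φ ∧
      ((∀ [HasPullbacks C], (∀ (U U₁ U₂ : C) (f₁ : U₁ ⟶ U) (f₂ : U₂ ⟶ U), U ∈ B → U₁ ∈ B → U₂ ∈ B →
          CohCx.IsQcObject ((presheafToSheaf J (Type u)).obj (yoneda.obj (pullback f₁ f₂)))) →
        FG B (kernel e))) := by
  obtain ⟨ι, hι, U, hU, ⟨a⟩⟩ := hP
  have hl := (epi_iff_locSurj π).1 inferInstance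
  choose S hS hSy using fun i => hl (U i) (freeOnEquiv (U i) X (Sigma.ι (fun i => ModSite.freeOn O (U i)) i ≫ a.inv ≫ φ))
  choose κ hκ V g hV hgS hg using fun i => exists_finite_cover_B hB₁ (hB₂ (U i) (hU i)) (hS i)
  choose y hy using fun i k => hSy i (g i k) (hgS i k)
  have he : Epi (coverHom (O := O) g) := epi_coverHom g hg
  refine ⟨_, coverHom g ≫ a.inv, Sigma.desc fun j => (freeOnEquiv (V j.1 j.2) Y).symm (y j.1 j.2),
    ⟨Σ i, κ i, ?_, fun j => V j.1 j.2, fun j => hV j.1 j.2, ⟨Iso.refl _⟩⟩, epi_comp _ _, ?_, ?_⟩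
  · have := hκ
    infer_instance
  · refine Sigma.hom_ext _ _ ?_
    rintro ⟨i, k⟩
    apply (freeOnEquiv (V i k) X).injective
    rw [Sigma.ι_desc_assoc, freeOnEquiv_comp, Equiv.apply_symm_apply, Category.assoc, ι_coverHom_comp]
    exact hy i k
  · intro _ hB₃
    have := hκ
    exact FG.of_epi (kernelCompMono (coverHom g) a.inv).inv (fg_kernel_coverHom hB₁ g hg hB₃ hU hV)

include hB₁ hB₂ in
/-- The kernel of a composite. -/
theorem fg_kernel_comp {X Y Z : ModSite.Mod O} (a : X ⟶ Y) (b : Y ⟶ Z) (ha : FG B (kernel a))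
    (hb : FG B (kernel b)) [Epi (kernel.map (a ≫ b) b a (𝟙 Z) (Category.comp_id _))] :
    FG B (kernel (a ≫ b)) := by
  obtain ⟨R₁, g₁, hR₁, hg₁⟩ := ha
  obtain ⟨R, gb, hR, hgb⟩ := hb
  let km := kernel.map (a ≫ b) b a (𝟙 Z) (Category.comp_id _)
  obtain ⟨R', e, l, hR', he, hl, -⟩ := exists_lift_cover hB₁ hB₂ hR km gb
  let j : kernel a ⟶ kernel (a ≫ b) := kernel.lift _ (kernel.ι a) (by simp)
  refine ⟨R₁ ⊞ R', biprod.desc (g₁ ≫ j) l, hR₁.biprod hR', ?_⟩
  rw [epi_iff_surjective_up_to_refinements]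
  intro A y
  obtain ⟨A₁, π₁, hπ₁, x, hx⟩ := surjective_up_to_refinements_of_epi (e ≫ gb) (y ≫ km)
  have hd : ((π₁ ≫ y - x ≫ l) ≫ kernel.ι (a ≫ b)) ≫ a = 0 := by
    have h := congrArg (· ≫ kernel.ι b) hx
    simp only [km, Category.assoc, kernel.lift_ι] at h
    rw [Preadditive.sub_comp, Preadditive.sub_comp, sub_eq_zero, Category.assoc, Category.assoc, Category.assoc]
    have h2 := congrArg (fun t => x ≫ t ≫ kernel.ι b) hl
    simp only [km, Category.assoc, kernel.lift_ι] at h2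
    simp only [Category.assoc]
    rw [h, h2]
  obtain ⟨A₂, π₂, hπ₂, x₂, hx₂⟩ := surjective_up_to_refinements_of_epi g₁ (kernel.lift a _ hd)
  refine ⟨A₂, π₂ ≫ π₁, epi_comp _ _, biprod.lift x₂ (π₂ ≫ x), ?_⟩
  rw [biprod.lift_desc, ← cancel_mono (kernel.ι (a ≫ b))]
  have h3 := congrArg (· ≫ kernel.ι a) hx₂
  simp only [Category.assoc, kernel.lift_ι] at h3
  simp only [j, Category.assoc, Preadditive.add_comp, kernel.lift_ι, ← h3, Preadditive.comp_sub,
    Preadditive.sub_comp]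
  abel

lemma epi_kernelMap_of_epi {X Y Z : ModSite.Mod O} (a : X ⟶ Y) [Epi a] (b : Y ⟶ Z) :
    Epi (kernel.map (a ≫ b) b a (𝟙 Z) (Category.comp_id _)) := by
  rw [epi_iff_surjective_up_to_refinements]
  intro A y
  obtain ⟨A₁, π₁, hπ₁, x, hx⟩ := surjective_up_to_refinements_of_epi a (y ≫ kernel.ι b)
  refine ⟨A₁, π₁, hπ₁, kernel.lift _ x (by rw [← Category.assoc, ← hx, Category.assoc, Category.assoc,
    kernel.condition, comp_zero, comp_zero]), ?_⟩
  rw [← cancel_mono (kernel.ι b)]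
  simp only [Category.assoc, kernel.lift_ι, kernel.lift_ι_assoc]
  exact hx

include hB₁ hB₂ in
/-- A quotient by a finitely generated submodule. -/
theorem FP.quotient {Z K : ModSite.Mod O} (hZ : FP B Z) (q : Z ⟶ K) [Epi q] (hq : FG B (kernel q)) :
    FP B K := by
  obtain ⟨P, g, hP, hg, hk⟩ := hZ
  have := epi_kernelMap_of_epi g q
  exact ⟨P, g ≫ q, hP, epi_comp _ _, fg_kernel_comp hB₁ hB₂ g q hk hq⟩

include hB₁ hB₂ in
/-- Cokernels. -/
theorem FP.cokernel {F G : ModSite.Mod O} (α : F ⟶ G) (hF : FP B F) (hG : FP B G) :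
    FP B (Limits.cokernel α) := by
  refine FP.quotient hB₁ hB₂ hG (cokernel.π α) ?_
  have : Epi (kernel.lift (cokernel.π α) α (cokernel.condition α)) :=
    (ShortComplex.exact_iff_epi_kernel_lift _).1 (ShortComplex.exact_of_g_is_cokernel
      (ShortComplex.mk α (cokernel.π α) (cokernel.condition α)) (cokernelIsCokernel α))
  exact FG.of_epi (kernel.lift (cokernel.π α) α (cokernel.condition α)) hF.fg

section Pullbacks

variable [HasPullbacks C]
  (hB₃ : ∀ (U U₁ U₂ : C) (f₁ : U₁ ⟶ U) (f₂ : U₂ ⟶ U), U ∈ B → U₁ ∈ B → U₂ ∈ B →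
    CohCx.IsQcObject ((presheafToSheaf J (Type u)).obj (yoneda.obj (pullback f₁ f₂))))

include hB₁ hB₂ hB₃ in
/-- Extensions. -/
theorem FP.extension (S : ShortComplex (ModSite.Mod O)) (hS : S.ShortExact) (h₁ : FP B S.X₁)
    (h₃ : FP B S.X₃) : FP B S.X₂ := by
  obtain ⟨P₁, g₁, hP₁, hg₁, hk₁⟩ := h₁
  obtain ⟨P₃, g₃, hP₃, hg₃, hk₃⟩ := h₃
  have := hS.epi_g
  have := hS.mono_f
  obtain ⟨Q, e, ψ, hQ, he, hψ, hke⟩ := exists_lift_cover hB₁ hB₂ hP₃ S.g g₃
  have := epi_kernelMap_of_epi e g₃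
  have hk : FG B (kernel (e ≫ g₃)) := fg_kernel_comp hB₁ hB₂ e g₃ (hke hB₃) hk₃
  let a : P₁ ⊞ Q ⟶ S.X₁ ⊞ Q := biprod.map g₁ (𝟙 Q)
  let b : S.X₁ ⊞ Q ⟶ S.X₂ := biprod.desc S.f ψ
  have hea : Epi a := inferInstance
  have heb : Epi b := by
    rw [epi_iff_surjective_up_to_refinements]
    intro A y
    obtain ⟨A₁, π₁, hπ₁, x, hx⟩ := surjective_up_to_refinements_of_epi (e ≫ g₃) (y ≫ S.g)
    have h0 : (π₁ ≫ y - x ≫ ψ) ≫ S.g = 0 := by
      rw [Preadditive.sub_comp, Category.assoc, Category.assoc, hψ, hx, sub_self]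
    refine ⟨A₁, π₁, hπ₁, biprod.lift (hS.exact.lift _ h0) x, ?_⟩
    rw [biprod.lift_desc, ShortComplex.Exact.lift_f, sub_add_cancel]
  have ha : FG B (kernel a) := by
    let j : kernel g₁ ⟶ kernel a := kernel.lift a (kernel.ι g₁ ≫ biprod.inl) (by simp [a])
    have : Epi j := by
      rw [epi_iff_surjective_up_to_refinements]
      intro A y
      have h1 : (y ≫ kernel.ι a ≫ biprod.fst) ≫ g₁ = 0 := by
        have h := congrArg (fun t => y ≫ t ≫ biprod.fst) (kernel.condition a)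
        simp only [a, Category.assoc, biprod.map_fst, comp_zero, zero_comp] at h ⊢
        exact h
      have h2 : kernel.ι a ≫ biprod.snd = 0 := by
        have h := congrArg (· ≫ biprod.snd) (kernel.condition a)
        simp only [a, Category.assoc, biprod.map_snd, Category.comp_id, zero_comp] at h ⊢
        exact h
      refine ⟨A, 𝟙 A, inferInstance, kernel.lift g₁ _ h1, ?_⟩
      rw [← cancel_mono (kernel.ι a)]
      refine biprod.hom_ext _ _ (by simp [j]) (by simp [j, h2])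
    exact FG.of_epi j hk₁
  have hb : FG B (kernel b) := by
    have h0 : (kernel.ι (e ≫ g₃) ≫ ψ) ≫ S.g = 0 := by rw [Category.assoc, hψ, kernel.condition]
    let c := hS.exact.lift _ h0
    have hc : c ≫ S.f = kernel.ι (e ≫ g₃) ≫ ψ := ShortComplex.Exact.lift_f _ _ _
    let j : kernel (e ≫ g₃) ⟶ kernel b := kernel.lift b (biprod.lift (-c) (kernel.ι (e ≫ g₃)))
      (by rw [biprod.lift_desc, Preadditive.neg_comp, hc, neg_add_cancel])
    have : Epi j := by
      rw [epi_iff_surjective_up_to_refinements]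
      intro A y
      have hy : y ≫ kernel.ι b ≫ biprod.fst ≫ S.f + y ≫ kernel.ι b ≫ biprod.snd ≫ ψ = 0 := by
        have h := congrArg (y ≫ ·) (kernel.condition b)
        simp only [b, biprod.desc_eq, Preadditive.comp_add, comp_zero] at h
        exact h
      have h1 : (y ≫ kernel.ι b ≫ biprod.snd) ≫ e ≫ g₃ = 0 := by
        have h := congrArg (· ≫ S.g) hy
        simpa [Preadditive.add_comp, hψ] using h
      refine ⟨A, 𝟙 A, inferInstance, kernel.lift _ _ h1, ?_⟩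
      rw [← cancel_mono (kernel.ι b)]
      refine biprod.hom_ext _ _ ?_ (by simp [j])
      simp only [Category.assoc, Category.id_comp, j, kernel.lift_ι, biprod.lift_fst, kernel.lift_ι_assoc,
        Preadditive.comp_neg]
      rw [← cancel_mono S.f, Preadditive.neg_comp, Category.assoc (kernel.lift _ _ h1), hc, kernel.lift_ι_assoc]
      rw [← add_eq_zero_iff_eq_neg]
      simpa only [Category.assoc] using hy
    exact FG.of_epi j hk
  have := epi_kernelMap_of_epi a b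
  exact ⟨P₁ ⊞ Q, a ≫ b, hP₁.biprod hQ, epi_comp _ _, fg_kernel_comp hB₁ hB₂ a b ha hb⟩

include hB₁ hB₂ hB₃ in
/-- Kernels, if kernels between finite sums are finitely presented. -/
theorem FP.kernel
    (hker : ∀ {P Q : ModSite.Mod O} (φ : P ⟶ Q), FS B P → FS B Q → FP B (Limits.kernel φ))
    {F G : ModSite.Mod O} (α : F ⟶ G) (hF : FP B F) (hG : FP B G) : FP B (Limits.kernel α) := by
  obtain ⟨P, g, hP, hg, hk⟩ := hF
  obtain ⟨P', g', hP', hg', R, gr, hR, hgr⟩ := hG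
  obtain ⟨Q, e, γ, hQ, he, hγ, hke⟩ := exists_lift_cover hB₁ hB₂ hP g' (g ≫ α)
  let g'' : Q ⟶ F := e ≫ g
  have hg'' : Epi g'' := epi_comp _ _
  have := epi_kernelMap_of_epi e g
  have hk'' : FG B (Limits.kernel g'') := fg_kernel_comp hB₁ hB₂ e g (hke hB₃) hk
  have hγ' : γ ≫ g' = g'' ≫ α := hγ.trans (Category.assoc _ _ _).symm
  let r : R ⟶ P' := gr ≫ Limits.kernel.ι g'
  have hrg : r ≫ g' = 0 := by simp [r]
  let d : Q ⊞ R ⟶ P' := biprod.desc γ r
  let a : Limits.kernel d ⟶ Q := kernel.ι d ≫ biprod.fst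
  have hZ : FP B (Limits.kernel d) := hker d (hQ.biprod hR) hP'
  have hlift : ∀ {A : ModSite.Mod O} (x : A ⟶ Q), x ≫ g'' ≫ α = 0 →
      ∃ (A' : ModSite.Mod O) (π : A' ⟶ A) (_ : Epi π) (z : A' ⟶ Limits.kernel d), π ≫ x = z ≫ a := by
    intro A x hx
    obtain ⟨A', π, hπ, s, hs⟩ := surjective_up_to_refinements_of_epi gr
      (kernel.lift g' (x ≫ γ) (by rw [Category.assoc, hγ', hx]))
    have hs' : π ≫ x ≫ γ = s ≫ r := by
      have h := congrArg (· ≫ Limits.kernel.ι g') hs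
      simpa [r] using h
    refine ⟨A', π, hπ, kernel.lift d (biprod.lift (π ≫ x) (-s))
      (by rw [biprod.lift_desc, Preadditive.neg_comp, Category.assoc, hs', add_neg_cancel]), ?_⟩
    simp [a]
  have haα : (a ≫ g'') ≫ α = 0 := by
    have h : kernel.ι d ≫ biprod.fst ≫ γ + kernel.ι d ≫ biprod.snd ≫ r = 0 := by
      have h := kernel.condition d
      simp only [d, biprod.desc_eq, Preadditive.comp_add] at h
      exact h
    have h' := congrArg (· ≫ g') h
    simpa [a, Preadditive.add_comp, hrg, hγ'] using h'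
  let q : Limits.kernel d ⟶ Limits.kernel α := kernel.lift α (a ≫ g'') haα
  have : Epi q := by
    rw [epi_iff_surjective_up_to_refinements]
    intro A y
    obtain ⟨A₁, π₁, hπ₁, x, hx⟩ := surjective_up_to_refinements_of_epi g'' (y ≫ kernel.ι α)
    obtain ⟨A₂, π₂, hπ₂, z, hz⟩ := hlift x (by
      rw [← Category.assoc, ← hx, Category.assoc, Category.assoc, kernel.condition, comp_zero, comp_zero])
    refine ⟨A₂, π₂ ≫ π₁, epi_comp _ _, z, ?_⟩
    rw [← cancel_mono (kernel.ι α), Category.assoc, Category.assoc, hx, ← Category.assoc, hz]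
    simp [q]
  have hka : FG B (Limits.kernel a) := by
    let j : Limits.kernel r ⟶ Limits.kernel a :=
      kernel.lift a (kernel.lift d (kernel.ι r ≫ biprod.inr) (by simp [d])) (by simp [a])
    have : Epi j := by
      rw [epi_iff_surjective_up_to_refinements]
      intro A y
      let z : A ⟶ Q ⊞ R := y ≫ kernel.ι a ≫ kernel.ι d
      have hzf : z ≫ biprod.fst = 0 := by
        have h := congrArg (y ≫ ·) (kernel.condition a)
        simpa [a, z] using h
      have hzd : z ≫ d = 0 := by simp [z]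
      have hzs : (z ≫ biprod.snd) ≫ r = 0 := by
        simp only [d, biprod.desc_eq, Preadditive.comp_add, ← Category.assoc, hzf, zero_comp, zero_add] at hzd
        exact hzd
      refine ⟨A, 𝟙 A, inferInstance, kernel.lift r _ hzs, ?_⟩
      rw [← cancel_mono (kernel.ι a), ← cancel_mono (kernel.ι d)]
      refine biprod.hom_ext _ _ ?_ ?_
      · simpa [j, z] using hzf
      · simp [j, z]
    exact FG.of_epi j (hker r hR hP').fg
  have : Epi (kernel.map (a ≫ g'') g'' a (𝟙 F) (Category.comp_id _)) := by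
    rw [epi_iff_surjective_up_to_refinements]
    intro A y
    obtain ⟨A', π, hπ, z, hz⟩ := hlift (y ≫ kernel.ι g'') (by
      rw [Category.assoc, kernel.condition_assoc, zero_comp, comp_zero])
    refine ⟨A', π, hπ, kernel.lift _ z (by
      rw [← Category.assoc, ← hz, Category.assoc, Category.assoc, kernel.condition, comp_zero, comp_zero]), ?_⟩
    rw [← cancel_mono (kernel.ι g'')]
    simp only [Category.assoc, kernel.lift_ι, kernel.lift_ι_assoc]
    exact hz
  have hkc : FG B (Limits.kernel (a ≫ g'')) := fg_kernel_comp hB₁ hB₂ a g'' hka hk''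
  let j : Limits.kernel (a ≫ g'') ⟶ Limits.kernel q := kernel.lift q (kernel.ι (a ≫ g'')) (by
    rw [← cancel_mono (kernel.ι α)]; simp [q])
  have : IsIso j := ⟨kernel.lift _ (kernel.ι q) (by
    have h := congrArg (· ≫ kernel.ι α) (kernel.condition q)
    simp only [q, Category.assoc, kernel.lift_ι, zero_comp] at h
    exact h), by rw [← cancel_mono (kernel.ι (a ≫ g''))]; simp [j],
    by rw [← cancel_mono (kernel.ι q)]; simp [j]⟩
  exact FP.quotient hB₁ hB₂ hZ q (FG.of_epi j hkc)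

end Pullbacks

end Qc

/-! ### Comparison with the explicit form -/

/-- The explicit form of a finite presentation. -/
theorem fp_iff (hB₁ : ∀ X : C, ∃ (κ : Type u) (Y : κ → C) (g : ∀ k, Y k ⟶ X), Sieve.ofArrows Y g ∈ J X ∧ ∀ k, Y k ∈ B)
    (hB₂ : ∀ U ∈ B, CohCx.IsQcObject ((presheafToSheaf J (Type u)).obj (yoneda.obj U))) (F : ModSite.Mod O) :
    FP B F ↔ ∃ (m n : ℕ) (V : Fin m → C) (U : Fin n → C)
      (ψ : (∐ fun j => ModSite.freeOn O (V j)) ⟶ ∐ fun i => ModSite.freeOn O (U i)),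
      (∀ j, V j ∈ B) ∧ (∀ i, U i ∈ B) ∧ Nonempty (F ≅ Limits.cokernel ψ) := by
  constructor
  · rintro ⟨P, g, hP, hg, R, r, hR, hr⟩
    obtain ⟨n, U, hU, ⟨eP⟩⟩ := hP.exists_fin
    obtain ⟨m, V, hV, ⟨eR⟩⟩ := hR.exists_fin
    let ψ := eR.inv ≫ (r ≫ kernel.ι g) ≫ eP.hom
    refine ⟨m, n, V, U, ψ, hV, hU, ⟨?_⟩⟩
    have hex : (ShortComplex.mk (r ≫ kernel.ι g) g (by simp)).Exact := by
      rw [ShortComplex.exact_iff_epi_kernel_lift]
      have e : kernel.lift g (r ≫ kernel.ι g) (by simp) = r := by rw [← cancel_mono (kernel.ι g)]; simp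
      change Epi (kernel.lift g (r ≫ kernel.ι g) _)
      rwa [e]
    exact (hex.gIsCokernel.coconePointUniqueUpToIso (colimit.isColimit _)) ≪≫
      cokernel.mapIso (r ≫ kernel.ι g) ψ eR eP (by simp [ψ])
  · rintro ⟨m, n, V, U, ψ, hV, hU, ⟨e⟩⟩
    have h1 : FP B (∐ fun i => ModSite.freeOn O (U i)) := by
      refine ⟨_, 𝟙 _, fs_sigma U hU, inferInstance, ?_⟩
      refine ⟨∐ fun j : PEmpty.{u + 1} => ModSite.freeOn O (j.elim : C), 0,
        ⟨PEmpty.{u + 1}, inferInstance, fun j => j.elim, fun j => j.elim, ⟨Iso.refl _⟩⟩, ?_⟩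
      exact ⟨fun a b _ => (isZero_kernel_of_mono (𝟙 (∐ fun i => ModSite.freeOn O (U i)))).eq_of_src a b⟩
    refine FP.quotient hB₁ hB₂ h1 (cokernel.π ψ ≫ e.inv) ?_
    have : Epi (kernel.lift (cokernel.π ψ ≫ e.inv) ψ (by simp)) := by
      rw [epi_iff_surjective_up_to_refinements]
      intro A y
      have hy : (y ≫ kernel.ι (cokernel.π ψ ≫ e.inv)) ≫ cokernel.π ψ = 0 := by
        rw [← cancel_mono e.inv]
        simp
      obtain ⟨A', π, hπ, x, hx⟩ := (ShortComplex.exact_of_g_is_cokernel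
        (ShortComplex.mk ψ (cokernel.π ψ) (cokernel.condition ψ)) (cokernelIsCokernel ψ)).exact_up_to_refinements _ hy
      refine ⟨A', π, hπ, x, ?_⟩
      rw [← cancel_mono (kernel.ι (cokernel.π ψ ≫ e.inv))]
      simpa using hx
    exact FG.of_epi (kernel.lift (cokernel.π ψ ≫ e.inv) ψ _) (fs_sigma V hV).fg

end Groth.Agent.Mod48
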