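import Groth.Agent.Mod48.QcType
import Mathlib.CategoryTheory.Filtered.Basic

/-!
Every module is a filtered colimit of modules presented by finite sums of free modules on quasi-compact objects.
-/

universe u

open CategoryTheory CategoryTheory.Limits Opposite

namespace Groth.Agent.Mod48

open SiteMod

variable {C : Type u} [SmallCategory C] {J : GrothendieckTopology C} {O : Sheaf J CommRingCat.{u}} {B : Set C}

/-! ### Complements on finitely presented modules -/

lemma FG.biprod {X Y : ModSite.Mod O} (hX : FG B X) (hY : FG B Y) : FG B (X ⊞ Y) := by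
  obtain ⟨P, π, hP, hπ⟩ := hX
  obtain ⟨P', π', hP', hπ'⟩ := hY
  exact ⟨P ⊞ P', biprod.map π π', hP.biprod hP', inferInstance⟩

lemma FP.biprod {X Y : ModSite.Mod O} (hX : FP B X) (hY : FP B Y) : FP B (X ⊞ Y) := by
  obtain ⟨P, g, hP, hg, hk⟩ := hX
  obtain ⟨P', g', hP', hg', hk'⟩ := hY
  let j : Limits.kernel g ⊞ Limits.kernel g' ⟶ Limits.kernel (Limits.biprod.map g g') :=
    kernel.lift _ (Limits.biprod.map (kernel.ι g) (kernel.ι g')) (by apply biprod.hom_ext <;> simp)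
  refine ⟨P ⊞ P', Limits.biprod.map g g', hP.biprod hP', inferInstance, ?_⟩
  have : Epi j := by
    rw [epi_iff_surjective_up_to_refinements]
    intro A y
    have h₁ : (y ≫ kernel.ι (Limits.biprod.map g g') ≫ Limits.biprod.fst) ≫ g = 0 := by
      have h := congrArg (fun t => y ≫ t ≫ Limits.biprod.fst) (kernel.condition (Limits.biprod.map g g'))
      simp only [Category.assoc, biprod.map_fst, zero_comp, comp_zero] at h ⊢
      exact h
    have h₂ : (y ≫ kernel.ι (Limits.biprod.map g g') ≫ Limits.biprod.snd) ≫ g' = 0 := by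
      have h := congrArg (fun t => y ≫ t ≫ Limits.biprod.snd) (kernel.condition (Limits.biprod.map g g'))
      simp only [Category.assoc, biprod.map_snd, zero_comp, comp_zero] at h ⊢
      exact h
    refine ⟨A, 𝟙 A, inferInstance, Limits.biprod.lift (kernel.lift g _ h₁) (kernel.lift g' _ h₂), ?_⟩
    rw [← cancel_mono (kernel.ι (Limits.biprod.map g g'))]
    apply biprod.hom_ext <;> simp [j]
  exact FG.of_epi j (hk.biprod hk')

lemma fg_zero {Z : ModSite.Mod O} (h : IsZero Z) : FG B Z :=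
  ⟨∐ fun i : Fin 0 => ModSite.freeOn O (i.elim0 : C), 0, fs_sigma (fun i : Fin 0 => (i.elim0 : C)) (fun i => i.elim0),
    ⟨fun a b _ => h.eq_of_src a b⟩⟩

lemma FS.fp {P : ModSite.Mod O} (h : FS B P) : FP B P :=
  ⟨P, 𝟙 P, h, inferInstance, fg_zero (isZero_kernel_of_mono (𝟙 P))⟩

lemma fs_free {U : C} (hU : U ∈ B) : FS B (ModSite.freeOn O U) :=
  ⟨PUnit.{u + 1}, inferInstance, fun _ => U, fun _ => hU,
    ⟨(coproductUniqueIso fun _ : PUnit.{u + 1} => ModSite.freeOn O U).symm⟩⟩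

variable (hB₁ : ∀ X : C, ∃ (κ : Type u) (Y : κ → C) (g : ∀ k, Y k ⟶ X), Sieve.ofArrows Y g ∈ J X ∧ ∀ k, Y k ∈ B)

/-- All maps out of free modules on members of `B`. -/
abbrev GenIdx (B : Set C) (X : ModSite.Mod O) : Type u := Σ U : {U : C // U ∈ B}, (ModSite.freeOn O U.1 ⟶ X)

/-- The canonical map onto a module from free modules on members of `B`. -/
noncomputable def genMap (B : Set C) (X : ModSite.Mod O) :
    (∐ fun i : GenIdx B X => ModSite.freeOn O i.1.1) ⟶ X :=
  Sigma.desc fun i => i.2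

include hB₁ in
lemma epi_genMap (X : ModSite.Mod O) : Epi (genMap B X) := by
  refine (epi_iff_locSurj _).2 fun W x => ?_
  obtain ⟨κ, Y₁, g, hg, hY⟩ := hB₁ W
  refine ⟨_, hg, ?_⟩
  rintro V _ ⟨_, b, _, ⟨k⟩, rfl⟩
  let φ : ModSite.freeOn O (Y₁ k) ⟶ X := (freeOnEquiv (Y₁ k) X).symm (res (pre X) (g k).op x)
  let i : GenIdx B X := ⟨⟨Y₁ k, hY k⟩, φ⟩
  refine ⟨res (pre _) b.op (freeOnEquiv (Y₁ k) _ (Sigma.ι (fun i : GenIdx B X => ModSite.freeOn O i.1.1) i)), ?_⟩
  rw [← res_ap, op_comp, ← res_res]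
  refine congrArg (res (pre X) b.op) ?_
  refine (freeOnEquiv_comp _ _ _).symm.trans ?_
  rw [genMap, Sigma.ι_desc]
  exact Equiv.apply_symm_apply _ _

/-- A map from a quasi-compact free module into a direct sum is a finite sum. -/
lemma exists_finite_free {U : C} (hU : CohCx.IsQcObject ((presheafToSheaf J (Type u)).obj (yoneda.obj U)))
    {ι : Type u} (F : ι → ModSite.Mod O) (x : ModSite.freeOn O U ⟶ ∐ F) :
    ∃ t : Finset ι, x = ∑ i ∈ t, x ≫ sumProj F i ≫ Sigma.ι F i := by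
  obtain ⟨t, ht⟩ := exists_finite_section F hU (freeOnEquiv U _ x)
  refine ⟨t, (freeOnEquiv U _).injective (ht.trans ?_)⟩
  refine Eq.trans ?_ (map_sum (SiteMod.freeOnAddEquiv U (∐ F)) _ _).symm
  refine Finset.sum_congr rfl fun i _ => ?_
  exact ((freeOnEquiv_comp U (x ≫ sumProj F i) (Sigma.ι F i)).trans
    (congrArg _ (freeOnEquiv_comp U x (sumProj F i)))).symm.trans (by rw [Category.assoc]; rfl)

/-! ### The index category -/

variable (B)

/-- Presentations over `F`. -/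
structure PresOb (F : ModSite.Mod O) : Type u where
  m : ℕ
  n : ℕ
  V : Fin m → C
  U : Fin n → C
  hV : ∀ j, V j ∈ B
  hU : ∀ i, U i ∈ B
  ψ : (∐ fun j => ModSite.freeOn O (V j)) ⟶ ∐ fun i => ModSite.freeOn O (U i)
  φ : Limits.cokernel ψ ⟶ F

variable {B} {F : ModSite.Mod O}

/-- Presentations over `F`, as objects over `F`. -/
noncomputable def PresOb.over (o : PresOb B F) : Over F := Over.mk o.φ

noncomputable instance : SmallCategory (PresOb B F) :=
  inferInstanceAs (Category.{u} (InducedCategory (Over F) (PresOb.over (B := B))))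

/-- The diagram of presentations. -/
noncomputable def presDiag (B : Set C) (F : ModSite.Mod O) : PresOb B F ⥤ ModSite.Mod O :=
  inducedFunctor (PresOb.over (B := B)) ⋙ Over.forget F

/-- The canonical cocone. -/
noncomputable def presCocone (B : Set C) (F : ModSite.Mod O) : Cocone (presDiag B F) :=
  ⟨F, { app := fun o => o.φ
        naturality := fun _ _ h => (Over.w h.hom).trans (Category.comp_id _).symm }⟩

/-- Maps over `F` between presentations. -/
noncomputable def presHom {o o' : PresOb B F} (h : Limits.cokernel o.ψ ⟶ Limits.cokernel o'.ψ)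
    (w : h ≫ o'.φ = o.φ) : o ⟶ o' :=
  InducedCategory.homMk (Over.homMk h w)

variable (hB₂ : ∀ U ∈ B, CohCx.IsQcObject ((presheafToSheaf J (Type u)).obj (yoneda.obj U)))

include hB₁ hB₂

lemma PresOb.fp (o : PresOb B F) : FP B (Limits.cokernel o.ψ) :=
  (fp_iff hB₁ hB₂ _).2 ⟨o.m, o.n, o.V, o.U, o.ψ, o.hV, o.hU, ⟨Iso.refl _⟩⟩

lemma exists_presOb {X : ModSite.Mod O} (hX : FP B X) (f : X ⟶ F) :
    ∃ (o : PresOb B F) (e : X ≅ Limits.cokernel o.ψ), e.hom ≫ o.φ = f := by
  obtain ⟨m, n, V, U, ψ, hV, hU, ⟨e⟩⟩ := (fp_iff hB₁ hB₂ X).1 hX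
  exact ⟨⟨m, n, V, U, hV, hU, ψ, e.inv ≫ f⟩, e, e.hom_inv_id_assoc f⟩

lemma isFiltered_presOb : IsFiltered (PresOb B F) :=
  { cocone_objs := fun o o' => by
      obtain ⟨p, e, he⟩ := exists_presOb hB₁ hB₂ ((o.fp hB₁ hB₂).biprod (o'.fp hB₁ hB₂))
        (Limits.biprod.desc o.φ o'.φ)
      exact ⟨p, presHom (Limits.biprod.inl ≫ e.hom) (by rw [Category.assoc, he, biprod.inl_desc]),
        presHom (Limits.biprod.inr ≫ e.hom) (by rw [Category.assoc, he, biprod.inr_desc]), trivial⟩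
    cocone_maps := fun o o' f g => by
      have w : (f.hom.left - g.hom.left) ≫ o'.φ = 0 := by
        rw [Preadditive.sub_comp]
        exact sub_eq_zero.2 ((Over.w f.hom).trans (Over.w g.hom).symm)
      obtain ⟨p, e, he⟩ := exists_presOb hB₁ hB₂
        (FP.cokernel hB₁ hB₂ (f.hom.left - g.hom.left) (o.fp hB₁ hB₂) (o'.fp hB₁ hB₂))
        (cokernel.desc _ o'.φ w)
      refine ⟨p, presHom (cokernel.π (f.hom.left - g.hom.left) ≫ e.hom) (by rw [Category.assoc, he]; exact cokernel.π_desc _ _ _),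
        InducedCategory.hom_ext (Over.OverMorphism.ext ?_)⟩
      have h := cokernel.condition (f.hom.left - g.hom.left)
      rw [Preadditive.sub_comp, sub_eq_zero] at h
      exact (Category.assoc _ _ _).symm.trans ((congrArg (· ≫ e.hom) h).trans (Category.assoc _ _ _))
    nonempty := by
      obtain ⟨p, -, -⟩ := exists_presOb hB₁ hB₂ (FS.fp (fs_sigma (O := O) (fun i : Fin 0 => (i.elim0 : C)) (fun i => i.elim0))) (0 : _ ⟶ F)
      exact ⟨p⟩ }

variable (c : Cocone (presDiag B F))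

/-- The component of a cocone at an object over `F`. -/
noncomputable def presT {X : ModSite.Mod O} (hX : FP B X) (f : X ⟶ F) : X ⟶ c.pt :=
  (exists_presOb hB₁ hB₂ hX f).choose_spec.choose.hom ≫ c.ι.app (exists_presOb hB₁ hB₂ hX f).choose

lemma presT_eq {X : ModSite.Mod O} (hX : FP B X) (f : X ⟶ F) (o : PresOb B F)
    (h : X ⟶ Limits.cokernel o.ψ) (w : h ≫ o.φ = f) : h ≫ c.ι.app o = presT hB₁ hB₂ c hX f := by
  let e := (exists_presOb hB₁ hB₂ hX f).choose_spec.choose
  have he : e.hom ≫ (exists_presOb hB₁ hB₂ hX f).choose.φ = f :=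
    (exists_presOb hB₁ hB₂ hX f).choose_spec.choose_spec
  have := c.w (presHom (o := (exists_presOb hB₁ hB₂ hX f).choose) (o' := o) (e.inv ≫ h)
    (by rw [Category.assoc, w]; exact (congrArg (e.inv ≫ ·) he).symm.trans (e.inv_hom_id_assoc _)))
  change _ = e.hom ≫ _
  rw [← this]
  exact (e.hom_inv_id_assoc _).symm.trans ((congrArg (e.hom ≫ ·) (Category.assoc _ _ _).symm).trans rfl)

lemma presT_comp {X Y : ModSite.Mod O} (hX : FP B X) (hY : FP B Y) (g : Y ⟶ F) (h : X ⟶ Y) :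
    h ≫ presT hB₁ hB₂ c hY g = presT hB₁ hB₂ c hX (h ≫ g) := by
  obtain ⟨o, e, he⟩ := exists_presOb hB₁ hB₂ hY g
  rw [← presT_eq hB₁ hB₂ c hY g o e.hom he, ← presT_eq hB₁ hB₂ c hX (h ≫ g) o (h ≫ e.hom)
    (by rw [Category.assoc, he]), Category.assoc]

lemma presT_zero {X : ModSite.Mod O} (hX : FP B X) : presT hB₁ hB₂ c hX (0 : X ⟶ F) = 0 := by
  have h := presT_comp hB₁ hB₂ c hX hX (0 : X ⟶ F) 0
  simpa using h.symm

lemma genDesc_kills :
    kernel.ι (genMap B F) ≫ Sigma.desc (fun i : GenIdx B F => presT hB₁ hB₂ c (fs_free i.1.2).fp i.2) = 0 := by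
  classical
  have := epi_genMap hB₁ (Limits.kernel (genMap B F))
  rw [← cancel_epi (genMap B (Limits.kernel (genMap B F))), comp_zero]
  refine Sigma.hom_ext _ _ fun j => ?_
  rw [comp_zero]
  refine (Sigma.ι_desc_assoc _ _ _).trans ?_
  change j.2 ≫ kernel.ι (genMap B F) ≫ _ = 0
  let x : ModSite.freeOn O j.1.1 ⟶ ∐ fun i : GenIdx B F => ModSite.freeOn O i.1.1 := j.2 ≫ kernel.ι (genMap B F)
  have hx : x ≫ genMap B F = 0 := by simp [x]
  obtain ⟨t, ht⟩ := exists_finite_free (hB₂ _ j.1.2) (fun i : GenIdx B F => ModSite.freeOn O i.1.1) x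
  have hX : FS B (∐ fun i : {i // i ∈ t} => ModSite.freeOn O i.1.1.1) :=
    ⟨{i // i ∈ t}, inferInstance, fun i => i.1.1.1, fun i => i.1.1.2, ⟨Iso.refl _⟩⟩
  let p : (∐ fun i : {i // i ∈ t} => ModSite.freeOn O i.1.1.1) ⟶ ∐ fun i : GenIdx B F => ModSite.freeOn O i.1.1 :=
    Sigma.desc fun i => Sigma.ι (fun i : GenIdx B F => ModSite.freeOn O i.1.1) i.1
  have hp : p ≫ Sigma.desc (fun i : GenIdx B F => presT hB₁ hB₂ c (fs_free i.1.2).fp i.2) =
      presT hB₁ hB₂ c hX.fp (p ≫ genMap B F) := by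
    refine Sigma.hom_ext _ _ fun i => ?_
    rw [presT_comp hB₁ hB₂ c (fs_free i.1.1.2).fp]
    simp [p, genMap]
  let x' : ModSite.freeOn O j.1.1 ⟶ ∐ fun i : {i // i ∈ t} => ModSite.freeOn O i.1.1.1 :=
    ∑ i ∈ t.attach, x ≫ sumProj (fun i : GenIdx B F => ModSite.freeOn O i.1.1) i.1 ≫
      Sigma.ι (fun i : {i // i ∈ t} => ModSite.freeOn O i.1.1.1) i
  have hx' : x' ≫ p = x := by
    refine Eq.trans ?_ ht.symm
    simp only [x', Preadditive.sum_comp, Category.assoc, p, Sigma.ι_desc]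
    exact Finset.sum_attach t
      (fun i => x ≫ sumProj (fun i : GenIdx B F => ModSite.freeOn O i.1.1) i ≫
        Sigma.ι (fun i : GenIdx B F => ModSite.freeOn O i.1.1) i)
  rw [← Category.assoc]
  change x ≫ _ = 0
  rw [← hx', Category.assoc, hp, presT_comp hB₁ hB₂ c (fs_free j.1.2).fp, ← Category.assoc, hx', hx,
    presT_zero]

omit c in
/-- Every module is the colimit of the presentations over it. -/
theorem isColimit_presCocone : Nonempty (IsColimit (presCocone B F)) := by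
  have := epi_genMap hB₁ F
  let hc := Abelian.epiIsCokernelOfKernel _ (limit.isLimit (parallelPair (genMap B F) 0))
  have hd : ∀ c : Cocone (presDiag B F), ∃ d : F ⟶ c.pt, genMap B F ≫ d =
      Sigma.desc (fun i : GenIdx B F => presT hB₁ hB₂ c (fs_free i.1.2).fp i.2) := fun c =>
    ⟨_, (CokernelCofork.IsColimit.desc' hc _ (genDesc_kills hB₁ hB₂ c)).2⟩
  choose d hd using hd
  refine ⟨⟨d, fun c o => ?_, fun c m hm => ?_⟩⟩
  · have := epi_genMap hB₁ (Limits.cokernel o.ψ)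
    change o.φ ≫ d c = c.ι.app o
    refine (cancel_epi (genMap B (Limits.cokernel o.ψ))).1 (Sigma.hom_ext _ _ fun j => ?_)
    rw [genMap, Sigma.ι_desc_assoc, Sigma.ι_desc_assoc]
    have h := congrArg (Sigma.ι (fun i : GenIdx B F => ModSite.freeOn O i.1.1) ⟨j.1, j.2 ≫ o.φ⟩ ≫ ·) (hd c)
    simp only [genMap, Sigma.ι_desc_assoc, Sigma.ι_desc, Category.assoc] at h
    exact h.trans (presT_eq hB₁ hB₂ c _ _ o j.2 rfl).symm
  · refine (cancel_epi (genMap B F)).1 ((Sigma.hom_ext _ _ fun i => ?_).trans (hd c).symm)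
    rw [genMap, Sigma.ι_desc_assoc, Sigma.ι_desc]
    obtain ⟨o, e, he⟩ := exists_presOb hB₁ hB₂ (fs_free i.1.2).fp i.2
    rw [← presT_eq hB₁ hB₂ c (fs_free i.1.2).fp i.2 o e.hom he, ← hm o, ← he, Category.assoc]
    rfl

end Groth.Agent.Mod48
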