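import Groth.Agent.SiteMod.Basics
import Groth.Agent.SiteMod.FreeTop
import Mathlib.Algebra.Category.ModuleCat.Sheaf.LocallyFree

/-!
Restriction from `C/U` to `C/W` along `W ⟶ U`.
-/

universe u

open CategoryTheory CategoryTheory.Limits Opposite

namespace Groth.Agent.Mod48

open SiteMod

variable {C : Type u} [SmallCategory C] {J : GrothendieckTopology C} {O : Sheaf J CommRingCat.{u}}
  {W U : C} (φ : W ⟶ U)

/-- The identity of functions. -/
noncomputable def restrMapRing : ModSite.ringSh (O.over W) ⟶
    ((Over.map φ).sheafPushforwardContinuous RingCat.{u} (J.over W) (J.over U)).obj (ModSite.ringSh (O.over U)) :=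
  ⟨{ app := fun _ => 𝟙 _
     naturality := fun _ _ _ => (Category.comp_id _).trans (Category.id_comp _).symm }⟩

/-- Restriction along `φ`. -/
noncomputable def restrMap : ModSite.Mod (O.over U) ⥤ ModSite.Mod (O.over W) :=
  SheafOfModules.pushforward.{u} (F := Over.map φ) (S := ModSite.ringSh (O.over W)) (R := ModSite.ringSh (O.over U))
    (restrMapRing φ)

/-- Restricting twice. -/
noncomputable def restrMapIso : ModSite.restr O U ⋙ restrMap φ ≅ ModSite.restr O W :=
  NatIso.ofComponents
    (fun M => (SheafOfModules.forget _).preimageIso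
      (PresheafOfModules.isoMk (fun _ => Iso.refl _) (fun _ _ _ => by ext x; rfl)))
    (fun {M N} f => by
      apply (SheafOfModules.forget _).map_injective
      rw [Functor.map_comp, Functor.map_comp, Functor.preimageIso_hom, Functor.preimageIso_hom,
        Functor.map_preimage, Functor.map_preimage]
      refine PresheafOfModules.hom_ext fun X => ModuleCat.hom_ext (LinearMap.ext fun x => ?_)
      rfl)

theorem preservesColimits_restrMap : PreservesColimitsOfSize.{u, u} (restrMap (O := O) φ) := by
  have h1 := SiteMod.toSheaf_preservesColimits' (ModSite.ringSh (O.over U))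
  have h2 := SiteMod.toSheaf_preservesColimits' (ModSite.ringSh (O.over W))
  have : ReflectsColimitsOfSize.{u, u} (SheafOfModules.toSheaf.{u} (ModSite.ringSh (O.over W))) :=
    reflectsColimits_of_reflectsIsomorphisms
  have h3 : PreservesColimitsOfSize.{u, u}
      ((Over.map φ).sheafPushforwardContinuous AddCommGrpCat.{u} (J.over W) (J.over U)) :=
    ((Over.map φ).sheafAdjunctionCocontinuous AddCommGrpCat.{u} (J.over W) (J.over U)).leftAdjoint_preservesColimits
  have h5 : PreservesColimitsOfSize.{u, u}
      (restrMap (O := O) φ ⋙ SheafOfModules.toSheaf.{u} (ModSite.ringSh (O.over W))) :=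
    inferInstanceAs (PreservesColimitsOfSize.{u, u} (SheafOfModules.toSheaf.{u} (ModSite.ringSh (O.over U)) ⋙
      (Over.map φ).sheafPushforwardContinuous AddCommGrpCat.{u} (J.over W) (J.over U)))
  exact preservesColimits_of_reflects_of_preserves _ (SheafOfModules.toSheaf.{u} (ModSite.ringSh (O.over W)))

/-- The structure sheaf restricts to the structure sheaf. -/
noncomputable def restrMapUnitIso : ModSite.unit (O.over W) ≅ (restrMap (O := O) φ).obj (ModSite.unit (O.over U)) :=
  ((restrMapIso (O := O) φ).app (ModSite.unit O)).symm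

/-- Free restrictions stay free. -/
theorem nonempty_restr_free (F : ModSite.Mod O) {ι : Type u}
    (h : Nonempty ((ModSite.restr O U).obj F ≅ freeM (O := O.over U) ι)) (φ : W ⟶ U) :
    Nonempty ((ModSite.restr O W).obj F ≅ freeM (O := O.over W) ι) := by
  obtain ⟨e⟩ := h
  have := preservesColimits_restrMap (O := O) φ
  have : PreservesColimitsOfSize.{0, 0} (restrMap (O := O) φ) := preservesColimitsOfSize_shrink _
  exact ⟨((restrMapIso (O := O) φ).app F).symm ≪≫ (restrMap φ).mapIso e ≪≫
    (SheafOfModules.mapFreeIso (restrMap φ) ι (restrMapUnitIso φ)).symm⟩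

end Groth.Agent.Mod48
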