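import Groth.Agent.Mod48.StalkFun
import Groth.Agent.Mod48.RestrMap
import Mathlib.Topology.Sheaves.Points
import Mathlib.Topology.Sheaves.Stalks
import Mathlib.Topology.LocallyConstant.Basic

/-!
The rank of a locally free module on a ringed space.
-/

universe u

open CategoryTheory CategoryTheory.Limits Opposite TopologicalSpace

namespace Groth.Agent.Mod48

open SiteMod

variable {X : TopCat.{u}} {O : TopCat.Sheaf CommRingCat.{u} X}

lemma nontrivial_stalkRing_over (hO : ∀ x : X, Nontrivial (O.presheaf.stalk x)) {x : X} {W : Opens X}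
    (hx : x ∈ W) : Nontrivial (ModSite.stalkRing
      ((Opens.pointGrothendieckTopology x).over (X := W) ⟨⟨hx⟩⟩) (Sheaf.over O W)) := by
  by_contra h
  rw [not_nontrivial_iff_subsingleton] at h
  let q := (Opens.pointGrothendieckTopology x).over (X := W) ⟨⟨hx⟩⟩
  obtain ⟨T, t⟩ := nbhd q
  obtain ⟨Y, g, y, -, e⟩ := exists_rres_eq_of_germRing_eq (O := Sheaf.over O W) q t (f := 1) (f' := 0)
    (Subsingleton.elim _ _)
  have hy : x ∈ Y.left := (y.1).down.down
  have e' : (1 : O.obj.obj (op Y.left)) = 0 :=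
    (map_one (O.obj.map g.left.op).hom).symm.trans (e.trans (map_zero (O.obj.map g.left.op).hom))
  have := hO x
  have e'' := congrArg (O.presheaf.germ Y.left x hy) e'
  simp only [map_one, map_zero] at e''
  exact one_ne_zero e''

lemma card_eq_of_restr_free (hO : ∀ x : X, Nontrivial (O.presheaf.stalk x)) (F : ModSite.Mod O) {x : X}
    {U U' : Opens X} (hx : x ∈ U) (hx' : x ∈ U') {I I' : Type u}
    (h : Nonempty ((ModSite.restr O U).obj F ≅ SheafOfModules.free I))
    (h' : Nonempty ((ModSite.restr O U').obj F ≅ SheafOfModules.free I')) : ENat.card I = ENat.card I' := by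
  obtain ⟨e⟩ := nonempty_restr_free F h (homOfLE inf_le_left : U ⊓ U' ⟶ U)
  obtain ⟨e'⟩ := nonempty_restr_free F h' (homOfLE inf_le_right : U ⊓ U' ⟶ U')
  have hW : x ∈ U ⊓ U' := ⟨hx, hx'⟩
  exact @card_eq_of_freeIso _ _ _ ((Opens.pointGrothendieckTopology x).over (X := U ⊓ U') ⟨⟨hW⟩⟩)
    (Sheaf.over O (U ⊓ U')) (nontrivial_stalkRing_over hO hW) _ _ (e.symm ≪≫ e')

theorem exists_rank (hO : ∀ x : X, Nontrivial (O.presheaf.stalk x)) (F : ModSite.Mod O)
    [SheafOfModules.IsLocallyFree (R := ModSite.ringSh O) F] :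
    ∃ rk : X → ℕ∞, IsLocallyConstant rk ∧
      ∀ (x : X) (U : Opens X) (I : Type u), x ∈ U →
        Nonempty ((ModSite.restr O U).obj F ≅ SheafOfModules.free I) → ENat.card I = rk x := by
  obtain ⟨q, hq⟩ := SheafOfModules.IsLocallyFree.exists_isLocallyFreeData (M := F)
  have hcov : ∀ x : X, ∃ i, x ∈ q.X i := fun x => by
    obtain ⟨V, f, ⟨i, ⟨g⟩⟩, hV⟩ := q.coversTop ⊤ x trivial
    exact ⟨i, leOfHom g hV⟩
  choose i hi using hcov
  have hfree : ∀ j, Nonempty ((ModSite.restr O (q.X j)).obj F ≅ SheafOfModules.free (q.generators j).I) :=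
    fun j => ⟨(@asIso _ _ _ _ (q.generators j).π (hq.isIso j)).symm⟩
  refine ⟨fun x => ENat.card (q.generators (i x)).I, ?_, fun x U I hx h =>
    card_eq_of_restr_free hO F hx (hi x) h (hfree (i x))⟩
  refine (IsLocallyConstant.iff_exists_open _).2 fun x => ?_
  exact ⟨q.X (i x), (q.X (i x)).2, hi x, fun y hy =>
    card_eq_of_restr_free hO F (hi y) hy (hfree (i y)) (hfree (i x))⟩

end Groth.Agent.Mod48
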