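import Groth.Agent.Mod48.RestrFree
import Groth.Agent.Mod48.OverCharts
import Groth.Agent.SiteMod.Basics
import Groth.Agent.SiteMod.PushTensor
import Groth.Agent.SiteMod.GenExtend
import Mathlib.Algebra.Category.ModuleCat.Sheaf.PullbackFree

/-!
Inverse images commute with restriction.
-/

universe u

open CategoryTheory CategoryTheory.Limits Opposite

namespace Groth.Agent.Mod48

open SiteMod

variable {C D : Type u} [SmallCategory C] [SmallCategory D] {J : GrothendieckTopology C}
  {K : GrothendieckTopology D} {O_C : Sheaf J CommRingCat.{u}} {O_D : Sheaf K CommRingCat.{u}}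
  (f : ModSite.RMor O_C O_D) (X : D)

instance isContinuous_postR : (Over.post (X := X) f.fn).IsContinuous (K.over X) (J.over (f.fn.obj X)) :=
  isContinuous_post J K f.fn X

instance final_postR : (Over.post (X := X) f.fn).Final := final_post f.fn X

/-- The structure map over `X`. -/
noncomputable def sharpX : ModSite.ringSh (O_D.over X) ⟶
    ((Over.post (X := X) f.fn).sheafPushforwardContinuous RingCat.{u} (K.over X) (J.over (f.fn.obj X))).obj
      (ModSite.ringSh (O_C.over (f.fn.obj X))) :=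
  ((Over.forget X).sheafPushforwardContinuous RingCat.{u} (K.over X) K).map f.sharpR

/-- Direct image over `X`. -/
noncomputable abbrev pushX : ModSite.Mod (O_C.over (f.fn.obj X)) ⥤ ModSite.Mod (O_D.over X) :=
  SheafOfModules.pushforward.{u} (sharpX f X)

set_option backward.isDefEq.respectTransparency.types false in
instance isRightAdjoint_pushX : (pushX f X).IsRightAdjoint := inferInstance

/-- Inverse image over `X`. -/
noncomputable abbrev pullX : ModSite.Mod (O_D.over X) ⥤ ModSite.Mod (O_C.over (f.fn.obj X)) :=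
  SheafOfModules.pullback.{u} (sharpX f X)

/-- The adjunction over `X`. -/
noncomputable abbrev adjX : pullX f X ⊣ pushX f X :=
  SheafOfModules.pullbackPushforwardAdjunction.{u} (sharpX f X)

/-- The unit, restricted. -/
noncomputable def restrUnit : ModSite.restr O_D X ⟶
    (f.pull ⋙ ModSite.restr O_C (f.fn.obj X)) ⋙ pushX f X where
  app M := (ModSite.restr O_D X).map (f.adj.unit.app M)
  naturality M N a := by
    refine ((ModSite.restr O_D X).map_comp _ _).symm.trans ?_
    exact (congrArg (ModSite.restr O_D X).map (f.adj.unit.naturality a)).trans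
      ((ModSite.restr O_D X).map_comp _ _)

/-- The comparison. -/
noncomputable def restrPullHom :
    ModSite.restr O_D X ⋙ pullX f X ⟶ f.pull ⋙ ModSite.restr O_C (f.fn.obj X) where
  app M := ((adjX f X).homEquiv _ _).symm ((restrUnit f X).app M)
  naturality M N a := by
    dsimp only [Functor.comp_map]
    rw [← Adjunction.homEquiv_naturality_left_symm, ← Adjunction.homEquiv_naturality_right_symm]
    exact congrArg ((adjX f X).homEquiv _ _).symm ((restrUnit f X).naturality a)

variable (Y : D) (G : ModSite.Mod (O_C.over (f.fn.obj X)))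

/-- Restriction of families. -/
noncomputable def famPush (t : Fam (O := O_C) (f.fn.obj X) (f.fn.obj Y) G) : Fam (O := O_D) X Y ((pushX f X).obj G) :=
  ⟨fun Z b => t.1 ((Over.post f.fn).obj Z) (f.fn.map b), fun Z Z' g b => by
    refine (t.2 ((Over.post f.fn).map g) (f.fn.map b)).trans ?_
    exact congrArg (t.1 _) (f.fn.map_comp _ _).symm⟩

lemma bijective_famPush : Function.Bijective (famPush f X Y G) := by
  constructor
  · intro t t' h
    refine Subtype.ext (funext fun W => funext fun a => ?_)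
    obtain ⟨hS⟩ : Nonempty ((Sieve.overEquiv W).symm (pairSieve f.fn W.hom a) ∈ (J.over (f.fn.obj X)) W) := ⟨by
      rw [J.mem_over_iff, OrderIso.apply_symm_apply]
      exact pairSieve_mem J K f.fn W.hom a⟩
    refine ext_of_sieve (X := op W) hS fun V v hv => ?_
    obtain ⟨Z, g, p, q, e₁, e₂⟩ := (Sieve.overEquiv_symm_iff _ _).1 hv
    rw [t.2, t'.2]
    let c : V ⟶ (Over.post f.fn).obj (Over.mk p) := Over.homMk g (e₁.symm.trans (Over.w v))
    have hc : c.left ≫ f.fn.map q = v.left ≫ a := e₂.symm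
    rw [← hc, ← t.2 c (f.fn.map q), ← t'.2 c (f.fn.map q)]
    exact congrArg (res (pre G) c.op) (congrFun (congrFun (congrArg Subtype.val h) (Over.mk p)) q)
  · intro t
    let P := (CategoryTheory.sheafCompose (J.over (f.fn.obj X)) (forget AddCommGrpCat.{u})).obj (ModSite.toAb G)
    have key : ∀ ⦃V : Over (f.fn.obj X)⦄ {Z₁ Z₂ : Over X} (c₁ : V ⟶ (Over.post f.fn).obj Z₁)
        (c₂ : V ⟶ (Over.post f.fn).obj Z₂) (b₁ : Z₁.left ⟶ Y) (b₂ : Z₂.left ⟶ Y)
        (_ : c₁.left ≫ f.fn.map b₁ = c₂.left ≫ f.fn.map b₂),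
        res (pre G) c₁.op (t.1 Z₁ b₁) = res (pre G) c₂.op (t.1 Z₂ b₂) := by
      intro V Z₁ Z₂ c₁ c₂ b₁ b₂ e
      obtain ⟨R, hR, hr⟩ := exists_common_over J K f.fn X c₁ c₂ b₁ b₂ e
      refine ext_of_sieve (X := op V) hR fun V' v hv => ?_
      obtain ⟨Z, c, p₁, p₂, e₁, e₂, e₃⟩ := hr v hv
      rw [res_res, res_res, ← op_comp, ← op_comp, e₁, e₂, op_comp, op_comp, ← res_res, ← res_res]
      refine congrArg (res (pre G) c.op) ?_
      exact (t.2 p₁ b₁).trans ((congrArg (t.1 Z) e₃).trans (t.2 p₂ b₂).symm)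
    let T : ∀ (W : Over (f.fn.obj X)) (a : W.left ⟶ f.fn.obj Y), Sieve W := fun W a =>
      (Sieve.overEquiv W).symm (pairSieve f.fn W.hom a)
    have hT : ∀ W a, T W a ∈ (J.over (f.fn.obj X)) W := fun W a => by
      rw [J.mem_over_iff, OrderIso.apply_symm_apply]
      exact pairSieve_mem J K f.fn W.hom a
    have hrep : ∀ ⦃W : Over (f.fn.obj X)⦄ (a : W.left ⟶ f.fn.obj Y) ⦃V : Over (f.fn.obj X)⦄ (v : V ⟶ W),
        T W a v → ∃ (Z : Over X) (c : V ⟶ (Over.post f.fn).obj Z) (b : Z.left ⟶ Y),
          c.left ≫ f.fn.map b = v.left ≫ a := by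
      intro W a V v hv
      obtain ⟨Z, g, p, q, e₁, e₂⟩ := (Sieve.overEquiv_symm_iff _ _).1 hv
      exact ⟨Over.mk p, Over.homMk g (e₁.symm.trans (Over.w v)), q, e₂.symm⟩
    choose rZ rc rb hr using hrep
    let x : ∀ W a, Presieve.FamilyOfElements P.obj (T W a).arrows := fun W a V v hv =>
      res (pre G) (rc a v hv).op (t.1 (rZ a v hv) (rb a v hv))
    have hx : ∀ W a, (x W a).Compatible := by
      intro W a Y₁ Y₂ V g₁ g₂ f₁ f₂ h₁ h₂ e
      change res (pre G) g₁.op (res (pre G) _ _) = res (pre G) g₂.op (res (pre G) _ _)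
      rw [res_res, res_res, ← op_comp, ← op_comp]
      refine key _ _ _ _ ?_
      rw [Over.comp_left, Over.comp_left, Category.assoc, Category.assoc, hr, hr, ← Category.assoc,
        ← Category.assoc, ← Over.comp_left, ← Over.comp_left, e]
    have hP : ∀ W a, Presieve.IsSheafFor P.obj (T W a).arrows := fun W a =>
      (isSheaf_iff_isSheaf_of_type _ _).1 P.2 _ (hT W a)
    let s : ∀ (W : Over (f.fn.obj X)) (a : W.left ⟶ f.fn.obj Y), (pre G).obj (op W) := fun W a =>
      (hP W a).amalgamate _ (hx W a)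
    have hs : ∀ ⦃W : Over (f.fn.obj X)⦄ (a : W.left ⟶ f.fn.obj Y) ⦃V : Over (f.fn.obj X)⦄ (v : V ⟶ W)
        (_ : T W a v) {Z : Over X} (c : V ⟶ (Over.post f.fn).obj Z) (b : Z.left ⟶ Y)
        (_ : c.left ≫ f.fn.map b = v.left ≫ a),
        res (pre G) v.op (s W a) = res (pre G) c.op (t.1 Z b) := fun W a V v hv Z c b e =>
      ((hP W a).valid_glue (hx W a) v hv).trans (key _ _ _ _ ((hr a v hv).trans e.symm))
    refine ⟨⟨s, fun W W' g a => ?_⟩, Subtype.ext (funext fun Z => funext fun b => ?_)⟩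
    · refine ext_of_sieve (X := op W')
        ((J.over _).intersection_covering (hT W' (g.left ≫ a)) ((J.over _).pullback_stable g (hT W a)))
        fun V v hv => ?_
      obtain ⟨Z, c, b, e⟩ : ∃ (Z : Over X) (c : V ⟶ (Over.post f.fn).obj Z) (b : Z.left ⟶ Y),
          c.left ≫ f.fn.map b = v.left ≫ g.left ≫ a := ⟨_, _, _, hr (g.left ≫ a) v hv.1⟩
      rw [hs (g.left ≫ a) v hv.1 c b e, res_res, ← op_comp,
        hs a (v ≫ g) hv.2 c b (by rw [Over.comp_left, Category.assoc]; exact e)]
    · let W := (Over.post f.fn).obj Z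
      have hv : T W (f.fn.map b) (𝟙 W) := (Sieve.overEquiv_symm_iff _ _).2
        ⟨Z.left, 𝟙 _, Z.hom, b, rfl, rfl⟩
      have h := hs (f.fn.map b) (𝟙 W) hv (𝟙 W) b (by rfl)
      have hid : ∀ z : (pre G).obj (op W), res (pre G) (𝟙 W).op z = z := fun z => congr($((pre G).map_id (op W)) z)
      rw [hid, hid] at h
      exact h

/-- The canonical section of `f^* j_! O` at the image. -/
noncomputable abbrev genPull : (pre (f.pull.obj (ModSite.freeOn O_D Y))).obj (op (f.fn.obj Y)) :=
  ofPush f _ ((fgt.map (f.adj.unit.app (ModSite.freeOn O_D Y))).app (op Y) (genY Y))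

lemma pullFreeOnIso_inv_genY :
    (fgt.map (pullFreeOnIso f Y).inv).app (op (f.fn.obj Y)) (genY (f.fn.obj Y)) = genPull f Y := by
  rw [genY, ← freeOnEquiv_comp, Category.id_comp]
  refine ((freeOnEquiv (f.fn.obj Y) _).apply_symm_apply _).trans ?_
  change freeOnEquiv Y _ (f.adj.homEquiv _ _ (𝟙 _)) = _
  rw [Adjunction.homEquiv_id]
  refine (congrArg (freeOnEquiv Y _) (Category.id_comp (f.adj.unit.app (ModSite.freeOn O_D Y))).symm).trans ?_
  rw [freeOnEquiv_comp]
  rfl

theorem isIso_restrPullHom_freeOn : IsIso ((restrPullHom f X).app (ModSite.freeOn O_D Y)) := by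
  rw [isIso_iff_coyoneda_map_bijective]
  intro G
  let U := f.fn.obj X
  let ι := (ModSite.restr O_C U).mapIso (pullFreeOnIso f Y)
  rw [← ((adjX f X).homEquiv _ _).bijective.of_comp_iff']
  refine (Function.Bijective.of_comp_iff' (restrFreeEquiv X Y ((pushX f X).obj G)).bijective _).1 ?_
  have : (fun φ : (ModSite.restr O_C U).obj (f.pull.obj (ModSite.freeOn O_D Y)) ⟶ G =>
      restrFreeEquiv X Y ((pushX f X).obj G)
        ((adjX f X).homEquiv _ _ ((restrPullHom f X).app (ModSite.freeOn O_D Y) ≫ φ))) =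
      famPush f X Y G ∘ (restrFreeEquiv U (f.fn.obj Y) G) ∘ (fun φ => ι.inv ≫ φ) := by
    funext φ
    refine Subtype.ext (funext fun Z => funext fun b => ?_)
    rw [restrFreeEquiv_apply, Adjunction.homEquiv_naturality_right]
    change _ = (restrFreeEquiv U (f.fn.obj Y) G (ι.inv ≫ φ)).1 ((Over.post f.fn).obj Z) (f.fn.map b)
    rw [restrFreeEquiv_apply]
    have h1 : (adjX f X).homEquiv _ _ ((restrPullHom f X).app (ModSite.freeOn O_D Y)) =
        (ModSite.restr O_D X).map (f.adj.unit.app (ModSite.freeOn O_D Y)) :=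
      ((adjX f X).homEquiv _ _).apply_symm_apply _
    rw [h1]
    refine congrArg ((fgt.map φ).app (op ((Over.post f.fn).obj Z))) ?_
    change (fgt.map (f.adj.unit.app (ModSite.freeOn O_D Y))).app (op Z.left) (res _ b.op (genY Y)) =
      (fgt.map (pullFreeOnIso f Y).inv).app (op (f.fn.obj Z.left)) (res _ (f.fn.map b).op (genY (f.fn.obj Y)))
    rw [app_res, app_res, pullFreeOnIso_inv_genY]
    rfl
  refine (congrArg Function.Bijective this).mpr ?_
  exact (bijective_famPush f X Y G).comp ((Equiv.bijective _).comp ι.homFromEquiv.bijective)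

/-- Inverse images commute with restriction. -/
theorem isIso_restrPullHom : IsIso (restrPullHom f X) := by
  have := preservesColimits_restr (O := O_D) X
  have := preservesColimits_restr (O := O_C) (f.fn.obj X)
  have : PreservesColimitsOfSize.{u, u} f.pull := f.adj.leftAdjoint_preservesColimits
  have : PreservesColimitsOfSize.{u, u} (pullX f X) := (adjX f X).leftAdjoint_preservesColimits
  exact isIso_of_isIso_app_freeOn _ fun Y => isIso_restrPullHom_freeOn f X Y

/-- Inverse images commute with restriction. -/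
noncomputable def restrPullIso :
    ModSite.restr O_D X ⋙ pullX f X ≅ f.pull ⋙ ModSite.restr O_C (f.fn.obj X) :=
  @asIso _ _ _ _ (restrPullHom f X) (isIso_restrPullHom f X)

/-- The inverse image over `X` of the structure sheaf. -/
noncomputable def pullXUnitIso : (pullX f X).obj (ModSite.unit (O_D.over X)) ≅ ModSite.unit (O_C.over (f.fn.obj X)) :=
  asIso (SheafOfModules.pullbackObjUnitToUnit.{u} (sharpX f X))

/-- Images of a covering family of the final object cover it. -/
theorem coversTop_image {I : Type*} {W : I → D} (h : K.CoversTop W) :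
    J.CoversTop fun i => f.fn.obj (W i) := by
  intro V
  have hc := chartSieve_mem J K f.fn V
  have : ∀ ⦃V' : C⦄ (v : V' ⟶ V), chartSieve f.fn V v → ∃ S ∈ J V', ∀ ⦃V'' : C⦄ (w : V'' ⟶ V'), S w →
      ∃ i, Nonempty (V'' ⟶ f.fn.obj (W i)) := by
    intro V' v ⟨Z, ⟨g⟩⟩
    refine ⟨_, J.pullback_stable g (functorPushforward_mem_of_isContinuous J K f.fn (h Z)), fun V'' w hw => ?_⟩
    obtain ⟨Z', s, a, ⟨i, ⟨k⟩⟩, e⟩ := hw
    exact ⟨i, ⟨a ≫ f.fn.map k⟩⟩
  choose S hS hs using this
  refine J.superset_covering ?_ (J.bind_covering hc fun V' v hv => hS v hv)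
  rintro V'' _ ⟨V', w, v, hv, hw, rfl⟩
  obtain ⟨i, ⟨k⟩⟩ := hs v hv w hw
  exact ⟨i, ⟨k⟩⟩

end Groth.Agent.Mod48
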