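import Groth.Agent.SiteCoh.TypeExact
import Groth.Prelude.Def_ModSite2
import Mathlib.Algebra.Ring.MinimalAxioms

/-!
If the inverse image of sheaves of sets is left exact, the inverse image of a sheaf of commutative
rings is computed on underlying sheaves of sets.
-/

universe u

open CategoryTheory CategoryTheory.Limits Opposite

namespace Groth.Agent.Mod48.RingPullback

open SiteCoh.TypeExact (evS evF pt subsingleton_terminal hom_ext_app congr_app_apply
  mkPair mkPair_fst mkPair_snd eq_mkPair adjT homEquiv_app)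

section Set

variable {D : Type u} [SmallCategory D] {K : GrothendieckTopology D}

/-- The underlying sheaf of sets. -/
noncomputable abbrev uR (R : Sheaf K CommRingCat.{u}) : Sheaf K (Type u) :=
  (sheafCompose K (forget CommRingCat.{u})).obj R

variable {Y : Sheaf K (Type u)} {R : Sheaf K CommRingCat.{u}}

/-- The value of a map into `|R|`, as an element of the ring. -/
abbrev el (f : Y ⟶ uR R) (V : Dᵒᵖ) (y : Y.obj.obj V) : R.obj.obj V := f.hom.app V y

lemma hom_ext_el {f g : Y ⟶ uR R} (h : ∀ V y, el f V y = el g V y) : f = g := hom_ext_app h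

/-- A map into `|R|` from its values. -/
noncomputable def mkHom (F : ∀ V, Y.obj.obj V → R.obj.obj V)
    (h : ∀ ⦃V W : Dᵒᵖ⦄ (r : V ⟶ W) (y : Y.obj.obj V),
      F W (Y.obj.map r y) = (R.obj.map r).hom (F V y)) : Y ⟶ uR R :=
  ⟨{ app := fun V => ↾fun y => F V y
     naturality := fun V W r => by
       ext y
       exact h r y }⟩

lemma el_map (f : Y ⟶ uR R) {V W : Dᵒᵖ} (r : V ⟶ W) (y : Y.obj.obj V) :
    el f W (Y.obj.map r y) = (R.obj.map r).hom (el f V y) :=
  ConcreteCategory.congr_hom (f.hom.naturality r) y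

noncomputable instance : Add (Y ⟶ uR R) where
  add f g := mkHom (fun V y => el f V y + el g V y) fun _ _ r y => by rw [el_map, el_map, map_add]

noncomputable instance : Mul (Y ⟶ uR R) where
  mul f g := mkHom (fun V y => el f V y * el g V y) fun _ _ r y => by rw [el_map, el_map, map_mul]

noncomputable instance : Neg (Y ⟶ uR R) where
  neg f := mkHom (fun V y => -el f V y) fun _ _ r y => by rw [el_map, map_neg]

noncomputable instance : Zero (Y ⟶ uR R) where
  zero := mkHom (fun _ _ => 0) fun _ _ r y => (map_zero _).symm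

noncomputable instance : One (Y ⟶ uR R) where
  one := mkHom (fun _ _ => 1) fun _ _ r y => (map_one _).symm

lemma el_add (f g : Y ⟶ uR R) (V : Dᵒᵖ) (y : Y.obj.obj V) : el (f + g) V y = el f V y + el g V y := rfl
lemma el_mul (f g : Y ⟶ uR R) (V : Dᵒᵖ) (y : Y.obj.obj V) : el (f * g) V y = el f V y * el g V y := rfl
lemma el_neg (f : Y ⟶ uR R) (V : Dᵒᵖ) (y : Y.obj.obj V) : el (-f) V y = -el f V y := rfl
lemma el_zero (V : Dᵒᵖ) (y : Y.obj.obj V) : el (0 : Y ⟶ uR R) V y = 0 := rfl
lemma el_one (V : Dᵒᵖ) (y : Y.obj.obj V) : el (1 : Y ⟶ uR R) V y = 1 := rfl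

noncomputable instance instCommRingHom : CommRing (Y ⟶ uR R) :=
  CommRing.ofMinimalAxioms
    (fun _ _ _ => hom_ext_el fun _ _ => by simp only [el_add, add_assoc])
    (fun _ => hom_ext_el fun _ _ => by simp only [el_add, el_zero, zero_add])
    (fun _ => hom_ext_el fun _ _ => by simp only [el_add, el_neg, el_zero, neg_add_cancel])
    (fun _ _ _ => hom_ext_el fun _ _ => by simp only [el_mul, mul_assoc])
    (fun _ _ => hom_ext_el fun _ _ => by simp only [el_mul, mul_comm])
    (fun _ => hom_ext_el fun _ _ => by simp only [el_mul, el_one, one_mul])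
    (fun _ _ _ => hom_ext_el fun _ _ => by simp only [el_mul, el_add, left_distrib])

lemma comp_add {Z : Sheaf K (Type u)} (q : Z ⟶ Y) (f g : Y ⟶ uR R) : q ≫ (f + g) = q ≫ f + q ≫ g := rfl
lemma comp_mul {Z : Sheaf K (Type u)} (q : Z ⟶ Y) (f g : Y ⟶ uR R) : q ≫ (f * g) = (q ≫ f) * (q ≫ g) := rfl
lemma comp_neg {Z : Sheaf K (Type u)} (q : Z ⟶ Y) (f : Y ⟶ uR R) : q ≫ (-f) = -(q ≫ f) := rfl
lemma comp_zero {Z : Sheaf K (Type u)} (q : Z ⟶ Y) : q ≫ (0 : Y ⟶ uR R) = 0 := rfl
lemma comp_one {Z : Sheaf K (Type u)} (q : Z ⟶ Y) : q ≫ (1 : Y ⟶ uR R) = 1 := rfl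

end Set

section Pull

variable {C D : Type u} [SmallCategory C] [SmallCategory D] (J : GrothendieckTopology C)
  (K : GrothendieckTopology D) (u : D ⥤ C) [u.IsContinuous K J]
  [hu : PreservesFiniteLimits (u.sheafPullback (Type u) K J)]

/-- The sections of the inverse image of the underlying sheaf of sets. -/
def Sec (R : Sheaf K CommRingCat.{u}) (U : Cᵒᵖ) : Type u :=
  (evF J K u U).obj (uR R)

variable {J K u} {U : Cᵒᵖ} {R : Sheaf K CommRingCat.{u}}

/-- The action of a map into `|R|`. -/
noncomputable def app {Y : Sheaf K (Type u)} (f : Y ⟶ uR R) (w : (evF J K u U).obj Y) :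
    Sec J K u R U :=
  (evF J K u U).map f w

lemma app_comp {Y Z : Sheaf K (Type u)} (q : Z ⟶ Y) (f : Y ⟶ uR R) (w : (evF J K u U).obj Z) :
    app (q ≫ f) w = app f ((evF J K u U).map q w) := by
  unfold app
  exact congrArg (fun e => e w) ((evF J K u U).map_comp q f)

lemma app_id (x : Sec J K u R U) : app (𝟙 (uR R)) x = x :=
  congrArg (fun e => e x) ((evF J K u U).map_id (uR R))

noncomputable instance : Add (Sec J K u R U) where
  add x y := app (prod.fst + prod.snd) (mkPair (evF J K u U) (uR R) (uR R) x y)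
noncomputable instance : Mul (Sec J K u R U) where
  mul x y := app (prod.fst * prod.snd) (mkPair (evF J K u U) (uR R) (uR R) x y)
noncomputable instance : Neg (Sec J K u R U) where
  neg x := app (-𝟙 (uR R)) x
noncomputable instance : Zero (Sec J K u R U) where
  zero := app (0 : (⊤_ Sheaf K (Type u)) ⟶ uR R) (pt J K u U)
noncomputable instance : One (Sec J K u R U) where
  one := app (1 : (⊤_ Sheaf K (Type u)) ⟶ uR R) (pt J K u U)

lemma map_lift_pair {Y : Sheaf K (Type u)} (f g : Y ⟶ uR R) (w : (evF J K u U).obj Y) :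
    (evF J K u U).map (prod.lift f g) w = mkPair (evF J K u U) (uR R) (uR R) (app f w) (app g w) := by
  refine eq_mkPair (evF J K u U) _ _ ?_ ?_
  · rw [← ConcreteCategory.comp_apply, ← Functor.map_comp, prod.lift_fst]; rfl
  · rw [← ConcreteCategory.comp_apply, ← Functor.map_comp, prod.lift_snd]; rfl

lemma app_add {Y : Sheaf K (Type u)} (f g : Y ⟶ uR R) (w : (evF J K u U).obj Y) :
    app (f + g) w = app f w + app g w := by
  change _ = app (prod.fst + prod.snd) (mkPair (evF J K u U) _ _ (app f w) (app g w))
  rw [← map_lift_pair, ← app_comp, comp_add, prod.lift_fst, prod.lift_snd]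

lemma app_mul {Y : Sheaf K (Type u)} (f g : Y ⟶ uR R) (w : (evF J K u U).obj Y) :
    app (f * g) w = app f w * app g w := by
  change _ = app (prod.fst * prod.snd) (mkPair (evF J K u U) _ _ (app f w) (app g w))
  rw [← map_lift_pair, ← app_comp, comp_mul, prod.lift_fst, prod.lift_snd]

lemma app_neg {Y : Sheaf K (Type u)} (f : Y ⟶ uR R) (w : (evF J K u U).obj Y) :
    app (-f) w = -app f w := by
  change _ = app (-𝟙 (uR R)) ((evF J K u U).map f w)
  rw [← app_comp, comp_neg, Category.comp_id]

lemma app_zero {Y : Sheaf K (Type u)} (w : (evF J K u U).obj Y) :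
    app (0 : Y ⟶ uR R) w = 0 := by
  rw [← comp_zero (terminal.from Y), app_comp]
  exact congrArg (app (0 : (⊤_ Sheaf K (Type u)) ⟶ uR R)) (subsingleton_terminal.elim _ _)

lemma app_one {Y : Sheaf K (Type u)} (w : (evF J K u U).obj Y) :
    app (1 : Y ⟶ uR R) w = 1 := by
  rw [← comp_one (terminal.from Y), app_comp]
  exact congrArg (app (1 : (⊤_ Sheaf K (Type u)) ⟶ uR R)) (subsingleton_terminal.elim _ _)

lemma exists_triple (x y z : Sec J K u R U) :
    ∃ (P : Sheaf K (Type u)) (a b c : P ⟶ uR R) (w : (evF J K u U).obj P),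
      app a w = x ∧ app b w = y ∧ app c w = z := by
  refine ⟨(uR R ⨯ uR R) ⨯ uR R, prod.fst ≫ prod.fst, prod.fst ≫ prod.snd, prod.snd,
    mkPair (evF J K u U) (uR R ⨯ uR R) (uR R) (mkPair (evF J K u U) (uR R) (uR R) x y) z, ?_, ?_, ?_⟩
  · exact (app_comp _ _ _).trans ((congrArg (app _) (mkPair_fst _ _ _ _ _)).trans (mkPair_fst _ _ _ _ _))
  · exact (app_comp _ _ _).trans ((congrArg (app _) (mkPair_fst _ _ _ _ _)).trans (mkPair_snd _ _ _ _ _))
  · exact mkPair_snd _ _ _ _ _

noncomputable instance instCommRingSec : CommRing (Sec J K u R U) :=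
  CommRing.ofMinimalAxioms
    (fun x y z => by
      obtain ⟨P, a, b, c, w, rfl, rfl, rfl⟩ := exists_triple x y z
      rw [← app_add, ← app_add, ← app_add, ← app_add, add_assoc])
    (fun x => by
      obtain ⟨P, a, b, c, w, rfl, -, -⟩ := exists_triple x x x
      rw [← app_zero (R := R) w, ← app_add, zero_add])
    (fun x => by
      obtain ⟨P, a, b, c, w, rfl, -, -⟩ := exists_triple x x x
      rw [← app_neg, ← app_add, neg_add_cancel]
      exact app_zero w)
    (fun x y z => by
      obtain ⟨P, a, b, c, w, rfl, rfl, rfl⟩ := exists_triple x y z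
      rw [← app_mul, ← app_mul, ← app_mul, ← app_mul, mul_assoc])
    (fun x y => by
      obtain ⟨P, a, b, c, w, rfl, rfl, -⟩ := exists_triple x y x
      rw [← app_mul, ← app_mul, mul_comm])
    (fun x => by
      obtain ⟨P, a, b, c, w, rfl, -, -⟩ := exists_triple x x x
      rw [← app_one (R := R) w, ← app_mul, one_mul])
    (fun x y z => by
      obtain ⟨P, a, b, c, w, rfl, rfl, rfl⟩ := exists_triple x y z
      rw [← app_add, ← app_mul, ← app_mul, ← app_mul, ← app_add, left_distrib])

/-- Restriction of sections. -/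
noncomputable def res {V : Cᵒᵖ} (r : U ⟶ V) (x : Sec J K u R U) : Sec J K u R V :=
  ((u.sheafPullback (Type u) K J).obj (uR R)).obj.map r x

lemma res_app {V : Cᵒᵖ} (r : U ⟶ V) {P : Sheaf K (Type u)} (f : P ⟶ uR R) (w : (evF J K u U).obj P) :
    res r (app f w) = app f (((u.sheafPullback (Type u) K J).obj P).obj.map r w : (evF J K u V).obj P) :=
  (ConcreteCategory.congr_hom (((u.sheafPullback (Type u) K J).map f).hom.naturality r) w).symm

variable (J K u R) in
/-- Restriction as a homomorphism. -/
noncomputable def resHom {V : Cᵒᵖ} (r : U ⟶ V) : Sec J K u R U →+* Sec J K u R V where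
  toFun := res r
  map_one' := (res_app r (1 : (⊤_ Sheaf K (Type u)) ⟶ uR R) (pt J K u U)).trans (app_one _)
  map_zero' := (res_app r (0 : (⊤_ Sheaf K (Type u)) ⟶ uR R) (pt J K u U)).trans (app_zero _)
  map_mul' x y := by
    obtain ⟨P, a, b, c, w, rfl, rfl, -⟩ := exists_triple x y x
    rw [← app_mul, res_app, res_app, res_app, app_mul]
  map_add' x y := by
    obtain ⟨P, a, b, c, w, rfl, rfl, -⟩ := exists_triple x y x
    rw [← app_add, res_app, res_app, res_app, app_add]

variable (J K u) in
/-- The presheaf of rings. -/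
noncomputable def psh (R : Sheaf K CommRingCat.{u}) : Cᵒᵖ ⥤ CommRingCat.{u} where
  obj U := CommRingCat.of (Sec J K u R U)
  map r := CommRingCat.ofHom (resHom J K u R r)
  map_id U := by
    ext x
    exact congrArg (fun e => e x) (((u.sheafPullback (Type u) K J).obj (uR R)).obj.map_id U)
  map_comp {U V W} r s := by
    ext x
    exact congrArg (fun e => e x) (((u.sheafPullback (Type u) K J).obj (uR R)).obj.map_comp r s)

variable (J K u) in
lemma psh_isSheaf (R : Sheaf K CommRingCat.{u}) : Presheaf.IsSheaf J (psh J K u R) := by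
  have e : psh J K u R ⋙ forget CommRingCat.{u} ≅ ((u.sheafPullback (Type u) K J).obj (uR R)).obj :=
    NatIso.ofComponents (fun _ => Iso.refl _)
  rw [Presheaf.isSheaf_iff_isSheaf_forget J (psh J K u R) (forget CommRingCat.{u}),
    Presheaf.isSheaf_of_iso_iff e]
  exact ((u.sheafPullback (Type u) K J).obj (uR R)).property

variable (J K u) in
/-- The inverse image computed on underlying sheaves of sets. -/
noncomputable def ringPull (R : Sheaf K CommRingCat.{u}) : Sheaf J CommRingCat.{u} :=
  ⟨psh J K u R, psh_isSheaf J K u R⟩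

variable (J K u R) in
/-- The unit on elements. -/
noncomputable def unitVal (V : Dᵒᵖ) (a : R.obj.obj V) : Sec J K u R (op (u.obj V.unop)) :=
  ((adjT (J := J) (K := K) (u := u)).unit.app (uR R)).hom.app V a

lemma unit_app {Y : Sheaf K (Type u)} (f : Y ⟶ uR R) (V : Dᵒᵖ) (y : Y.obj.obj V) :
    unitVal J K u R V (el f V y) =
      app f (((adjT (J := J) (K := K) (u := u)).unit.app Y).hom.app V y :
        (evF J K u (op (u.obj V.unop))).obj Y) :=
  congr_app_apply (((adjT (J := J) (K := K) (u := u))).unit.naturality f) V y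

variable (J K u R) in
/-- The unit on rings of sections. -/
noncomputable def unitHom (V : Dᵒᵖ) : R.obj.obj V →+* Sec J K u R (op (u.obj V.unop)) where
  toFun := unitVal J K u R V
  map_one' := (unit_app (1 : uR R ⟶ uR R) V (0 : R.obj.obj V)).trans (app_one _)
  map_zero' := (unit_app (0 : uR R ⟶ uR R) V (0 : R.obj.obj V)).trans (app_zero _)
  map_mul' a b := by
    let p := mkPair (evS K V) (uR R) (uR R) a b
    have h1 : el (prod.fst : uR R ⨯ uR R ⟶ uR R) V p = a := mkPair_fst (evS K V) (uR R) (uR R) a b
    have h2 : el (prod.snd : uR R ⨯ uR R ⟶ uR R) V p = b := mkPair_snd (evS K V) (uR R) (uR R) a b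
    have h := unit_app (J := J) (K := K) (u := u) (prod.fst * prod.snd) V p
    refine (congrArg (unitVal J K u R V) ((congrArg₂ (· * ·) h1 h2).symm.trans (el_mul _ _ V p).symm)).trans ?_
    refine h.trans ((app_mul _ _ _).trans (congrArg₂ (· * ·) ?_ ?_))
    · exact (unit_app prod.fst V p).symm.trans (congrArg (unitVal J K u R V) h1)
    · exact (unit_app prod.snd V p).symm.trans (congrArg (unitVal J K u R V) h2)
  map_add' a b := by
    let p := mkPair (evS K V) (uR R) (uR R) a b
    have h1 : el (prod.fst : uR R ⨯ uR R ⟶ uR R) V p = a := mkPair_fst (evS K V) (uR R) (uR R) a b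
    have h2 : el (prod.snd : uR R ⨯ uR R ⟶ uR R) V p = b := mkPair_snd (evS K V) (uR R) (uR R) a b
    have h := unit_app (J := J) (K := K) (u := u) (prod.fst + prod.snd) V p
    refine (congrArg (unitVal J K u R V) ((congrArg₂ (· + ·) h1 h2).symm.trans (el_add _ _ V p).symm)).trans ?_
    refine h.trans ((app_add _ _ _).trans (congrArg₂ (· + ·) ?_ ?_))
    · exact (unit_app prod.fst V p).symm.trans (congrArg (unitVal J K u R V) h1)
    · exact (unit_app prod.snd V p).symm.trans (congrArg (unitVal J K u R V) h2)

variable (J K u R) in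
/-- The unit. -/
noncomputable def unit :
    R ⟶ (u.sheafPushforwardContinuous CommRingCat.{u} K J).obj (ringPull J K u R) :=
  ⟨{ app := fun V => CommRingCat.ofHom (unitHom J K u R V)
     naturality := fun V W r => by
       ext a
       exact ConcreteCategory.congr_hom
         (((adjT (J := J) (K := K) (u := u)).unit.app (uR R)).hom.naturality r) a }⟩

variable (J K u R) in
/-- The underlying map of sets out of the inverse image. -/
noncomputable def fromSets :
    (u.sheafPullback (Type u) K J).obj (uR R) ⟶ uR ((u.sheafPullback CommRingCat.{u} K J).obj R) :=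
  (adjT.homEquiv _ _).symm
    ⟨{ app := fun V => ↾fun a =>
          (((u.sheafAdjunctionContinuous CommRingCat.{u} K J).unit.app R).hom.app V).hom a
       naturality := fun V W r => by
         ext a
         exact ConcreteCategory.congr_hom
           (((u.sheafAdjunctionContinuous CommRingCat.{u} K J).unit.app R).hom.naturality r) a }⟩

variable (J K u R) in
/-- The values of `fromSets`. -/
noncomputable abbrev fromVal (U : Cᵒᵖ) (x : Sec J K u R U) :
    ((u.sheafPullback CommRingCat.{u} K J).obj R).obj.obj U :=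
  (fromSets J K u R).hom.app U x

lemma fromVal_unit (V : Dᵒᵖ) (a : R.obj.obj V) :
    fromVal J K u R (op (u.obj V.unop)) (unitVal J K u R V a) =
      (((u.sheafAdjunctionContinuous CommRingCat.{u} K J).unit.app R).hom.app V).hom a := by
  have h := homEquiv_app (fromSets J K u R) V a
  rw [fromSets, Equiv.apply_symm_apply] at h
  exact h.symm

/-- `fromSets` respects any operation. -/
lemma fromVal_op {P : Sheaf K (Type u)} (a b c : P ⟶ uR R)
    (Φ : ∀ U : Cᵒᵖ, ((u.sheafPullback CommRingCat.{u} K J).obj R).obj.obj U →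
      ((u.sheafPullback CommRingCat.{u} K J).obj R).obj.obj U →
      ((u.sheafPullback CommRingCat.{u} K J).obj R).obj.obj U)
    (hΦ : ∀ ⦃U U' : Cᵒᵖ⦄ (r : U ⟶ U') (s t : ((u.sheafPullback CommRingCat.{u} K J).obj R).obj.obj U),
      (((u.sheafPullback CommRingCat.{u} K J).obj R).obj.map r).hom (Φ U s t) =
        Φ U' ((((u.sheafPullback CommRingCat.{u} K J).obj R).obj.map r).hom s)
          ((((u.sheafPullback CommRingCat.{u} K J).obj R).obj.map r).hom t))
    (habc : ∀ (V : Dᵒᵖ) (y : P.obj.obj V),
      (((u.sheafAdjunctionContinuous CommRingCat.{u} K J).unit.app R).hom.app V).hom (el a V y) =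
        Φ _ ((((u.sheafAdjunctionContinuous CommRingCat.{u} K J).unit.app R).hom.app V).hom (el b V y))
          ((((u.sheafAdjunctionContinuous CommRingCat.{u} K J).unit.app R).hom.app V).hom (el c V y)))
    (U : Cᵒᵖ) (w : (evF J K u U).obj P) :
    fromVal J K u R U (app a w) = Φ U (fromVal J K u R U (app b w)) (fromVal J K u R U (app c w)) := by
  let m : ∀ (f : P ⟶ uR R), (u.sheafPullback (Type u) K J).obj P ⟶
      uR ((u.sheafPullback CommRingCat.{u} K J).obj R) :=
    fun f => (u.sheafPullback (Type u) K J).map f ≫ fromSets J K u R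
  let n : (u.sheafPullback (Type u) K J).obj P ⟶ uR ((u.sheafPullback CommRingCat.{u} K J).obj R) :=
    mkHom (fun U w => Φ U (el (m b) U w) (el (m c) U w)) fun U U' r w => by
      rw [hΦ, el_map, el_map]
  suffices m a = n from congr_app_apply this U w
  apply (adjT.homEquiv _ _).injective
  refine hom_ext_app fun V y => ?_
  rw [homEquiv_app, homEquiv_app]
  have hm : ∀ f : P ⟶ uR R, el (m f) (op (u.obj V.unop))
      (((adjT (J := J) (K := K) (u := u)).unit.app P).hom.app V y) =
        (((u.sheafAdjunctionContinuous CommRingCat.{u} K J).unit.app R).hom.app V).hom (el f V y) :=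
    fun f => (congrArg (fromVal J K u R _) (unit_app f V y).symm).trans (fromVal_unit V (el f V y))
  refine (hm a).trans ((habc V y).trans ?_)
  rw [← hm b, ← hm c]
  rfl

variable (J K u R) in
/-- `fromSets` as a homomorphism on sections. -/
noncomputable def fromHom (U : Cᵒᵖ) :
    Sec J K u R U →+* ((u.sheafPullback CommRingCat.{u} K J).obj R).obj.obj U where
  toFun := fromVal J K u R U
  map_one' := fromVal_op (1 : (⊤_ Sheaf K (Type u)) ⟶ uR R) 1 1 (fun _ _ _ => 1)
    (fun _ _ r _ _ => map_one _) (fun V y => map_one _) U (pt J K u U)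
  map_zero' := fromVal_op (0 : (⊤_ Sheaf K (Type u)) ⟶ uR R) 0 0 (fun _ _ _ => 0)
    (fun _ _ r _ _ => map_zero _) (fun V y => map_zero _) U (pt J K u U)
  map_mul' x y := by
    obtain ⟨P, a, b, c, w, rfl, rfl, -⟩ := exists_triple x y x
    rw [← app_mul]
    exact fromVal_op (a * b) a b (fun _ s t => s * t) (fun _ _ r s t => map_mul _ _ _)
      (fun V y => map_mul _ _ _) U w
  map_add' x y := by
    obtain ⟨P, a, b, c, w, rfl, rfl, -⟩ := exists_triple x y x
    rw [← app_add]
    exact fromVal_op (a + b) a b (fun _ s t => s + t) (fun _ _ r s t => map_add _ _ _)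
      (fun V y => map_add _ _ _) U w

variable (J K u R) in
/-- The map to the inverse image. -/
noncomputable def fromPull : ringPull J K u R ⟶ (u.sheafPullback CommRingCat.{u} K J).obj R :=
  ⟨{ app := fun U => CommRingCat.ofHom (fromHom J K u R U)
     naturality := fun U U' r => by
       ext x
       exact ConcreteCategory.congr_hom ((fromSets J K u R).hom.naturality r) x }⟩

variable (J K u R) in
/-- The map from the inverse image. -/
noncomputable def toPull : (u.sheafPullback CommRingCat.{u} K J).obj R ⟶ ringPull J K u R :=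
  ((u.sheafAdjunctionContinuous CommRingCat.{u} K J).homEquiv _ _).symm (unit J K u R)

lemma toPull_unit (V : Dᵒᵖ) (a : R.obj.obj V) :
    ((toPull J K u R).hom.app (op (u.obj V.unop))).hom
      ((((u.sheafAdjunctionContinuous CommRingCat.{u} K J).unit.app R).hom.app V).hom a) =
      unitVal J K u R V a := by
  have h : (u.sheafAdjunctionContinuous CommRingCat.{u} K J).homEquiv _ _ (toPull J K u R) =
      unit J K u R := Equiv.apply_symm_apply _ _
  rw [Adjunction.homEquiv_unit] at h
  exact congrArg (fun e : R ⟶ _ => (e.hom.app V).hom a) h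

variable (J K u R) in
/-- The inverse image of a sheaf of rings is computed on sheaves of sets. -/
noncomputable def ringPullIso :
    (u.sheafPullback CommRingCat.{u} K J).obj R ≅ ringPull J K u R where
  hom := toPull J K u R
  inv := fromPull J K u R
  hom_inv_id := by
    apply ((u.sheafAdjunctionContinuous CommRingCat.{u} K J).homEquiv _ _).injective
    rw [Adjunction.homEquiv_unit, Adjunction.homEquiv_unit]
    ext V a
    exact (congrArg (fromVal J K u R (op (u.obj V.unop))) (toPull_unit V a)).trans (fromVal_unit V a)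
  inv_hom_id := by
    let T : (u.sheafPullback (Type u) K J).obj (uR R) ⟶ (u.sheafPullback (Type u) K J).obj (uR R) :=
      ⟨{ app := fun U => ↾fun x => ((toPull J K u R).hom.app U).hom (fromVal J K u R U x)
         naturality := fun U U' r => by
           ext x
           exact (congrArg ((toPull J K u R).hom.app U').hom
             (ConcreteCategory.congr_hom ((fromSets J K u R).hom.naturality r) x)).trans
             (ConcreteCategory.congr_hom ((toPull J K u R).hom.naturality r) _) }⟩
    have hT : T = 𝟙 _ := by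
      apply (adjT.homEquiv _ _).injective
      refine hom_ext_app fun V a => ?_
      rw [homEquiv_app, homEquiv_app]
      exact (congrArg ((toPull J K u R).hom.app _).hom (fromVal_unit V a)).trans (toPull_unit V a)
    ext U x
    exact congr_app_apply hT U x

end Pull

end Groth.Agent.Mod48.RingPullback
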