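import Groth.Prelude.Def_CohCx
import Mathlib.CategoryTheory.Adjunction.Limits
import Mathlib.CategoryTheory.Triangulated.Adjunction

/-!
Right adjoints of triangulated functors commute with derived limits.
-/

universe v v' u u'

open CategoryTheory CategoryTheory.Limits CategoryTheory.Pretriangulated

namespace Groth.Agent.Mod48

variable {S : Type u} [Category.{v} S] [Preadditive S] [HasZeroObject S] [HasShift S ℤ]
  [∀ n : ℤ, (shiftFunctor S n).Additive] [Pretriangulated S]
  {T : Type u'} [Category.{v'} T] [Preadditive T] [HasZeroObject T] [HasShift T ℤ]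
  [∀ n : ℤ, (shiftFunctor T n).Additive] [Pretriangulated T]

lemma isRlimVia_map_of_adjunction {L : S ⥤ T} {R : T ⥤ S} (adj : L ⊣ R) [L.CommShift ℤ] [L.IsTriangulated]
    (E : ℕ → T) (t : ∀ n, E (n + 1) ⟶ E n) [HasProduct E] (X : T) (a : ∀ n, X ⟶ E n)
    (h : CohCx.IsRlimVia E t X a) [HasProduct fun n => R.obj (E n)] :
    CohCx.IsRlimVia (fun n => R.obj (E n)) (fun n => R.map (t n)) (R.obj X) (fun n => R.map (a n)) := by
  let := adj.rightAdjointCommShift ℤ
  have := adj.commShift_of_leftAdjoint ℤ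
  have := adj.isTriangulated_rightAdjoint
  have : PreservesLimit (Discrete.functor E) R := by
    have := adj.rightAdjoint_preservesLimits
    infer_instance
  obtain ⟨c, hc⟩ := h
  have : R.Additive := adj.right_adjoint_additive
  have he : ∀ n, inv (piComparison R E) ≫ R.map (Pi.π E n) = Pi.π (fun n => R.obj (E n)) n :=
    fun n => by rw [IsIso.inv_comp_eq, piComparison_comp_π]
  let e := asIso (piComparison R E)
  refine ⟨e.inv ≫ R.map c ≫ (R.commShiftIso (1 : ℤ)).hom.app X, ?_⟩
  refine isomorphic_distinguished _ (R.map_distinguished _ hc) _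
    (Triangle.isoMk _ _ (Iso.refl _) e.symm e.symm ?_ ?_ ?_)
  · change Pi.lift (fun n => R.map (a n)) ≫ e.inv = 𝟙 _ ≫ R.map (Pi.lift a)
    rw [Category.id_comp, Iso.comp_inv_eq]
    refine Pi.hom_ext _ _ fun n => ?_
    simp [e, ← R.map_comp]
  · change Pi.lift (fun n => Pi.π (fun n => R.obj (E n)) n - Pi.π (fun n => R.obj (E n)) (n + 1) ≫ R.map (t n)) ≫
      e.inv = e.inv ≫ R.map (Pi.lift fun n => Pi.π E n - Pi.π E (n + 1) ≫ t n)
    rw [Iso.comp_inv_eq]
    refine Pi.hom_ext _ _ fun n => ?_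
    simp only [e, asIso_hom, asIso_inv, Category.assoc, piComparison_comp_π, Limits.limit.lift_π, Fan.mk_pt,
      Fan.mk_π_app, ← R.map_comp, R.map_sub, Preadditive.comp_sub]
    rw [R.map_comp, reassoc_of% (he (n + 1)), he n]
  · change (e.inv ≫ R.map c ≫ (R.commShiftIso (1 : ℤ)).hom.app X) ≫ (𝟙 (R.obj X))⟦(1 : ℤ)⟧' =
      e.inv ≫ R.map c ≫ (R.commShiftIso (1 : ℤ)).hom.app X
    rw [CategoryTheory.Functor.map_id]
    exact Category.comp_id _

end Groth.Agent.Mod48
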