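import Groth.Agent.Mod48.TFOrth
import Groth.Agent.SiteMod.Injective
import Groth.Agent.Mod48.Exact

/-!
Extension of scalars from abelian sheaves to sheaves of modules; it preserves acyclicity of torsion-free
complexes.
-/

universe v u v' u'

open CategoryTheory CategoryTheory.Limits Opposite
open scoped TensorProduct

namespace Groth.Agent.Mod48

section General

variable {A : Type u} [Category.{v} A] [Abelian A] {B : Type u'} [Category.{v'} B] [Abelian B]

/-- A functor preserving short exact sequences with torsion-free quotient preserves acyclicity of torsion-free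
complexes. -/
lemma acyclic_map_of_isTF (L : A ⥤ B) [L.Additive]
    (hL : ∀ S : ShortComplex A, S.ShortExact → IsTF S.X₃ → (S.map L).ShortExact)
    (Z : CochainComplex A ℤ) (hZ : ∀ n, IsTF (Z.X n)) (hac : Z.Acyclic) :
    ((L.mapHomologicalComplex (ComplexShape.up ℤ)).obj Z).Acyclic := by
  have hS : ∀ p : ℤ, ((ShortComplex.mk (kernel.ι (Z.d p (p + 1)))
      (kernel.lift (Z.d (p + 1) (p + 1 + 1)) (Z.d p (p + 1)) (Z.d_comp_d _ _ _))
      (by rw [← cancel_mono (kernel.ι _), Category.assoc, kernel.lift_ι, kernel.condition, zero_comp])).map L).ShortExact :=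
    fun p => by
      refine hL _ ?_ (isTF_of_mono (kernel.ι (Z.d (p + 1) (p + 1 + 1))) (hZ _))
      refine { exact := ?_, mono_f := inferInstanceAs (Mono (kernel.ι _)), epi_g := ?_ }
      · refine ShortComplex.exact_of_f_is_kernel _ (KernelFork.IsLimit.ofι' _ _ fun k hk => ?_)
        exact ⟨kernel.lift _ k (by
          have := congrArg (· ≫ kernel.ι (Z.d (p + 1) (p + 1 + 1))) hk
          simpa using this), kernel.lift_ι _ _ _⟩
      · have h := (HomologicalComplex.exactAt_iff' Z p (p + 1) (p + 1 + 1) (by simp) (by simp)).1 (hac (p + 1))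
        exact h.epi_kernelLift
  intro i
  obtain ⟨p, rfl⟩ : ∃ p, i = p + 1 := ⟨i - 1, by omega⟩
  rw [HomologicalComplex.exactAt_iff' _ p (p + 1) (p + 1 + 1) (by simp) (by simp)]
  let e := kernel.lift (Z.d (p + 1) (p + 1 + 1)) (Z.d p (p + 1)) (Z.d_comp_d _ _ _)
  let e' := kernel.lift (Z.d (p + 1 + 1) (p + 1 + 1 + 1)) (Z.d (p + 1) (p + 1 + 1)) (Z.d_comp_d _ _ _)
  have hm' : Mono (L.map (kernel.ι (Z.d (p + 1 + 1) (p + 1 + 1 + 1)))) := (hS (p + 1 + 1)).mono_f
  have he : Epi (L.map e) := (hS p).epi_g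
  have hw : L.map (kernel.ι (Z.d (p + 1) (p + 1 + 1))) ≫ L.map e' = 0 := ((hS (p + 1)).exact.exact_toComposableArrows.toIsComplex.zero 0)
  let T₁ := ShortComplex.mk (L.map e ≫ L.map (kernel.ι (Z.d (p + 1) (p + 1 + 1)))) (L.map e')
    (by rw [Category.assoc, hw, comp_zero])
  have h1 : T₁.Exact := by
    let φ : T₁ ⟶ ShortComplex.mk (L.map (kernel.ι (Z.d (p + 1) (p + 1 + 1)))) (L.map e') hw :=
      { τ₁ := L.map e, τ₂ := 𝟙 _, τ₃ := 𝟙 _ }
    have : Epi φ.τ₁ := he
    have : IsIso φ.τ₂ := inferInstanceAs (IsIso (𝟙 _))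
    have : Mono φ.τ₃ := inferInstanceAs (Mono (𝟙 _))
    exact (ShortComplex.exact_iff_of_epi_of_isIso_of_mono φ).2 (hS (p + 1)).exact
  let T₂ := ShortComplex.mk (((L.mapHomologicalComplex (ComplexShape.up ℤ)).obj Z).d p (p + 1))
    (((L.mapHomologicalComplex (ComplexShape.up ℤ)).obj Z).d (p + 1) (p + 1 + 1)) (HomologicalComplex.d_comp_d _ _ _ _)
  let ψ : T₁ ⟶ T₂ :=
    { τ₁ := 𝟙 _
      τ₂ := 𝟙 _
      τ₃ := L.map (kernel.ι (Z.d (p + 1 + 1) (p + 1 + 1 + 1)))
      comm₁₂ := by
        change 𝟙 _ ≫ L.map (Z.d p (p + 1)) = (L.map e ≫ L.map (kernel.ι _)) ≫ 𝟙 _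
        rw [Category.id_comp, Category.comp_id, ← L.map_comp, kernel.lift_ι]
      comm₂₃ := by
        change 𝟙 _ ≫ L.map (Z.d (p + 1) (p + 1 + 1)) = L.map e' ≫ L.map (kernel.ι _)
        rw [Category.id_comp, ← L.map_comp, kernel.lift_ι] }
  have : Epi ψ.τ₁ := inferInstanceAs (Epi (𝟙 _))
  have : IsIso ψ.τ₂ := inferInstanceAs (IsIso (𝟙 _))
  have : Mono ψ.τ₃ := hm'
  exact (ShortComplex.exact_iff_of_epi_of_isIso_of_mono ψ).1 h1

end General

variable {C : Type u} [SmallCategory C] {J : GrothendieckTopology C}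

/-- Maps out of `R ⊗ A` are additive maps out of `A`. -/
noncomputable def scalEquiv {R : Cᵒᵖ ⥤ RingCat.{u}} (A : Cᵒᵖ ⥤ AddCommGrpCat.{u}) (M : PresheafOfModules.{u} R) :
    (SiteMod.scal R A ⟶ M) ≃ (A ⟶ M.presheaf) where
  toFun ψ := SiteMod.scalUnit A ≫ (PresheafOfModules.toPresheaf R).map ψ
  invFun φ := SiteMod.scalDesc φ
  left_inv ψ := by
    refine PresheafOfModules.hom_ext fun U => ?_
    refine ModuleCat.hom_ext (LinearMap.ext fun x => ?_)
    induction x using TensorProduct.induction_on with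
    | zero => exact (map_zero _).trans (map_zero _).symm
    | tmul r a =>
      have h := map_smul (ψ.app U).hom r ((1 : R.obj U) ⊗ₜ[ℤ] a : (SiteMod.scal R A).obj U)
      have e : (r • ((1 : R.obj U) ⊗ₜ[ℤ] a) : R.obj U ⊗[ℤ] A.obj U) = r ⊗ₜ[ℤ] a := by
        rw [TensorProduct.smul_tmul', smul_eq_mul, mul_one]
      exact h.symm.trans (congrArg (ψ.app U).hom e)
    | add x y hx hy => exact (map_add _ x y).trans ((congrArg₂ (· + ·) hx hy).trans (map_add _ x y).symm)
  right_inv φ := SiteMod.scalUnit_scalDesc φ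

/-- Extension of scalars on presheaves. -/
noncomputable def scalPre (R : Cᵒᵖ ⥤ RingCat.{u}) : (Cᵒᵖ ⥤ AddCommGrpCat.{u}) ⥤ PresheafOfModules.{u} R where
  obj A := SiteMod.scal R A
  map φ := SiteMod.scalMap φ
  map_id A := (scalEquiv A _).injective ((SiteMod.scalUnit_scalMap (R := R) (𝟙 A)).trans (by
    change 𝟙 A ≫ SiteMod.scalUnit A = SiteMod.scalUnit A ≫ (PresheafOfModules.toPresheaf R).map (𝟙 _)
    rw [Category.id_comp, CategoryTheory.Functor.map_id]
    exact (Category.comp_id _).symm))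
  map_comp φ ψ := (scalEquiv _ _).injective (by ext U a; rfl)

/-- Extension of scalars on presheaves is left adjoint to the underlying abelian presheaf. -/
noncomputable def scalPreAdj (R : Cᵒᵖ ⥤ RingCat.{u}) : scalPre R ⊣ PresheafOfModules.toPresheaf R :=
  Adjunction.mkOfHomEquiv
    { homEquiv := scalEquiv
      homEquiv_naturality_left_symm := fun {A A' M} f g => by
        refine (scalEquiv A M).injective (((scalEquiv A M).apply_symm_apply _).trans ?_)
        change f ≫ g = SiteMod.scalUnit A ≫ (PresheafOfModules.toPresheaf R).map (SiteMod.scalMap f ≫ SiteMod.scalDesc g)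
        ext U a
        exact (one_smul (R.obj U) (show M.obj U from g.app U (f.app U a))).symm
      homEquiv_naturality_right := fun {A M M'} f g => by
        change SiteMod.scalUnit A ≫ (PresheafOfModules.toPresheaf R).map (f ≫ g) = _
        ext U a
        rfl }

variable (R : Sheaf J RingCat.{u})

/-- Extension of scalars on sheaves. -/
noncomputable def scalShf : Sheaf J AddCommGrpCat.{u} ⥤ SheafOfModules.{u} R :=
  sheafToPresheaf J AddCommGrpCat.{u} ⋙ scalPre R.obj ⋙ PresheafOfModules.sheafification (𝟙 R.obj)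

/-- Extension of scalars is left adjoint to the underlying abelian sheaf. -/
noncomputable def scalAdj : scalShf R ⊣ SheafOfModules.toSheaf R :=
  Adjunction.restrictFullyFaithful
    ((scalPreAdj R.obj).comp (PresheafOfModules.sheafificationAdjunction (𝟙 R.obj)))
    (fullyFaithfulSheafToPresheaf J AddCommGrpCat.{u}) (Functor.FullyFaithful.id _)
    (Iso.refl _) (Iso.refl _)

instance : (scalShf R).Additive := (scalAdj R).left_adjoint_additive

lemma sec_eq_zero_of_isTF {F : Sheaf J AddCommGrpCat.{u}} (h : IsTF F) (U : Cᵒᵖ) (n : ℕ) (x : F.obj.obj U)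
    (hn : n ≠ 0) (hx : n • x = 0) : x = 0 := by
  let E : Sheaf J AddCommGrpCat.{u} ⥤ AddCommGrpCat.{u} :=
    sheafToPresheaf J AddCommGrpCat.{u} ⋙ (evaluation Cᵒᵖ AddCommGrpCat.{u}).obj U
  have : E.Additive := {}
  have := h n hn
  have : PreservesFiniteLimits E := comp_preservesFiniteLimits _ _
  have hm : Mono (E.map (n • 𝟙 F)) := inferInstance
  rw [AddCommGrpCat.mono_iff_injective] at hm
  refine hm ?_
  rw [map_zero]
  exact (ConcreteCategory.congr_hom (E.map_nsmul (f := 𝟙 F) (n := n)) x).trans (by simpa using! hx)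

lemma shortExact_map_scalShf (S : ShortComplex (Sheaf J AddCommGrpCat.{u})) (hS : S.ShortExact) (h3 : IsTF S.X₃) :
    (S.map (scalShf R)).ShortExact := by
  have hc : PreservesFiniteColimits (scalShf R) :=
    ⟨fun _ _ _ => ((scalAdj R).leftAdjoint_preservesColimits :
      PreservesColimitsOfSize.{0, 0} (scalShf R)).preservesColimitsOfShape⟩
  have := hS.epi_g
  refine { exact := ShortComplex.Exact.map_of_epi_of_preservesCokernel hS.exact (scalShf R) hS.epi_g inferInstance
           mono_f := ?_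
           epi_g := inferInstanceAs (Epi ((scalShf R).map S.g)) }
  have : Mono (SiteMod.scalMap (R := R.obj) S.f.hom) := by
    refine PresheafOfModules.mono_of_injective (fun {U} => ?_)
    obtain ⟨hi, he⟩ := SiteMod.sections_exact S hS U
    have h := SiteMod.lTensor_injective_of_torsionFree (S.f.hom.app U).hom hi (S.g.hom.app U).hom he
      (fun n x hn hx => sec_eq_zero_of_isTF h3 U n x hn hx) (R.obj.obj U)
    refine fun x y hxy => h (Eq.trans ?_ (Eq.trans hxy ?_))
    all_goals
      rename_i z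
      exact rfl
  exact SiteMod.mono_sheafification_map R (SiteMod.scalMap S.f.hom)

/-- The underlying complex of a K-injective complex of modules is orthogonal to acyclic torsion-free complexes. -/
theorem tfOrth_toSheaf (I : CochainComplex (SheafOfModules.{u} R) ℤ) (hI : I.IsKInjective) :
    TFOrth (((SheafOfModules.toSheaf R).mapHomologicalComplex (ComplexShape.up ℤ)).obj I) :=
  tfOrth_rightAdjoint (scalAdj R) I fun Z hZ hac φ =>
    hI.nonempty_homotopy_zero φ (acyclic_map_of_isTF (scalShf R) (shortExact_map_scalShf R) Z hZ hac)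

end Groth.Agent.Mod48
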