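import Groth.Agent.Mod48.FreeOn
import Groth.Agent.Mod48.Exact
import Groth.Agent.Mod48.Flasque
import Groth.Agent.SiteMod.SheafHomRestr
import Groth.Agent.SiteMod.Injective
import Groth.Agent.SiteMod.Basics
import Groth.Prelude.Def_ModSite2
import Mathlib.Algebra.Homology.ShortComplex.ModuleCat

/-!
Sections with supports in a closed complement: description on sections.
-/

universe u

open CategoryTheory CategoryTheory.Limits Opposite

namespace Groth.Agent.Mod48

variable {C : Type u} [SmallCategory C] {J : GrothendieckTopology C} {O : Sheaf J CommRingCat.{u}}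

/-- The components of a morphism of modules. -/
noncomputable abbrev evSec {A B : ModSite.Mod O} (f : A ⟶ B) (W : C) (x : (pre A).obj (op W)) : (pre B).obj (op W) :=
  (fgt.map f).app (op W) x

lemma ev_comp {A B D : ModSite.Mod O} (f : A ⟶ B) (g : B ⟶ D) (W : C) (x : (pre A).obj (op W)) :
    evSec (f ≫ g) W x = evSec g W (evSec f W x) := rfl

lemma ev_res {A B : ModSite.Mod O} (f : A ⟶ B) {W V : C} (g : V ⟶ W) (x : (pre A).obj (op W)) :
    evSec f V (res (pre A) g.op x) = res (pre B) g.op (evSec f W x) :=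
  PresheafOfModules.naturality_apply (fgt.map f) g.op x

lemma hom_ext_ev {A B : ModSite.Mod O} {f g : A ⟶ B} (h : ∀ W x, evSec f W x = evSec g W x) : f = g := by
  apply SheafOfModules.Hom.ext
  refine PresheafOfModules.hom_ext fun W => ?_
  ext x
  exact h W.unop x

lemma sep_zero {F : ModSite.Mod O} {W : C} (s : (pre F).obj (op W)) {S : Sieve W} (hS : S ∈ J W)
    (h : ∀ ⦃V : C⦄ (g : V ⟶ W), S g → res (pre F) g.op s = 0) : s = 0 :=
  Presheaf.IsSheaf.isSeparated F.isSheaf W S hS s 0 fun V g hg => (h g hg).trans (map_zero _).symm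

/-- Sections of a kernel. -/
lemma exists_of_ev_eq_zero {A B : ModSite.Mod O} (f : A ⟶ B) (W : C) (x : (pre A).obj (op W))
    (hx : evSec f W x = 0) : ∃ t, evSec (kernel.ι f) W t = x := by
  let Φ : ModSite.Mod O ⥤ ModuleCat.{u} _ :=
    SheafOfModules.forget (ModSite.ringSh O) ⋙ PresheafOfModules.evaluation _ (op W)
  have : PreservesFiniteLimits Φ := comp_preservesFiniteLimits _ _
  have : Φ.PreservesZeroMorphisms := inferInstance
  have h : (ShortComplex.mk _ _ (kernel.condition f)).Exact :=
    ShortComplex.exact_of_f_is_kernel _ (kernelIsKernel f)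
  have h2 := ShortComplex.Exact.map_of_mono_of_preservesKernel h Φ inferInstance inferInstance
  exact (ShortComplex.moduleCat_exact_iff _).1 h2 x hx

lemma ev_injective {A B : ModSite.Mod O} (f : A ⟶ B) [Mono f] (W : C) : Function.Injective (evSec f W) := by
  let Φ : ModSite.Mod O ⥤ ModuleCat.{u} _ :=
    SheafOfModules.forget (ModSite.ringSh O) ⋙ PresheafOfModules.evaluation _ (op W)
  have : PreservesFiniteLimits Φ := comp_preservesFiniteLimits _ _
  have : Mono (Φ.map f) := inferInstance
  exact (ModuleCat.mono_iff_injective _).1 this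

/-- Factor through a monomorphism containing the sectionwise image. -/
lemma exists_lift_of_image {A B T : ModSite.Mod O} (m : A ⟶ B) [Mono m] (g : T ⟶ B)
    (h : ∀ W x, ∃ a, evSec m W a = evSec g W x) : ∃ l : T ⟶ A, l ≫ m = g := by
  refine ⟨Abelian.monoLift m g (hom_ext_ev fun W x => ?_), Abelian.monoLift_comp _ _ _⟩
  obtain ⟨a, ha⟩ := h W x
  rw [ev_comp, ← ha, ← ev_comp, cokernel.condition]
  rfl

/-- Functors with monomorphic transformations to a common functor having the same images are isomorphic. -/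
lemma nonempty_iso_of_image {A : Type*} [Category A] {Φ₁ Φ₂ Ψ : A ⥤ ModSite.Mod O}
    (m₁ : Φ₁ ⟶ Ψ) (m₂ : Φ₂ ⟶ Ψ) [∀ X, Mono (m₁.app X)] [∀ X, Mono (m₂.app X)]
    (h : ∀ X W s, (∃ a, evSec (m₁.app X) W a = s) ↔ (∃ a, evSec (m₂.app X) W a = s)) : Nonempty (Φ₁ ≅ Φ₂) := by
  choose l₁ hl₁ using fun X => exists_lift_of_image (m₂.app X) (m₁.app X) (fun W x => (h X W _).1 ⟨x, rfl⟩)
  choose l₂ hl₂ using fun X => exists_lift_of_image (m₁.app X) (m₂.app X) (fun W x => (h X W _).2 ⟨x, rfl⟩)
  exact ⟨NatIso.ofComponents (fun X =>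
    { hom := l₁ X
      inv := l₂ X
      hom_inv_id := by rw [← cancel_mono (m₁.app X), Category.assoc, hl₂, hl₁, Category.id_comp]
      inv_hom_id := by rw [← cancel_mono (m₂.app X), Category.assoc, hl₁, hl₂, Category.id_comp] })
    (fun {X Y} f => by
      rw [← cancel_mono (m₂.app Y)]
      simp only [Category.assoc, hl₁, m₂.naturality f, reassoc_of% (hl₁ X), m₁.naturality f])⟩

/-- A section killed on everything mapping to `U`. -/
def KilledOn (U : C) (F : ModSite.Mod O) {W : C} (s : (pre F).obj (op W)) : Prop :=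
  ∀ ⦃V : C⦄ (g : V ⟶ W), Nonempty (V ⟶ U) → res (pre F) g.op s = 0

/-- A morphism vanishing on objects over `U`. -/
lemma restr_map_eq_zero_iff (U : C) {A B : ModSite.Mod O} (f : A ⟶ B) :
    (ModSite.restr O U).map f = 0 ↔ ∀ V (_ : V ⟶ U) x, evSec f V x = 0 := by
  constructor
  · intro h V φ x
    exact congrArg (fun t => evSec (O := O.over U) t (Over.mk φ) x) h
  · intro h
    exact hom_ext_ev fun V x => h V.left V.hom x

lemma freeOn_restr_eq_zero (U : C) {W : C} {F : ModSite.Mod O} (a : shf.obj (freeY W) ⟶ F)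
    (hs : KilledOn U F (shfFreeYEquiv W F a)) : (ModSite.restr O U).map a = 0 := by
  rw [restr_map_eq_zero_iff]
  intro V φ x
  let P : PreM O := freeY W
  let b : P ⟶ pre F := shfHomEquiv P F a
  have hb : ∀ (V : C) (_ : V ⟶ U), b.app (op V) = 0 := by
    intro V φ
    refine ModuleCat.free_hom_ext fun g => ?_
    refine Eq.trans ?_ (hs (show V ⟶ W from g) ⟨φ⟩)
    have e := PresheafOfModules.naturality_apply b (show V ⟶ W from g).op
      (ModuleCat.freeMk (R := (ModSite.ringSh O).obj.obj (op W)) (𝟙 W))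
    refine Eq.trans ?_ e
    refine congrArg (b.app (op V)) ?_
    symm
    refine (ModuleCat.freeDesc_apply _ _).trans ?_
    exact congrArg ModuleCat.freeMk (Category.comp_id (show V ⟶ W from g))
  have hS := Presheaf.imageSieve_mem J (CategoryTheory.toSheafify J P.presheaf) (U := op V) x
  refine sep_zero _ hS fun V' g hg => ?_
  obtain ⟨t, ht⟩ := hg
  rw [← ev_res]
  have e : evSec a V' (res (pre (shf.obj P)) g.op x) = b.app (op V') t := by
    have hb' : b = shfAdj.unit.app P ≫ fgt.map a := Adjunction.homEquiv_unit _ _ _ _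
    rw [hb']
    exact congrArg (evSec a V') ht.symm
  rw [e, hb V' (g ≫ φ)]
  rfl

variable (O) in
/-- The sections of `Γ_Z` are the sections killed on objects over `U`. -/
theorem sectOn_image_iff (U : C) [ModSite.HasPushOver O U] (F : ModSite.Mod O) (W : C)
    (s : (pre F).obj (op W)) :
    (∃ a, evSec ((ModSite.sectOnι O U).app F) W a = s) ↔ KilledOn U F s := by
  let η := (ModSite.restrPushOverAdj O U).unit.app F
  have : (ModSite.restr O U).Additive := inferInstance
  constructor
  · rintro ⟨a, rfl⟩ V g ⟨φ⟩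
    have h0 : (ModSite.restr O U).map (kernel.ι η) = 0 := by
      apply ((ModSite.restrPushOverAdj O U).homEquiv _ _).injective
      rw [Adjunction.homEquiv_unit, Adjunction.homEquiv_unit, Functor.map_zero, comp_zero,
        ← Functor.comp_map]
      erw [← (ModSite.restrPushOverAdj O U).unit.naturality (kernel.ι η)]
      exact kernel.condition η
    rw [← ev_res]
    exact (restr_map_eq_zero_iff U (kernel.ι η)).1 h0 V φ _
  · intro hs
    obtain ⟨a, rfl⟩ := (shfFreeYEquiv W F).surjective s
    have h0 := freeOn_restr_eq_zero U a hs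
    have h1 : a ≫ η = 0 := by
      have e := (ModSite.restrPushOverAdj O U).unit.naturality a
      simp only [Functor.id_map, Functor.comp_map, h0, Functor.map_zero, comp_zero] at e
      exact e
    refine exists_of_ev_eq_zero η W (shfFreeYEquiv W F a) ?_
    exact (shfFreeYEquiv_comp W a η).symm.trans ((congrArg (shfFreeYEquiv W _) h1).trans rfl)

instance mono_sectOnι (U : C) [ModSite.HasPushOver O U] (F : ModSite.Mod O) :
    Mono ((ModSite.sectOnι O U).app F) :=
  inferInstanceAs (Mono (kernel.ι _))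

lemma sectOn_preservesFiniteLimits (U : C) [ModSite.HasPushOver O U] :
    PreservesFiniteLimits (ModSite.sectOn O U) := by
  refine ((Functor.preservesFiniteLimits_tfae _).out 0 3).1 fun S hS => ?_
  have := hS.mono_f
  let ι := ModSite.sectOnι O U
  have nat : ∀ {A B : ModSite.Mod O} (f : A ⟶ B) W x,
      evSec (ι.app B) W (evSec ((ModSite.sectOn O U).map f) W x) = evSec f W (evSec (ι.app A) W x) := by
    intro A B f W x
    rw [← ev_comp, ← ev_comp, ι.naturality f]
    rfl
  have hm : Mono ((ModSite.sectOn O U).map S.f) := by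
    have : Mono (ι.app S.X₁ ≫ S.f) := mono_comp _ _
    have e : (ModSite.sectOn O U).map S.f ≫ ι.app S.X₂ = ι.app S.X₁ ≫ S.f := ι.naturality S.f
    exact mono_of_mono_fac e
  refine ⟨?_, hm⟩
  have : Mono (S.map (ModSite.sectOn O U)).f := hm
  refine ShortComplex.exact_of_f_is_kernel _ (KernelFork.IsLimit.ofι' _ _ fun {T} x₀ hx₀ => ?_)
  let x : T ⟶ (ModSite.sectOn O U).obj S.X₂ := x₀
  have hx : x ≫ (ModSite.sectOn O U).map S.g = 0 := hx₀
  have hx0 : (x ≫ ι.app S.X₂) ≫ S.g = 0 := by
    have e : (ModSite.sectOn O U).map S.g ≫ ι.app S.X₃ = ι.app S.X₂ ≫ S.g := ι.naturality S.g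
    rw [Category.assoc, ← e, ← Category.assoc,
      hx, zero_comp]
  let b := hS.exact.lift (x ≫ ι.app S.X₂) hx0
  have hb : b ≫ S.f = x ≫ ι.app S.X₂ := hS.exact.lift_f _ _
  have hl : ∃ l : T ⟶ (ModSite.sectOn O U).obj S.X₁, l ≫ ι.app S.X₁ = b := by
    refine exists_lift_of_image _ _ fun W t => (sectOn_image_iff O U _ W _).2 fun V g hV => ?_
    apply ev_injective S.f V
    rw [← ev_res, ← ev_comp, hb, ev_comp]
    rw [ev_res, ev_res]
    refine ((sectOn_image_iff O U _ W _).1 ⟨evSec x W t, rfl⟩ g hV).trans ?_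
    exact (map_zero _).symm
  refine ⟨hl.choose, ?_⟩
  change hl.choose ≫ (ModSite.sectOn O U).map S.f = x
  rw [← cancel_mono (ι.app S.X₂), Category.assoc]
  erw [ι.naturality S.f]
  rw [← Category.assoc, hl.choose_spec]
  exact hb

instance (U : C) [ModSite.HasPushOver O U] : PreservesFiniteLimits (ModSite.sectOn O U) :=
  sectOn_preservesFiniteLimits U

/-- `Γ_Z` is exact on a sequence whose kernel is totally acyclic. -/
theorem sectOn_shortExact_of_flasque (U : C) [ModSite.HasPushOver O U] (S : ShortComplex (ModSite.Mod O))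
    (hS : S.ShortExact) (h1 : CohCx.IsTotallyAcyclic (ModSite.toAb S.X₁)) :
    (S.map (ModSite.sectOn O U)).ShortExact := by
  have hm := hS.mono_f
  have he : Epi ((ModSite.sectOn O U).map S.g) := by
    suffices h : ∀ W, Function.Surjective (evSec ((ModSite.sectOn O U).map S.g) W) by
      have : Epi (fgt.map ((ModSite.sectOn O U).map S.g)) :=
        PresheafOfModules.epi_of_surjective fun W => h W.unop
      exact (SheafOfModules.forget (ModSite.ringSh O)).epi_of_epi_map this
    intro W a
    let s := evSec ((ModSite.sectOnι O U).app S.X₃) W a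
    have hs : KilledOn U S.X₃ s := (sectOn_image_iff O U _ W _).1 ⟨a, rfl⟩
    have hT := toSheaf_preservesColimits (O := O)
    have : PreservesFiniteColimits (SheafOfModules.toSheaf.{u} (ModSite.ringSh O)) :=
      hT.preservesFiniteColimits
    have hSa := hS.map_of_exact (SheafOfModules.toSheaf (ModSite.ringSh O))
    obtain ⟨t₀, ht⟩ := sections_surjective_of_isTotallyAcyclic h1 hSa rfl W s
    let t : (pre S.X₂).obj (op W) := t₀
    have ht' : evSec S.g W t = s := ht
    let R : Sieve W :=
      { arrows := fun V _ => Nonempty (V ⟶ U)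
        downward_closed := fun ⟨φ⟩ g => ⟨g ≫ φ⟩ }
    have key : ∀ ⦃V : C⦄ (g : V ⟶ W), R g → ∃ m, evSec S.f V m = res (pre S.X₂) g.op t := by
      intro V g hV
      have h0 : evSec S.g V (res (pre S.X₂) g.op t) = 0 := by rw [ev_res, ht']; exact hs g hV
      let Φ : ModSite.Mod O ⥤ ModuleCat.{u} _ :=
        SheafOfModules.forget (ModSite.ringSh O) ⋙ PresheafOfModules.evaluation _ (op V)
      have : PreservesFiniteLimits Φ := comp_preservesFiniteLimits _ _
      have h2 := ShortComplex.Exact.map_of_mono_of_preservesKernel hS.exact Φ inferInstance inferInstance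
      exact (ShortComplex.moduleCat_exact_iff _).1 h2 _ h0
    choose m hm' using key
    obtain ⟨x, hx⟩ := exists_extend_sieve h1 R (fun V g hg => m g hg) (fun V V' g h hg => by
      apply ev_injective S.f V'
      refine (ev_res S.f h (m g hg)).trans ?_
      rw [hm', hm', res_res]
      rfl)
    have hk : KilledOn U S.X₂ (t - evSec S.f W x) := by
      intro V g hV
      refine (map_sub _ _ _).trans (sub_eq_zero.2 ?_)
      refine (hm' g hV).symm.trans ?_
      refine Eq.trans ?_ (ev_res S.f g x)
      exact congrArg (evSec S.f V) (hx g hV).symm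
    obtain ⟨a', ha'⟩ := (sectOn_image_iff O U _ W _).2 hk
    refine ⟨a', ev_injective ((ModSite.sectOnι O U).app S.X₃) W ?_⟩
    rw [← ev_comp, (ModSite.sectOnι O U).naturality S.g, ev_comp, ha']
    change evSec S.g W (t - evSec S.f W x) = s
    have h0 : evSec S.g W (evSec S.f W x) = 0 := by rw [← ev_comp, S.zero]; rfl
    refine (map_sub ((fgt.map S.g).app (op W)).hom t (evSec S.f W x)).trans ?_
    exact (congrArg₂ (· - ·) ht' h0).trans (sub_zero s)
  have hlex : ∀ (T : ShortComplex (ModSite.Mod O)), T.ShortExact →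
      (T.map (ModSite.sectOn O U)).Exact ∧ Mono ((ModSite.sectOn O U).map T.f) :=
    ((Functor.preservesFiniteLimits_tfae (ModSite.sectOn O U)).out 3 0).1
      (sectOn_preservesFiniteLimits (O := O) U)
  obtain ⟨hex, hmono⟩ := hlex S hS
  exact { exact := hex, mono_f := hmono, epi_g := he }

end Groth.Agent.Mod48
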