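import Groth.Agent.Mod48.SectOn
import Groth.Agent.Mod48.DerivedAc
import Groth.Agent.CohDer42.AcClass

/-!
Local cohomology sheaves: vanishing on totally acyclic modules.
-/

universe u

open CategoryTheory CategoryTheory.Limits Opposite CategoryTheory.Abelian

attribute [local instance] HasDerivedCategory.standard

namespace Groth.Agent.Mod48

variable {C : Type u} [SmallCategory C] {J : GrothendieckTopology C} {O : Sheaf J CommRingCat.{u}}

/-- The class of modules with totally acyclic underlying abelian sheaf. -/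
def TA (O : Sheaf J CommRingCat.{u}) : ObjectProperty (ModSite.Mod O) :=
  fun M => CohCx.IsTotallyAcyclic (ModSite.toAb M)

lemma ta_injective (I : ModSite.Mod O) [Injective I] : TA O I :=
  SiteMod.isTotallyAcyclic_toSheaf_injective (ModSite.ringSh O) I

/-- Totally acyclic sheaves are closed under cokernels of monomorphisms. -/
lemma isTotallyAcyclic_X₃ {S : ShortComplex (Sheaf J AddCommGrpCat.{u})} (hS : S.ShortExact)
    (h1 : CohCx.IsTotallyAcyclic S.X₁) (h2 : CohCx.IsTotallyAcyclic S.X₂) : CohCx.IsTotallyAcyclic S.X₃ := by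
  intro W p
  refine subsingleton_of_forall_eq 0 fun y => ?_
  obtain ⟨z, rfl⟩ := Ext.covariant_sequence_exact₃ _ hS y (rfl : p + 1 + 1 = p + 2)
    (@Subsingleton.elim _ (h1 W (p + 1)) _ _)
  rw [@Subsingleton.elim _ (h2 W p) z 0, Ext.zero_comp]

lemma ta_X₃ {S : ShortComplex (ModSite.Mod O)} (hS : S.ShortExact) (h1 : TA O S.X₁) (h2 : TA O S.X₂) :
    TA O S.X₃ := by
  have : PreservesFiniteColimits (SheafOfModules.toSheaf.{u} (ModSite.ringSh O)) :=
    (toSheaf_preservesColimits (O := O)).preservesFiniteColimits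
  exact isTotallyAcyclic_X₃ (hS.map_of_exact (SheafOfModules.toSheaf (ModSite.ringSh O))) h1 h2

variable (U : C) [ModSite.HasPushOver O U]

/-- Modules with totally acyclic underlying sheaf are acyclic for `Γ_Z`. -/
theorem isAc_sectOn [EnoughInjectives (ModSite.Mod O)] {M : ModSite.Mod O} (hM : TA O M) :
    RFPlus43.IsAc (ModSite.sectOn O U) M := by
  refine (CohDer42.isAc_iff_quasiIso _ (injectiveResolution M)).2 ?_
  exact CohDer42.quasiIso_map_ι'_of_adapted (ModSite.sectOn O U) (TA O)
    (fun X => ⟨Injective.under X, Injective.ι X, ta_injective _, inferInstance⟩)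
    (fun S hS h1 h2 => ⟨ta_X₃ hS h1 h2, sectOn_shortExact_of_flasque U S hS h1⟩) hM _

/-- The local cohomology sheaves of such a module vanish. -/
theorem isZero_HZsh [HasInjectiveResolutions (ModSite.Mod O)] {M : ModSite.Mod O} (hM : TA O M)
    {q : ℕ} (hq : 1 ≤ q) : IsZero ((ModSite.HZsh O U q).obj M) := by
  have : IsGrothendieckAbelian.{u} (ModSite.Mod O) := Coh69.sheafOfModules_isGrothendieckAbelian (ModSite.ringSh O)
  exact ((CohDer42.isAc_iff (ModSite.sectOn O U) M).1 (isAc_sectOn U hM)).2 q hq

end Groth.Agent.Mod48
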