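import Groth.Prelude.Def_SiteCmp
import Groth.Agent.Mod48.KInjDerived

/-!
The derived adjunction for a flat morphism of ringed sites.
-/

universe u

open CategoryTheory CategoryTheory.Limits Opposite
attribute [local instance] HasDerivedCategory.standard
open SiteCmp

namespace Groth.Agent.Mod48

variable {C : Type u} [SmallCategory C] {J : GrothendieckTopology C} {O_C : Sheaf J CommRingCat.{u}}
  {D : Type u} [SmallCategory D] {K : GrothendieckTopology D} {O_D : Sheaf K CommRingCat.{u}}

/-- The derived adjunction, given K-injective resolutions. -/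
lemma nonempty_pullD_adj (f : ModSite.RMor O_C O_D) [PreservesFiniteLimits f.pull] [SiteCmp.HasRpushD f]
    (hA : EnoughKInj (ModSite.Mod O_C)) : Nonempty (SiteCmp.pullD f ⊣ SiteCmp.RpushD f) :=
  ⟨derivedAdj f.adj hA (SiteCmp.RpushD f)
    ((SiteCmp.pushKh f).totalRightDerivedUnit DerivedCategory.Qh
      (HomotopyCategory.quasiIso (ModSite.Mod O_C) (ComplexShape.up ℤ)))⟩

end Groth.Agent.Mod48
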