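import Groth.Agent.Mod48.SectOnDerived
import Groth.Agent.SiteMod.UnitExt
import Groth.Agent.SiteMod.Injective

/-!
Global sections with supports, and the extension property of sections with supports in an injective module.
-/

universe u

open CategoryTheory CategoryTheory.Limits Opposite CategoryTheory.Abelian

namespace Groth.Agent.Mod48

variable {C : Type u} [SmallCategory C] {J : GrothendieckTopology C} {O : Sheaf J CommRingCat.{u}} (U : C)

/-- The morphism vanishes on all objects over `U`. -/
def KillsU {A B : Sheaf J AddCommGrpCat.{u}} (f : A ⟶ B) : Prop :=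
  ∀ (V : C), Nonempty (V ⟶ U) → ∀ x, f.hom.app (op V) x = 0

variable {U}

lemma sheaf_sep_zero {F : Sheaf J AddCommGrpCat.{u}} {W : C} (s : F.obj.obj (op W)) {S : Sieve W}
    (hS : S ∈ J W) (h : ∀ ⦃V : C⦄ (g : V ⟶ W), S g → F.obj.map g.op s = 0) : s = 0 :=
  Presheaf.IsSheaf.isSeparated F.property W S hS s 0 fun V g hg => (h g hg).trans (map_zero _).symm

/-- A morphism out of a sheafification vanishes over `U` if it does so before sheafifying. -/
lemma killsU_of_homEquiv {P : Cᵒᵖ ⥤ AddCommGrpCat.{u}} {B : Sheaf J AddCommGrpCat.{u}}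
    (ψ : (presheafToSheaf J AddCommGrpCat.{u}).obj P ⟶ B)
    (h : ∀ V : C, Nonempty (V ⟶ U) → ∀ x,
      (((sheafificationAdjunction J AddCommGrpCat.{u}).homEquiv P B) ψ).app (op V) x = 0) :
    KillsU U ψ := by
  intro V hV x
  refine sheaf_sep_zero _ (Presheaf.imageSieve_mem J (CategoryTheory.toSheafify J P) (U := op V) x)
    fun V' g hg => ?_
  obtain ⟨t, ht⟩ := hg
  refine (NatTrans.naturality_apply ψ.hom g.op x).symm.trans ?_
  refine (congrArg (ψ.hom.app (op V')) ht.symm).trans ?_
  refine Eq.trans ?_ (h V' ⟨g ≫ hV.some⟩ t)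
  rw [Adjunction.homEquiv_unit]
  rfl

variable (U)

/-- Restriction of the free sheaf of the open generated by `U` to the free sheaf of the final object. -/
noncomputable abbrev toTop :
    (SiteCoh.freeAb J).obj ((presheafToSheaf J (Type u)).obj (yoneda.obj U)) ⟶ (SiteCoh.freeAb J).obj (⊤_ _) :=
  (SiteCoh.freeAb J).map (terminal.from _)

lemma toTop_comp_eq_zero_iff {B : Sheaf J AddCommGrpCat.{u}} (ψ : (SiteCoh.freeAb J).obj (⊤_ _) ⟶ B) :
    toTop U ≫ ψ = 0 ↔ KillsU U ψ := by
  let T : Sheaf J (Type u) := ⊤_ _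
  let E : Sheaf J (Type u) := (presheafToSheaf J (Type u)).obj (yoneda.obj U)
  let adj := sheafificationAdjunction J AddCommGrpCat.{u}
  let t : E ⟶ T := terminal.from _
  let b := adj.homEquiv (T.obj ⋙ AddCommGrpCat.free.{u}) B ψ
  have hnat : adj.homEquiv (E.obj ⋙ AddCommGrpCat.free.{u}) B (toTop U ≫ ψ) =
      Functor.whiskerRight t.hom AddCommGrpCat.free.{u} ≫ b := Adjunction.homEquiv_naturality_left _ _ _
  constructor
  · intro h
    rw [h] at hnat
    refine killsU_of_homEquiv ψ fun V hV x => ?_
    have : Subsingleton (T.obj.obj (op V)) := by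
      have hT := Limits.IsTerminal.isTerminalObj (sheafToPresheaf J (Type u) ⋙ (evaluation Cᵒᵖ (Type u)).obj (op V))
        T terminalIsTerminal
      exact (Limits.Types.isTerminalEquivUnique _).toFun hT |>.instSubsingleton
    let e : E.obj.obj (op V) := (CategoryTheory.toSheafify J (yoneda.obj U)).app (op V) hV.some
    have hb : b.app (op V) = 0 := by
      refine AddCommGrpCat.hom_ext (FreeAbelianGroup.lift.symm.injective (funext fun s => ?_))
      have h2 := ConcreteCategory.congr_hom (NatTrans.congr_app hnat (op V)) (FreeAbelianGroup.of e)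
      refine Eq.trans ?_ h2.symm |>.trans ?_
      · change b.app (op V) (FreeAbelianGroup.of s) =
          b.app (op V) (FreeAbelianGroup.map (t.hom.app (op V)) (FreeAbelianGroup.of e))
        rw [FreeAbelianGroup.map_of_apply, Subsingleton.elim s]
      · rw [Adjunction.homEquiv_unit]
        simp
        rfl
    exact ConcreteCategory.congr_hom hb x
  · intro h
    apply (adj.homEquiv _ _).injective
    refine hnat.trans ?_
    rw [Adjunction.homEquiv_unit, Functor.map_zero, comp_zero]
    ext V : 2
    refine AddCommGrpCat.hom_ext (FreeAbelianGroup.lift.symm.injective (funext fun e => ?_))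
    change b.app V (FreeAbelianGroup.map (t.hom.app V) (FreeAbelianGroup.of e)) = (0 : B.obj.obj V)
    let y := FreeAbelianGroup.map (t.hom.app V) (FreeAbelianGroup.of e)
    refine sheaf_sep_zero _ (Presheaf.imageSieve_mem J (CategoryTheory.toSheafify J (yoneda.obj U)) e)
      fun V' g hg => ?_
    obtain ⟨φ, -⟩ := hg
    refine (NatTrans.naturality_apply b g.op y).symm.trans ?_
    rw [show b = adj.unit.app _ ≫ (sheafToPresheaf J _).map ψ from Adjunction.homEquiv_unit _ _ _ _]
    exact h V' ⟨φ⟩ _

lemma killsU_comp {A B D : Sheaf J AddCommGrpCat.{u}} (f : A ⟶ B) (g : B ⟶ D) (h : KillsU U g) :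
    KillsU U (f ≫ g) := fun V hV x => h V hV _

variable [ModSite.HasPushOver O U]

/-- The inclusion of sections with supports, on underlying abelian sheaves. -/
noncomputable abbrev supι (N : ModSite.Mod O) : ModSite.toAb ((ModSite.sectOn O U).obj N) ⟶ ModSite.toAb N :=
  (SheafOfModules.toSheaf (ModSite.ringSh O)).map ((ModSite.sectOnι O U).app N)

instance mono_supι (N : ModSite.Mod O) : Mono (supι U N) := by
  have : PreservesFiniteLimits (SheafOfModules.toSheaf.{u} (ModSite.ringSh O)) :=
    (SiteMod.toSheaf_preservesLimits (ModSite.ringSh O)).preservesFiniteLimits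
  infer_instance

lemma killsU_supι (N : ModSite.Mod O) : KillsU U (supι U N) := fun V hV a => by
  have h := (sectOn_image_iff O U N V _).1 ⟨a, rfl⟩ (𝟙 V) hV
  rw [← ev_res] at h
  refine Eq.trans (congrArg (evSec ((ModSite.sectOnι O U).app N) V) ?_) h
  exact (ConcreteCategory.congr_hom ((ModSite.toAb ((ModSite.sectOn O U).obj N)).obj.map_id (op V)) a).symm

/-- Morphisms vanishing over `U` factor through sections with supports. -/
lemma exists_supLift {A : Sheaf J AddCommGrpCat.{u}} {N : ModSite.Mod O} (f : A ⟶ ModSite.toAb N)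
    (hf : KillsU U f) : ∃ l, l ≫ supι U N = f := by
  refine ⟨Abelian.monoLift (supι U N) f ?_, Abelian.monoLift_comp _ _ _⟩
  apply ObjectProperty.hom_ext
  ext W x
  obtain ⟨a, ha⟩ := (sectOn_image_iff O U N W.unop (f.hom.app W x)).2 fun V g hV =>
    (NatTrans.naturality_apply f.hom g.op x).symm.trans (hf V hV _)
  refine (congrArg ((cokernel.π (supι U N)).hom.app W) ha.symm).trans ?_
  exact ConcreteCategory.congr_hom (NatTrans.congr_app (congrArg (fun m : ModSite.toAb ((ModSite.sectOn O U).obj N) ⟶ _ => m.hom)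
    (cokernel.condition (supι U N))) W) a

section Quot

variable (J) in
/-- The subgroup of sections over objects mapping to `U`. -/
def overPart (P : Cᵒᵖ ⥤ AddCommGrpCat.{u}) (W : Cᵒᵖ) : AddSubgroup (P.obj W) where
  carrier := {x | x = 0 ∨ Nonempty (W.unop ⟶ U)}
  add_mem' := by
    rintro a b (rfl | h) hb
    · simpa using hb
    · exact Or.inr h
  zero_mem' := Or.inl rfl
  neg_mem' := by
    rintro a (rfl | h)
    · exact Or.inl neg_zero
    · exact Or.inr h

omit [ModSite.HasPushOver O U] in
lemma mem_overPart {P Q : Cᵒᵖ ⥤ AddCommGrpCat.{u}} {W W' : Cᵒᵖ} (f : P.obj W →+ Q.obj W')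
    (g : W ⟶ W') : overPart U P W ≤ (overPart U Q W').comap f := by
  rintro x (rfl | h)
  · exact Or.inl (map_zero f)
  · exact Or.inr ⟨g.unop ≫ h.some⟩

/-- The presheaf obtained by killing the sections over objects mapping to `U`. -/
noncomputable def offU (P : Cᵒᵖ ⥤ AddCommGrpCat.{u}) : Cᵒᵖ ⥤ AddCommGrpCat.{u} where
  obj W := AddCommGrpCat.of (P.obj W ⧸ overPart U P W)
  map {W W'} g := AddCommGrpCat.ofHom (QuotientAddGroup.map _ _ (P.map g).hom (mem_overPart U _ g))
  map_id W := by
    ext x
    simp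
  map_comp {W W' W''} g h := by
    ext x
    simp

/-- The projection. -/
noncomputable def offUπ (P : Cᵒᵖ ⥤ AddCommGrpCat.{u}) : P ⟶ offU U P where
  app W := AddCommGrpCat.ofHom (QuotientAddGroup.mk' (overPart U P W))
  naturality W W' g := rfl

/-- Functoriality. -/
noncomputable def offUMap {P Q : Cᵒᵖ ⥤ AddCommGrpCat.{u}} (f : P ⟶ Q) : offU U P ⟶ offU U Q where
  app W := AddCommGrpCat.ofHom (QuotientAddGroup.map _ _ (f.app W).hom (mem_overPart U _ (𝟙 W)))
  naturality W W' g := by
    ext x
    obtain ⟨y, rfl⟩ := QuotientAddGroup.mk_surjective x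
    exact congrArg (QuotientAddGroup.mk' (overPart U Q W')) (NatTrans.naturality_apply f g y)

end Quot

/-- Sections with supports in an injective module have the extension property. -/
theorem torExtends_sectOn (I : ModSite.Mod O) [Injective I] :
    SiteCoh.TorExtends (ModSite.toAb ((ModSite.sectOn O U).obj I)) := by
  intro S hS h1 h2 h3 φ
  let adj := sheafificationAdjunction J AddCommGrpCat.{u}
  let f := offUMap U S.f.hom
  have hinj : ∀ W, Function.Injective (f.app W) := by
    intro W
    refine (injective_iff_map_eq_zero _).2 fun x hx => ?_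
    obtain ⟨y, rfl⟩ := QuotientAddGroup.mk_surjective x
    rcases (QuotientAddGroup.eq_zero_iff _).1 hx with h | h
    · exact (QuotientAddGroup.eq_zero_iff _).2 (Or.inl ((SiteMod.sections_exact S hS W).1
        (h.trans (map_zero _).symm)))
    · exact (QuotientAddGroup.eq_zero_iff _).2 (Or.inr h)
  have : ∀ W, Mono (f.app W) := fun W => (AddCommGrpCat.mono_iff_injective _).2 (hinj W)
  have : Mono f := NatTrans.mono_of_mono_app f
  let Sp : ShortComplex (Cᵒᵖ ⥤ AddCommGrpCat.{u}) := ShortComplex.mk f (cokernel.π f) (cokernel.condition f)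
  have hSp : Sp.ShortExact :=
    { exact := ShortComplex.exact_of_g_is_cokernel _ (cokernelIsCokernel f)
      mono_f := inferInstanceAs (Mono f)
      epi_g := inferInstanceAs (Epi (cokernel.π f)) }
  have hSh : (Sp.map (presheafToSheaf J AddCommGrpCat.{u})).ShortExact := hSp.map_of_exact _
  have htor : ∀ (P : Sheaf J AddCommGrpCat.{u}), SiteCoh.TorFree P →
      SiteCoh.TorFree ((presheafToSheaf J AddCommGrpCat.{u}).obj (offU U P.obj)) := by
    intro P hP
    refine SiteMod.torFree_sheafify _ fun W n x hn hx => ?_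
    obtain ⟨y, rfl⟩ := QuotientAddGroup.mk_surjective x
    rcases (QuotientAddGroup.eq_zero_iff (n • y)).1 hx with h | h
    · exact (QuotientAddGroup.eq_zero_iff y).2 (Or.inl (hP W.unop n y hn h))
    · exact (QuotientAddGroup.eq_zero_iff y).2 (Or.inr h)
  have htor3 : SiteCoh.TorFree ((presheafToSheaf J AddCommGrpCat.{u}).obj (cokernel f)) := by
    refine SiteMod.torFree_sheafify _ fun W n x hn hx => ?_
    have hepi : Function.Surjective ((cokernel.π f).app W) :=
      (AddCommGrpCat.epi_iff_surjective _).1 inferInstance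
    have hex : Function.Exact (f.app W) ((cokernel.π f).app W) :=
      (ShortComplex.ab_exact_iff_function_exact _).1 (hSp.exact.map ((evaluation _ AddCommGrpCat.{u}).obj W))
    obtain ⟨z, rfl⟩ := hepi x
    obtain ⟨a, ha⟩ := (hex (n • z)).1 (by rw [map_nsmul]; exact hx)
    obtain ⟨y, rfl⟩ := QuotientAddGroup.mk_surjective z
    obtain ⟨a, rfl⟩ := QuotientAddGroup.mk_surjective a
    rcases QuotientAddGroup.eq_iff_sub_mem.1 ha with h | h
    · have e : S.f.hom.app W a = n • y := sub_eq_zero.1 h
      have hg : S.g.hom.app W y = 0 := by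
        refine h3 W.unop n _ hn ?_
        rw [← map_nsmul, ← e]
        exact (SiteMod.sections_exact S hS W).2.apply_apply_eq_zero a
      obtain ⟨a', ha'⟩ := ((SiteMod.sections_exact S hS W).2 y).1 hg
      refine (hex _).2 ⟨QuotientAddGroup.mk a', ?_⟩
      exact congrArg QuotientAddGroup.mk ha'
    · have : (QuotientAddGroup.mk y : S.X₂.obj.obj W ⧸ overPart U S.X₂.obj W) = 0 :=
        (QuotientAddGroup.eq_zero_iff y).2 (Or.inr h)
      exact (congrArg ((cokernel.π f).app W) this).trans (map_zero _)
  let φ' : S.X₁ ⟶ ModSite.toAb I := φ ≫ supι U I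
  have hk : KillsU U φ' := killsU_comp U φ _ (killsU_supι U I)
  let c : offU U S.X₁.obj ⟶ (ModSite.toAb I).obj :=
    { app := fun W => AddCommGrpCat.ofHom (QuotientAddGroup.lift _ (φ'.hom.app W).hom (by
        rintro x (rfl | h)
        · exact map_zero _
        · exact hk W.unop h x))
      naturality := fun W W' g => by
        ext x
        obtain ⟨y, rfl⟩ := QuotientAddGroup.mk_surjective x
        exact NatTrans.naturality_apply φ'.hom g y }
  obtain ⟨ψ, hψ⟩ := SiteMod.torExtends_toSheaf_injective (ModSite.ringSh O) I _ hSh (htor _ h1) (htor _ h2) htor3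
    ((adj.homEquiv _ (ModSite.toAb I)).symm c)
  let d : offU U S.X₂.obj ⟶ (ModSite.toAb I).obj := adj.homEquiv _ _ ψ
  let ψ' : S.X₂ ⟶ ModSite.toAb I := ⟨offUπ U S.X₂.obj ≫ d⟩
  have hd : f ≫ d = c :=
    (adj.homEquiv_naturality_left f ψ).symm.trans
      ((congrArg (adj.homEquiv _ (ModSite.toAb I)) hψ).trans (Equiv.apply_symm_apply _ _))
  have hk' : KillsU U ψ' := fun V hV x => by
    have : (QuotientAddGroup.mk x : S.X₂.obj.obj (op V) ⧸ overPart U S.X₂.obj (op V)) = 0 :=
      (QuotientAddGroup.eq_zero_iff x).2 (Or.inr hV)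
    exact (congrArg (d.app (op V)) this).trans (map_zero _)
  obtain ⟨l, hl⟩ := exists_supLift U ψ' hk'
  refine ⟨l, ?_⟩
  rw [← cancel_mono (supι U I), Category.assoc, hl]
  apply ObjectProperty.hom_ext
  ext W x
  exact ConcreteCategory.congr_hom (NatTrans.congr_app hd W) (QuotientAddGroup.mk x)

end Groth.Agent.Mod48
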