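import Groth.Agent.Mod48.SupportHom
import Groth.Agent.Mod48.LocalCohIso
import Groth.Agent.GSS45.DerivedHom
import Mathlib.CategoryTheory.Preadditive.Yoneda.Limits

/-!
The spectral sequence from local to global cohomology with supports.
-/

universe u

open CategoryTheory CategoryTheory.Limits Opposite CategoryTheory.Abelian

attribute [local instance] HasDerivedCategory.standard

namespace Groth.Agent.Mod48

variable {C : Type u} [SmallCategory C] {J : GrothendieckTopology C}

/-- The free abelian group on a one-element type. -/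
noncomputable def freeUniqueIso (X : Type u) [Unique X] :
    AddCommGrpCat.free.{u}.obj X ≅ AddCommGrpCat.of (ULift.{u} ℤ) :=
  ((FreeAbelianGroup.uniqueEquiv X).trans AddEquiv.ulift.symm).toAddCommGrpIso

variable (J) in
/-- The free abelian sheaf on the final object is the constant sheaf `ℤ`. -/
noncomputable def topFreeIso :
    (SiteCoh.freeAb J).obj (⊤_ Sheaf J (Type u)) ≅
      (constantSheaf J AddCommGrpCat.{u}).obj (AddCommGrpCat.of (ULift.{u} ℤ)) :=
  let P : Cᵒᵖ ⥤ Type u := (Functor.const Cᵒᵖ).obj PUnit.{u + 1}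
  let hP : IsTerminal P := IsTerminal.ofUniqueHom
    (fun Q => { app := fun _ => TypeCat.ofHom fun _ => PUnit.unit, naturality := fun _ _ _ => rfl })
    (fun Q m => by ext W x; exact Subsingleton.elim (α := PUnit.{u + 1}) _ _)
  let hT : IsTerminal ((presheafToSheaf J (Type u)).obj P) :=
    hP.isTerminalObj (presheafToSheaf J (Type u))
  (SiteCoh.freeAb J).mapIso (terminalIsTerminal.uniqueUpToIso hT) ≪≫
    (SiteCoh.freeAbSheafifyIso J).app P ≪≫
    (presheafToSheaf J AddCommGrpCat.{u}).mapIso
      (NatIso.ofComponents (fun _ => freeUniqueIso PUnit.{u + 1}) (fun {X Y} g => by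
        have e : ((P ⋙ AddCommGrpCat.free.{u}).map g) = 𝟙 _ := AddCommGrpCat.free.{u}.map_id PUnit
        exact (congrArg (· ≫ (freeUniqueIso PUnit.{u + 1}).hom) e).trans
          ((Category.id_comp _).trans (Category.comp_id _).symm)))

/-- Maps into totally acyclic sheaves from the final object. -/
lemma subsingleton_H_of_torExtends {F : Sheaf J AddCommGrpCat.{u}} (hF : SiteCoh.TorExtends F) (p : ℕ) :
    Subsingleton (Sheaf.H F (p + 1)) :=
  SiteCoh.ext_subsingleton_of_torExtends hF p _ SiteMod.torFree_constantSheaf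

variable {O : Sheaf J CommRingCat.{u}}

lemma toSheaf_exact :
    PreservesFiniteLimits (SheafOfModules.toSheaf.{u} (ModSite.ringSh O)) ∧
      PreservesFiniteColimits (SheafOfModules.toSheaf.{u} (ModSite.ringSh O)) :=
  ⟨(SiteMod.toSheaf_preservesLimits (ModSite.ringSh O)).preservesFiniteLimits,
    (toSheaf_preservesColimits (O := O)).preservesFiniteColimits⟩

variable (U : C) [ModSite.HasPushOver O U]

/-- Global sections with supports, as maps from `Z/Z_U`. -/
lemma nonempty_supHomIso :
    Nonempty (ModSite.sectOn O U ⋙ SheafOfModules.toSheaf (ModSite.ringSh O) ⋙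
        preadditiveCoyoneda.obj (op ((SiteCoh.freeAb J).obj (⊤_ Sheaf J (Type u)))) ≅
      SheafOfModules.toSheaf (ModSite.ringSh O) ⋙
        preadditiveCoyoneda.obj (op (cokernel (toTop (J := J) U)))) := by
  have hk : ∀ (N : ModSite.Mod O) (φ : (SiteCoh.freeAb J).obj (⊤_ Sheaf J (Type u)) ⟶
      ModSite.toAb ((ModSite.sectOn O U).obj N)), toTop U ≫ φ ≫ supι U N = 0 := fun N φ =>
    (toTop_comp_eq_zero_iff U _).2 (killsU_comp U φ _ (killsU_supι U N))
  let f : (N : ModSite.Mod O) → ((SiteCoh.freeAb J).obj (⊤_ Sheaf J (Type u)) ⟶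
      ModSite.toAb ((ModSite.sectOn O U).obj N)) →+ (cokernel (toTop (J := J) U) ⟶ ModSite.toAb N) := fun N =>
    AddMonoidHom.mk' (fun φ => cokernel.desc _ (φ ≫ supι U N) (hk N φ)) (fun a b => by
      rw [← cancel_epi (cokernel.π (toTop (J := J) U))]
      simp [Preadditive.comp_add, Preadditive.add_comp])
  have hf : ∀ N, Function.Bijective (f N) := by
    intro N
    refine ⟨fun a b h => ?_, fun χ => ?_⟩
    · have := congrArg (cokernel.π (toTop (J := J) U) ≫ ·) h
      simp only [f, AddMonoidHom.mk'_apply, cokernel.π_desc] at this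
      exact (cancel_mono _).1 this
    · obtain ⟨l, hl⟩ := exists_supLift U (cokernel.π (toTop (J := J) U) ≫ χ)
        ((toTop_comp_eq_zero_iff U _).1 (by rw [cokernel.condition_assoc, zero_comp]))
      refine ⟨l, ?_⟩
      rw [← cancel_epi (cokernel.π (toTop (J := J) U))]
      exact (cokernel.π_desc _ _ _).trans hl
  refine ⟨NatIso.ofComponents (fun N => (AddEquiv.ofBijective (f N) (hf N)).toAddCommGrpIso)
    (fun {N N'} g => ?_)⟩
  ext φ
  change cokernel.desc _ ((φ ≫ (SheafOfModules.toSheaf (ModSite.ringSh O)).map ((ModSite.sectOn O U).map g)) ≫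
      supι U N') _ =
    cokernel.desc _ (φ ≫ supι U N) _ ≫ (SheafOfModules.toSheaf (ModSite.ringSh O)).map g
  rw [← cancel_epi (cokernel.π (toTop (J := J) U)), cokernel.π_desc, cokernel.π_desc_assoc]
  simp only [Category.assoc, ← Functor.map_comp]
  rw [(ModSite.sectOnι O U).naturality g]
  rfl

theorem exists_spectralSequence_HZ (M : ModSite.Mod O) [HasInjectiveResolutions (ModSite.Mod O)] :
    ∃ (E : E₂CohomologicalSpectralSequence AddCommGrpCat.{u})
      (a : SpSeq.Abutment E (fun n : ℤ =>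
        if 0 ≤ n then AddCommGrpCat.of (ModSite.HZ U M n.toNat) else AddCommGrpCat.of PUnit.{u + 1})),
      (∀ n : ℤ, a.IsFinite n) ∧ SpSeq.IsBounded E ∧
      ∀ p q : ℤ, Nonempty ((E.page 2 le_rfl).X (p, q) ≅
        (if 0 ≤ p ∧ 0 ≤ q then AddCommGrpCat.of (ModSite.HC O ((ModSite.HZsh O U q.toNat).obj M) p.toNat)
          else AddCommGrpCat.of PUnit.{u + 1})) := by
  obtain ⟨_, _⟩ := toSheaf_exact (O := O)
  let T' := SheafOfModules.toSheaf.{u} (ModSite.ringSh O)
  have : T'.PreservesHomology := Functor.preservesHomologyOfExact _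
  let Zc := (constantSheaf J AddCommGrpCat.{u}).obj (AddCommGrpCat.of (ULift.{u} ℤ))
  let Qz := cokernel (toTop (J := J) U)
  let S := preadditiveCoyoneda.obj (op Zc)
  let H := preadditiveCoyoneda.obj (op Qz)
  have : PreservesFiniteLimits S := inferInstance
  have : PreservesFiniteLimits H := inferInstance
  have hzero : IsZero (AddCommGrpCat.of PUnit.{u + 1}) := AddCommGrpCat.isZero_of_subsingleton _
  refine GSS45.exists_spectralSequence_comp (ModSite.sectOn O U ⋙ T') S ?_ M (fun n => ?_)
    (fun n hn => ?_) (fun p q => ?_) (fun p q hpq => ?_)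
  · intro Q hQ n hn
    obtain ⟨m, rfl⟩ : ∃ m, n = m + 1 := ⟨n - 1, by omega⟩
    exact GSS45.isZero_coyo_rightDerived _ _ _ (subsingleton_H_of_torExtends (torExtends_sectOn U Q) m)
  · rw [if_pos (Int.natCast_nonneg n), Int.toNat_natCast]
    obtain ⟨e⟩ := nonempty_supHomIso (O := O) U
    let e' : (ModSite.sectOn O U ⋙ T') ⋙ S ≅ T' ⋙ H :=
      Functor.associator _ _ _ ≪≫
        Functor.isoWhiskerLeft (ModSite.sectOn O U) (Functor.isoWhiskerLeft T'
          (preadditiveCoyoneda.mapIso (topFreeIso J).op)) ≪≫ e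
    obtain ⟨e2⟩ := GSS45.nonempty_rightDerived_comp T' H (fun I hI m hm => by
      obtain ⟨k, rfl⟩ : ∃ k, m = k + 1 := ⟨m - 1, by omega⟩
      exact GSS45.isZero_coyo_rightDerived _ _ _
        (subsingleton_HZFunctor (@ta_injective _ _ _ O I hI) _ k)) M n
    exact ⟨(GSS45.rightDerivedIsoOfIso e' n).app M ≪≫ e2 ≪≫ (GSS45.coyoRightDerivedIso Qz n).app _⟩
  · rw [if_neg (by omega)]
    exact hzero
  · rw [if_pos ⟨Int.natCast_nonneg p, Int.natCast_nonneg q⟩, Int.toNat_natCast, Int.toNat_natCast]
    exact ⟨(S.rightDerived p).mapIso ((SiteCoh.rightDerivedCompExactIso (ModSite.sectOn O U) T' q).app M) ≪≫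
      (GSS45.coyoRightDerivedIso Zc p).app _⟩
  · rw [if_neg (by omega)]
    exact hzero

end Groth.Agent.Mod48
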