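import Groth.Agent.Mod48.SecQis
import Groth.Agent.Mod48.KInjDerived
import Groth.Agent.SiteCoh.Free
import Mathlib.Algebra.Homology.HomotopyCategory.ShortExact
import Mathlib.Algebra.Homology.HomologicalComplexAbelian
import Mathlib.Algebra.FreeAbelianGroup.Finsupp
import Mathlib.Algebra.Homology.HomotopyCategory.Pretriangulated

/-!
Complexes of abelian sheaves orthogonal to acyclic complexes of torsion-free sheaves: acyclic ones are
acyclic on sections.
-/

universe v u v' u'

open CategoryTheory CategoryTheory.Limits CategoryTheory.Pretriangulated Opposite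

namespace Groth.Agent.Mod48

section General

variable {A : Type u} [Category.{v} A] [Abelian A]

/-- Multiplication by positive integers is injective. -/
def IsTF (F : A) : Prop := ∀ n : ℕ, n ≠ 0 → Mono (n • 𝟙 F)

lemma isTF_of_mono {F G : A} (f : F ⟶ G) [Mono f] (h : IsTF G) : IsTF F := fun n hn => by
  have := h n hn
  have e : (n • 𝟙 F) ≫ f = f ≫ (n • 𝟙 G) := by simp
  exact mono_of_mono_fac e

lemma isTF_of_mono_pair {F G₁ G₂ : A} (p₁ : F ⟶ G₁) (p₂ : F ⟶ G₂)
    (hext : ∀ {Z : A} (x y : Z ⟶ F), x ≫ p₁ = y ≫ p₁ → x ≫ p₂ = y ≫ p₂ → x = y)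
    (h₁ : IsTF G₁) (h₂ : IsTF G₂) : IsTF F := fun n hn => by
  have := h₁ n hn
  have := h₂ n hn
  refine ⟨fun x y hxy => hext x y ?_ ?_⟩
  · rw [← cancel_mono (n • 𝟙 G₁)]
    have := congrArg (· ≫ p₁) hxy
    simpa using this
  · rw [← cancel_mono (n • 𝟙 G₂)]
    have := congrArg (· ≫ p₂) hxy
    simpa using this

lemma isTF_map {B : Type u'} [Category.{v'} B] [Abelian B] (G : A ⥤ B) [G.Additive]
    [G.PreservesMonomorphisms] {F : A} (h : IsTF F) : IsTF (G.obj F) := fun n hn => by
  have := h n hn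
  have e : G.map (n • 𝟙 F) = n • 𝟙 (G.obj F) := by rw [G.map_nsmul, G.map_id]
  rw [← e]
  infer_instance

/-- Every morphism from an acyclic complex of torsion-free objects is null-homotopic. -/
def TFOrth (X : CochainComplex A ℤ) : Prop :=
  ∀ Z : CochainComplex A ℤ, (∀ n, IsTF (Z.X n)) → Z.Acyclic → ∀ φ : Z ⟶ X, Nonempty (Homotopy φ 0)

lemma tfOrth_iff (X : CochainComplex A ℤ) :
    TFOrth X ↔ ∀ Z : CochainComplex A ℤ, (∀ n, IsTF (Z.X n)) → Z.Acyclic →
      ∀ φ : (HomotopyCategory.quotient A (ComplexShape.up ℤ)).obj Z ⟶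
        (HomotopyCategory.quotient A (ComplexShape.up ℤ)).obj X, φ = 0 := by
  constructor
  · intro h Z hZ hac φ
    obtain ⟨φ, rfl⟩ := (HomotopyCategory.quotient A (ComplexShape.up ℤ)).map_surjective φ
    rw [← Functor.map_zero]
    exact HomotopyCategory.eq_of_homotopy _ _ (h Z hZ hac φ).some
  · intro h Z hZ hac φ
    exact ⟨HomotopyCategory.homotopyOfEq _ _ ((h Z hZ hac _).trans (Functor.map_zero _ _ _).symm)⟩

/-- A right adjoint preserves orthogonality when the left adjoint preserves acyclic torsion-free complexes. -/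
lemma tfOrth_rightAdjoint {B : Type u'} [Category.{v'} B] [Abelian B] {L : B ⥤ A} {R : A ⥤ B} [L.Additive]
    [R.Additive] (adj : L ⊣ R) (X : CochainComplex A ℤ)
    (h : ∀ Z : CochainComplex B ℤ, (∀ n, IsTF (Z.X n)) → Z.Acyclic →
      ∀ φ : (L.mapHomologicalComplex (ComplexShape.up ℤ)).obj Z ⟶ X, Nonempty (Homotopy φ 0)) :
    TFOrth ((R.mapHomologicalComplex (ComplexShape.up ℤ)).obj X) := by
  rw [tfOrth_iff]
  intro Z hZ hac φ
  let q := HomotopyCategory.quotient A (ComplexShape.up ℤ)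
  obtain ⟨ψ, rfl⟩ : ∃ ψ, φ = (adjHomotopy adj).homEquiv _ (q.obj X) ψ :=
    ⟨_, (((adjHomotopy adj).homEquiv _ _).apply_symm_apply φ).symm⟩
  obtain ⟨ψ₀, hψ₀⟩ : ∃ ψ₀ : (L.mapHomologicalComplex (ComplexShape.up ℤ)).obj Z ⟶ X, q.map ψ₀ = ψ :=
    q.map_surjective ψ
  have : ψ = 0 :=
    (hψ₀.symm.trans (HomotopyCategory.eq_of_homotopy _ _ (h Z hZ hac ψ₀).some)).trans (q.map_zero _ _)
  rw [this, Adjunction.homEquiv_unit, Functor.map_zero, comp_zero]
  rfl

/-- Orthogonality passes to mapping cones. -/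
lemma tfOrth_cone {X Y : CochainComplex A ℤ} (s : X ⟶ Y) (hX : TFOrth X) (hY : TFOrth Y) :
    TFOrth (CochainComplex.mappingCone s) := by
  rw [tfOrth_iff] at hX hY ⊢
  intro Z hZ hac φ
  have hδ : φ ≫ (CochainComplex.mappingCone.triangleh s).mor₃ = 0 := by
    let q := HomotopyCategory.quotient A (ComplexShape.up ℤ)
    let e := (q.commShiftIso (-1 : ℤ)).app Z
    let a : (q.obj Z)⟦(-1 : ℤ)⟧ ⟶ ((q.obj X)⟦(1 : ℤ)⟧)⟦(-1 : ℤ)⟧ :=
      (shiftFunctor _ (-1 : ℤ)).map (φ ≫ (CochainComplex.mappingCone.triangleh s).mor₃)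
    have hac' : (Z⟦(-1 : ℤ)⟧).Acyclic := fun i => by
      rw [HomologicalComplex.exactAt_iff_isZero_homology]
      exact ((HomologicalComplex.exactAt_iff_isZero_homology _ _).1 (hac (-1 + i))).of_iso
        ((CochainComplex.ShiftSequence.shiftIso A (-1) i (-1 + i) (by omega)).app Z)
    have h0 := hX (Z⟦(-1 : ℤ)⟧) (fun n => hZ (n + -1)) hac'
      (e.hom ≫ a ≫ (shiftFunctorCompIsoId _ (1 : ℤ) (-1) (by omega)).hom.app (q.obj X))
    have ha : a = 0 := by
      rw [← cancel_epi e.hom, ← cancel_mono ((shiftFunctorCompIsoId _ (1 : ℤ) (-1) (by omega)).hom.app (q.obj X)),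
        Category.assoc, h0, comp_zero, zero_comp]
    exact (shiftFunctor _ (-1 : ℤ)).map_injective (ha.trans (Functor.map_zero _ _ _).symm)
  obtain ⟨ψ, hψ⟩ := Triangle.coyoneda_exact₃ _
    (HomotopyCategory.mappingCone_triangleh_distinguished s) φ hδ
  rw [hψ]
  exact (congrArg (· ≫ _) (hY Z hZ hac ψ)).trans zero_comp

end General

section Sheaves

variable {C : Type u} [SmallCategory C] {J : GrothendieckTopology C}

/-- The free abelian sheaf on the underlying sheaf of sets. -/
noncomputable def tfCover (F : Sheaf J AddCommGrpCat.{u}) : Sheaf J AddCommGrpCat.{u} :=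
  (presheafToSheaf J AddCommGrpCat.{u}).obj (F.obj ⋙ forget AddCommGrpCat.{u} ⋙ AddCommGrpCat.free.{u})

/-- The evaluation map. -/
noncomputable def tfπ (F : Sheaf J AddCommGrpCat.{u}) : tfCover F ⟶ F :=
  ((sheafificationAdjunction J AddCommGrpCat.{u}).homEquiv _ F).symm
    (Functor.whiskerLeft F.obj AddCommGrpCat.adj.counit)

lemma exists_tfπ_eq (F : Sheaf J AddCommGrpCat.{u}) (U : C) (z : CohCx.freeSheaf J U ⟶ F) :
    ∃ g : CohCx.freeSheaf J U ⟶ tfCover F, g ≫ tfπ F = z := by
  let P := F.obj ⋙ forget AddCommGrpCat.{u} ⋙ AddCommGrpCat.free.{u}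
  let s := SiteCoh.homAddEquivSec U F z
  refine ⟨(SiteCoh.homAddEquivSec U (tfCover F)).symm
    ((toSheafify J P).app (op U) (FreeAbelianGroup.of s)), ?_⟩
  apply (SiteCoh.homAddEquivSec U F).injective
  rw [SiteCoh.homAddEquivSec_comp, AddEquiv.apply_symm_apply]
  have h := ((sheafificationAdjunction J AddCommGrpCat.{u}).homEquiv _ F).apply_symm_apply
    (Functor.whiskerLeft F.obj AddCommGrpCat.adj.counit)
  rw [Adjunction.homEquiv_unit] at h
  refine (ConcreteCategory.congr_hom (NatTrans.congr_app h (op U)) (FreeAbelianGroup.of s)).trans ?_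
  change AddCommGrpCat.adj.counit.app (F.obj.obj (op U)) (FreeAbelianGroup.of s) = s
  simp [AddCommGrpCat.adj]
  exact FreeAbelianGroup.lift_apply_of _ _

lemma isTF_tfCover (F : Sheaf J AddCommGrpCat.{u}) : IsTF (tfCover F) := fun n hn => by
  let P := F.obj ⋙ forget AddCommGrpCat.{u} ⋙ AddCommGrpCat.free.{u}
  have : ∀ U, Mono ((n • 𝟙 P).app U) := fun U => by
    rw [AddCommGrpCat.mono_iff_injective]
    intro x y (hxy : n • x = n • y)
    exact (FreeAbelianGroup.equivFinsupp (F.obj.obj U)).injective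
      (nsmul_right_injective hn (((map_nsmul (FreeAbelianGroup.equivFinsupp (F.obj.obj U)) n x).symm.trans
        (congrArg (FreeAbelianGroup.equivFinsupp (F.obj.obj U)) hxy)).trans (map_nsmul _ n y)))
  have : Mono (n • 𝟙 P) := NatTrans.mono_of_mono_app _
  have e : (presheafToSheaf J AddCommGrpCat.{u}).map (n • 𝟙 P) = n • 𝟙 (tfCover F) := by
    rw [Functor.map_nsmul, CategoryTheory.Functor.map_id]
    rfl
  rw [← e]
  have hp : (presheafToSheaf J AddCommGrpCat.{u}).PreservesMonomorphisms :=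
    preservesMonomorphisms_of_preservesLimitsOfShape _
  exact (presheafToSheaf J AddCommGrpCat.{u}).map_mono _

open CochainComplex in
/-- An acyclic complex orthogonal to acyclic torsion-free complexes is acyclic on sections. -/
theorem secAcyclic_of_tfOrth (X : CochainComplex (Sheaf J AddCommGrpCat.{u}) ℤ) (hac : X.Acyclic)
    (hX : TFOrth X) (U : C) : SecAcyclic (CohCx.freeSheaf J U) X := by
  classical
  have : CategoryWithHomology (CochainComplex (Sheaf J AddCommGrpCat.{u}) ℤ) :=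
    categoryWithHomology_of_abelian (C := CochainComplex (Sheaf J AddCommGrpCat.{u}) ℤ)
  let W : CochainComplex (Sheaf J AddCommGrpCat.{u}) ℤ :=
    { X := fun n => tfCover (X.X (n - 1))
      d := fun _ _ => 0
      shape := fun _ _ _ => rfl
      d_comp_d' := fun _ _ _ _ _ => zero_comp }
  let α : HomComplex.Cochain W X (-1) := HomComplex.Cochain.mk fun p q hpq =>
    tfπ (X.X (p - 1)) ≫ eqToHom (congrArg X.X (by omega))
  let β : W ⟶ X :=
    { f := fun n => tfπ (X.X (n - 1)) ≫ X.d (n - 1) n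
      comm' := fun i j hij => by simp [W] }
  let π : mappingCone (𝟙 W) ⟶ X := mappingCone.desc (𝟙 W) α β (by
    ext p
    rw [HomComplex.δ_v (-1) 0 (by omega) α p p (add_zero p) (p - 1) (p + 1) (by omega) (by omega)]
    simp [α, β, W])
  have hπf : ∀ (p : ℤ) (z : CohCx.freeSheaf J U ⟶ X.X p),
      ∃ g : CohCx.freeSheaf J U ⟶ (mappingCone (𝟙 W)).X p, g ≫ π.f p = z := fun p z => by
    obtain ⟨g, hg⟩ := exists_tfπ_eq _ U (z ≫ eqToHom (congrArg X.X (show p = p + 1 - 1 by omega)))
    refine ⟨g ≫ (mappingCone.inl (𝟙 W)).v (p + 1) p (by omega), ?_⟩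
    rw [Category.assoc, mappingCone.inl_v_desc_f]
    simp only [α, HomComplex.Cochain.mk_v]
    rw [reassoc_of% hg, eqToHom_trans, eqToHom_refl, Category.comp_id]
  have hπepi : Epi π := by
    have : ∀ p, Epi (π.f p) := fun p => by
      refine Preadditive.epi_of_cancel_zero _ fun {Q} q hq => ?_
      refine SiteCoh.hom_ext_of_freeSheaf fun V s => ?_
      have : s ≫ q = 0 := by
        obtain ⟨g, hg⟩ := exists_tfπ_eq _ V (s ≫ eqToHom (congrArg X.X (show p = p + 1 - 1 by omega)))
        have h' : (g ≫ (mappingCone.inl (𝟙 W)).v (p + 1) p (by omega)) ≫ π.f p = s := by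
          rw [Category.assoc, mappingCone.inl_v_desc_f]
          simp only [α, HomComplex.Cochain.mk_v]
          rw [reassoc_of% hg, eqToHom_trans, eqToHom_refl, Category.comp_id]
        rw [← h', Category.assoc, hq, comp_zero]
      rw [this, comp_zero]
    exact HomologicalComplex.epi_of_epi_f _ this
  let S := ShortComplex.mk (kernel.ι π) π (kernel.condition π)
  have hS : S.ShortExact :=
    { exact := ShortComplex.exact_of_f_is_kernel _ (kernelIsKernel π)
      mono_f := inferInstanceAs (Mono (kernel.ι π))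
      epi_g := hπepi }
  have hTFW : ∀ n, IsTF ((mappingCone (𝟙 W)).X n) := fun n =>
    isTF_of_mono_pair ((mappingCone.fst (𝟙 W)).1.v n (n + 1) rfl) ((mappingCone.snd (𝟙 W)).v n n (add_zero n))
      (fun x y h1 h2 => (mappingCone.ext_to_iff (𝟙 W) n (n + 1) rfl _ _).2 ⟨h1, h2⟩)
      (isTF_tfCover _) (isTF_tfCover _)
  have hTFN : ∀ n, IsTF ((kernel π).X n) := fun n => isTF_of_mono ((kernel.ι π).f n) (hTFW n)
  have hR : ∀ n, IsTF ((mappingCone S.f).X n) := fun n =>
    isTF_of_mono_pair ((mappingCone.fst S.f).1.v n (n + 1) rfl) ((mappingCone.snd S.f).v n n (add_zero n))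
      (fun x y h1 h2 => (mappingCone.ext_to_iff S.f n (n + 1) rfl _ _).2 ⟨h1, h2⟩)
      (hTFN _) (hTFW n)
  have hqis : QuasiIso (mappingCone.descShortComplex S) := mappingCone.quasiIso_descShortComplex hS
  have hRac : (mappingCone S.f).Acyclic := fun i => by
    rw [HomologicalComplex.exactAt_iff_isZero_homology]
    have : QuasiIsoAt (mappingCone.descShortComplex S) i := hqis.quasiIsoAt i
    exact ((HomologicalComplex.exactAt_iff_isZero_homology _ _).1 (hac i)).of_iso
      (isoOfQuasiIsoAt (mappingCone.descShortComplex S) i)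
  obtain ⟨h⟩ := hX _ hR hRac (mappingCone.descShortComplex S)
  intro m c hc
  obtain ⟨g, hg⟩ := hπf m c
  obtain ⟨k, hk⟩ : ∃ k : CohCx.freeSheaf J U ⟶ (kernel π).X (m + 1),
      k ≫ (kernel.ι π).f (m + 1) = g ≫ (mappingCone (𝟙 W)).d m (m + 1) := by
    have hf : ((kernel.ι π).f (m + 1) ≫ π.f (m + 1)) = 0 := HomologicalComplex.congr_hom (kernel.condition π) (m + 1)
    have hex : (ShortComplex.mk _ _ hf).Exact :=
      (hS.map_of_exact (HomologicalComplex.eval _ (ComplexShape.up ℤ) (m + 1))).exact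
    have hmono : Mono (ShortComplex.mk _ _ hf).f := inferInstanceAs (Mono ((kernel.ι π).f (m + 1)))
    exact ⟨_, (KernelFork.IsLimit.lift' (@ShortComplex.Exact.fIsKernel _ _ _ _ _ hex hmono)
      (g ≫ (mappingCone (𝟙 W)).d m (m + 1)) (by rw [Category.assoc, ← π.comm, reassoc_of% hg, hc])).2⟩
  let e : CohCx.freeSheaf J U ⟶ (mappingCone S.f).X m :=
    -(k ≫ (mappingCone.inl S.f).v (m + 1) m (by omega)) + g ≫ (mappingCone.inr S.f).f m
  have hk2 : k ≫ S.f.f (m + 1) = g ≫ (mappingCone (𝟙 W)).d m (m + 1) := hk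
  have hk' : k ≫ S.X₁.d (m + 1) (m + 1 + 1) = 0 := by
    have : Mono (S.f.f (m + 1 + 1)) := inferInstanceAs (Mono ((kernel.ι π).f (m + 1 + 1)))
    rw [← cancel_mono (S.f.f (m + 1 + 1)), Category.assoc, ← S.f.comm, reassoc_of% hk2,
      HomologicalComplex.d_comp_d, comp_zero, zero_comp]
  have h1 : (k ≫ (mappingCone.inl S.f).v (m + 1) m (by omega)) ≫ (mappingCone S.f).d m (m + 1) =
      g ≫ S.X₂.d m (m + 1) ≫ (mappingCone.inr S.f).f (m + 1) := by
    rw [Category.assoc, mappingCone.inl_v_d S.f (m + 1) m (m + 1 + 1) (by omega) (by omega), Preadditive.comp_sub,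
      reassoc_of% hk2, reassoc_of% hk', zero_comp, sub_zero]
  have h2 : (g ≫ (mappingCone.inr S.f).f m) ≫ (mappingCone S.f).d m (m + 1) =
      g ≫ S.X₂.d m (m + 1) ≫ (mappingCone.inr S.f).f (m + 1) := by
    rw [Category.assoc, mappingCone.inr_f_d]
  have he : e ≫ (mappingCone S.f).d m (m + 1) = 0 := by
    simp only [e, Preadditive.add_comp, Preadditive.neg_comp]
    rw [h1]
    exact (congrArg (_ + ·) h2).trans (neg_add_cancel _)
  refine ⟨e ≫ h.hom m (m - 1), ?_⟩
  have hcomm := h.comm m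
  rw [dNext_eq _ (show (ComplexShape.up ℤ).Rel m (m + 1) from rfl),
    prevD_eq _ (show (ComplexShape.up ℤ).Rel (m - 1) m from sub_add_cancel m 1), HomologicalComplex.zero_f,
    add_zero] at hcomm
  have hec : e ≫ (mappingCone.descShortComplex S).f m = c := by
    simp only [e, Preadditive.add_comp, Preadditive.neg_comp, Category.assoc, mappingCone.descShortComplex,
      mappingCone.inl_v_desc_f, mappingCone.inr_f_desc_f, HomComplex.Cochain.zero_v, comp_zero, neg_zero, zero_add]
    exact hg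
  rw [hcomm, Preadditive.comp_add, reassoc_of% he, zero_comp, zero_add] at hec
  rw [Category.assoc]
  exact hec

end Sheaves

end Groth.Agent.Mod48
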