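import Groth.Agent.Mod48.TensFlatOver
import Groth.Agent.Mod48.Tensor
import Groth.Agent.Mod48.Exact

/-!
For a module flat over the base, `G ↦ f^*G ⊗ F` is exact.
-/

universe u

open CategoryTheory CategoryTheory.Limits Opposite TopologicalSpace MonoidalCategory TensorProduct

namespace Groth.Agent.Mod48.FlatOver

open SiteMod

set_option backward.isDefEq.respectTransparency.types false

variable {X Y : TopCat.{u}} {f : X ⟶ Y} {O_X : TopCat.Sheaf CommRingCat.{u} X}
  {O_Y : TopCat.Sheaf CommRingCat.{u} Y}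
  (c : O_Y ⟶ ((Opens.map f).sheafPushforwardContinuous CommRingCat.{u}
    (Opens.grothendieckTopology Y) (Opens.grothendieckTopology X)).obj O_X)
  (F : ModSite.Mod O_X)

variable {M N : ModSite.Mod O_Y} (φ : M ⟶ N)

lemma injective_stalk_map (x : X) [Mono φ] :
    Function.Injective ((stalkFun (ptY (f := f) x) O_Y).map φ).hom := by
  refine (injective_iff_map_eq_zero _).2 fun μ hμ => ?_
  obtain ⟨W, h, m, rfl⟩ := exists_germ (ptY (f := f) x) M μ
  rw [stalkFun_map_grm] at hμ
  obtain ⟨W', k, h', -, he⟩ := exists_res_eq_of_germ_eq (ptY (f := f) x) N h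
    (hμ.trans (grm_zero (ptY (f := f) x) N W h).symm)
  have h0 : Mod48.res (pre M) k.op m = 0 := by
    refine PresheafOfModules.injective_of_mono (fgt.map φ) (op W') ?_
    exact ((app_res (fgt.map φ) k.op m).trans (he.trans (res_zero _ _))).trans (map_zero _).symm
  have h1 := germ_res (ptY (f := f) x) M k h' m
  rw [h0, grm_zero] at h1
  exact (congrArg (fun z => grm (ptY (f := f) x) M W z m) (Subsingleton.elim h _)).trans h1.symm

lemma rTensor_evSums {V : Opens X} (x : X) (hx : x ∈ V) (ξ : Sums (ringedMap c) (pre M) V)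
    (s : (pre F).obj (op V)) :
    LinearMap.rTensor (Fy F x c) ((stalkFun (ptY (f := f) x) O_Y).map φ).hom (evSums c F x M hx ξ s) =
      evSums c F x N hx (Finsupp.mapDomain (mapTrip c φ) ξ) s := by
  let l := LinearMap.rTensor (Fy F x c) ((stalkFun (ptY (f := f) x) O_Y).map φ).hom
  induction ξ using Finsupp.induction_linear with
  | zero =>
    refine (congrArg (fun z => l (z s)) (map_zero (evSums c F x M hx))).trans ((l.map_zero).trans ?_)
    rw [Finsupp.mapDomain_zero, map_zero]
    rfl
  | add a b ha hb =>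
    refine (congrArg (fun z => l (z s)) (map_add (evSums c F x M hx) a b)).trans ?_
    refine ((l.map_add _ _).trans (congrArg₂ (· + ·) ha hb)).trans ?_
    rw [Finsupp.mapDomain_add, map_add]
    rfl
  | single t b =>
    refine (congrArg l (evSums_single c F x M hx t b s)).trans ((LinearMap.rTensor_tmul _ _ _ _).trans ?_)
    rw [Finsupp.mapDomain_single, evSums_single]
    exact congrArg (· ⊗ₜ gF c F x hx (b • s))
      (stalkFun_map_grm (ptY (f := f) x) O_Y φ t.X (mk (mem_of_chart t.g hx)) t.m)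

/-- The comparison of the model with `f^*M ⊗ F` on presheaves. -/
noncomputable abbrev cmpT (M : ModSite.Mod O_Y) : P c F M ⟶ pre ((ringedMap c).pull.obj M) ⊗ pre F :=
  cmpPull (ringedMap c) M ▷ pre F

lemma isLocalIso_cmpT (M : ModSite.Mod O_Y) : IsLocalIso (cmpT c F M) := by
  have := (isIso_shf_map_iff_isLocalIso _).2 (isLocalIso_cmpPull (ringedMap c) M)
  exact (isIso_shf_map_iff_isLocalIso _).1 (isIso_shf_map_whiskerRight _ (pre F))

lemma exists_sum_cls {V : Opens X} (z : (P c F M).obj (op V)) :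
    ∃ (n : ℕ) (ξ : Fin n → Sums (ringedMap c) (pre M) V) (s : Fin n → (pre F).obj (op V)),
      z = ∑ i, tp (cls (ringedMap c) (pre M) (ξ i)) (s i) := by
  obtain ⟨I, rfl⟩ := TensorProduct.exists_finset (R := O_X.obj.obj (op V))
    (M := (pullModel (ringedMap c) (pre M)).obj (op V)) (N := (pre F).obj (op V)) z
  choose ξ hξ using fun q : I => cls_surjective (ringedMap c) (pre M) q.1.1
  refine ⟨I.card, fun i => ξ (I.equivFin.symm i), fun i => (I.equivFin.symm i).1.2, ?_⟩
  rw [← Finset.sum_coe_sort]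
  refine ((Equiv.sum_comp I.equivFin.symm _).symm).trans (Finset.sum_congr rfl fun i _ => ?_)
  rw [hξ]
  rfl

variable (hF : ∀ x : X, Module.Flat (A (f := f) (O_Y := O_Y) x) (Fy F x c))

include hF in
theorem mono_tens_pull_map [Mono φ] :
    Mono (((ringedMap c).pull ⋙ tR F).map φ) := by
  classical
  refine mono_of_ap_injective _ fun V z hz => ?_
  let uM := shfU (pre ((ringedMap c).pull.obj M) ⊗ pre F)
  let uN := shfU (pre ((ringedMap c).pull.obj N) ⊗ pre F)
  have hloc : ∀ (Q : Mod48.PreM O_X), IsLocalIso (shfU Q) := fun Q =>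
    (isIso_shf_map_iff_isLocalIso _).1 inferInstance
  obtain ⟨S, hS, hS'⟩ := locally_preimage (hloc _) (op V) z
  refine eq_zero_of_locally hS fun V₁ v₁ hv₁ => ?_
  obtain ⟨y, hy⟩ := hS' v₁ hv₁
  obtain ⟨S₂, hS₂, hS₂'⟩ := locally_preimage (isLocalIso_cmpT c F M) (op V₁) y
  refine eq_zero_of_locally hS₂ fun V₂ v₂ hv₂ => ?_
  obtain ⟨p, hp⟩ := hS₂' v₂ hv₂
  obtain ⟨n, ξ, s, rfl⟩ := exists_sum_cls c F p
  let p' : (P c F N).obj (op V₂) :=
    ∑ i, tp (cls (ringedMap c) (pre N) (Finsupp.mapDomain (mapTrip c φ) (ξ i))) (s i)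
  have hz₂ : Mod48.res (pre ((tR F).obj ((ringedMap c).pull.obj M))) v₂.op (Mod48.res _ v₁.op z) =
      uM.app (op V₂) ((cmpT c F M).app (op V₂) (∑ i, tp (cls (ringedMap c) (pre M) (ξ i)) (s i))) := by
    exact ((congrArg (Mod48.res _ v₂.op) hy).symm.trans (app_res uM v₂.op y).symm).trans
      (congrArg (uM.app (op V₂)) hp).symm
  have hp' : uN.app (op V₂) ((cmpT c F N).app (op V₂) p') = 0 := by
    have h1 : (cmpT c F N).app (op V₂) p' =
        (fgt.map ((ringedMap c).pull.map φ) ▷ pre F).app (op V₂)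
          ((cmpT c F M).app (op V₂) (∑ i, tp (cls (ringedMap c) (pre M) (ξ i)) (s i))) := by
      simp only [p', map_sum]
      refine Finset.sum_congr rfl fun i _ => ?_
      exact (congrArg (fun a => tp a (s i)) (cmpPull_naturality (ringedMap c) M φ (ξ i))).symm
    rw [h1]
    refine Eq.trans (ConcreteCategory.congr_hom (congrArg (fun e => e.app (op V₂))
      (shfU_naturality (fgt.map ((ringedMap c).pull.map φ) ▷ pre F))) _) ?_
    refine (congrArg (ap (((ringedMap c).pull ⋙ tR F).map φ)) hz₂.symm).trans ?_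
    refine (res_ap _ v₂ _).symm.trans ?_
    refine (congrArg (Mod48.res _ v₂.op) ((res_ap _ v₁ z).symm.trans ((congrArg (Mod48.res _ v₁.op) hz).trans
      (res_zero _ _)))).trans (res_zero _ _)
  obtain ⟨T, hT, hT'⟩ := locally_eq (hloc _) (op V₂) _ 0 (hp'.trans (map_zero _).symm)
  have hpts : ∀ x ∈ V₂, ∃ (W : Opens X) (w : W ⟶ V₂), x ∈ W ∧
      Mod48.res (P c F M) w.op (∑ i, tp (cls (ringedMap c) (pre M) (ξ i)) (s i)) = 0 := by
    intro x hx
    obtain ⟨V₃, v₃, hv₃, hx₃⟩ := hT x hx
    have h3 : (cmpT c F N).app (op V₃) (Mod48.res _ v₃.op p') = 0 :=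
      (app_res (cmpT c F N) v₃.op p').trans ((hT' v₃ hv₃).trans (res_zero _ _))
    obtain ⟨T', hT₁, hT₁'⟩ := locally_eq (isLocalIso_cmpT c F N) (op V₃) _ 0 (h3.trans (map_zero _).symm)
    obtain ⟨V₄, v₄, hv₄, hx₄⟩ := hT₁ x hx₃
    have h4 : Mod48.res (P c F N) (v₄ ≫ v₃).op p' = 0 := by
      rw [op_comp, ← res_res]
      exact (hT₁' v₄ hv₄).trans (res_zero _ _)
    let v := v₄ ≫ v₃
    let ξ' : Fin n → Sums (ringedMap c) (pre M) V₄ := fun i => sumsRes _ _ v (ξ i)
    let s' : Fin n → (pre F).obj (op V₄) := fun i => Mod48.res (pre F) v.op (s i)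
    have h5 : ∑ i, evSums c F x N hx₄ (Finsupp.mapDomain (mapTrip c φ) (ξ' i)) (s' i) = 0 := by
      have h6 := congrArg (ev c F x N hx₄) h4
      replace h6 := (congrArg (ev c F x N hx₄) (show Mod48.res (P c F N) v.op p' = ∑ i, tp (cls (ringedMap c) (pre N)
        (sumsRes _ _ v (Finsupp.mapDomain (mapTrip c φ) (ξ i)))) (s' i) from ?_)).symm.trans
        (h6.trans (map_zero (ev c F x N hx₄)))
      · refine Eq.trans ?_ ((map_sum (ev c F x N hx₄) _ _).symm.trans h6)
        refine Finset.sum_congr rfl fun i _ => (Eq.trans ?_ (ev_tp c F x N hx₄ _ (s' i)).symm)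
        refine congrArg (fun a => evSums c F x N hx₄ a (s' i)) ?_
        simp only [ξ']
        generalize ξ i = a
        induction a using Finsupp.induction_linear with
        | zero => simp
        | add a b ha hb => simp only [map_add, Finsupp.mapDomain_add, ha, hb]
        | single t b => simp only [sumsRes_single, Finsupp.mapDomain_single]; rfl
      · simp only [p', res_sum]
        exact Finset.sum_congr rfl fun i _ => res_tp v.op _ _
    have h7 : ∑ i, evSums c F x M hx₄ (ξ' i) (s' i) = 0 := by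
      have := hF x
      refine Module.Flat.rTensor_preserves_injective_linearMap (M := Fy F x c)
        ((stalkFun (ptY (f := f) x) O_Y).map φ).hom (injective_stalk_map φ x) ?_
      refine (map_sum (LinearMap.rTensor (Fy F x c) ((stalkFun (ptY (f := f) x) O_Y).map φ).hom) _ _).trans
        (Eq.trans ?_ (LinearMap.map_zero _).symm)
      exact (Finset.sum_congr rfl fun i _ => rTensor_evSums c F φ x hx₄ _ _).trans h5
    have h8 : gP c F x M hx₄ (Mod48.res (P c F M) v.op (∑ i, tp (cls (ringedMap c) (pre M) (ξ i)) (s i))) =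
        gP c F x M hx₄ 0 := by
      have h9 := congrArg (reb c F x M) h7
      rw [map_sum, map_zero] at h9
      simp only [reb_evSums] at h9
      refine Eq.trans ?_ (h9.trans (map_zero ((ptX x).toPresheafFiber V₄ (mk hx₄) (P c F M).presheaf).hom).symm)
      rw [res_sum]
      refine (map_sum ((ptX x).toPresheafFiber V₄ (mk hx₄) (P c F M).presheaf).hom _ _).trans ?_
      exact Finset.sum_congr rfl fun i _ => congrArg (gP c F x M hx₄) (res_tp v.op _ _)
    obtain ⟨W, w, hw, -, he⟩ := ((ptX x).toPresheafFiber_eq_iff' (P := (P c F M).presheaf) V₄ (mk hx₄) _ _).1 h8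
    refine ⟨W, w ≫ v, hw.down.down, ?_⟩
    rw [op_comp, ← res_res]
    exact he.trans (map_zero ((P c F M).presheaf.map w.op).hom)
  choose W w hxW hW using hpts
  have hcov : Sieve.ofArrows (fun x : V₂ => W x.1 x.2) (fun x => w x.1 x.2) ∈
      Opens.grothendieckTopology X V₂ :=
    fun x h => ⟨_, w x h, Sieve.ofArrows_mk _ _ (⟨x, h⟩ : V₂), hxW x h⟩
  refine eq_zero_of_locally hcov fun Z q hq => ?_
  obtain ⟨i, r, rfl⟩ := (Sieve.mem_ofArrows_iff _ _ q).1 hq
  refine (congrArg (Mod48.res _ _) hz₂).trans ?_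
  rw [op_comp, ← res_res]
  refine (congrArg (Mod48.res _ r.op) ((app_res uM (w i.1 i.2).op _).symm.trans
    ((congrArg (uM.app _) ((app_res (cmpT c F M) (w i.1 i.2).op _).symm.trans
      ((congrArg ((cmpT c F M).app _) (hW i.1 i.2)).trans (map_zero _)))).trans (map_zero _)))).trans (res_zero _ _)

include hF in
theorem exact_tens_pull :
    PreservesFiniteLimits ((ringedMap c).pull ⋙ (ModSite.tensorBi O_X).flip.obj F) ∧
      PreservesFiniteColimits ((ringedMap c).pull ⋙ (ModSite.tensorBi O_X).flip.obj F) := by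
  let L := (ringedMap c).pull ⋙ tR F
  have : PreservesFiniteColimits (ringedMap c).pull :=
    ⟨fun I _ _ => (ringedMap c).adj.leftAdjoint_preservesColimits.preservesColimitsOfShape⟩
  have hc : PreservesFiniteColimits L := comp_preservesFiniteColimits _ _
  have : (ringedMap c).pull.Additive := Adjunction.left_adjoint_additive (ringedMap c).adj
  have : L.Additive := inferInstance
  have : L.PreservesMonomorphisms := ⟨fun ψ _ => mono_tens_pull_map c F ψ hF⟩
  have := L.preservesHomology_of_preservesMonos_and_cokernels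
  exact ⟨L.preservesFiniteLimits_of_preservesHomology, hc⟩

end Groth.Agent.Mod48.FlatOver
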