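import Groth.Agent.Mod48.RestrMap
import Groth.Agent.Mod48.Tensor
import Groth.Agent.SiteMod.RestrTensor
import Mathlib.CategoryTheory.Limits.Shapes.Products
import Mathlib.Algebra.Category.ModuleCat.Sheaf.LocallyFree

/-!
Tensor products of generated and presented modules.
-/

universe u

open CategoryTheory CategoryTheory.Limits Opposite

namespace Groth.Agent.Mod48

variable {C : Type u} [SmallCategory C] {J : GrothendieckTopology C} {O : Sheaf J CommRingCat.{u}}

theorem preservesColimits_tR (G : ModSite.Mod O) : PreservesColimitsOfSize.{u, u} (tR G) := ⟨inferInstance⟩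

theorem preservesColimits_tL (G : ModSite.Mod O) : PreservesColimitsOfSize.{u, u} (tL G) := ⟨inferInstance⟩

/-- `O^I ⊗ O^K ≅ O^(I × K)`. -/
noncomputable def freeTensIso (I K : Type u) :
    tens (SiteMod.freeM (O := O) I) (SiteMod.freeM (O := O) K) ≅ SiteMod.freeM (O := O) (I × K) :=
  haveI := preservesColimits_tR (SiteMod.freeM (O := O) K)
  haveI : HasCoproducts.{u} (ModSite.Mod O) := fun _ => inferInstance
  haveI : ∀ _i : I, HasCoproduct fun _ : K => ModSite.unit O := fun _ => inferInstance
  PreservesCoproduct.iso (tR (SiteMod.freeM (O := O) K)) (fun _ : I => ModSite.unit O) ≪≫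
    Sigma.mapIso (fun _ => tensUnit.app (SiteMod.freeM (O := O) K)) ≪≫
    sigmaSigmaIso (fun _ : I => K) (fun _ _ => ModSite.unit O) ≪≫
    Sigma.whiskerEquiv (f := fun _ : (_ : I) × K => ModSite.unit O) (g := fun _ : I × K => ModSite.unit O)
      (Equiv.sigmaEquivProd I K) (fun _ => Iso.refl _)

lemma tens_exchange {A A' B B' : ModSite.Mod O} (f : A ⟶ A') (g : B ⟶ B') :
    (tR B).map f ≫ (tL A').map g = (tL A).map g ≫ (tR B').map f :=
  (((ModSite.tensorBi O).map f).naturality g).symm

section Gen

variable {A B : ModSite.Mod O} (σ : A.GeneratingSections) (τ : B.GeneratingSections)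

/-- The generators of a tensor product. -/
noncomputable def tensGenHom : SiteMod.freeM (O := O) (σ.I × τ.I) ⟶ tens A B :=
  (freeTensIso σ.I τ.I).inv ≫ (tR (SiteMod.freeM (O := O) τ.I)).map σ.π ≫ (tL A).map τ.π

lemma epi_tensGenHom : Epi (tensGenHom σ τ) := by
  have := preservesColimits_tR (SiteMod.freeM (O := O) τ.I)
  have := preservesColimits_tL A
  have : PreservesFiniteColimits (tR (SiteMod.freeM (O := O) τ.I)) :=
    PreservesColimitsOfSize.preservesFiniteColimits.{u, u} _
  have : PreservesFiniteColimits (tL A) := PreservesColimitsOfSize.preservesFiniteColimits.{u, u} _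
  unfold tensGenHom
  infer_instance

/-- The generators of a tensor product. -/
noncomputable def tensGen : (tens A B).GeneratingSections where
  I := σ.I × τ.I
  s := (tens A B).freeHomEquiv (tensGenHom σ τ)
  epi := by
    rw [Equiv.symm_apply_apply]
    exact epi_tensGenHom σ τ

lemma isIso_tensGen_π [IsIso σ.π] [IsIso τ.π] : IsIso (tensGen σ τ).π := by
  have e : (tensGen σ τ).π = tensGenHom σ τ := (tens A B).freeHomEquiv.symm_apply_apply _
  rw [e, tensGenHom]
  have h1 : IsIso ((tR (SiteMod.freeM (O := O) τ.I)).map σ.π) := Functor.map_isIso _ _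
  have h2 : IsIso ((tL A).map τ.π) := Functor.map_isIso _ _
  exact @IsIso.comp_isIso _ _ _ _ _ _ _ inferInstance (@IsIso.comp_isIso _ _ _ _ _ _ _ h1 h2)

end Gen

/-- A map out of a free module on a sum. -/
noncomputable def freeSumDesc {K L : Type u} {Y : ModSite.Mod O} (a : SiteMod.freeM (O := O) K ⟶ Y)
    (b : SiteMod.freeM (O := O) L ⟶ Y) : SiteMod.freeM (O := O) (K ⊕ L) ⟶ Y :=
  Cofan.IsColimit.desc (SheafOfModules.isColimitFreeCofan (K ⊕ L))
    (fun i => i.elim (fun k => SiteMod.inF k ≫ a) fun l => SiteMod.inF l ≫ b)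

lemma inF_freeSumDesc {K L : Type u} {Y : ModSite.Mod O} (a : SiteMod.freeM (O := O) K ⟶ Y)
    (b : SiteMod.freeM (O := O) L ⟶ Y) (i : K ⊕ L) :
    SiteMod.inF i ≫ freeSumDesc a b = i.elim (fun k => SiteMod.inF k ≫ a) fun l => SiteMod.inF l ≫ b :=
  Cofan.IsColimit.fac (SheafOfModules.isColimitFreeCofan (K ⊕ L)) _ i

lemma freeSumDesc_comp_eq_zero {K L : Type u} {Y Z : ModSite.Mod O} (a : SiteMod.freeM (O := O) K ⟶ Y)
    (b : SiteMod.freeM (O := O) L ⟶ Y) (t : Y ⟶ Z) :
    freeSumDesc a b ≫ t = 0 ↔ a ≫ t = 0 ∧ b ≫ t = 0 := by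
  constructor
  · intro h
    refine ⟨?_, ?_⟩
    · refine Cofan.IsColimit.hom_ext (SheafOfModules.isColimitFreeCofan K) _ _ fun k => ?_
      have h' := congrArg (SiteMod.inF (Sum.inl k : K ⊕ L) ≫ ·) h
      simp only [← Category.assoc, inF_freeSumDesc] at h'
      simpa using! h'
    · refine Cofan.IsColimit.hom_ext (SheafOfModules.isColimitFreeCofan L) _ _ fun l => ?_
      have h' := congrArg (SiteMod.inF (Sum.inr l : K ⊕ L) ≫ ·) h
      simp only [← Category.assoc, inF_freeSumDesc] at h'
      simpa using! h'
  · rintro ⟨ha, hb⟩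
    refine Cofan.IsColimit.hom_ext (SheafOfModules.isColimitFreeCofan (K ⊕ L)) _ _ fun i => ?_
    change SiteMod.inF i ≫ _ = SiteMod.inF i ≫ 0
    rw [← Category.assoc, inF_freeSumDesc]
    rcases i with k | l <;> simp [ha, hb]

section Pres

variable {A B : ModSite.Mod O} (P : SheafOfModules.Presentation A) (Q : SheafOfModules.Presentation B)

/-- The relations among the generators of a module. -/
noncomputable abbrev relHom {A : ModSite.Mod O} (P : SheafOfModules.Presentation A) :
    SiteMod.freeM (O := O) P.relations.I ⟶ SiteMod.freeM (O := O) P.generators.I :=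
  (SheafOfModules.freeHomEquiv _).symm P.relations.s ≫ kernel.ι P.generators.π

/-- The relations of a tensor product. -/
noncomputable def tensRelHom : SiteMod.freeM (O := O)
    ((P.relations.I × Q.generators.I) ⊕ (P.generators.I × Q.relations.I)) ⟶
      SiteMod.freeM (O := O) (P.generators.I × Q.generators.I) :=
  freeSumDesc
    ((freeTensIso _ _).inv ≫ (tR (SiteMod.freeM (O := O) Q.generators.I)).map (relHom P) ≫ (freeTensIso _ _).hom)
    ((freeTensIso _ _).inv ≫ (tL (SiteMod.freeM (O := O) P.generators.I)).map (relHom Q) ≫ (freeTensIso _ _).hom)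

lemma relHom_π {A : ModSite.Mod O} (P : SheafOfModules.Presentation A) : relHom P ≫ P.generators.π = 0 := by
  rw [relHom, Category.assoc, kernel.condition, comp_zero]

lemma tensRelHom_gen : tensRelHom P Q ≫ tensGenHom P.generators Q.generators = 0 := by
  have := preservesColimits_tR (SiteMod.freeM (O := O) Q.generators.I)
  have := preservesColimits_tR B
  have := preservesColimits_tL (SiteMod.freeM (O := O) P.generators.I)
  have : (tR (SiteMod.freeM (O := O) Q.generators.I)).PreservesZeroMorphisms :=
    Functor.preservesZeroMorphisms_of_preserves_initial_object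
  have : (tL (SiteMod.freeM (O := O) P.generators.I)).PreservesZeroMorphisms :=
    Functor.preservesZeroMorphisms_of_preserves_initial_object
  refine (freeSumDesc_comp_eq_zero _ _ _).2 ⟨?_, ?_⟩
  · simp only [tensGenHom, Category.assoc, Iso.hom_inv_id_assoc]
    rw [← Functor.map_comp_assoc, relHom_π, Functor.map_zero, zero_comp, comp_zero]
  · simp only [tensGenHom, Category.assoc, Iso.hom_inv_id_assoc]
    rw [tens_exchange, ← Functor.map_comp_assoc, relHom_π, Functor.map_zero, zero_comp, comp_zero]

/-- The tensor product of presentations. -/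
noncomputable def tensPres : SheafOfModules.Presentation (tens A B) :=
  SheafOfModules.presentationOfIsCokernelFree (tensRelHom P Q) (tensGenHom P.generators Q.generators)
    (tensRelHom_gen P Q) (by
      have := preservesColimits_tR B
      have := preservesColimits_tL (SiteMod.freeM (O := O) P.generators.I)
      have := preservesColimits_tL (SiteMod.freeM (O := O) P.relations.I)
      have : PreservesFiniteColimits (tR B) := PreservesColimitsOfSize.preservesFiniteColimits.{u, u} _
      have : PreservesFiniteColimits (tL (SiteMod.freeM (O := O) P.generators.I)) :=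
        PreservesColimitsOfSize.preservesFiniteColimits.{u, u} _
      have : PreservesFiniteColimits (tL (SiteMod.freeM (O := O) P.relations.I)) :=
        PreservesColimitsOfSize.preservesFiniteColimits.{u, u} _
      have : (tR B).PreservesZeroMorphisms := Functor.preservesZeroMorphisms_of_preserves_initial_object
      have : (tL (SiteMod.freeM (O := O) P.generators.I)).PreservesZeroMorphisms :=
        Functor.preservesZeroMorphisms_of_preserves_initial_object
      have hQ := CokernelCofork.mapIsColimit _ Q.isColimit (tL (SiteMod.freeM (O := O) P.generators.I))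
      have hP := CokernelCofork.mapIsColimit _ P.isColimit (tR B)
      have := epi_tensGenHom P.generators Q.generators
      refine CokernelCofork.IsColimit.ofπ' _ _ fun {Z} t ht => ?_
      obtain ⟨h1, h2⟩ := (freeSumDesc_comp_eq_zero _ _ _).1 ht
      simp only [Category.assoc] at h1 h2
      replace h1 := (cancel_epi (freeTensIso P.relations.I Q.generators.I).inv).1 (h1.trans comp_zero.symm)
      replace h2 := (cancel_epi (freeTensIso P.generators.I Q.relations.I).inv).1 (h2.trans comp_zero.symm)
      let t₁ := (freeTensIso P.generators.I Q.generators.I).hom ≫ t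
      obtain ⟨t₂, ht₂⟩ := CokernelCofork.IsColimit.desc' hQ t₁ h2
      change (tL (SiteMod.freeM (O := O) P.generators.I)).map Q.generators.π ≫ t₂ = t₁ at ht₂
      have h3 : (tR B).map (relHom P) ≫ t₂ = 0 := by
        rw [← cancel_epi ((tL (SiteMod.freeM (O := O) P.relations.I)).map Q.generators.π), comp_zero,
          ← Category.assoc, ← tens_exchange, Category.assoc, ht₂]
        exact h1
      obtain ⟨t₃, ht₃⟩ := CokernelCofork.IsColimit.desc' hP t₂ h3
      change (tR B).map P.generators.π ≫ t₃ = t₂ at ht₃
      refine ⟨t₃, ?_⟩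
      rw [tensGenHom, Category.assoc, tens_exchange, Category.assoc, ht₃, ht₂]
      exact Iso.inv_hom_id_assoc _ _)

end Pres

end Groth.Agent.Mod48
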