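import Groth.Agent.Mod48.TensLocal
import Mathlib.Topology.Sheaves.Points

/-!
Tensor products of locally generated and locally presented modules on a space.
-/

universe u

open CategoryTheory CategoryTheory.Limits Opposite TopologicalSpace

namespace Groth.Agent.Mod48

variable {X : TopCat.{u}} {O : TopCat.Sheaf CommRingCat.{u} X} {F G : ModSite.Mod O}

/-- Pairwise intersections of two covering families. -/
lemma coversTop_inf {I I' : Type u} {U : I → Opens X} {V : I' → Opens X}
    (hU : (Opens.grothendieckTopology X).CoversTop U) (hV : (Opens.grothendieckTopology X).CoversTop V) :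
    (Opens.grothendieckTopology X).CoversTop fun ij : I × I' => U ij.1 ⊓ V ij.2 := by
  intro W x hx
  obtain ⟨A, f, ⟨i, ⟨a⟩⟩, hA⟩ := hU W x hx
  obtain ⟨B, g, ⟨j, ⟨b⟩⟩, hB⟩ := hV W x hx
  exact ⟨A ⊓ B, homOfLE (inf_le_left.trans (leOfHom f)),
    ⟨(i, j), ⟨homOfLE (inf_le_inf (leOfHom a) (leOfHom b))⟩⟩, ⟨hA, hB⟩⟩

/-- The tensor product restricts to the tensor product of the restrictions. -/
noncomputable def tensRestrIso (W : Opens X) :
    tens ((ModSite.restr O W).obj F) ((ModSite.restr O W).obj G) ≅ (ModSite.restr O W).obj (tens F G) :=
  (SiteMod.restrTensApp W G F).symm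

/-- Generators over a smaller open. -/
noncomputable def restrGen {M : ModSite.Mod O} {W U : Opens X} (h : W ≤ U)
    (σ : ((ModSite.restr O U).obj M).GeneratingSections) : ((ModSite.restr O W).obj M).GeneratingSections :=
  haveI := preservesColimits_restrMap (O := O) (homOfLE h)
  (σ.map (restrMap (homOfLE h)) (restrMapUnitIso (homOfLE h))).ofEpi ((restrMapIso (homOfLE h)).hom.app M)

/-- A presentation over a smaller open. -/
noncomputable def restrPres {M : ModSite.Mod O} {W U : Opens X} (h : W ≤ U)
    (σ : ((ModSite.restr O U).obj M).Presentation) : ((ModSite.restr O W).obj M).Presentation :=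
  haveI := preservesColimits_restrMap (O := O) (homOfLE h)
  SheafOfModules.Presentation.ofIsIso ((restrMapIso (homOfLE h)).hom.app M)
    (σ.map (restrMap (homOfLE h)) (restrMapUnitIso (homOfLE h)))

lemma isIso_restrGen {M : ModSite.Mod O} {W U : Opens X} (h : W ≤ U)
    (σ : ((ModSite.restr O U).obj M).GeneratingSections) (hσ : IsIso σ.π) : IsIso (restrGen h σ).π := by
  have := preservesColimits_restrMap (O := O) (homOfLE h)
  rw [restrGen, SheafOfModules.GeneratingSections.ofEpi_π, SheafOfModules.GeneratingSections.map_π_eq]
  refine @IsIso.comp_isIso _ _ _ _ _ _ _ ?_ inferInstance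
  exact @IsIso.comp_isIso _ _ _ _ _ _ _ inferInstance (@Functor.map_isIso _ _ _ _ _ _ _ σ.π hσ)

/-- Local generators of a tensor product. -/
noncomputable def tensLG (q : SheafOfModules.LocalGeneratorsData.{u} (R := ModSite.ringSh O) F)
    (q' : SheafOfModules.LocalGeneratorsData.{u} (R := ModSite.ringSh O) G) :
    SheafOfModules.LocalGeneratorsData.{u} (R := ModSite.ringSh O) (tens F G) where
  I := q.I × q'.I
  X ij := q.X ij.1 ⊓ q'.X ij.2
  coversTop := coversTop_inf q.coversTop q'.coversTop
  generators ij := (tensGen (restrGen inf_le_left (q.generators ij.1))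
    (restrGen inf_le_right (q'.generators ij.2))).ofEpi (tensRestrIso _).hom

/-- Local presentations of a tensor product. -/
noncomputable def tensQC (q : SheafOfModules.QuasicoherentData.{u} (R := ModSite.ringSh O) F)
    (q' : SheafOfModules.QuasicoherentData.{u} (R := ModSite.ringSh O) G) :
    SheafOfModules.QuasicoherentData.{u} (R := ModSite.ringSh O) (tens F G) where
  I := q.I × q'.I
  X ij := q.X ij.1 ⊓ q'.X ij.2
  coversTop := coversTop_inf q.coversTop q'.coversTop
  presentation ij := SheafOfModules.Presentation.ofIsIso (tensRestrIso _).hom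
    (tensPres (restrPres inf_le_left (q.presentation ij.1)) (restrPres inf_le_right (q'.presentation ij.2)))

theorem isFiniteType_tensLG (q : SheafOfModules.LocalGeneratorsData.{u} (R := ModSite.ringSh O) F)
    (q' : SheafOfModules.LocalGeneratorsData.{u} (R := ModSite.ringSh O) G) [hq : q.IsFiniteType]
    [hq' : q'.IsFiniteType] : (tensLG q q').IsFiniteType where
  isFiniteType ij := { finite := @Finite.instProd _ _ (hq.isFiniteType ij.1).finite (hq'.isFiniteType ij.2).finite }

theorem isFinitePresentation_tensQC (q : SheafOfModules.QuasicoherentData.{u} (R := ModSite.ringSh O) F)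
    (q' : SheafOfModules.QuasicoherentData.{u} (R := ModSite.ringSh O) G) [hq : q.IsFinitePresentation]
    [hq' : q'.IsFinitePresentation] : (tensQC q q').IsFinitePresentation where
  isFinite_presentation ij :=
    have h1 : Finite (q.presentation ij.1).generators.I := (hq.isFinite_presentation ij.1).isFiniteType_generators.finite
    have h2 : Finite (q.presentation ij.1).relations.I := (hq.isFinite_presentation ij.1).isFiniteType_relations.finite
    have h3 : Finite (q'.presentation ij.2).generators.I := (hq'.isFinite_presentation ij.2).isFiniteType_generators.finite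
    have h4 : Finite (q'.presentation ij.2).relations.I := (hq'.isFinite_presentation ij.2).isFiniteType_relations.finite
    { isFiniteType_generators := { finite := (inferInstance :
        Finite ((q.presentation ij.1).generators.I × (q'.presentation ij.2).generators.I)) }
      isFiniteType_relations := { finite := (inferInstance :
        Finite (((q.presentation ij.1).relations.I × (q'.presentation ij.2).generators.I) ⊕
          ((q.presentation ij.1).generators.I × (q'.presentation ij.2).relations.I))) } }

theorem isLocallyFreeData_tensLG (q : SheafOfModules.LocalGeneratorsData.{u} (R := ModSite.ringSh O) F)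
    (q' : SheafOfModules.LocalGeneratorsData.{u} (R := ModSite.ringSh O) G) [hq : q.IsLocallyFreeData]
    [hq' : q'.IsLocallyFreeData] : (tensLG q q').IsLocallyFreeData where
  isIso ij := by
    have h1 := isIso_restrGen (inf_le_left (b := q'.X ij.2)) (q.generators ij.1) (hq.isIso ij.1)
    have h2 := isIso_restrGen (inf_le_right (a := q.X ij.1)) (q'.generators ij.2) (hq'.isIso ij.2)
    have h3 := @isIso_tensGen_π _ _ _ _ _ _ (restrGen (inf_le_left (b := q'.X ij.2)) (q.generators ij.1))
      (restrGen (inf_le_right (a := q.X ij.1)) (q'.generators ij.2)) h1 h2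
    change IsIso ((tensGen (restrGen inf_le_left (q.generators ij.1))
      (restrGen inf_le_right (q'.generators ij.2))).ofEpi (tensRestrIso _).hom).π
    rw [SheafOfModules.GeneratingSections.ofEpi_π]
    exact @IsIso.comp_isIso _ _ _ _ _ _ _ h3 (Iso.isIso_hom _)

end Groth.Agent.Mod48
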