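import Groth.Agent.Mod48.TorsionSheaf
import Groth.Agent.Mod48.KInjDerived
import Groth.Agent.Mod48.ExactDerived
import Groth.Agent.Mod48.KFlat
import Groth.Prelude.Def_WeakSerre

/-!
The derived category of torsion abelian sheaves is the full subcategory of complexes with torsion cohomology.
-/

universe u

open CategoryTheory CategoryTheory.Limits Opposite
attribute [local instance] HasDerivedCategory.standard

/-- The abelian category structure on a weak Serre subcategory (shortcut for instance search). -/
noncomputable instance Groth.Agent.Mod48.abelianWeakSerre {A : Type*} [Category* A] [Abelian A] (P : ObjectProperty A)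
    [WSerre.IsWeakSerre P] : Abelian P.FullSubcategory := inferInstance

lemma Groth.Agent.Mod48.derivedAdj_counit_fac {A : Type*} [Category* A] [Abelian A] {B : Type*} [Category* B] [Abelian B]
    {G : B ⥤ A} {F : A ⥤ B} [G.Additive] [F.Additive] (adj : G ⊣ F) [PreservesFiniteLimits G]
    [PreservesFiniteColimits G] [HasDerivedCategory A] [HasDerivedCategory B] (hA : Groth.Agent.Mod48.EnoughKInj A)
    (RF : DerivedCategory A ⥤ DerivedCategory B)
    (α : F.mapHomotopyCategory (ComplexShape.up ℤ) ⋙ DerivedCategory.Qh ⟶ DerivedCategory.Qh ⋙ RF)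
    [RF.IsRightDerivedFunctor α (HomotopyCategory.quasiIso A (ComplexShape.up ℤ))]
    (X : HomotopyCategory A (ComplexShape.up ℤ)) :
    G.mapDerivedCategory.map (α.app X) ≫ (Groth.Agent.Mod48.derivedAdj adj hA RF α).counit.app (DerivedCategory.Qh.obj X) =
      G.mapDerivedCategoryFactorsh.hom.app _ ≫ DerivedCategory.Qh.map ((Groth.Agent.Mod48.adjHomotopy adj).counit.app X) := by
  have := Groth.Agent.Mod48.isRightDerivedFunctor_comp RF α hA G.mapDerivedCategory _ rfl
  unfold Groth.Agent.Mod48.derivedAdj
  simp only [Adjunction.derived_counit]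
  exact Adjunction.derivedε_fac_app _ _ _ _ _

namespace Groth.Agent.Mod48.Tors

variable {C : Type u} [SmallCategory C] (J : GrothendieckTopology C)

/-- The inclusion of torsion sheaves. -/
noncomputable abbrev incl : (SiteCmp.torsionSh J).FullSubcategory ⥤ Sheaf J AddCommGrpCat.{u} :=
  (SiteCmp.torsionSh J).ι

/-- The torsion subsheaf functor. -/
noncomputable def tF : Sheaf J AddCommGrpCat.{u} ⥤ (SiteCmp.torsionSh J).FullSubcategory where
  obj F := ⟨tSh J F, isTorsionSh_tSh J F⟩
  map f := ObjectProperty.homMk (tLift (isTorsionSh_tSh J _) (tι J _ ≫ f))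
  map_id F := by
    ext1
    change tLift (isTorsionSh_tSh J F) (tι J F ≫ 𝟙 F) = 𝟙 (tSh J F)
    rw [← cancel_mono (tι J F), tLift_ι, Category.id_comp, Category.comp_id]
  map_comp {F G H} f g := by
    ext1
    change tLift (isTorsionSh_tSh J F) (tι J F ≫ f ≫ g) = tLift (isTorsionSh_tSh J F) (tι J F ≫ f) ≫
      tLift (isTorsionSh_tSh J G) (tι J G ≫ g)
    rw [← cancel_mono (tι J H), tLift_ι, Category.assoc, tLift_ι, ← Category.assoc _ (tι J G) g, tLift_ι,
      Category.assoc]

/-- The torsion subsheaf is right adjoint to the inclusion. -/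
noncomputable def tAdj : incl J ⊣ tF J :=
  Adjunction.mkOfHomEquiv
    { homEquiv := fun X F =>
        { toFun := fun f => ObjectProperty.homMk (tLift X.property f)
          invFun := fun g => g.hom ≫ tι J F
          left_inv := fun f => tLift_ι X.property f
          right_inv := fun g => by
            ext1
            change tLift X.property (g.hom ≫ tι J F) = g.hom
            rw [← cancel_mono (tι J F), tLift_ι]
            rfl }
      homEquiv_naturality_left_symm := fun {X' X Y} f g => by
        simp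
      homEquiv_naturality_right := fun {X F F'} f g => by
        ext1
        change tLift X.property (f ≫ g) = tLift X.property f ≫ tLift (isTorsionSh_tSh J F) (tι J F ≫ g)
        rw [← cancel_mono (tι J F'), tLift_ι, Category.assoc, tLift_ι, ← Category.assoc, tLift_ι] }

/-- A map with values in torsion sections factors through the torsion subsheaf. -/
def liftSecs {G F : Sheaf J AddCommGrpCat.{u}} (f : G ⟶ F) (h : ∀ U s, (f.hom.app U).hom s ∈ secs J F U) :
    G ⟶ tSh J F :=
  ⟨{ app := fun U => AddCommGrpCat.ofHom ((f.hom.app U).hom.codRestrict _ (h U))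
     naturality := fun U V g => by ext s; exact Subtype.ext congr($(f.hom.naturality g) s) }⟩

lemma liftSecs_ι {G F : Sheaf J AddCommGrpCat.{u}} (f : G ⟶ F) (h : ∀ U s, (f.hom.app U).hom s ∈ secs J F U) :
    liftSecs J f h ≫ tι J F = f := by
  apply CategoryTheory.Sheaf.hom_ext
  ext U s
  rfl

/-- The torsion subsheaf is saturated. -/
lemma exists_lift_of_nsmul {G F : Sheaf J AddCommGrpCat.{u}} (y : G ⟶ F) (z : G ⟶ tSh J F) {m : ℕ} (hm : 0 < m)
    (h : y ≫ mul m F = z ≫ tι J F) : ∃ w : G ⟶ tSh J F, w ≫ tι J F = y := by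
  refine ⟨liftSecs J y fun U s => ?_, liftSecs_ι J y _⟩
  obtain ⟨S, hS, hs⟩ := ((z.hom.app U).hom s).2
  refine ⟨S, hS, fun V g hg => ?_⟩
  obtain ⟨k, hk, e⟩ := isOfFinAddOrder_iff_nsmul_eq_zero.1 (hs g hg)
  refine isOfFinAddOrder_iff_nsmul_eq_zero.2 ⟨k * m, Nat.mul_pos hk hm, ?_⟩
  have e' : m • (y.hom.app U).hom s = ((z.hom.app U).hom s).1 :=
    (mul_app m F U _).symm.trans congr((($h).hom.app U).hom s)
  rw [mul_nsmul', ← map_nsmul, e']
  exact e

lemma tAdj_counit_app (F : Sheaf J AddCommGrpCat.{u}) : (tAdj J).counit.app F = tι J F := by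
  simp [tAdj]

variable [ObjectProperty.IsSerreClass (SiteCmp.torsionSh J)]

instance additive_incl : (incl J).Additive := inferInstance

instance additive_tF : (tF J).Additive := (tAdj J).right_adjoint_additive

variable {J}

lemma torsion_homology_of_terms (K : CochainComplex (Sheaf J AddCommGrpCat.{u}) ℤ)
    (h : ∀ i, SiteCmp.torsionSh J (K.X i)) (i : ℤ) : SiteCmp.torsionSh J (K.homology i) :=
  (SiteCmp.torsionSh J).prop_of_epi (K.homologyπ i)
    ((SiteCmp.torsionSh J).prop_of_mono (K.iCycles i) (h i))

/-- For a complex of injective sheaves with torsion cohomology the torsion subcomplex is quasi-isomorphic. -/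
lemma quasiIso_cxCounit (I : CochainComplex (Sheaf J AddCommGrpCat.{u}) ℤ) (hinj : ∀ n, Injective (I.X n))
    (hI : ∀ i, SiteCmp.torsionSh J (I.homology i)) : QuasiIso (cxCounit (tAdj J) I) := by
  have hf : ∀ n, (cxCounit (tAdj J) I).f n = tι J (I.X n) := fun n => tAdj_counit_app J (I.X n)
  have hmono : ∀ n, Mono ((cxCounit (tAdj J) I).f n) := fun n => (hf n).symm ▸ mono_tι J _
  have : Mono (cxCounit (tAdj J) I) := HomologicalComplex.mono_of_mono_f _ hmono
  let S := ShortComplex.mk (cxCounit (tAdj J) I) (cokernel.π _) (cokernel.condition _)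
  have hS : S.ShortExact := { exact := ShortComplex.exact_of_g_is_cokernel _ (cokernelIsCokernel _) }
  have hT : ∀ i, SiteCmp.torsionSh J (S.X₁.homology i) :=
    torsion_homology_of_terms _ fun n => isTorsionSh_tSh J _
  refine Groth.Agent.Mod48.quasiIso_of_acyclic_X₃ hS (Groth.Agent.Mod48.acyclic_of_isZero_homology fun i => ?_)
  refine isZero_of_torsion_of_mono_mul ?_ fun m hm => ?_
  · exact (SiteCmp.torsionSh J).prop_X₂_of_exact (hS.homology_exact₃ i (i + 1) rfl) (hI i) (hT (i + 1))
  · have hiso : IsIso (m • 𝟙 S.X₃) := by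
      have : ∀ n, IsIso ((m • 𝟙 S.X₃).f n) := fun n => by
        have hSn := hS.map_of_exact (HomologicalComplex.eval _ _ n)
        have hgf : (cxCounit (tAdj J) I).f n ≫ S.g.f n = 0 := by
          rw [← HomologicalComplex.comp_f]
          exact congr($(S.zero).f n)
        have : Epi (S.g.f n) := hSn.epi_g
        have := hinj n
        have hme : Epi (mul m (I.X n)) := epi_mul_of_injective (I.X n) hm
        have : Epi (mul m (S.X₃.X n)) := by
          have e : S.g.f n ≫ mul m (S.X₃.X n) = mul m (I.X n) ≫ S.g.f n := by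
            simp only [mul, Preadditive.comp_nsmul, Preadditive.nsmul_comp, Category.comp_id, Category.id_comp]
          have : Epi (mul m (I.X n) ≫ S.g.f n) := epi_comp' hme inferInstance
          exact epi_of_epi_fac e
        have : Mono (mul m (S.X₃.X n)) := by
          refine Preadditive.mono_of_cancel_zero _ fun {Z} x hx => ?_
          obtain ⟨Z', π, hπ, y, hy⟩ := surjective_up_to_refinements_of_epi (S.g.f n) x
          have h0 : (y ≫ mul m (I.X n)) ≫ S.g.f n = 0 := by
            have h' : π ≫ x ≫ mul m (S.X₃.X n) = 0 := by rw [hx, comp_zero]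
            simp only [mul, Preadditive.comp_nsmul, Category.comp_id, hy] at h'
            simp only [mul, Preadditive.comp_nsmul, Preadditive.nsmul_comp, Category.comp_id]
            exact h'
          have := hmono n
          have hfn := hSn.mono_f
          obtain ⟨z, hz⟩ := ShortComplex.Exact.lift' hSn.exact (y ≫ mul m (I.X n)) h0
          obtain ⟨w, hw⟩ := exists_lift_of_nsmul J y z hm (by rw [← hf n]; exact hz.symm)
          rw [← cancel_epi π, hy, comp_zero, ← hw, Category.assoc, ← hf n]
          exact (congrArg (w ≫ ·) hgf).trans comp_zero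
        have : IsIso (mul m (S.X₃.X n)) := isIso_of_mono_of_epi _
        exact inferInstanceAs (IsIso (mul m (S.X₃.X n)))
      exact HomologicalComplex.Hom.isIso_of_components _
    have h1 : IsIso ((HomologicalComplex.homologyFunctor _ _ i).map (m • 𝟙 S.X₃)) := inferInstance
    rw [Functor.map_nsmul, CategoryTheory.Functor.map_id] at h1
    exact @IsIso.mono_of_iso _ _ _ _ _ h1

/-- Torsion sheaves: the derived category is the subcategory with torsion cohomology, given K-injective
resolutions with injective terms. -/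
lemma toDerived_torsion_fullyFaithful
    (hres : ∀ M : CochainComplex (Sheaf J AddCommGrpCat.{u}) ℤ, ∃ (I : CochainComplex (Sheaf J AddCommGrpCat.{u}) ℤ)
      (f : M ⟶ I), I.IsKInjective ∧ QuasiIso f ∧ (∀ n, Mono (f.f n)) ∧ ∀ n, Injective (I.X n)) :
    (WSerre.toDerived (SiteCmp.torsionSh J)).Full ∧ (WSerre.toDerived (SiteCmp.torsionSh J)).Faithful ∧
      ∀ K : DerivedCategory (Sheaf J AddCommGrpCat.{u}),
        WSerre.cohIn (SiteCmp.torsionSh J) K ↔ (WSerre.toDerived (SiteCmp.torsionSh J)).essImage K := by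
  have hA : EnoughKInj (Sheaf J AddCommGrpCat.{u}) := fun M => by
    obtain ⟨I, f, hI, hf, -⟩ := hres M
    exact ⟨I, f, hI, hf⟩
  let W := HomotopyCategory.quasiIso (Sheaf J AddCommGrpCat.{u}) (ComplexShape.up ℤ)
  let T := (tF J).mapHomotopyCategory (ComplexShape.up ℤ) ⋙ DerivedCategory.Qh
  have := hasPointwiseLeftKanExtension_Qh (F := T) hA
  have : T.HasRightDerivedFunctor W :=
    (Functor.hasRightDerivedFunctor_iff T DerivedCategory.Qh W).2
      (Functor.HasLeftKanExtension.mk _ (Functor.pointwiseLeftKanExtensionUnit DerivedCategory.Qh T))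
  let RT := T.totalRightDerived DerivedCategory.Qh W
  let α := T.totalRightDerivedUnit DerivedCategory.Qh W
  let adj := derivedAdj (tAdj J) hA RT α
  have hcoh : ∀ Y, WSerre.cohIn (SiteCmp.torsionSh J) ((incl J).mapDerivedCategory.obj Y) := fun Y i => by
    obtain ⟨e⟩ := nonempty_homology_mapDerivedCategory (incl J) Y i
    exact (SiteCmp.torsionSh J).prop_of_iso e.symm ((DerivedCategory.homologyFunctor _ i).obj Y).property
  have hcounit : ∀ K, WSerre.cohIn (SiteCmp.torsionSh J) K → IsIso (adj.counit.app K) := fun K hK => by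
    let M := (DerivedCategory.Q : _ ⥤ DerivedCategory (Sheaf J AddCommGrpCat.{u})).objPreimage K
    obtain ⟨I, f, hI, hf, -, hinj⟩ := hres M
    let e : DerivedCategory.Qh.obj ((HomotopyCategory.quotient _ (ComplexShape.up ℤ)).obj I) ≅ K :=
      (DerivedCategory.quotientCompQhIso _).app I ≪≫ (asIso (DerivedCategory.Q.map f)).symm ≪≫
        (DerivedCategory.Q : _ ⥤ DerivedCategory (Sheaf J AddCommGrpCat.{u})).objObjPreimageIso K
    have hIc : ∀ i, SiteCmp.torsionSh J (I.homology i) := fun i =>
      (SiteCmp.torsionSh J).prop_of_iso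
        (((DerivedCategory.homologyFunctor _ i).mapIso
            ((DerivedCategory.quotientCompQhIso _).symm.app I ≪≫ e)).symm ≪≫
          (DerivedCategory.homologyFunctorFactors _ i).app I) (hK i)
    have hq := quasiIso_cxCounit I hinj hIc
    have h1 : IsIso (DerivedCategory.Qh.map ((HomotopyCategory.quotient _ (ComplexShape.up ℤ)).map
        (cxCounit (tAdj J) I))) := by
      rw [DerivedCategory.isIso_Qh_map_iff]
      exact (HomotopyCategory.quotient_map_mem_quasiIso_iff _).2 ((HomologicalComplex.mem_quasiIso_iff _).2 hq)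
    let Q₀ := (HomotopyCategory.quotient (Sheaf J AddCommGrpCat.{u}) (ComplexShape.up ℤ)).obj I
    have hα : IsIso (α.app Q₀) := isIso_unit_of_kInjective RT α hA I hI
    have hε : (incl J).mapDerivedCategory.map (α.app Q₀) ≫ adj.counit.app (DerivedCategory.Qh.obj Q₀) =
        (incl J).mapDerivedCategoryFactorsh.hom.app _ ≫ DerivedCategory.Qh.map ((adjHomotopy (tAdj J)).counit.app Q₀) :=
      derivedAdj_counit_fac (tAdj J) hA RT α Q₀
    have h2 : IsIso (DerivedCategory.Qh.map ((adjHomotopy (tAdj J)).counit.app Q₀)) := h1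
    have h3 : IsIso (adj.counit.app (DerivedCategory.Qh.obj Q₀)) :=
      IsIso.of_isIso_fac_left (h := (incl J).mapDerivedCategoryFactorsh.hom.app _ ≫
        DerivedCategory.Qh.map ((adjHomotopy (tAdj J)).counit.app Q₀)) hε
    exact (NatTrans.isIso_app_iff_of_iso adj.counit e).1 h3
  have hunit : ∀ Y, IsIso (adj.unit.app Y) := fun Y => by
    have := hcounit _ (hcoh Y)
    have h : IsIso ((incl J).mapDerivedCategory.map (adj.unit.app Y)) := by
      have e := adj.left_triangle_components Y
      rw [← IsIso.eq_comp_inv] at e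
      rw [e]
      exact @IsIso.comp_isIso' _ _ _ _ _ _ _ ⟨⟨𝟙 _, Category.id_comp _, Category.id_comp _⟩⟩
        (@IsIso.inv_isIso _ _ _ _ _ (hcounit _ (hcoh Y)))
    exact isIso_of_isIso_mapDerivedCategory (incl J) (fun X hX => by
      rw [IsZero.iff_id_eq_zero]
      exact (incl J).map_injective (hX.eq_of_src _ _)) _
  have : IsIso adj.unit := NatIso.isIso_of_isIso_app _
  refine ⟨adj.fullyFaithfulLOfIsIsoUnit.full, adj.fullyFaithfulLOfIsIsoUnit.faithful,
    fun K => ⟨fun hK => ⟨_, ⟨@asIso _ _ _ _ _ (hcounit K hK)⟩⟩, ?_⟩⟩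
  rintro ⟨Y, ⟨e⟩⟩ i
  exact (SiteCmp.torsionSh J).prop_of_iso ((DerivedCategory.homologyFunctor _ i).mapIso e) (hcoh Y i)

end Groth.Agent.Mod48.Tors
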