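import Groth.Prelude.Def_SiteCmp
import Mathlib.CategoryTheory.Sites.Subsheaf
import Mathlib.Algebra.Category.Grp.Adjunctions
import Mathlib.CategoryTheory.Preadditive.Injective.Basic

/-!
The torsion subsheaf, and divisibility of injective abelian sheaves.
-/

universe u

open CategoryTheory CategoryTheory.Limits Opposite

namespace Groth.Agent.Mod48.Tors

variable {C : Type u} [SmallCategory C] (J : GrothendieckTopology C) (F : Sheaf J AddCommGrpCat.{u})

/-- A section killed locally by positive integers. -/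
def IsLocTors {U : C} (s : F.obj.obj (op U)) : Prop :=
  ∃ S ∈ J U, ∀ ⦃V : C⦄ (g : V ⟶ U), S g → IsOfFinAddOrder ((F.obj.map g.op).hom s)

variable {J F}

lemma isLocTors_map {U V : C} (g : V ⟶ U) {s : F.obj.obj (op U)} (h : IsLocTors J F s) :
    IsLocTors J F ((F.obj.map g.op).hom s) := by
  obtain ⟨S, hS, h⟩ := h
  refine ⟨S.pullback g, J.pullback_stable g hS, fun W k hk => ?_⟩
  have := h (k ≫ g) hk
  rwa [op_comp, F.obj.map_comp, AddCommGrpCat.hom_comp, AddMonoidHom.comp_apply] at this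

lemma isLocTors_of_locally {U : C} {s : F.obj.obj (op U)} (S : Sieve U) (hS : S ∈ J U)
    (h : ∀ ⦃V : C⦄ (g : V ⟶ U), S g → IsLocTors J F ((F.obj.map g.op).hom s)) : IsLocTors J F s := by
  choose T hT hT' using h
  refine ⟨Sieve.bind S.arrows fun _ g hg => T g hg, J.bind_covering hS fun _ g hg => hT g hg, ?_⟩
  rintro W _ ⟨V, k, g, hg, hk, rfl⟩
  rw [op_comp, F.obj.map_comp, AddCommGrpCat.hom_comp, AddMonoidHom.comp_apply]
  exact hT' g hg k hk

variable (J F)

/-- The torsion sections over an object. -/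
def secs (U : Cᵒᵖ) : AddSubgroup (F.obj.obj U) where
  carrier := {s | IsLocTors J F (U := U.unop) s}
  zero_mem' := ⟨⊤, J.top_mem _, fun _ g _ =>
    (isOfFinAddOrder_iff_nsmul_eq_zero.2 ⟨1, one_pos, by rw [one_smul, map_zero]⟩)⟩
  add_mem' := by
    rintro s t ⟨S, hS, hs⟩ ⟨T, hT, ht⟩
    refine ⟨S ⊓ T, J.intersection_covering hS hT, fun V g hg => ?_⟩
    rw [map_add]
    exact (hs g hg.1).add (ht g hg.2)
  neg_mem' := by
    rintro s ⟨S, hS, hs⟩
    refine ⟨S, hS, fun V g hg => ?_⟩
    rw [map_neg]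
    exact (hs g hg).neg

/-- The torsion subpresheaf. -/
def tPre : Cᵒᵖ ⥤ AddCommGrpCat.{u} where
  obj U := AddCommGrpCat.of (secs J F U)
  map {U V} g := AddCommGrpCat.ofHom
    (((F.obj.map g).hom.comp (secs J F U).subtype).codRestrict (secs J F V) fun s =>
      isLocTors_map g.unop s.2)
  map_id U := by ext s; exact congr($(F.obj.map_id U) s.1)
  map_comp g h := by ext s; exact congr($(F.obj.map_comp g h) s.1)

/-- The torsion sections as a subfunctor of sets. -/
def tSub : Subfunctor (F.obj ⋙ forget AddCommGrpCat.{u}) where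
  obj U := {s | s ∈ secs J F U}
  map {U V} g s hs := isLocTors_map (F := F) g.unop hs

lemma isSheaf_tPre : Presheaf.IsSheaf J (tPre J F) := by
  rw [Presheaf.isSheaf_iff_isSheaf_forget J _ (forget AddCommGrpCat.{u}), isSheaf_iff_isSheaf_of_type]
  have hF : Presieve.IsSheaf J (F.obj ⋙ forget AddCommGrpCat.{u}) :=
    (isSheaf_iff_isSheaf_of_type J _).1
      ((Presheaf.isSheaf_iff_isSheaf_forget J _ (forget AddCommGrpCat.{u})).1 F.property)
  refine Presieve.isSheaf_iso J (NatIso.ofComponents (fun U => Iso.refl _) ?_ :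
    (tSub J F).toFunctor ≅ tPre J F ⋙ forget AddCommGrpCat.{u}) ?_
  · intro U V g
    rfl
  · exact ((tSub J F).isSheaf_iff hF).2 fun U s hs => isLocTors_of_locally _ hs fun V g hg => hg

/-- The torsion subsheaf. -/
def tSh : Sheaf J AddCommGrpCat.{u} := ⟨tPre J F, isSheaf_tPre J F⟩

/-- The inclusion of the torsion subsheaf. -/
def tι : tSh J F ⟶ F :=
  ⟨{ app := fun U => AddCommGrpCat.ofHom (secs J F U).subtype }⟩

instance mono_tι : Mono (tι J F) := by
  have : ∀ U, Mono ((tι J F).hom.app U) := fun U =>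
    (AddCommGrpCat.mono_iff_injective _).2 fun a b h => Subtype.ext h
  have : Mono ((sheafToPresheaf J AddCommGrpCat.{u}).map (tι J F)) := NatTrans.mono_of_mono_app (tι J F).hom
  exact (sheafToPresheaf J AddCommGrpCat.{u}).mono_of_mono_map this

lemma isTorsionSh_tSh : SiteCmp.torsionSh J (tSh J F) := fun U s => by
  obtain ⟨S, hS, h⟩ := s.2
  refine ⟨S, hS, fun V g hg => ?_⟩
  obtain ⟨n, hn, e⟩ := isOfFinAddOrder_iff_nsmul_eq_zero.1 (h g hg)
  exact isOfFinAddOrder_iff_nsmul_eq_zero.2 ⟨n, hn, Subtype.ext e⟩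

variable {J F}

lemma mem_secs_of_torsion {G : Sheaf J AddCommGrpCat.{u}} (hG : SiteCmp.torsionSh J G) (f : G ⟶ F) (U : Cᵒᵖ)
    (s : G.obj.obj U) : (f.hom.app U).hom s ∈ secs J F U := by
  obtain ⟨S, hS, h⟩ := hG U.unop s
  refine ⟨S, hS, fun V g hg => ?_⟩
  have e : (F.obj.map g.op).hom ((f.hom.app U).hom s) = (f.hom.app (op V)).hom ((G.obj.map g.op).hom s) :=
    congr($((f.hom.naturality g.op).symm) s)
  rw [e]
  exact (f.hom.app (op V)).hom.isOfFinAddOrder (h g hg)

/-- A map out of a torsion sheaf factors through the torsion subsheaf. -/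
def tLift {G : Sheaf J AddCommGrpCat.{u}} (hG : SiteCmp.torsionSh J G) (f : G ⟶ F) : G ⟶ tSh J F :=
  ⟨{ app := fun U => AddCommGrpCat.ofHom ((f.hom.app U).hom.codRestrict _ (mem_secs_of_torsion hG f U))
     naturality := fun U V g => by ext s; exact Subtype.ext congr($(f.hom.naturality g) s) }⟩

lemma tLift_ι {G : Sheaf J AddCommGrpCat.{u}} (hG : SiteCmp.torsionSh J G) (f : G ⟶ F) :
    tLift hG f ≫ tι J F = f := by
  apply CategoryTheory.Sheaf.hom_ext
  ext U s
  rfl

/-- Multiplication by `m` on a sheaf. -/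
noncomputable def mul (m : ℕ) (F : Sheaf J AddCommGrpCat.{u}) : F ⟶ F := m • 𝟙 F

lemma mul_app (m : ℕ) (F : Sheaf J AddCommGrpCat.{u}) (U : Cᵒᵖ) (s : F.obj.obj U) :
    ((mul m F).hom.app U).hom s = m • s := by
  induction m with
  | zero => simp [mul]
  | succ m ih =>
    rw [succ_nsmul, ← ih]
    simp only [mul, succ_nsmul]
    rfl

/-- Injective abelian sheaves are divisible. -/
lemma epi_mul_of_injective (I : Sheaf J AddCommGrpCat.{u}) [Injective I] {m : ℕ} (hm : 0 < m) :
    Epi (mul m I) := by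
  have key : ∀ U (s : I.obj.obj U), ∃ t, ((mul m I).hom.app U).hom t = s := fun U s => by
    let P : Cᵒᵖ ⥤ AddCommGrpCat.{u} := yoneda.obj U.unop ⋙ AddCommGrpCat.free
    let e : ((presheafToSheaf J AddCommGrpCat.{u}).obj P ⟶ I) ≃ I.obj.obj U :=
      ((sheafificationAdjunction J AddCommGrpCat.{u}).homEquiv _ _).trans
        (((AddCommGrpCat.adj.whiskerRight Cᵒᵖ).homEquiv _ _).trans yonedaEquiv)
    let μ : P ⟶ P := m • 𝟙 P
    have : ∀ V, Mono (μ.app V) := fun V => by
      refine (AddCommGrpCat.mono_iff_injective _).2 fun a b h => ?_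
      have h' : ∀ (k : ℕ) (x : P.obj V), ((k • 𝟙 P : P ⟶ P).app V).hom x = k • x := fun k x => by
        simp
      change ((m • 𝟙 P : P ⟶ P).app V).hom a = ((m • 𝟙 P : P ⟶ P).app V).hom b at h
      rw [h', h'] at h
      have ht : IsAddTorsionFree (FreeAbelianGroup ((yoneda.obj U.unop).obj V)) :=
        Function.Injective.isAddTorsionFree FreeAbelianGroup.toFinsupp
          (FreeAbelianGroup.equivFinsupp _).injective
      exact ht.nsmul_right_injective (by omega) h
    have : Mono μ := NatTrans.mono_of_mono_app μ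
    have : Mono ((presheafToSheaf J AddCommGrpCat.{u}).map μ) := inferInstance
    let ψ := Injective.factorThru (e.symm s) ((presheafToSheaf J AddCommGrpCat.{u}).map μ)
    have hψ : (presheafToSheaf J AddCommGrpCat.{u}).map μ ≫ ψ = e.symm s := Injective.comp_factorThru _ _
    refine ⟨e ψ, ?_⟩
    have hμ : (presheafToSheaf J AddCommGrpCat.{u}).map μ ≫ ψ = ψ ≫ mul m I := by
      rw [Functor.map_nsmul, CategoryTheory.Functor.map_id, Preadditive.nsmul_comp, Category.id_comp, mul,
        Preadditive.comp_nsmul, Category.comp_id]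
    rw [← e.apply_symm_apply s, ← hψ, hμ]
    have nat : ∀ (φ : (presheafToSheaf J AddCommGrpCat.{u}).obj P ⟶ I) (g : I ⟶ I),
        e (φ ≫ g) = (g.hom.app U).hom (e φ) := fun φ g => by
      change yonedaEquiv (((AddCommGrpCat.adj.whiskerRight Cᵒᵖ).homEquiv _ _)
        (((sheafificationAdjunction J AddCommGrpCat.{u}).homEquiv _ _) (φ ≫ g))) = _
      rw [Adjunction.homEquiv_naturality_right, Adjunction.homEquiv_naturality_right, yonedaEquiv_comp]
      rfl
    exact (nat ψ (mul m I)).symm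
  have : ∀ U, Epi ((mul m I).hom.app U) := fun U => (AddCommGrpCat.epi_iff_surjective _).2 (key U)
  have : Epi ((sheafToPresheaf J AddCommGrpCat.{u}).map (mul m I)) := NatTrans.epi_of_epi_app (mul m I).hom
  exact (sheafToPresheaf J AddCommGrpCat.{u}).epi_of_epi_map this

/-- A torsion sheaf on which multiplication by every positive integer is injective is zero. -/
lemma isZero_of_torsion_of_mono_mul {F : Sheaf J AddCommGrpCat.{u}} (hF : SiteCmp.torsionSh J F)
    (h : ∀ m, 0 < m → Mono (mul m F)) : IsZero F := by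
  rw [IsZero.iff_id_eq_zero]
  apply CategoryTheory.Sheaf.hom_ext
  ext U s
  change s = 0
  obtain ⟨S, hS, hs⟩ := hF U.unop s
  refine (((isSheaf_iff_isSheaf_of_type J (F.obj ⋙ forget AddCommGrpCat.{u})).1
    ((Presheaf.isSheaf_iff_isSheaf_forget J _ (forget AddCommGrpCat.{u})).1 F.property)).isSeparated S hS).ext
      (fun V g hg => ?_)
  obtain ⟨m, hm, e⟩ := isOfFinAddOrder_iff_nsmul_eq_zero.1 (hs g hg)
  have := h m hm
  have hinj : Function.Injective ((mul m F).hom.app (op V)).hom := by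
    have : Mono ((sheafToPresheaf J AddCommGrpCat.{u}).map (mul m F)) := inferInstance
    exact (AddCommGrpCat.mono_iff_injective _).1 (inferInstanceAs (Mono (((sheafToPresheaf J AddCommGrpCat.{u}).map (mul m F)).app (op V))))
  apply hinj
  rw [mul_app, mul_app]
  change m • (F.obj.map g.op).hom s = m • (F.obj.map g.op).hom 0
  rw [e, map_zero, smul_zero]

end Groth.Agent.Mod48.Tors
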